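import Mathlib.CategoryTheory.MorphismProperty.Representable
import Mathlib.CategoryTheory.Limits.Preserves.Shapes.Equalizers
import Mathlib.CategoryTheory.Limits.Shapes.Diagonal

/-!
# Relatively representable morphisms: the relative diagonal (helper51)
-/

set_option autoImplicit false
universe v₁ v₂ u₁ u₂

namespace Groth.Agent.Lib.Helper51

open CategoryTheory Limits

variable {C : Type u₁} [Category.{v₁} C] {D : Type u₂} [Category.{v₂} D] (F : C ⥤ D)

/-- If `F : C ⥤ D` is fully faithful and preserves equalizers, `C` has equalizers and `D` has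
pullbacks, then the relative diagonal of a relatively representable morphism is relatively
representable. -/
lemma relativelyRepresentable_pullback_diagonal [F.Full] [F.Faithful] [HasEqualizers C]
    [PreservesLimitsOfShape WalkingParallelPair F] [HasPullbacks D] {X Y : D} {a : X ⟶ Y}
    (ha : F.relativelyRepresentable a) :
    F.relativelyRepresentable (pullback.diagonal a) := by
  intro c g
  have hg : (g ≫ pullback.fst a a) ≫ a = (g ≫ pullback.snd a a) ≫ a := by
    simp only [Category.assoc, pullback.condition]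
  obtain ⟨b, snd', fst', hpb⟩ := ha ((g ≫ pullback.fst a a) ≫ a)
  let σ₁ : F.obj c ⟶ F.obj b := hpb.lift (g ≫ pullback.fst a a) (𝟙 _) (by simp)
  let σ₂ : F.obj c ⟶ F.obj b := hpb.lift (g ≫ pullback.snd a a) (𝟙 _) (by rw [hg]; simp)
  have hσ₁ : σ₁ ≫ fst' = g ≫ pullback.fst a a := hpb.lift_fst _ _ _
  have hσ₂ : σ₂ ≫ fst' = g ≫ pullback.snd a a := hpb.lift_fst _ _ _
  have hσ₁' : σ₁ ≫ F.map snd' = 𝟙 _ := hpb.lift_snd _ _ _
  have hσ₂' : σ₂ ≫ F.map snd' = 𝟙 _ := hpb.lift_snd _ _ _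
  let s₁ : c ⟶ b := F.preimage σ₁
  let s₂ : c ⟶ b := F.preimage σ₂
  have hs₁ : F.map s₁ = σ₁ := F.map_preimage _
  have hs₂ : F.map s₂ = σ₂ := F.map_preimage _
  have hfork : IsLimit (Fork.ofι (F.map (equalizer.ι s₁ s₂))
      (by rw [← F.map_comp, ← F.map_comp, equalizer.condition]) : Fork (F.map s₁) (F.map s₂)) :=
    isLimitForkMapOfIsLimit F _ (equalizerIsEqualizer s₁ s₂)
  have heq : F.map (equalizer.ι s₁ s₂) ≫ σ₁ = F.map (equalizer.ι s₁ s₂) ≫ σ₂ := by
    rw [← hs₁, ← hs₂, ← F.map_comp, ← F.map_comp, equalizer.condition]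
  have hw : (F.map (equalizer.ι s₁ s₂) ≫ g ≫ pullback.fst a a) ≫ pullback.diagonal a =
      F.map (equalizer.ι s₁ s₂) ≫ g := by
    apply pullback.hom_ext
    · simp
    · simp only [Category.assoc, pullback.diagonal_snd, Category.comp_id]
      rw [← hσ₁, ← hσ₂, ← Category.assoc, heq, Category.assoc]
  refine ⟨equalizer s₁ s₂, equalizer.ι s₁ s₂, F.map (equalizer.ι s₁ s₂) ≫ g ≫ pullback.fst a a,
    ⟨⟨hw⟩, ⟨PullbackCone.IsLimit.mk _ (fun s ↦ ?_) (fun s ↦ ?_) (fun s ↦ ?_) (fun s m h₁ h₂ ↦ ?_)⟩⟩⟩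
  all_goals
    have hs1 : s.fst = s.snd ≫ g ≫ pullback.fst a a := by
      have := congr($(s.condition) ≫ pullback.fst a a)
      simpa using this
    have hs2 : s.fst = s.snd ≫ g ≫ pullback.snd a a := by
      have := congr($(s.condition) ≫ pullback.snd a a)
      simpa using this
    have hsσ : s.snd ≫ F.map s₁ = s.snd ≫ F.map s₂ := by
      rw [hs₁, hs₂]
      apply hpb.hom_ext
      · rw [Category.assoc, Category.assoc, hσ₁, hσ₂, ← hs1, ← hs2]
      · rw [Category.assoc, Category.assoc, hσ₁', hσ₂']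
  · exact (Fork.IsLimit.lift' hfork s.snd hsσ).1
  · have := (Fork.IsLimit.lift' hfork s.snd hsσ).2
    simp only [Fork.ι_ofι] at this
    rw [← Category.assoc, this, hs1]
  · have := (Fork.IsLimit.lift' hfork s.snd hsσ).2
    simpa only [Fork.ι_ofι] using this
  · apply Fork.IsLimit.hom_ext hfork
    have := (Fork.IsLimit.lift' hfork s.snd hsσ).2
    simp only [Fork.ι_ofι] at this ⊢
    rw [this, h₂]

/-- `A ×_F B = (A × B) ×_{F × F} F`. -/
lemma isPullback_diag_of_isPullback {𝒟 : Type u₂} [Category.{v₂} 𝒟] [HasBinaryProducts 𝒟]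
    {A B W G : 𝒟} {p₁ : W ⟶ A} {p₂ : W ⟶ B} {g₁ : A ⟶ G} {g₂ : B ⟶ G}
    (h : IsPullback p₁ p₂ g₁ g₂) :
    IsPullback (p₁ ≫ g₁) (prod.lift p₁ p₂) (Limits.diag G) (prod.map g₁ g₂) := by
  have hd1 : Limits.diag G ≫ prod.fst = 𝟙 G := prod.lift_fst _ _
  have hd2 : Limits.diag G ≫ prod.snd = 𝟙 G := prod.lift_snd _ _
  have hw : (p₁ ≫ g₁) ≫ Limits.diag G = prod.lift p₁ p₂ ≫ prod.map g₁ g₂ := by
    apply Limits.prod.hom_ext
    · rw [Category.assoc, Category.assoc, hd1, Category.assoc, prod.map_fst, prod.lift_fst_assoc,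
        Category.comp_id]
    · rw [Category.assoc, Category.assoc, hd2, Category.assoc, prod.map_snd, prod.lift_snd_assoc,
        ← h.w, Category.comp_id]
  have hs1 : ∀ s : PullbackCone (Limits.diag G) (prod.map g₁ g₂),
      s.fst = s.snd ≫ prod.fst ≫ g₁ := by
    intro s
    have := congr($(s.condition) ≫ prod.fst)
    rwa [Category.assoc, Category.assoc, prod.map_fst, hd1, Category.comp_id] at this
  have hs2 : ∀ s : PullbackCone (Limits.diag G) (prod.map g₁ g₂),
      s.fst = s.snd ≫ prod.snd ≫ g₂ := by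
    intro s
    have := congr($(s.condition) ≫ prod.snd)
    rwa [Category.assoc, Category.assoc, prod.map_snd, hd2, Category.comp_id] at this
  have hc : ∀ s : PullbackCone (Limits.diag G) (prod.map g₁ g₂),
      (s.snd ≫ prod.fst) ≫ g₁ = (s.snd ≫ prod.snd) ≫ g₂ := by
    intro s
    rw [Category.assoc, Category.assoc, ← hs1, ← hs2]
  refine ⟨⟨hw⟩, ⟨PullbackCone.IsLimit.mk _
    (fun s ↦ h.lift (s.snd ≫ prod.fst) (s.snd ≫ prod.snd) (hc s))
    (fun s ↦ ?_) (fun s ↦ ?_) (fun s m h₁ h₂ ↦ ?_)⟩⟩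
  · rw [← Category.assoc, h.lift_fst, Category.assoc, ← hs1]
  · apply Limits.prod.hom_ext
    · rw [Category.assoc, prod.lift_fst, h.lift_fst]
    · rw [Category.assoc, prod.lift_snd, h.lift_snd]
  · apply h.hom_ext
    · rw [h.lift_fst, ← h₂, Category.assoc, prod.lift_fst]
    · rw [h.lift_snd, ← h₂, Category.assoc, prod.lift_snd]

end Groth.Agent.Lib.Helper51
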