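import Groth.Prelude.Def_AlgSp
import Groth.Agent.Lib.Helper51.RelRep

/-!
# Basic lemmas on fppf sheaves over a scheme and representable morphisms (helper51)
-/

set_option autoImplicit false
universe u

namespace Groth.Agent.Lib.Helper51

open CategoryTheory Limits AlgebraicGeometry Opposite

variable {S : Scheme.{u}}

/-- The Yoneda bijection `(h_T ⟶ F) ≃ F(T)` with universes pinned for `AlgSp.Sp S`. -/
noncomputable def yonEquiv {T : Over S} {F : AlgSp.Sp S} :
    ((AlgSp.yon S).obj T ⟶ F) ≃ F.obj.obj (op T) :=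
  GrothendieckTopology.uliftYonedaEquiv.{u + 1} (AlgSp.J S)

lemma yonEquiv_comp {T : Over S} {F G : AlgSp.Sp S} (a : (AlgSp.yon S).obj T ⟶ F) (f : F ⟶ G) :
    yonEquiv (a ≫ f) = f.hom.app _ (yonEquiv a) :=
  GrothendieckTopology.uliftYonedaEquiv_comp.{u + 1} (AlgSp.J S) a f

/-- A morphism of fppf sheaves is a monomorphism as soon as it is injective on `h_T`-points. -/
lemma mono_of_forall_yon {F G : AlgSp.Sp S} (f : F ⟶ G)
    (h : ∀ (T : Over S) (x y : (AlgSp.yon S).obj T ⟶ F), x ≫ f = y ≫ f → x = y) : Mono f := by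
  have : Mono f.hom := by
    apply (NatTrans.mono_iff_mono_app f.hom).mpr
    intro T
    rw [mono_iff_injective]
    intro a b hab
    obtain ⟨T⟩ := T
    have hx : yonEquiv.symm a ≫ f = yonEquiv.symm b ≫ f := by
      apply yonEquiv.injective
      rw [yonEquiv_comp, yonEquiv_comp, Equiv.apply_symm_apply, Equiv.apply_symm_apply]
      exact hab
    have := h T _ _ hx
    exact yonEquiv.symm.injective this
  exact Sheaf.Hom.mono_of_presheaf_mono _ _ f

/-- A representable morphism of fppf sheaves all of whose representing base changes are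
monomorphisms of schemes over `S` is a monomorphism of sheaves. -/
lemma mono_of_representable_of_mono {F G : AlgSp.Sp S} (f : F ⟶ G) (hf : AlgSp.Representable f)
    (hmono : ∀ ⦃U V : Over S⦄ (g : (AlgSp.yon S).obj U ⟶ G) (fst : (AlgSp.yon S).obj V ⟶ F)
      (snd : V ⟶ U), IsPullback fst ((AlgSp.yon S).map snd) f g → Mono snd) : Mono f := by
  apply mono_of_forall_yon
  intro T x y hxy
  obtain ⟨V, snd, fst, hpb⟩ := hf (x ≫ f)
  have hm : Mono snd := hmono _ _ _ hpb
  let sx : (AlgSp.yon S).obj T ⟶ (AlgSp.yon S).obj V := hpb.lift x (𝟙 _) (by simp)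
  let sy : (AlgSp.yon S).obj T ⟶ (AlgSp.yon S).obj V := hpb.lift y (𝟙 _) (by rw [← hxy]; simp)
  have hsx : sx ≫ fst = x := hpb.lift_fst _ _ _
  have hsy : sy ≫ fst = y := hpb.lift_fst _ _ _
  have hsx' : sx ≫ (AlgSp.yon S).map snd = 𝟙 _ := hpb.lift_snd _ _ _
  have hsy' : sy ≫ (AlgSp.yon S).map snd = 𝟙 _ := hpb.lift_snd _ _ _
  have e : (AlgSp.yon S).preimage sx = (AlgSp.yon S).preimage sy := by
    rw [← cancel_mono snd]
    apply (AlgSp.yon S).map_injective
    rw [Functor.map_comp, Functor.map_comp, Functor.map_preimage, Functor.map_preimage, hsx', hsy']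
  have e' : sx = sy := by
    rw [← (AlgSp.yon S).map_preimage sx, ← (AlgSp.yon S).map_preimage sy, e]
  rw [← hsx, ← hsy, e']

/-- A morphism representable by immersions is a monomorphism of sheaves. -/
lemma mono_of_repWith_isImmersion {F G : AlgSp.Sp S} (f : F ⟶ G)
    (hf : AlgSp.RepWith @IsImmersion f) : Mono f := by
  refine mono_of_representable_of_mono f hf.1 fun U V g fst snd hpb ↦ ?_
  have : IsImmersion snd.left := hf.2 g fst snd hpb
  have : Mono snd.left := inferInstance
  exact Over.mono_of_mono_left snd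

lemma yonEquiv_naturality {T T' : Over S} {F : AlgSp.Sp S} (a : (AlgSp.yon S).obj T ⟶ F)
    (g : T' ⟶ T) : F.obj.map g.op (yonEquiv a) = yonEquiv ((AlgSp.yon S).map g ≫ a) :=
  GrothendieckTopology.uliftYonedaEquiv_naturality.{u + 1} (AlgSp.J S) a g

/-- A single flat, locally finitely presented, surjective morphism `V ⟶ U` over `S` generates a
covering sieve of the fppf topology on `Over S`, hence so does any sieve containing it. -/
lemma mem_J_of_fppf {U V : Over S} (p : V ⟶ U) [Flat p.left]
    [LocallyOfFinitePresentation p.left] [Surjective p.left] (R : Sieve U) (hR : R p) :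
    R ∈ AlgSp.J S U := by
  rw [AlgSp.J_eq, GrothendieckTopology.mem_over_iff]
  refine Scheme.fppfTopology.superset_covering ?_
    (Precoverage.generate_mem_toGrothendieck p.left.singleton_mem_fppfPrecoverage)
  rintro W g ⟨Z, k, q, ⟨⟩, rfl⟩
  rw [Sieve.overEquiv_iff]
  have : (Over.homMk (k ≫ p.left) : Over.mk ((k ≫ p.left) ≫ U.hom) ⟶ U) =
      (Over.homMk k (by simp) : Over.mk ((k ≫ p.left) ≫ U.hom) ⟶ V) ≫ p := by
    ext; simp
  rw [this]
  exact R.downward_closed hR _

/-- Isomorphisms are fppf coverings. -/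
lemma fppfPrecoverage_hasIsos : Precoverage.HasIsos Scheme.fppfPrecoverage.{u} where
  mem_coverings_of_isIso f _ := f.singleton_mem_fppfPrecoverage

/-- A property of morphisms of schemes which is fppf local on the target can be checked after base
change along the members of any covering sieve of the fppf topology. -/
lemma of_forall_mem_fppfTopology (P : MorphismProperty Scheme.{u})
    [P.IsLocalAtTarget Scheme.fppfPrecoverage] {X Y : Scheme.{u}} (f : X ⟶ Y) (R : Sieve Y)
    (hR : R ∈ Scheme.fppfTopology Y)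
    (h : ∀ {T : Scheme.{u}} (g : T ⟶ Y), R g → P (pullback.snd f g)) : P f := by
  have := fppfPrecoverage_hasIsos.{u}
  obtain ⟨R', hR', hle⟩ :=
    (Precoverage.mem_toGrothendieck_iff_of_isStableUnderComposition).1 hR
  exact MorphismProperty.IsLocalAtTarget.of_forall_pullbackSnd hR' fun {U g _} hg ↦ h g (hle _ _ hg)

/-- Variant over a base `S`: a morphism `snd : V ⟶ U` of schemes over `S` has `P` as soon as for
every member `g` of a covering sieve of `U` for the fppf topology over `S`, SOME pullback of `snd`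
along `g` in `Over S` has `P`. -/
lemma of_forall_mem_J (P : MorphismProperty Scheme.{u})
    [P.IsLocalAtTarget Scheme.fppfPrecoverage] {U V : Over S} (snd : V ⟶ U) (R : Sieve U)
    (hR : R ∈ AlgSp.J S U)
    (h : ∀ {T : Over S} (g : T ⟶ U), R g → ∃ (V' : Over S) (p₁ : V' ⟶ V) (p₂ : V' ⟶ T),
      IsPullback p₁ p₂ snd g ∧ P p₂.left) : P snd.left := by
  rw [AlgSp.J_eq, GrothendieckTopology.mem_over_iff] at hR
  refine of_forall_mem_fppfTopology P snd.left _ hR fun {T} g hg ↦ ?_
  rw [Sieve.overEquiv_iff] at hg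
  obtain ⟨V', p₁, p₂, hpb, hP⟩ := h _ hg
  have hpb' : IsPullback p₁.left p₂.left snd.left g := hpb.map (Over.forget S)
  rw [← P.cancel_left_of_respectsIso hpb'.isoPullback.hom, hpb'.isoPullback_hom_snd]
  exact hP

end Groth.Agent.Lib.Helper51
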