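import Groth.Prelude.Def_AlgSpRep
import Groth.Agent.Lib.Helper51.AlgSpBasic

/-!
# A presheaf with a representable map to a sheaf is a sheaf (helper51)
-/

set_option autoImplicit false
universe u

namespace Groth.Agent.Lib.Helper51

open CategoryTheory Limits AlgebraicGeometry Opposite

variable {S : Scheme.{u}}

/-- The map `h_T ⟶ G` of presheaves attached to a section `y ∈ G(T)`. -/
def pyonDesc {G : AlgSp.PSp S} {T : Over S} (y : G.obj (op T)) : (AlgSp.pyon S).obj T ⟶ G where
  app Y := ↾fun f ↦ G.map f.down.op y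
  naturality Y Z g := by
    ext ⟨f⟩
    change G.map (g.unop ≫ f).op y = G.map g (G.map f.op y)
    rw [op_comp, Functor.map_comp]
    rfl

lemma pyonDesc_app {G : AlgSp.PSp S} {T : Over S} (y : G.obj (op T)) {Y : Over S} (f : Y ⟶ T) :
    (pyonDesc y).app (op Y) ⟨f⟩ = G.map f.op y := rfl

/-- Let `a : F ⟶ G` be a map of presheaves on schemes over `S` which is representable by schemes.
If `G` is an fppf sheaf, so is `F`. -/
theorem isSheaf_of_relativelyRepresentable {F G : AlgSp.PSp S} (a : F ⟶ G)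
    (ha : (AlgSp.pyon S).relativelyRepresentable a) (hG : Presheaf.IsSheaf (AlgSp.J S) G) :
    Presheaf.IsSheaf (AlgSp.J S) F := by
  rw [isSheaf_iff_isSheaf_of_type] at hG ⊢
  have hrep : ∀ V : Over S, Presieve.IsSheaf (AlgSp.J S) ((AlgSp.pyon S).obj V) := fun V ↦
    (isSheaf_iff_isSheaf_of_type _ _).1 ((AlgSp.yon S).obj V).property
  intro T R hR x hx
  -- the image family in `G` and its amalgamation
  let y : Presieve.FamilyOfElements G R := fun Y f hf ↦ a.app (op Y) (x f hf)
  have hy : y.Compatible := by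
    intro Y₁ Y₂ Z g₁ g₂ f₁ f₂ h₁ h₂ comm
    change G.map g₁.op (a.app _ (x f₁ h₁)) = G.map g₂.op (a.app _ (x f₂ h₂))
    rw [← NatTrans.naturality_apply, ← NatTrans.naturality_apply, hx g₁ g₂ h₁ h₂ comm]
  obtain ⟨y₀, hy₀, hy₀uniq⟩ := hG R hR y hy
  obtain ⟨V, snd, fst, hpb⟩ := ha (pyonDesc y₀)
  -- pointwise pullbacks
  have hpt : ∀ Y : Over S, IsPullback (fst.app (op Y)) (((AlgSp.pyon S).map snd).app (op Y))
      (a.app (op Y)) ((pyonDesc y₀).app (op Y)) :=
    fun Y ↦ hpb.map ((evaluation _ _).obj (op Y))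
  -- lift the family to `h_V`
  have hex : ∀ ⦃Y : Over S⦄ (f : Y ⟶ T) (hf : R f), ∃ v : ((AlgSp.pyon S).obj V).obj (op Y),
      fst.app (op Y) v = x f hf ∧ ((AlgSp.pyon S).map snd).app (op Y) v = ⟨f⟩ := by
    intro Y f hf
    refine Types.exists_of_isPullback (hpt Y) (x f hf) ⟨f⟩ ?_
    rw [pyonDesc_app]
    exact (hy₀ f hf).symm
  choose v' hv1 hv2 using hex
  let v : Presieve.FamilyOfElements ((AlgSp.pyon S).obj V) R.arrows := fun Y f hf ↦ v' f hf
  have hvc : v.Compatible := by
    intro Y₁ Y₂ Z g₁ g₂ f₁ f₂ h₁ h₂ comm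
    apply Types.ext_of_isPullback (hpt Z)
    · rw [NatTrans.naturality_apply, NatTrans.naturality_apply, hv1, hv1]
      exact hx g₁ g₂ h₁ h₂ comm
    · rw [NatTrans.naturality_apply, NatTrans.naturality_apply, hv2, hv2]
      change (ULift.up (g₁ ≫ f₁) : ULift _) = ULift.up (g₂ ≫ f₂)
      rw [comm]
  obtain ⟨v₀, hv₀, hv₀uniq⟩ := hrep V R hR v hvc
  refine ⟨fst.app (op T) v₀, ?_, ?_⟩
  · intro Y f hf
    rw [← NatTrans.naturality_apply, hv₀ f hf, hv1]
  · intro x₁ hx₁
    -- `a x₁ = y₀`
    have h1 : a.app (op T) x₁ = y₀ := by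
      apply hy₀uniq
      intro Y f hf
      change G.map f.op (a.app (op T) x₁) = a.app (op Y) (x f hf)
      rw [← NatTrans.naturality_apply, hx₁ f hf]
    obtain ⟨v₁, hv₁1, hv₁2⟩ := Types.exists_of_isPullback (hpt T) x₁ ⟨𝟙 T⟩ (by
      rw [pyonDesc_app, h1]
      simp)
    have h2 : v₁ = v₀ := by
      apply hv₀uniq
      intro Y f hf
      apply Types.ext_of_isPullback (hpt Y)
      · rw [NatTrans.naturality_apply, hv₁1, hv1]
        exact hx₁ f hf
      · rw [NatTrans.naturality_apply, hv₁2, hv2]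
        change (ULift.up (f ≫ 𝟙 T) : ULift _) = ULift.up f
        rw [Category.comp_id]
    rw [← hv₁1, h2]

/-- The diagonal of the source of a representable map to a sheaf with representable diagonal is
representable. -/
theorem representable_diag_of_representable {G X : AlgSp.Sp S}
    (hX : AlgSp.Representable (Limits.diag X)) (a : G ⟶ X) (ha : AlgSp.Representable a) :
    AlgSp.Representable (Limits.diag G) := by
  have h1 : AlgSp.Representable (pullback.diagonal a) :=
    relativelyRepresentable_pullback_diagonal (AlgSp.yon S) ha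
  have h2 : AlgSp.Representable (prod.lift (pullback.fst a a) (pullback.snd a a)) :=
    MorphismProperty.of_isPullback
      (isPullback_diag_of_isPullback (IsPullback.of_hasPullback a a)) hX
  have e : Limits.diag G =
      pullback.diagonal a ≫ prod.lift (pullback.fst a a) (pullback.snd a a) := by
    apply Limits.prod.hom_ext
    · rw [Category.assoc, prod.lift_fst, prod.lift_fst, pullback.diagonal_fst]
    · rw [Category.assoc, prod.lift_snd, prod.lift_snd, pullback.diagonal_snd]
  rw [e]
  exact (AlgSp.Representable (S := S)).comp_mem _ _ h1 h2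

/-- A sheaf with a representable map to an algebraic space is an algebraic space. -/
theorem isAlgSpace_of_representable {G X : AlgSp.Sp S} (hX : AlgSp.IsAlgSpace X) (a : G ⟶ X)
    (ha : AlgSp.Representable a) : AlgSp.IsAlgSpace G := by
  refine ⟨representable_diag_of_representable hX.diag a ha, ?_⟩
  obtain ⟨U, p, hpe, hps⟩ := hX.atlas
  obtain ⟨V, snd, fst, hpb⟩ := ha p
  exact ⟨V, fst, MorphismProperty.of_isPullback hpb.flip hpe,
    MorphismProperty.of_isPullback hpb.flip hps⟩

/-- A presheaf with a representable map to (the presheaf underlying) an algebraic space is an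
fppf sheaf and an algebraic space. -/
theorem isAlgSpaceP_of_relativelyRepresentable {X : AlgSp.Sp S} (hX : AlgSp.IsAlgSpace X)
    (G : AlgSp.PSp S) (a : G ⟶ X.obj) (ha : (AlgSp.pyon S).relativelyRepresentable a) :
    AlgSp.IsAlgSpaceP G := by
  have hG : Presheaf.IsSheaf (AlgSp.J S) G := isSheaf_of_relativelyRepresentable a ha X.property
  refine ⟨hG, ?_⟩
  let a' : (⟨G, hG⟩ : AlgSp.Sp S) ⟶ X := ObjectProperty.homMk a
  refine isAlgSpace_of_representable hX a' ?_
  intro T ξ
  obtain ⟨V, snd, fst, hpb⟩ := ha ξ.hom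
  refine ⟨V, snd, ObjectProperty.homMk fst, ?_⟩
  exact IsPullback.of_map_of_faithful (sheafToPresheaf (AlgSp.J S) (Type (u + 1))) hpb

end Groth.Agent.Lib.Helper51
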