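import Groth.Agent.Lib.Helper51.ZarLocal
import Groth.Agent.Lib.Helper54.MonoPoint
import Groth.Agent.S10244

/-!
# Decency is Zariski local (helper51)
-/

set_option autoImplicit false
universe u

namespace Groth.Agent.Lib.Helper51

open CategoryTheory Limits AlgebraicGeometry Opposite AlgSp

variable {S : Scheme.{u}}

/-- A morphism from an open subscheme of the spectrum of a field to a decent algebraic space is
representable and quasi-compact. -/
theorem repWith_quasiCompact_of_open_in_field {Y : Sp S} (hY : IsAlgSpace Y) (hdY : IsDecent Y)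
    {K : Type u} [Field K] {str : Spec (CommRingCat.of K) ⟶ S} {E : Over S}
    (e : E ⟶ Over.mk str) [IsOpenImmersion e.left] (q : (yon S).obj E ⟶ Y) :
    RepWith @QuasiCompact q := by
  rcases isEmpty_or_nonempty ↥E.left with hE | hE
  · refine ⟨hY.representable_from_yon q, fun T V g fst snd sq => ?_⟩
    change QuasiCompact snd.left
    have : IsEmpty ↥V.left := Function.isEmpty ((yon S).preimage fst).left
    exact Groth.Agent.Lib.Helper54.quasiCompact_of_subsingleton _
  · have hiso : IsIso e.left :=
      Groth.Agent.Lib.Helper54.isIso_of_mono_of_nonempty_of_field (L := K) e.left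
    have hiso2 : IsIso e := by
      have : IsIso ((Over.forget S).map e) := hiso
      exact isIso_of_reflects_iso _ (Over.forget S)
    let m : (yon S).obj (Over.mk str) ⟶ Y := (yon S).map (inv e) ≫ q
    let q' : FieldPt Y := Groth.Agent.Lib.Helper54.fieldPtOfHom K str m
    obtain ⟨p, hp, hm, hqc⟩ := hdY (Points.mk q')
    have h1 := Groth.Agent.Lib.Helper54.repWith_quasiCompact_of_mono_point p q' hm hqc hp.symm
    rw [Groth.Agent.Lib.Helper54.fieldPtOfHom_toHom] at h1
    have hq : q = (yon S).map e ≫ m := by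
      rw [← Category.assoc, ← Functor.map_comp, IsIso.hom_inv_id]
      erw [(yon S).map_id]
      rw [Category.id_comp]
    rw [hq]
    exact (MorphismProperty.cancel_left_of_respectsIso (RepWith (S := S) @QuasiCompact)
      ((yon S).map e) m).2 h1

/-- Decency is Zariski local. -/
theorem isDecent_of_isZarCover (X : Space S) {ι : Type u} (Xi : ι → Space S)
    (j : ∀ i, Xi i ⟶ X) (hj : IsZarCover (fun i => (Xi i).obj) (fun i => (j i).hom))
    (hd : ∀ i, IsDecent (Xi i).obj) : IsDecent X.obj := by
  intro x
  obtain ⟨i, xi, hxi⟩ := hj.2 x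
  obtain ⟨p, hp, hm, hq⟩ := hd i xi
  have hji : Mono (j i).hom :=
    Groth.Agent.H52.mono_of_repWith _ @IsOpenImmersion (fun _ _ g hg => by
      have : IsOpenImmersion g := hg
      infer_instance) (hj.1 i)
  refine ⟨p.map (j i).hom, ?_, ?_, ?_⟩
  · rw [← Points.map_mk, hp, hxi]
  · rw [FieldPt.toHom_map]
    exact @mono_comp _ _ _ _ _ _ hm _ hji
  · rw [FieldPt.toHom_map]
    have hrep : Representable (p.toHom ≫ (j i).hom) := X.property.representable_from_yon _
    refine repWith_of_zariski_local @QuasiCompact _ hrep ?_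
    intro T y t
    obtain ⟨l, P, fst, snd, sq, ht⟩ := (Groth.Agent.S10244.result X Xi j hj.1).1 hj T y t
    have hsnd : IsOpenImmersion snd.left := (hj.1 l).2 _ _ _ sq
    refine ⟨P, snd, hsnd, ht, (Xi l).obj, (j l).hom, fst, ?_⟩
    have hr := (hj.1 l).rep
    have sqE := hr.isPullback (p.toHom ≫ (j i).hom)
    have hopen : IsOpenImmersion (hr.snd (p.toHom ≫ (j i).hom)).left := (hj.1 l).2 _ _ _ sqE
    exact ⟨_, (yon S).map (hr.snd (p.toHom ≫ (j i).hom)), hr.fst (p.toHom ≫ (j i).hom), sq.w,
      sqE.flip, repWith_quasiCompact_of_open_in_field (Xi l).property (hd l)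
        (hr.snd (p.toHom ≫ (j i).hom)) _⟩

end Groth.Agent.Lib.Helper51
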