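import Groth.Prelude.Def_AlgSpGpd
import Groth.Agent.Lib.Helper51.AlgSpBasic
import Mathlib.CategoryTheory.Sites.LocallyInjective

/-!
# Quotient sheaves by pre-equivalence relations are effective up to coverings (helper51)
-/

set_option autoImplicit false
universe w v u
open CategoryTheory CategoryTheory.Limits Opposite

namespace Groth.Agent.Lib.Helper51

/-- In `Type`, two elements identified in the coequalizer of an equivalence relation are
related. -/
theorem types_rel_of_isColimit_cofork {A B : Type w} (r₁ r₂ : A ⟶ B)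
    (c : Cofork r₁ r₂) (hc : IsColimit c)
    (heq : Equivalence (fun b b' : B => ∃ a : A, r₂ a = b ∧ r₁ a = b')) {b b' : B}
    (hb : c.π b = c.π b') : ∃ a : A, r₂ a = b ∧ r₁ a = b' := by
  let st : Setoid B := ⟨_, heq⟩
  let q : B ⟶ Quotient st := ↾(fun b => Quotient.mk st b)
  have hq : r₁ ≫ q = r₂ ≫ q := by
    ext a
    exact Quotient.sound (heq.symm ⟨a, rfl, rfl⟩)
  let d := hc.desc (Cofork.ofπ q hq)
  have hd : c.π ≫ d = q := hc.fac (Cofork.ofπ q hq) WalkingParallelPair.one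
  have : q b = q b' := by
    rw [← hd]
    change d (c.π b) = d (c.π b')
    rw [hb]
  exact Quotient.exact this

/-- Presheaf version. -/
theorem presheaf_rel_of_isColimit_cofork {C : Type u} [Category.{v} C] {R U Q : Cᵒᵖ ⥤ Type w}
    (s t : R ⟶ U) (π : U ⟶ Q) (hπ : s ≫ π = t ≫ π) (hc : IsColimit (Cofork.ofπ π hπ))
    (heq : ∀ X : Cᵒᵖ, Equivalence (fun a b : U.obj X => ∃ r : R.obj X, t.app X r = a ∧ s.app X r = b))
    {X : Cᵒᵖ} {a b : U.obj X} (h : π.app X a = π.app X b) :
    ∃ r : R.obj X, t.app X r = a ∧ s.app X r = b := by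
  have hcX := isColimitMapCoconeCoforkEquiv ((evaluation _ _).obj X) hπ
    (isColimitOfPreserves ((evaluation Cᵒᵖ (Type w)).obj X) hc)
  exact types_rel_of_isColimit_cofork _ _ _ hcX (heq X) h

/-- Sheaf version: sections identified in the quotient sheaf of a pre-equivalence relation are
related locally. -/
theorem sheaf_rel_of_coequalizer_eq {C : Type u} [Category.{v} C] (J : GrothendieckTopology C)
    {R U : Sheaf J (Type (max u v))} (s t : R ⟶ U)
    (heq : ∀ X : Cᵒᵖ, Equivalence (fun a b : U.obj.obj X =>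
      ∃ r : R.obj.obj X, t.hom.app X r = a ∧ s.hom.app X r = b))
    {X : Cᵒᵖ} (a b : U.obj.obj X)
    (h : (coequalizer.π s t).hom.app X a = (coequalizer.π s t).hom.app X b) :
    ∃ Sv ∈ J X.unop, ∀ ⦃Y : C⦄ (f : Y ⟶ X.unop), Sv f →
      ∃ r : R.obj.obj (op Y), t.hom.app _ r = U.obj.map f.op a ∧ s.hom.app _ r = U.obj.map f.op b := by
  let π₀ := coequalizer.π s.hom t.hom
  let q₁ : U ⟶ (presheafToSheaf J (Type (max u v))).obj (coequalizer s.hom t.hom) :=
    ObjectProperty.homMk (π₀ ≫ toSheafify J _)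
  have w : s ≫ q₁ = t ≫ q₁ := by
    apply ObjectProperty.hom_ext
    change s.hom ≫ π₀ ≫ toSheafify J _ = t.hom ≫ π₀ ≫ toSheafify J _
    rw [← Category.assoc, ← Category.assoc, coequalizer.condition]
  have hd : coequalizer.π s t ≫ coequalizer.desc q₁ w = q₁ := coequalizer.π_desc _ _
  have h1 : q₁.hom.app X a = q₁.hom.app X b := by
    rw [← hd]
    change (coequalizer.desc q₁ w).hom.app X ((coequalizer.π s t).hom.app X a) =
      (coequalizer.desc q₁ w).hom.app X ((coequalizer.π s t).hom.app X b)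
    rw [h]
  have h2 : (toSheafify J (coequalizer s.hom t.hom)).app X (π₀.app X a) =
      (toSheafify J (coequalizer s.hom t.hom)).app X (π₀.app X b) := h1
  refine ⟨_, Presheaf.equalizerSieve_mem J (toSheafify J (coequalizer s.hom t.hom)) _ _ h2, ?_⟩
  intro Y f hf
  have h3 : (coequalizer s.hom t.hom).map f.op (π₀.app X a) =
      (coequalizer s.hom t.hom).map f.op (π₀.app X b) := hf
  have h4 : π₀.app (op Y) (U.obj.map f.op a) = π₀.app (op Y) (U.obj.map f.op b) := by
    rw [NatTrans.naturality_apply, NatTrans.naturality_apply]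
    exact h3
  exact presheaf_rel_of_isColimit_cofork s.hom t.hom π₀ (coequalizer.condition _ _)
    (coequalizerIsCoequalizer _ _) heq h4

section AlgSp

open AlgebraicGeometry AlgSp

variable {S : Scheme.{u}} {R U : Sp S} (s t : R ⟶ U)

/-- The relation defined by `R` on `T`-points, in terms of sections. -/
lemma rel_iff_sections {T : Over S} (a b : (yon S).obj T ⟶ U) :
    (∃ r : (yon S).obj T ⟶ R, r ≫ t = a ∧ r ≫ s = b) ↔
      ∃ r : R.obj.obj (op T), t.hom.app _ r = yonEquiv a ∧ s.hom.app _ r = yonEquiv b := by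
  constructor
  · rintro ⟨r, rfl, rfl⟩
    exact ⟨yonEquiv r, (yonEquiv_comp r t).symm, (yonEquiv_comp r s).symm⟩
  · rintro ⟨r, h1, h2⟩
    refine ⟨yonEquiv.symm r, ?_, ?_⟩
    · apply yonEquiv.injective
      rw [yonEquiv_comp, Equiv.apply_symm_apply, h1]
    · apply yonEquiv.injective
      rw [yonEquiv_comp, Equiv.apply_symm_apply, h2]

/-- Sections of `U` identified in the quotient sheaf of a pre-equivalence relation are related
locally for the fppf topology. -/
theorem exists_cover_rel_of_quotSpπ_eq (hpre : IsPreEqvRelSp s t) {T : Over S}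
    (a b : (yon S).obj T ⟶ U) (h : a ≫ quotSpπ s t = b ≫ quotSpπ s t) :
    ∃ Sv ∈ J S T, ∀ ⦃Y : Over S⦄ (f : Y ⟶ T), Sv f →
      ∃ r : (yon S).obj Y ⟶ R, r ≫ t = (yon S).map f ≫ a ∧ r ≫ s = (yon S).map f ≫ b := by
  have heq : ∀ X : (Over S)ᵒᵖ, Equivalence (fun a b : U.obj.obj X =>
      ∃ r : R.obj.obj X, t.hom.app X r = a ∧ s.hom.app X r = b) := by
    intro X
    obtain ⟨X⟩ := X
    have hX := hpre X
    refine ⟨fun x => ?_, fun {x y} hxy => ?_, fun {x y z} hxy hyz => ?_⟩
    · obtain ⟨a, rfl⟩ := yonEquiv.surjective x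
      exact (rel_iff_sections s t a a).1 (hX.refl a)
    · obtain ⟨a, rfl⟩ := yonEquiv.surjective x
      obtain ⟨b, rfl⟩ := yonEquiv.surjective y
      exact (rel_iff_sections s t b a).1 (hX.symm ((rel_iff_sections s t a b).2 hxy))
    · obtain ⟨a, rfl⟩ := yonEquiv.surjective x
      obtain ⟨b, rfl⟩ := yonEquiv.surjective y
      obtain ⟨c, rfl⟩ := yonEquiv.surjective z
      exact (rel_iff_sections s t a c).1 (hX.trans ((rel_iff_sections s t a b).2 hxy)
        ((rel_iff_sections s t b c).2 hyz))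
  have h' : (coequalizer.π s t).hom.app (op T) (yonEquiv a) =
      (coequalizer.π s t).hom.app (op T) (yonEquiv b) := by
    have := congrArg yonEquiv h
    rwa [yonEquiv_comp, yonEquiv_comp] at this
  obtain ⟨Sv, hSv, hr⟩ := sheaf_rel_of_coequalizer_eq (J S) s t heq (yonEquiv a) (yonEquiv b) h'
  refine ⟨Sv, hSv, fun Y f hf => ?_⟩
  obtain ⟨r, h1, h2⟩ := hr f hf
  rw [yonEquiv_naturality] at h1 h2
  exact (rel_iff_sections s t _ _).2 ⟨r, h1, h2⟩

/-- Separatedness: two `T`-points of an fppf sheaf that agree on a covering sieve are equal. -/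
theorem yon_hom_ext_of_cover {F : Sp S} {T : Over S} (x y : (yon S).obj T ⟶ F)
    (Sv : Sieve T) (hSv : Sv ∈ J S T)
    (h : ∀ ⦃Y : Over S⦄ (f : Y ⟶ T), Sv f → (yon S).map f ≫ x = (yon S).map f ≫ y) : x = y := by
  apply yonEquiv.injective
  have hsep := ((isSheaf_iff_isSheaf_of_type _ _).1 F.property).isSeparated Sv hSv
  refine hsep.ext fun Y f hf => ?_
  rw [yonEquiv_naturality, yonEquiv_naturality, h f hf]

/-- Local lifting along an epimorphism of fppf sheaves. -/
theorem exists_cover_lift_of_epi {F G : Sp S} (p : F ⟶ G) [Epi p] {T : Over S}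
    (x : (yon S).obj T ⟶ G) :
    ∃ Sv ∈ J S T, ∀ ⦃Y : Over S⦄ (f : Y ⟶ T), Sv f →
      ∃ a : (yon S).obj Y ⟶ F, a ≫ p = (yon S).map f ≫ x := by
  have hls : Sheaf.IsLocallySurjective p := (Sheaf.isLocallySurjective_iff_epi p).2 inferInstance
  refine ⟨_, Presheaf.imageSieve_mem (J S) p.hom (U := op T) (yonEquiv x), fun Y f hf => ?_⟩
  obtain ⟨a, ha⟩ := hf
  refine ⟨yonEquiv.symm a, ?_⟩
  apply yonEquiv.injective
  rw [yonEquiv_comp, Equiv.apply_symm_apply, ← yonEquiv_naturality]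
  exact ha

/-- A mono + epi morphism of fppf sheaves is an isomorphism. -/
theorem isIso_of_mono_of_epi_sp {F G : Sp S} (p : F ⟶ G) [Mono p] [Epi p] : IsIso p :=
  isIso_of_mono_of_epi p

/-- The map of quotient sheaves induced by restricting a pre-equivalence relation along
`g : U' ⟶ U` is a monomorphism. -/
theorem mono_quotSp_map_of_restrict {R' U' : Sp S} (hpre : IsPreEqvRelSp s t) (g : U' ⟶ U)
    (s' t' : R' ⟶ U') (r : R' ⟶ R)
    (hsq : IsPullback (prod.lift t' s') r (prod.map g g) (prod.lift t s))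
    (ψ : quotSp s' t' ⟶ quotSp s t) (hψ : quotSpπ s' t' ≫ ψ = g ≫ quotSpπ s t) : Mono ψ := by
  apply mono_of_forall_yon
  intro T x y hxy
  have : Epi (quotSpπ s' t') := coequalizer.π_epi
  obtain ⟨S1, hS1, h1⟩ := exists_cover_lift_of_epi (quotSpπ s' t') x
  obtain ⟨S2, hS2, h2⟩ := exists_cover_lift_of_epi (quotSpπ s' t') y
  refine yon_hom_ext_of_cover x y (S1 ⊓ S2) ((J S).intersection_covering hS1 hS2) ?_
  rintro Y f ⟨hf1, hf2⟩
  obtain ⟨a', ha'⟩ := h1 f hf1
  obtain ⟨b', hb'⟩ := h2 f hf2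
  have hab : (a' ≫ g) ≫ quotSpπ s t = (b' ≫ g) ≫ quotSpπ s t := by
    rw [Category.assoc, Category.assoc, ← hψ, ← Category.assoc, ← Category.assoc, ha', hb',
      Category.assoc, Category.assoc, hxy]
  obtain ⟨S3, hS3, h3⟩ := exists_cover_rel_of_quotSpπ_eq s t hpre (a' ≫ g) (b' ≫ g) hab
  rw [← ha', ← hb']
  refine yon_hom_ext_of_cover _ _ S3 hS3 ?_
  intro Z h hh
  obtain ⟨r0, hr0t, hr0s⟩ := h3 h hh
  have hcond : prod.lift ((yon S).map h ≫ a') ((yon S).map h ≫ b') ≫ prod.map g g =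
      r0 ≫ prod.lift t s := by
    rw [prod.lift_map, prod.comp_lift, hr0t, hr0s, Category.assoc, Category.assoc]
  obtain ⟨l, hlt, hls⟩ : ∃ l : (yon S).obj Z ⟶ R', l ≫ t' = (yon S).map h ≫ a' ∧
      l ≫ s' = (yon S).map h ≫ b' := by
    refine ⟨hsq.lift _ _ hcond, ?_, ?_⟩
    · have := congrArg (· ≫ prod.fst) (hsq.lift_fst _ _ hcond)
      simpa only [Category.assoc, prod.lift_fst] using this
    · have := congrArg (· ≫ prod.snd) (hsq.lift_fst _ _ hcond)
      simpa only [Category.assoc, prod.lift_snd] using this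
  rw [← Category.assoc, ← Category.assoc, ← hlt, ← hls, Category.assoc, Category.assoc,
    quotSp_condition]

/-- The full statement: mono, and iso when `g` is an epimorphism. -/
theorem quotSp_map_of_restrict {R' U' : Sp S} (hpre : IsPreEqvRelSp s t) (g : U' ⟶ U)
    (s' t' : R' ⟶ U') (r : R' ⟶ R)
    (hsq : IsPullback (prod.lift t' s') r (prod.map g g) (prod.lift t s))
    (ψ : quotSp s' t' ⟶ quotSp s t) (hψ : quotSpπ s' t' ≫ ψ = g ≫ quotSpπ s t) :
    Mono ψ ∧ (Epi (g ≫ quotSpπ s t) → IsIso ψ) := by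
  have hm := mono_quotSp_map_of_restrict s t hpre g s' t' r hsq ψ hψ
  refine ⟨hm, fun hg => ?_⟩
  have : Epi (quotSpπ s' t' ≫ ψ) := by rw [hψ]; exact hg
  have : Epi ψ := epi_of_epi (quotSpπ s' t') ψ
  exact isIso_of_mono_of_epi_sp ψ

end AlgSp

end Groth.Agent.Lib.Helper51
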