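import Groth.Prelude.Def_AlgSpInf
import Groth.Agent.H52.Top
import Groth.Agent.H52.UnivInj
import Groth.Agent.H52.Basic
import Groth.Agent.H52.FibreProd
import Groth.Agent.H52.QC5
import Groth.Agent.H52.DiagLfp
import Groth.Agent.H53.Proper

/-!
# Thickenings of algebraic spaces and topological properties of morphisms (helper51)
-/

set_option autoImplicit false
universe u
open CategoryTheory CategoryTheory.Limits AlgebraicGeometry Opposite AlgSp

namespace Groth.Agent.Lib.Helper51

variable {S : Scheme.{u}}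

/-- "A homeomorphism on points". -/
structure PtsHomeo {X Y : Sp S} (h : X ⟶ Y) : Prop where
  inj : Function.Injective (Points.map h)
  surj : Function.Surjective (Points.map h)
  closed : IsClosedMap (Points.map h)

lemma PtsHomeo.isOpenMap {X Y : Sp S} {h : X ⟶ Y} (hh : PtsHomeo h) : IsOpenMap (Points.map h) := by
  intro U hU
  have : Points.map h '' U = (Points.map h '' Uᶜ)ᶜ := by
    rw [Set.image_compl_eq ⟨hh.inj, hh.surj⟩, compl_compl]
  rw [this]
  exact (hh.closed _ hU.isClosed_compl).isOpen_compl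

/-- A thickening is a homeomorphism on points. -/
theorem ptsHomeo_of_isThickMor {X X' : Sp S} (i : X ⟶ X') (hi : IsThickMor i) : PtsHomeo i := by
  have hmono : Mono i := H52.mono_of_repWith i thick (fun _ _ g hg => by
    have : IsClosedImmersion g := hg.1
    infer_instance) hi
  refine ⟨?_, ?_, ?_⟩
  · apply H52.KInj.injective_points
    intro K _ str p q hpq
    exact (cancel_mono i).1 hpq
  · exact H52.surjective_points_of_repWith_surjective i (H53.repWith_of_le (fun _ _ _ h => h.2) hi)
  · exact H52.isClosedMap_points_of_repWith i thick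
      (fun _ _ φ hφ => hφ.1.isClosedEmbedding.isClosedMap) hi

lemma isThickMor_of_isPullback {X Y Y' X' : Sp S} {f : X ⟶ Y} {g : Y' ⟶ Y} {fst : X' ⟶ X}
    {f' : X' ⟶ Y'} (sq : IsPullback fst f' f g) (hf : IsThickMor f) : IsThickMor f' :=
  MorphismProperty.of_isPullback (P := RepWith (S := S) thick) sq hf

lemma mono_of_isThickMor {X X' : Sp S} (i : X ⟶ X') (hi : IsThickMor i) : Mono i :=
  H52.mono_of_repWith i thick (fun _ _ g hg => by
    have : IsClosedImmersion g := hg.1
    infer_instance) hi

/-- Composing both legs with a monomorphism keeps a square cartesian. -/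
lemma isPullback_comp_mono {C : Type*} [Category C] {P X Y Z Z' : C} {fst : P ⟶ X} {snd : P ⟶ Y}
    {f : X ⟶ Z} {g : Y ⟶ Z} (sq : IsPullback fst snd f g) (j : Z ⟶ Z') [Mono j] :
    IsPullback fst snd (f ≫ j) (g ≫ j) := by
  refine ⟨⟨by rw [← Category.assoc, sq.w, Category.assoc]⟩,
    ⟨PullbackCone.IsLimit.mk _ (fun c => sq.lift c.fst c.snd ?_) (fun c => sq.lift_fst _ _ _)
      (fun c => sq.lift_snd _ _ _) (fun c m hm1 hm2 => ?_)⟩⟩
  · rw [← cancel_mono j, Category.assoc, Category.assoc, c.condition]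
  · apply sq.hom_ext
    · rw [hm1, sq.lift_fst]
    · rw [hm2, sq.lift_snd]

/-- Transfer of a universal point-property along a morphism of thickenings. -/
theorem univSp_iff_of_thick (Q : MorphismProperty (Sp S))
    (hpost : ∀ ⦃A B C : Sp S⦄ (f : A ⟶ B) (h : B ⟶ C), Q f → PtsHomeo h → Q (f ≫ h))
    (hpre : ∀ ⦃A B C : Sp S⦄ (h : A ⟶ B) (f : B ⟶ C), PtsHomeo h → Q f → Q (h ≫ f))
    (hcancel : ∀ ⦃A B C : Sp S⦄ (h : A ⟶ B) (f : B ⟶ C), PtsHomeo h → Q (h ≫ f) → Q f)
    {X X' Y Y' : Sp S} (hY : IsAlgSpace Y) (hY' : IsAlgSpace Y')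
    (i : X ⟶ X') (j : Y ⟶ Y') (f : X ⟶ Y) (f' : X' ⟶ Y') (hi : IsThickMor i) (hj : IsThickMor j)
    (w : i ≫ f' = f ≫ j) : UnivSp Q f ↔ UnivSp Q f' := by
  have hjm : Mono j := mono_of_isThickMor j hj
  constructor
  · intro hf W P' hW g fst' snd' sqP'
    -- `W₀ = W ×_{Y'} Y`
    have sqW := IsPullback.of_hasPullback g j
    have hW0 : IsAlgSpace (pullback g j) := H52.isAlgSpace_of_isPullback sqW hW hY' hY
    have hι : PtsHomeo (pullback.fst g j) :=
      ptsHomeo_of_isThickMor _ (isThickMor_of_isPullback sqW.flip hj)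
    -- `P₀ = X ×_Y W₀`
    have sqP0 := IsPullback.of_hasPullback f (pullback.snd g j)
    have hQ0 : Q (pullback.snd f (pullback.snd g j)) := hf hW0 _ _ _ sqP0
    have outer : IsPullback (pullback.fst f (pullback.snd g j))
        (pullback.snd f (pullback.snd g j) ≫ pullback.fst g j) (f ≫ j) g :=
      sqP0.paste_vert sqW.flip
    have hw : (pullback.fst f (pullback.snd g j) ≫ i) ≫ f' =
        (pullback.snd f (pullback.snd g j) ≫ pullback.fst g j) ≫ g := by
      rw [Category.assoc, w]
      exact outer.w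
    have hκ1 : sqP'.lift _ _ hw ≫ fst' = pullback.fst f (pullback.snd g j) ≫ i :=
      sqP'.lift_fst _ _ _
    have hκ2 : sqP'.lift _ _ hw ≫ snd' =
        pullback.snd f (pullback.snd g j) ≫ pullback.fst g j := sqP'.lift_snd _ _ _
    have sqκ : IsPullback (pullback.fst f (pullback.snd g j)) (sqP'.lift _ _ hw) i fst' := by
      refine IsPullback.of_bot ?_ hκ1.symm sqP'
      rw [hκ2, w]
      exact outer
    have hκ : PtsHomeo (sqP'.lift _ _ hw) :=
      ptsHomeo_of_isThickMor _ (isThickMor_of_isPullback sqκ hi)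
    apply hcancel _ _ hκ
    rw [hκ2]
    exact hpost _ _ hQ0 hι
  · intro hf' W P hW g fst snd sqP
    have sqA : IsPullback fst snd (f ≫ j) (g ≫ j) := isPullback_comp_mono sqP j
    have sqP' := IsPullback.of_hasPullback f' (g ≫ j)
    have hQ' : Q (pullback.snd f' (g ≫ j)) := hf' hW _ _ _ sqP'
    have hw : (fst ≫ i) ≫ f' = snd ≫ g ≫ j := by
      rw [Category.assoc, w]
      exact sqA.w
    have hκ1 : pullback.lift (fst ≫ i) snd hw ≫ pullback.fst f' (g ≫ j) = fst ≫ i :=
      pullback.lift_fst _ _ _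
    have hκ2 : pullback.lift (fst ≫ i) snd hw ≫ pullback.snd f' (g ≫ j) = snd :=
      pullback.lift_snd _ _ _
    have sqκ : IsPullback fst (pullback.lift (fst ≫ i) snd hw) i (pullback.fst f' (g ≫ j)) := by
      refine IsPullback.of_bot ?_ hκ1.symm sqP'
      rw [hκ2, w]
      exact sqA
    have hκ : PtsHomeo (pullback.lift (fst ≫ i) snd hw) :=
      ptsHomeo_of_isThickMor _ (isThickMor_of_isPullback sqκ hi)
    rw [← hκ2]
    exact hpre _ _ hκ hQ'

lemma points_map_comp_fun {A B C : Sp S} (f : A ⟶ B) (g : B ⟶ C) :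
    Points.map (f ≫ g) = Points.map g ∘ Points.map f := funext (Points.map_comp f g)

/-- The five topological properties are insensitive to thickenings. -/
theorem thickening_mor_topological_iff {X X' Y Y' : Sp S} (hX : IsAlgSpace X)
    (hX' : IsAlgSpace X') (hY : IsAlgSpace Y) (hY' : IsAlgSpace Y')
    (i : X ⟶ X') (j : Y ⟶ Y') (f : X ⟶ Y) (f' : X' ⟶ Y') (hi : IsThickMor i) (hj : IsThickMor j)
    (w : i ≫ f' = f ≫ j) :
    (IsSurjectiveMor f ↔ IsSurjectiveMor f') ∧
    (IsQuasiCompactMor f ↔ IsQuasiCompactMor f') ∧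
    (IsUnivClosedMor f ↔ IsUnivClosedMor f') ∧
    (IsUnivInjectiveMor f ↔ IsUnivInjectiveMor f') ∧
    (IsUnivOpenMor f ↔ IsUnivOpenMor f') := by
  have hpi := ptsHomeo_of_isThickMor i hi
  have hpj := ptsHomeo_of_isThickMor j hj
  have hjm : Mono j := mono_of_isThickMor j hj
  have hiqc : IsQuasiCompactMor i := H52.isQuasiCompactMor_of_repWith_quasiCompact i
    (H53.repWith_of_le (fun _ _ φ h => by
      have : IsClosedImmersion φ := h.1
      exact (inferInstance : QuasiCompact φ)) hi)
  have hjqc : IsQuasiCompactMor j := H52.isQuasiCompactMor_of_repWith_quasiCompact j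
    (H53.repWith_of_le (fun _ _ φ h => by
      have : IsClosedImmersion φ := h.1
      exact (inferInstance : QuasiCompact φ)) hj)
  have hpts : ∀ x, Points.map f' (Points.map i x) = Points.map j (Points.map f x) := by
    intro x
    rw [← Points.map_comp, ← Points.map_comp, w]
  refine ⟨⟨fun h y' => ?_, fun h y => ?_⟩, ⟨fun h => ?_, fun h => ?_⟩, ?_, ?_, ?_⟩
  · obtain ⟨y, rfl⟩ := hpj.surj y'
    obtain ⟨x, rfl⟩ := h y
    exact ⟨Points.map i x, hpts x⟩
  · obtain ⟨x', hx'⟩ := h (Points.map j y)
    obtain ⟨x, rfl⟩ := hpi.surj x'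
    exact ⟨x, hpj.inj ((hpts x).symm.trans hx')⟩
  · refine H52.isQuasiCompactMor_of_surjective_triangle hX' hY' i f' hpi.surj ?_
    rw [w]
    exact H52.isQuasiCompactMor_comp hY hY' f j h hjqc
  · have h1 : IsQuasiCompactMor (f ≫ j) := by
      rw [← w]
      exact H52.isQuasiCompactMor_comp hX' hY' i f' hiqc h
    exact H52.isQuasiCompactMor_of_comp hX hY hY' f j h1 (H52.isQuasiSeparatedMor_of_mono j)
  · refine univSp_iff_of_thick IsClosedMor ?_ ?_ ?_ hY hY' i j f f' hi hj w
    · intro A B C f h hf hh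
      change IsClosedMap (Points.map (f ≫ h))
      rw [points_map_comp_fun]
      exact hh.closed.comp hf
    · intro A B C h f hh hf
      change IsClosedMap (Points.map (h ≫ f))
      rw [points_map_comp_fun]
      exact IsClosedMap.comp hf hh.closed
    · intro A B C h f hh hf Z hZ
      have : Points.map f '' Z = Points.map (h ≫ f) '' (Points.map h ⁻¹' Z) := by
        rw [points_map_comp_fun, Set.image_comp, Set.image_preimage_eq _ hh.surj]
      rw [this]
      exact hf _ (hZ.preimage (Points.continuous_map h))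
  · refine univSp_iff_of_thick (fun _ _ f => Function.Injective (Points.map f)) ?_ ?_ ?_
      hY hY' i j f f' hi hj w
    · intro A B C f h hf hh
      change Function.Injective (Points.map (f ≫ h))
      rw [points_map_comp_fun]
      exact hh.inj.comp hf
    · intro A B C h f hh hf
      change Function.Injective (Points.map (h ≫ f))
      rw [points_map_comp_fun]
      exact hf.comp hh.inj
    · intro A B C h f hh hf x y hxy
      change Function.Injective (Points.map (h ≫ f)) at hf
      rw [points_map_comp_fun] at hf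
      obtain ⟨a, rfl⟩ := hh.surj x
      obtain ⟨b, rfl⟩ := hh.surj y
      rw [hf hxy]
  · refine univSp_iff_of_thick IsOpenMor ?_ ?_ ?_ hY hY' i j f f' hi hj w
    · intro A B C f h hf hh
      change IsOpenMap (Points.map (f ≫ h))
      rw [points_map_comp_fun]
      exact hh.isOpenMap.comp hf
    · intro A B C h f hh hf
      change IsOpenMap (Points.map (h ≫ f))
      rw [points_map_comp_fun]
      exact IsOpenMap.comp hf hh.isOpenMap
    · intro A B C h f hh hf Z hZ
      have : Points.map f '' Z = Points.map (h ≫ f) '' (Points.map h ⁻¹' Z) := by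
        rw [points_map_comp_fun, Set.image_comp, Set.image_preimage_eq _ hh.surj]
      rw [this]
      exact hf _ (hZ.preimage (Points.continuous_map h))

end Groth.Agent.Lib.Helper51
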