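import Groth.Prelude.Def_AlgSp
import Groth.Agent.Lib.Helper51.AlgSpBasic

/-!
# Effectivity of equivalence relations on representable sheaves (helper51)
-/

set_option autoImplicit false
universe w v u
open CategoryTheory CategoryTheory.Limits AlgebraicGeometry Opposite

namespace Groth.Agent.Lib.Helper51

/-- In `Type`, the coequalizer of an equivalence relation is effective. -/
theorem types_isPullback_of_isColimit_cofork {A B : Type w} (r₁ r₂ : A ⟶ B)
    (c : Cofork r₁ r₂) (hc : IsColimit c)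
    (hinj : ∀ a a' : A, r₂ a = r₂ a' → r₁ a = r₁ a' → a = a')
    (heq : Equivalence (fun b b' : B => ∃ a : A, r₂ a = b ∧ r₁ a = b')) :
    IsPullback r₂ r₁ c.π c.π := by
  rw [Types.isPullback_iff]
  refine ⟨c.condition.symm, fun a a' h => hinj a a' h.1 h.2, fun b b' hb => ?_⟩
  let st : Setoid B := ⟨_, heq⟩
  let q : B ⟶ Quotient st := ↾(fun b => Quotient.mk st b)
  have hq : r₁ ≫ q = r₂ ≫ q := by
    ext a
    exact Quotient.sound (heq.symm ⟨a, rfl, rfl⟩)
  let d := hc.desc (Cofork.ofπ q hq)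
  have hd : c.π ≫ d = q := hc.fac (Cofork.ofπ q hq) WalkingParallelPair.one
  have : q b = q b' := by
    rw [← hd]
    change d (c.π b) = d (c.π b')
    rw [hb]
  exact Quotient.exact this

section Presheaf

variable {C : Type u} [Category.{v} C]

/-- The lifted representable presheaf. -/
abbrev ypre (V : C) : Cᵒᵖ ⥤ Type (max v w) := yoneda.obj V ⋙ uliftFunctor.{w, v}

/-- The map of lifted representable presheaves. -/
abbrev ypreMap {V W : C} (g : V ⟶ W) : ypre.{w} V ⟶ ypre.{w} W :=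
  Functor.whiskerRight (yoneda.map g) uliftFunctor.{w, v}

/-- The presheaf coequalizer of an equivalence relation on a representable presheaf is effective. -/
theorem presheaf_isPullback_of_isColimit_cofork {R U : C} (s t : R ⟶ U)
    (hinj : ∀ (T : C) (r r' : T ⟶ R), r ≫ t = r' ≫ t → r ≫ s = r' ≫ s → r = r')
    (heq : ∀ (T : C), Equivalence (fun a b : T ⟶ U => ∃ r : T ⟶ R, r ≫ t = a ∧ r ≫ s = b))
    {Q : Cᵒᵖ ⥤ Type (max v w)} (π : ypre.{w} U ⟶ Q) (hπ : ypreMap.{w} s ≫ π = ypreMap.{w} t ≫ π)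
    (hc : IsColimit (Cofork.ofπ π hπ)) :
    IsPullback (ypreMap.{w} t) (ypreMap.{w} s) π π := by
  have h : ∀ X : Cᵒᵖ, IsPullback ((ypreMap.{w} t).app X) ((ypreMap.{w} s).app X)
      (π.app X) (π.app X) := by
    intro X
    have hcX := isColimitMapCoconeCoforkEquiv ((evaluation _ _).obj X) hπ
      (isColimitOfPreserves ((evaluation Cᵒᵖ (Type (max v w))).obj X) hc)
    refine types_isPullback_of_isColimit_cofork _ _ _ hcX ?_ ?_
    · intro a a' h1 h2
      have h1' : a.down ≫ t = a'.down ≫ t := congr_arg ULift.down h1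
      have h2' : a.down ≫ s = a'.down ≫ s := congr_arg ULift.down h2
      exact ULift.ext _ _ (hinj _ _ _ h1' h2')
    · refine ⟨fun b => ?_, fun {b b'} hb => ?_, fun {b b' b''} hb hb' => ?_⟩
      · obtain ⟨r, h1, h2⟩ := (heq X.unop).refl b.down
        exact ⟨⟨r⟩, ULift.ext _ _ h1, ULift.ext _ _ h2⟩
      · obtain ⟨a, h1, h2⟩ := hb
        obtain ⟨r, h1', h2'⟩ := (heq X.unop).symm ⟨a.down, congr_arg ULift.down h1,
          congr_arg ULift.down h2⟩
        exact ⟨⟨r⟩, ULift.ext _ _ h1', ULift.ext _ _ h2'⟩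
      · obtain ⟨a, h1, h2⟩ := hb
        obtain ⟨a', h1', h2'⟩ := hb'
        obtain ⟨r, h1'', h2''⟩ := (heq X.unop).trans ⟨a.down, congr_arg ULift.down h1,
          congr_arg ULift.down h2⟩ ⟨a'.down, congr_arg ULift.down h1', congr_arg ULift.down h2'⟩
        exact ⟨⟨r⟩, ULift.ext _ _ h1'', ULift.ext _ _ h2''⟩
  exact ⟨⟨by apply NatTrans.ext; funext X; exact (h X).w⟩,
    ⟨evaluationJointlyReflectsLimits _ fun X =>
      (isLimitMapConePullbackConeEquiv _ _).symm (h X).isLimit⟩⟩

end Presheaf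

section Sheaf

variable {S : Scheme.{u}} (K : Precoverage Scheme.{u}) {R U : Over S} (s t : R ⟶ U)

/-- The quotient sheaf of an equivalence relation is effective (before identifying `rep` with `yon`). -/
theorem isPullback_repMap_quotπ
    (hinj : ∀ (T : Over S) (r r' : T ⟶ R), r ≫ t = r' ≫ t → r ≫ s = r' ≫ s → r = r')
    (heq : ∀ (T : Over S), Equivalence (fun a b : T ⟶ U => ∃ r : T ⟶ R, r ≫ t = a ∧ r ≫ s = b)) :
    IsPullback (QuotSh.repMap K t) (QuotSh.repMap K s) (QuotSh.quotπ K s t) (QuotSh.quotπ K s t) := by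
  let G := presheafToSheaf (QuotSh.J K S) (Type (u + 1))
  let π₀ := coequalizer.π (ypreMap.{u+1} s) (ypreMap.{u+1} t)
  have h₀ := presheaf_isPullback_of_isColimit_cofork.{u+1} s t hinj heq π₀
    (coequalizer.condition _ _) (coequalizerIsCoequalizer _ _)
  have h₁ := h₀.map G
  have hcol := isColimitCoforkMapOfIsColimit G _ (coequalizerIsCoequalizer (ypreMap.{u+1} s) (ypreMap.{u+1} t))
  let e := hcol.coconePointUniqueUpToIso (coequalizerIsCoequalizer (QuotSh.repMap K s) (QuotSh.repMap K t))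
  have he : G.map π₀ ≫ e.hom = QuotSh.quotπ K s t :=
    IsColimit.comp_coconePointUniqueUpToIso_hom hcol _ WalkingParallelPair.one
  exact IsPullback.of_iso h₁ (Iso.refl _) (Iso.refl _) (Iso.refl _) e
    ((Category.comp_id _).trans (Category.id_comp (QuotSh.repMap K t)).symm)
    ((Category.comp_id _).trans (Category.id_comp (QuotSh.repMap K s)).symm)
    (he.trans (Category.id_comp (QuotSh.quotπ K s t)).symm)
    (he.trans (Category.id_comp (QuotSh.quotπ K s t)).symm)

theorem repIsoUliftYoneda_inv_naturality [(QuotSh.J K S).Subcanonical] {V W : Over S} (g : V ⟶ W) :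
    (QuotSh.repIsoUliftYoneda K V).inv ≫ QuotSh.repMap K g =
      (QuotSh.J K S).uliftYoneda.{u + 1}.map g ≫ (QuotSh.repIsoUliftYoneda K W).inv :=
  ((sheafificationNatIso (QuotSh.J K S) (Type (u + 1))).hom.naturality
    ((QuotSh.J K S).uliftYoneda.{u + 1}.map g)).symm

theorem repMap_comp_repIsoUliftYoneda_hom [(QuotSh.J K S).Subcanonical] {V W : Over S} (g : V ⟶ W) :
    QuotSh.repMap K g ≫ (QuotSh.repIsoUliftYoneda K W).hom =
      (QuotSh.repIsoUliftYoneda K V).hom ≫ (QuotSh.J K S).uliftYoneda.{u + 1}.map g := by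
  rw [← cancel_epi (QuotSh.repIsoUliftYoneda K V).inv, ← Category.assoc,
    repIsoUliftYoneda_inv_naturality, Category.assoc, Iso.inv_hom_id, Iso.inv_hom_id_assoc,
    Category.comp_id]

/-- The quotient sheaf of an equivalence relation is effective. -/
theorem isPullback_yon_quotπ [(QuotSh.J K S).Subcanonical]
    (hinj : ∀ (T : Over S) (r r' : T ⟶ R), r ≫ t = r' ≫ t → r ≫ s = r' ≫ s → r = r')
    (heq : ∀ (T : Over S), Equivalence (fun a b : T ⟶ U => ∃ r : T ⟶ R, r ≫ t = a ∧ r ≫ s = b)) :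
    IsPullback ((QuotSh.J K S).uliftYoneda.{u + 1}.map t) ((QuotSh.J K S).uliftYoneda.{u + 1}.map s)
      ((QuotSh.repIsoUliftYoneda K U).inv ≫ QuotSh.quotπ K s t)
      ((QuotSh.repIsoUliftYoneda K U).inv ≫ QuotSh.quotπ K s t) :=
  IsPullback.of_iso (isPullback_repMap_quotπ K s t hinj heq) (QuotSh.repIsoUliftYoneda K R)
    (QuotSh.repIsoUliftYoneda K U) (QuotSh.repIsoUliftYoneda K U) (Iso.refl _)
    (repMap_comp_repIsoUliftYoneda_hom K t) (repMap_comp_repIsoUliftYoneda_hom K s)
    (by simp) (by simp)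

/-- The quotient map is an epimorphism. -/
instance epi_quotπ : Epi (QuotSh.quotπ K s t) :=
  coequalizer.π_epi

end Sheaf

end Groth.Agent.Lib.Helper51
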