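import Groth.Agent.Lib.Helper51.FppfLocal
import Mathlib.AlgebraicGeometry.Morphisms.FlatDescent

/-!
# Surjectivity is local on the target for the fppf precoverage (helper51)
-/

set_option autoImplicit false
universe u

namespace Groth.Agent.Lib.Helper51

open CategoryTheory Limits AlgebraicGeometry MorphismProperty

instance : MorphismProperty.IsLocalAtTarget (@Surjective : MorphismProperty Scheme.{u})
    Scheme.fppfPrecoverage := isLocalAtTarget_fppf_of_descendsAlong _

instance : MorphismProperty.IsLocalAtTarget (@UniversallyClosed : MorphismProperty Scheme.{u})
    Scheme.fppfPrecoverage := isLocalAtTarget_fppf_of_descendsAlong _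

instance : MorphismProperty.IsLocalAtTarget (@UniversallyOpen : MorphismProperty Scheme.{u})
    Scheme.fppfPrecoverage := isLocalAtTarget_fppf_of_descendsAlong _

instance : MorphismProperty.IsLocalAtTarget (@UniversallyInjective : MorphismProperty Scheme.{u})
    Scheme.fppfPrecoverage := isLocalAtTarget_fppf_of_descendsAlong _

instance : MorphismProperty.IsLocalAtTarget (@IsOpenImmersion : MorphismProperty Scheme.{u})
    Scheme.fppfPrecoverage := isLocalAtTarget_fppf_of_descendsAlong _

instance : MorphismProperty.IsLocalAtTarget (MorphismProperty.isomorphisms Scheme.{u})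
    Scheme.fppfPrecoverage := isLocalAtTarget_fppf_of_descendsAlong _

end Groth.Agent.Lib.Helper51
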