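import Groth.Agent.Lib.Helper51.RepBySp4
import Groth.Agent.Lib.Helper51.RelRep

/-!
# Diagonal of a presheaf representable by algebraic spaces (helper51)
-/

set_option autoImplicit false
universe u v w

namespace Groth.Agent.Lib.Helper51

open CategoryTheory Limits AlgebraicGeometry Opposite

section Cat

variable {C : Type w} [Category.{v} C] [HasBinaryProducts C]

/-- The equalizer of `ζ₁, ζ₂ : V ⟶ F`, written as the base change `E` of the diagonal of `F`, is the
base change of the diagonal of `V` along `V ×_F V ⟶ V × V`. -/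
theorem isPullback_diag_of_isPullback_diag {F V E Z : C} (ζ : V ⟶ F ⨯ F)
    {fst : E ⟶ F} {snd : E ⟶ V} (sq : IsPullback fst snd (Limits.diag F) ζ)
    {z₁ z₂ : Z ⟶ V} (hZ : IsPullback z₁ z₂ (ζ ≫ prod.fst) (ζ ≫ prod.snd)) :
    ∃ δ : E ⟶ Z, IsPullback δ snd (prod.lift z₁ z₂) (Limits.diag V) := by
  have hd1 : Limits.diag F ≫ prod.fst = 𝟙 F := prod.lift_fst _ _
  have hd2 : Limits.diag F ≫ prod.snd = 𝟙 F := prod.lift_snd _ _
  have hv1 : Limits.diag V ≫ prod.fst = 𝟙 V := prod.lift_fst _ _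
  have hv2 : Limits.diag V ≫ prod.snd = 𝟙 V := prod.lift_snd _ _
  have h1 : fst = snd ≫ ζ ≫ prod.fst := by
    have := congr_arg (· ≫ prod.fst) sq.w
    simpa only [Category.assoc, hd1, Category.comp_id] using this
  have h2 : fst = snd ≫ ζ ≫ prod.snd := by
    have := congr_arg (· ≫ prod.snd) sq.w
    simpa only [Category.assoc, hd2, Category.comp_id] using this
  have hw : snd ≫ ζ ≫ prod.fst = snd ≫ ζ ≫ prod.snd := h1.symm.trans h2
  have hc : ∀ s : PullbackCone (prod.lift z₁ z₂) (Limits.diag V),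
      s.fst ≫ z₁ = s.snd ∧ s.fst ≫ z₂ = s.snd ∧
        s.snd ≫ ζ ≫ prod.fst = s.snd ≫ ζ ≫ prod.snd := by
    intro s
    have c1 : s.fst ≫ z₁ = s.snd := by
      have := congr_arg (· ≫ prod.fst) s.condition
      simpa only [Category.assoc, prod.lift_fst, hv1, Category.comp_id] using this
    have c2 : s.fst ≫ z₂ = s.snd := by
      have := congr_arg (· ≫ prod.snd) s.condition
      simpa only [Category.assoc, prod.lift_snd, hv2, Category.comp_id] using this
    refine ⟨c1, c2, ?_⟩
    calc s.snd ≫ ζ ≫ prod.fst = s.fst ≫ z₁ ≫ ζ ≫ prod.fst := by rw [← c1, Category.assoc]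
      _ = s.fst ≫ z₂ ≫ ζ ≫ prod.snd := by rw [hZ.w]
      _ = s.snd ≫ ζ ≫ prod.snd := by rw [← Category.assoc, c2]
  refine ⟨hZ.lift snd snd hw, ⟨⟨?_⟩, ⟨PullbackCone.IsLimit.mk _
    (fun s ↦ sq.lift (s.snd ≫ ζ ≫ prod.fst) s.snd ?_) (fun s ↦ ?_) (fun s ↦ ?_)
    (fun s m hm1 hm2 ↦ ?_)⟩⟩⟩
  · apply Limits.prod.hom_ext
    · rw [Category.assoc, prod.lift_fst, hZ.lift_fst, Category.assoc, hv1, Category.comp_id]
    · rw [Category.assoc, prod.lift_snd, hZ.lift_snd, Category.assoc, hv2, Category.comp_id]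
  · apply Limits.prod.hom_ext
    · rw [Category.assoc, hd1, Category.comp_id, Category.assoc]
    · rw [Category.assoc, hd2, Category.comp_id, Category.assoc]
      exact (hc s).2.2
  · apply hZ.hom_ext
    · rw [Category.assoc, hZ.lift_fst, sq.lift_snd, (hc s).1]
    · rw [Category.assoc, hZ.lift_snd, sq.lift_snd, (hc s).2.1]
  · exact sq.lift_snd _ _ _
  · apply sq.hom_ext
    · rw [sq.lift_fst, h1, ← Category.assoc, hm2]
    · rw [sq.lift_snd, hm2]

end Cat

variable {S : Scheme.{u}}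

theorem relativelyRepresentable_pyon_hom {T V : Over S}
    (g : (AlgSp.pyon S).obj T ⟶ (AlgSp.pyon S).obj V) :
    (AlgSp.pyon S).relativelyRepresentable g := by
  obtain ⟨g, rfl⟩ := (AlgSp.pyon S).map_surjective g
  exact Functor.relativelyRepresentable.map _ g

/-- The diagonal of a presheaf is representable by algebraic spaces iff every map from a scheme
is. -/
theorem repBySp_diag_iff (F : AlgSp.PSp S) :
    AlgSp.RepBySp (Limits.diag F) ↔
      ∀ (T : Over S) (ξ : (AlgSp.pyon S).obj T ⟶ F), AlgSp.RepBySp ξ := by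
  constructor
  · intro hΔ T ξ U η P fst snd sq
    have h1 := isPullback_diag_of_isPullback sq
    let e := PreservesLimitPair.iso (AlgSp.pyon S) T U
    have h2 : IsPullback (fst ≫ ξ) (prod.lift fst snd ≫ e.inv) (Limits.diag F)
        (e.hom ≫ prod.map ξ η) :=
      IsPullback.of_iso h1 (Iso.refl _) (Iso.refl _) e.symm (Iso.refl _) (by simp) (by simp)
        (by simp) (by simp)
    exact hΔ _ _ _ h2
  · intro h V ζ E fst snd sq
    obtain ⟨hZs, hZ⟩ := h V (ζ ≫ prod.fst) (ζ ≫ prod.snd) (pullback.fst _ _) (pullback.snd _ _)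
      (IsPullback.of_hasPullback _ _)
    obtain ⟨δ, hδ⟩ := isPullback_diag_of_isPullback_diag ζ sq
      (IsPullback.of_hasPullback (ζ ≫ prod.fst) (ζ ≫ prod.snd))
    have hrepΔ : (AlgSp.pyon S).relativelyRepresentable (Limits.diag ((AlgSp.pyon S).obj V)) :=
      Functor.relativelyRepresentable.diag_of_map_from_obj
        (fun T g ↦ relativelyRepresentable_pyon_hom g)
    have hrepδ : (AlgSp.pyon S).relativelyRepresentable δ :=
      MorphismProperty.of_isPullback hδ.flip hrepΔ
    exact isAlgSpaceP_of_relativelyRepresentable (X := ⟨_, hZs⟩) hZ E δ hrepδ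

end Groth.Agent.Lib.Helper51
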