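import Groth.Agent.Lib.Helper51.DescSecZar
import Groth.Agent.S9839

/-!
# Open sub-descent data and sections (helper51)

For an open immersion of descent data `b : E' ⟶ E` (relative to an fpqc covering family) and a
section `a` of `E` over `t : T ⟶ S`, the locus of `T` over which `a` factors through `E'` is an
open subscheme `openOf b a` (descent of open subsets, S9839).  Consequently, if `E'` is the
canonical descent datum of a scheme `C`, the morphism from `C` to the sheaf of sections of `E` is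
representable by open immersions; a descent datum covered by effective open sub-descent data
has a representable sheaf of sections, and a descent datum with representable sheaf of sections
is effective.
-/

set_option autoImplicit false
set_option backward.isDefEq.respectTransparency false
set_option backward.isDefEq.respectTransparency.types false

universe u

open CategoryTheory CategoryTheory.Limits AlgebraicGeometry Opposite

namespace Groth.Agent.Lib.Helper51.DescSec

open Desc Groth.Agent.Lib.Helper51.DescFam Groth.Agent.Lib.Helper51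

variable {S : Scheme.{u}} {ι : Type u} {U : ι → Scheme.{u}} {fU : ∀ i, U i ⟶ S}

/-- The image of a section under a morphism of descent data. -/
def Sec.push {E' E : SchDDFam fU} (b : E' ⟶ E) {T : Scheme.{u}} {t : T ⟶ S} (a : Sec E' t) :
    Sec E t where
  val i Z x k h := SchDDFam.Hom.push b (a.val i x k h)
  nat i Z Z' m x k h x' k' h' hx hk := by
    rw [push_val, push_val, a.nat i m x k h x' k' h' hx hk, Category.assoc]
  compat i i' Z x₀ x₁ k h₀ h₁ := by
    rw [comm_push, a.compat]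

theorem Sec.push_val {E' E : SchDDFam fU} (b : E' ⟶ E) {T : Scheme.{u}} {t : T ⟶ S}
    (a : Sec E' t) (i : ι) {Z : Scheme.{u}} (x : Z ⟶ U i) (k : Z ⟶ T) (h : x ≫ fU i = k ≫ t) :
    (Sec.push b a).val i x k h = SchDDFam.Hom.push b (a.val i x k h) := rfl

theorem Sec.push_res {E' E : SchDDFam fU} (b : E' ⟶ E) {T T' : Scheme.{u}} {t : T ⟶ S}
    (a : Sec E' t) (r : T' ⟶ T) (t' : T' ⟶ S) (ht : r ≫ t = t') :
    Sec.push b (a.res r t' ht) = (Sec.push b a).res r t' ht := rfl

theorem Sec.push_cast {E' E : SchDDFam fU} (b : E' ⟶ E) {T : Scheme.{u}} {t t' : T ⟶ S}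
    (a : Sec E' t) (ht : t = t') : Sec.push b (a.cast ht) = (Sec.push b a).cast ht := rfl

theorem Sec.push_injective {E' E : SchDDFam fU} (b : E' ⟶ E) [∀ i, Mono (b.hom i).left]
    {T : Scheme.{u}} {t : T ⟶ S} (a a' : Sec E' t) (h : Sec.push b a = Sec.push b a') :
    a = a' := by
  apply Sec.ext'
  intro i Z x k hk
  have h1 := congrArg (fun s : Sec E t => (s.val i x k hk).1) h
  beta_reduce at h1
  rw [Sec.push_val, Sec.push_val, DescFam.push_val, DescFam.push_val] at h1
  exact (cancel_mono (b.hom i).left).1 h1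

section Canonical

variable (fU) (U' : Over S)

/-- The section of the canonical descent datum of `U'` attached to a morphism `T ⟶ U'` over
`S`. -/
noncomputable def canSec {T : Scheme.{u}} (t : T ⟶ S) (m : Lifts U' t) :
    Sec (canonicalDDFam fU U') t where
  val i Z x k h := ⟨pullback.lift x (k ≫ m.1) (by rw [h, Category.assoc, m.2]),
    pullback.lift_fst _ _ _⟩
  nat i Z Z' m₀ x k h x' k' h' hx hk := by
    subst hx hk
    apply pullback.hom_ext <;> simp [canonicalDDFam]
  compat i i' Z x₀ x₁ k h₀ h₁ := by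
    apply Subtype.ext
    apply pullback.hom_ext
    · exact (pullback.lift_fst _ _ _).trans (pullback.lift_fst _ _ _).symm
    · refine (pullback.lift_snd _ _ _).trans ?_
      change pullback.lift x₀ (k ≫ m.1) _ ≫ pullback.snd (fU i) U'.hom = _
      rw [pullback.lift_snd]
      exact (pullback.lift_snd _ _ _).symm

theorem canSec_val_snd {T : Scheme.{u}} (t : T ⟶ S) (m : Lifts U' t) (i : ι) {Z : Scheme.{u}}
    (x : Z ⟶ U i) (k : Z ⟶ T) (h : x ≫ fU i = k ≫ t) :
    ((canSec fU U' t m).val i x k h).1 ≫ pullback.snd (fU i) U'.hom = k ≫ m.1 :=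
  pullback.lift_snd _ _ _

theorem canSec_res {T T' : Scheme.{u}} (t : T ⟶ S) (m : Lifts U' t) (r : T' ⟶ T) (t' : T' ⟶ S)
    (ht : r ≫ t = t') :
    (canSec fU U' t m).res r t' ht =
      canSec fU U' t' ⟨r ≫ m.1, by rw [Category.assoc, m.2, ht]⟩ := by
  apply Sec.ext'
  intro i Z x k hk
  apply pullback.hom_ext
  · exact (pullback.lift_fst _ _ _).trans (pullback.lift_fst _ _ _).symm
  · refine (pullback.lift_snd _ _ _).trans ?_
    rw [Category.assoc]
    exact (pullback.lift_snd _ _ _).symm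

variable (hU : Presieve.ofArrows U fU ∈ Scheme.fpqcPrecoverage S)

include hU in
theorem canSec_injective {T : Scheme.{u}} (t : T ⟶ S) (m m' : Lifts U' t)
    (h : canSec fU U' t m = canSec fU U' t m') : m = m' := by
  apply Subtype.ext
  refine hom_ext_of_cover (fun i => pullback.snd (fU i) t)
    (Groth.Agent.Lib.Helper26.DDFamFF.snd_mem fU hU (Over.mk t)) _ _ (fun i => ?_)
  have h1 := congrArg (fun s : Sec (canonicalDDFam fU U') t =>
    ((s.val i (pullback.fst (fU i) t) (pullback.snd (fU i) t) pullback.condition).1 ≫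
      pullback.snd (fU i) U'.hom)) h
  beta_reduce at h1
  rw [canSec_val_snd, canSec_val_snd] at h1
  exact h1

include hU in
theorem canSec_surjective {T : Scheme.{u}} (t : T ⟶ S) (a : Sec (canonicalDDFam fU U') t) :
    ∃ m : Lifts U' t, canSec fU U' t m = a := by
  let μ : ∀ i, pullback (fU i) t ⟶ U'.left := fun i =>
    (a.val i (pullback.fst (fU i) t) (pullback.snd (fU i) t) pullback.condition).1 ≫
      pullback.snd (fU i) U'.hom
  have hz : ∀ (i : ι) {Z : Scheme.{u}} (z : Z ⟶ pullback (fU i) t),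
      (z ≫ pullback.fst (fU i) t) ≫ fU i = (z ≫ pullback.snd (fU i) t) ≫ t := by
    intro i Z z
    rw [Category.assoc, Category.assoc, pullback.condition]
  have hμ : ∀ (i : ι) {Z : Scheme.{u}} (z : Z ⟶ pullback (fU i) t),
      z ≫ μ i = (a.val i (z ≫ pullback.fst (fU i) t) (z ≫ pullback.snd (fU i) t) (hz i z)).1 ≫
        pullback.snd (fU i) U'.hom := by
    intro i Z z
    rw [a.nat i z (pullback.fst (fU i) t) (pullback.snd (fU i) t) pullback.condition _ _
      (hz i z) rfl rfl, Category.assoc]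
  have hind : ∀ (i i' : ι) {Z : Scheme.{u}} (x₀ : Z ⟶ U i) (x₁ : Z ⟶ U i') (k : Z ⟶ T)
      (h₀ : x₀ ≫ fU i = k ≫ t) (h₁ : x₁ ≫ fU i' = k ≫ t),
      (a.val i x₀ k h₀).1 ≫ pullback.snd (fU i) U'.hom =
        (a.val i' x₁ k h₁).1 ≫ pullback.snd (fU i') U'.hom := by
    intro i i' Z x₀ x₁ k h₀ h₁
    rw [← a.compat x₀ x₁ k h₀ h₁]
    exact (pullback.lift_snd _ _ _).symm
  have hcov := Groth.Agent.Lib.Helper26.DDFamFF.snd_mem fU hU (Over.mk t)
  obtain ⟨m₀, hm₀, -⟩ := Groth.Agent.Lib.Helper26.DDFamFF.existsUnique_glue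
    (fun i => pullback.snd (fU i) t) hcov U'.left μ (by
      intro i j W gi gj hg
      have hg' : gi ≫ pullback.snd (fU i) t = gj ≫ pullback.snd (fU j) t := hg
      rw [hμ i gi, hμ j gj]
      have e1 : (a.val j (gj ≫ pullback.fst (fU j) t) (gj ≫ pullback.snd (fU j) t)
          (hz j gj)).1 = (a.val j (gj ≫ pullback.fst (fU j) t) (gi ≫ pullback.snd (fU i) t)
          (by rw [hg']; exact hz j gj)).1 := a.val_congr j rfl hg'.symm _ _
      rw [e1]
      exact hind i j _ _ _ _ _)
  have hm₀' : ∀ i, pullback.snd (fU i) t ≫ m₀ = μ i := hm₀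
  have hm₀S : m₀ ≫ U'.hom = t := by
    refine hom_ext_of_cover (fun i => pullback.snd (fU i) t) hcov _ _ (fun i => ?_)
    rw [← Category.assoc, hm₀' i]
    change ((a.val i (pullback.fst (fU i) t) (pullback.snd (fU i) t) pullback.condition).1 ≫
      pullback.snd (fU i) U'.hom) ≫ U'.hom = _
    rw [Category.assoc, ← pullback.condition, ← Category.assoc]
    have e2 : (a.val i (pullback.fst (fU i) t) (pullback.snd (fU i) t) pullback.condition).1 ≫
        pullback.fst (fU i) U'.hom = pullback.fst (fU i) t :=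
      (a.val i (pullback.fst (fU i) t) (pullback.snd (fU i) t) pullback.condition).2
    rw [e2, pullback.condition]
  refine ⟨⟨m₀, hm₀S⟩, ?_⟩
  apply Sec.ext'
  intro i Z x k hk
  apply pullback.hom_ext
  · exact (pullback.lift_fst _ _ _).trans (a.val i x k hk).2.symm
  · refine (pullback.lift_snd _ _ _).trans ?_
    change k ≫ m₀ = _
    have e3 : k = pullback.lift x k hk ≫ pullback.snd (fU i) t := (pullback.lift_snd _ _ _).symm
    conv_lhs => rw [e3]
    rw [Category.assoc, hm₀' i, hμ i (pullback.lift x k hk)]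
    congr 1
    exact a.val_congr i (pullback.lift_fst _ _ _) (pullback.lift_snd _ _ _) _ _

end Canonical

theorem jointly_surjective_of_fpqc {T : Scheme.{u}} {A : Type u} {C : A → Scheme.{u}}
    (c : ∀ a, C a ⟶ T) (hc : Presieve.ofArrows C c ∈ Scheme.fpqcPrecoverage T) (τ : T) :
    ∃ a, τ ∈ Set.range (c a) :=
  ((Scheme.ofArrows_mem_precoverage_iff (P := @Flat)).1
    (Scheme.propQCPrecoverage_le_precoverage _ hc)).1 τ

section OpenSub

variable {E' E : SchDDFam fU} (b : E' ⟶ E) [∀ i, IsOpenImmersion (b.hom i).left]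
  {T : Scheme.{u}} {t : T ⟶ S} (a : Sec E t)

/-- If a value of the section `a` factors through `E'`, so do all values over the same point of
`T`. -/
theorem range_val_subset_transfer {i j : ι} {Z : Scheme.{u}} (x₀ : Z ⟶ U i) (x₁ : Z ⟶ U j)
    (k : Z ⟶ T) (h₀ : x₀ ≫ fU i = k ≫ t) (h₁ : x₁ ≫ fU j = k ≫ t)
    (hr : Set.range (a.val i x₀ k h₀).1 ⊆ Set.range (b.hom i).left) :
    Set.range (a.val j x₁ k h₁).1 ⊆ Set.range (b.hom j).left := by
  let e' : Z ⟶ (E'.obj i).left := IsOpenImmersion.lift (b.hom i).left (a.val i x₀ k h₀).1 hr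
  have he' : e' ≫ (b.hom i).left = (a.val i x₀ k h₀).1 := IsOpenImmersion.lift_fac _ _ _
  have he'2 : e' ≫ (E'.obj i).hom = x₀ := by
    rw [← Over.w (b.hom i), ← Category.assoc, he']
    exact (a.val i x₀ k h₀).2
  have h1 : SchDDFam.Hom.push b (⟨e', he'2⟩ : Lifts (E'.obj i) x₀) = a.val i x₀ k h₀ :=
    Subtype.ext he'
  have h2 := comm_push b x₀ x₁ (h₀.trans h₁.symm) (⟨e', he'2⟩ : Lifts (E'.obj i) x₀)
  rw [h1, a.compat x₀ x₁ k h₀ h₁] at h2
  have h3 := congrArg Subtype.val h2
  rw [DescFam.push_val] at h3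
  rw [h3]
  rintro _ ⟨q, rfl⟩
  exact ⟨_, (Scheme.Hom.comp_apply _ _ q).symm⟩

/-- The universal value of the section `a` over `U i ×_S T`. -/
noncomputable def univPt (i : ι) : Lifts (E.obj i) (pullback.fst (fU i) t) :=
  a.val i (pullback.fst (fU i) t) (pullback.snd (fU i) t) pullback.condition

theorem val_eq_comp_univPt (i : ι) {Z : Scheme.{u}} (x : Z ⟶ U i) (k : Z ⟶ T)
    (h : x ≫ fU i = k ≫ t) : (a.val i x k h).1 = pullback.lift x k h ≫ (univPt a i).1 :=
  a.nat i (pullback.lift x k h) _ _ pullback.condition x k h (pullback.lift_fst _ _ _)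
    (pullback.lift_snd _ _ _)

/-- The open subset of `U i ×_S T` over which the section `a` factors through `E'`. -/
noncomputable def openAt (i : ι) : (pullback (fU i) t).Opens :=
  (univPt a i).1 ⁻¹ᵁ (b.hom i).left.opensRange

theorem range_val_subset_iff (i : ι) {Z : Scheme.{u}} (x : Z ⟶ U i) (k : Z ⟶ T)
    (h : x ≫ fU i = k ≫ t) :
    Set.range (a.val i x k h).1 ⊆ Set.range (b.hom i).left ↔
      ∀ q : Z, pullback.lift x k h q ∈ openAt b a i := by
  rw [val_eq_comp_univPt]
  constructor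
  · intro hr q
    have := hr ⟨q, rfl⟩
    rwa [Scheme.Hom.comp_apply] at this
  · rintro hq _ ⟨q, rfl⟩
    rw [Scheme.Hom.comp_apply]
    exact hq q

theorem openAt_compat (i j : ι) {Q : Scheme.{u}} (p₁ : Q ⟶ pullback (fU i) t)
    (p₂ : Q ⟶ pullback (fU j) t)
    (hp : p₁ ≫ pullback.snd (fU i) t = p₂ ≫ pullback.snd (fU j) t) :
    p₁ ⁻¹ᵁ (openAt b a i) ≤ p₂ ⁻¹ᵁ (openAt b a j) := by
  intro q hq
  let O : Q.Opens := p₁ ⁻¹ᵁ (openAt b a i)
  have hk : (O.ι ≫ p₁) ≫ pullback.snd (fU i) t = (O.ι ≫ p₂) ≫ pullback.snd (fU j) t := by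
    rw [Category.assoc, Category.assoc, hp]
  have h₀ : ((O.ι ≫ p₁) ≫ pullback.fst (fU i) t) ≫ fU i =
      ((O.ι ≫ p₁) ≫ pullback.snd (fU i) t) ≫ t := by
    simp only [Category.assoc, pullback.condition]
  have h₁ : ((O.ι ≫ p₂) ≫ pullback.fst (fU j) t) ≫ fU j =
      ((O.ι ≫ p₁) ≫ pullback.snd (fU i) t) ≫ t := by
    rw [hk]
    simp only [Category.assoc, pullback.condition]
  have hr : Set.range (a.val i ((O.ι ≫ p₁) ≫ pullback.fst (fU i) t)
      ((O.ι ≫ p₁) ≫ pullback.snd (fU i) t) h₀).1 ⊆ Set.range (b.hom i).left := by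
    rw [range_val_subset_iff b a]
    intro q'
    have e1 : pullback.lift ((O.ι ≫ p₁) ≫ pullback.fst (fU i) t)
        ((O.ι ≫ p₁) ≫ pullback.snd (fU i) t) h₀ = O.ι ≫ p₁ := by
      apply pullback.hom_ext
      · exact pullback.lift_fst _ _ _
      · exact pullback.lift_snd _ _ _
    rw [e1, Scheme.Hom.comp_apply]
    exact q'.2
  have hr2 := range_val_subset_transfer b a _ ((O.ι ≫ p₂) ≫ pullback.fst (fU j) t) _ h₀ h₁ hr
  rw [range_val_subset_iff b a] at hr2
  have e2 : pullback.lift ((O.ι ≫ p₂) ≫ pullback.fst (fU j) t)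
      ((O.ι ≫ p₁) ≫ pullback.snd (fU i) t) h₁ = O.ι ≫ p₂ := by
    apply pullback.hom_ext
    · exact pullback.lift_fst _ _ _
    · exact (pullback.lift_snd _ _ _).trans hk
  have h3 := hr2 ⟨q, hq⟩
  rw [e2, Scheme.Hom.comp_apply] at h3
  exact h3

variable (hU : Presieve.ofArrows U fU ∈ Scheme.fpqcPrecoverage S)

include hU in
theorem exists_open_descend :
    ∃ T₀ : T.Opens, ∀ i, (pullback.snd (fU i) t) ⁻¹ᵁ T₀ = openAt b a i := by
  obtain ⟨V, hV, -⟩ := Groth.Agent.S9839.result (fun i => pullback.snd (fU i) t)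
    (Groth.Agent.Lib.Helper26.DDFamFF.snd_mem fU hU (Over.mk t)) (openAt b a)
    (fun i j => le_antisymm (openAt_compat b a i j _ _ pullback.condition)
      (openAt_compat b a j i _ _ pullback.condition.symm))
  exact ⟨V, hV⟩

/-- The open subset of `T` over which the section `a` factors through `E'`. -/
noncomputable def openOf : T.Opens := (exists_open_descend b a hU).choose

theorem openOf_spec (i : ι) :
    (pullback.snd (fU i) t) ⁻¹ᵁ (openOf b a hU) = openAt b a i :=
  (exists_open_descend b a hU).choose_spec i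

theorem range_val_subset_iff_openOf (i : ι) {Z : Scheme.{u}} (x : Z ⟶ U i) (k : Z ⟶ T)
    (h : x ≫ fU i = k ≫ t) :
    Set.range (a.val i x k h).1 ⊆ Set.range (b.hom i).left ↔ ∀ q : Z, k q ∈ openOf b a hU := by
  rw [range_val_subset_iff b a]
  refine forall_congr' fun q => ?_
  rw [← openOf_spec b a hU i]
  change pullback.snd (fU i) t (pullback.lift x k h q) ∈ openOf b a hU ↔ _
  rw [← Scheme.Hom.comp_apply, pullback.lift_snd]

/-- Lifting a point along an open immersion of descent data. -/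
noncomputable def liftPt {i : ι} {Z : Scheme.{u}} {x : Z ⟶ U i} (l : Lifts (E.obj i) x)
    (hr : Set.range l.1 ⊆ Set.range (b.hom i).left) : Lifts (E'.obj i) x :=
  ⟨IsOpenImmersion.lift (b.hom i).left l.1 hr, by
    rw [← Over.w (b.hom i), ← Category.assoc, IsOpenImmersion.lift_fac]
    exact l.2⟩

theorem push_liftPt {i : ι} {Z : Scheme.{u}} {x : Z ⟶ U i} (l : Lifts (E.obj i) x)
    (hr : Set.range l.1 ⊆ Set.range (b.hom i).left) :
    SchDDFam.Hom.push b (liftPt b l hr) = l :=
  Subtype.ext (IsOpenImmersion.lift_fac _ _ _)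

theorem push_lifts_injective {i : ι} {Z : Scheme.{u}} {x : Z ⟶ U i} (l l' : Lifts (E'.obj i) x)
    (h : SchDDFam.Hom.push b l = SchDDFam.Hom.push b l') : l = l' := by
  apply Subtype.ext
  have h1 := congrArg Subtype.val h
  rw [DescFam.push_val, DescFam.push_val] at h1
  exact (cancel_mono (b.hom i).left).1 h1

/-- A section of `E` all of whose values lie in the open `E'` lifts to `E'`. -/
noncomputable def Sec.liftOpen
    (hr : ∀ (i : ι) {Z : Scheme.{u}} (x : Z ⟶ U i) (k : Z ⟶ T) (h : x ≫ fU i = k ≫ t),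
      Set.range (a.val i x k h).1 ⊆ Set.range (b.hom i).left) : Sec E' t where
  val i Z x k h := liftPt b (a.val i x k h) (hr i x k h)
  nat i Z Z' m x k h x' k' h' hx hk := by
    refine (cancel_mono (b.hom i).left).1 ?_
    refine (IsOpenImmersion.lift_fac _ _ _).trans ((a.nat i m x k h x' k' h' hx hk).trans ?_)
    rw [Category.assoc]
    exact congrArg (fun z => m ≫ z) (IsOpenImmersion.lift_fac _ _ _).symm
  compat i i' Z x₀ x₁ k h₀ h₁ := by
    apply push_lifts_injective b
    rw [← comm_push, push_liftPt, push_liftPt, a.compat]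

theorem Sec.push_liftOpen
    (hr : ∀ (i : ι) {Z : Scheme.{u}} (x : Z ⟶ U i) (k : Z ⟶ T) (h : x ≫ fU i = k ≫ t),
      Set.range (a.val i x k h).1 ⊆ Set.range (b.hom i).left) :
    Sec.push b (Sec.liftOpen b a hr) = a := by
  apply Sec.ext'
  intro i Z x k hk
  exact IsOpenImmersion.lift_fac _ _ _

theorem range_res_openOf (i : ι) {Z : Scheme.{u}} (x : Z ⟶ U i) (k : Z ⟶ (openOf b a hU).toScheme)
    (h : x ≫ fU i = k ≫ (openOf b a hU).ι ≫ t) :
    Set.range ((a.res (openOf b a hU).ι ((openOf b a hU).ι ≫ t) rfl).val i x k h).1 ⊆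
      Set.range (b.hom i).left := by
  rw [Sec.res_val]
  refine (range_val_subset_iff_openOf b a hU i x _ _).2 (fun q => ?_)
  rw [Scheme.Hom.comp_apply]
  exact (k q).2

/-- The section of `E'` over the open subset `openOf` through which `a` factors. -/
noncomputable def factorSec : Sec E' ((openOf b a hU).ι ≫ t) :=
  Sec.liftOpen b (a.res (openOf b a hU).ι ((openOf b a hU).ι ≫ t) rfl)
    (fun i _ x k h => range_res_openOf b a hU i x k h)

theorem push_factorSec :
    Sec.push b (factorSec b a hU) = a.res (openOf b a hU).ι ((openOf b a hU).ι ≫ t) rfl :=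
  Sec.push_liftOpen b _ _

include hU in
/-- Universality of `openOf`: a morphism `n : W ⟶ T` such that the pullback of `a` along `n`
comes from `E'` factors through `openOf`. -/
theorem mem_openOf_of_push_eq {W : Scheme.{u}} (n : W ⟶ T) (a'' : Sec E' (n ≫ t))
    (h : Sec.push b a'' = a.res n (n ≫ t) rfl) (w : W) : n w ∈ openOf b a hU := by
  obtain ⟨i, z, hz⟩ := jointly_surjective_of_fpqc (fun i => pullback.snd (fU i) (n ≫ t))
    (Groth.Agent.Lib.Helper26.DDFamFF.snd_mem fU hU (Over.mk (n ≫ t))) w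
  have h₀ : pullback.fst (fU i) (n ≫ t) ≫ fU i = (pullback.snd (fU i) (n ≫ t) ≫ n) ≫ t := by
    rw [pullback.condition, Category.assoc]
  have h1 : Set.range (a.val i (pullback.fst (fU i) (n ≫ t)) (pullback.snd (fU i) (n ≫ t) ≫ n)
      h₀).1 ⊆ Set.range (b.hom i).left := by
    have h2 := congrArg (fun s : Sec E (n ≫ t) => (s.val i (pullback.fst (fU i) (n ≫ t))
      (pullback.snd (fU i) (n ≫ t)) pullback.condition).1) h
    beta_reduce at h2
    rw [Sec.res_val, Sec.push_val, DescFam.push_val] at h2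
    rw [← h2]
    rintro _ ⟨q, rfl⟩
    exact ⟨_, (Scheme.Hom.comp_apply _ _ q).symm⟩
  have h3 := (range_val_subset_iff_openOf b a hU i _ _ h₀).1 h1 z
  rw [Scheme.Hom.comp_apply, hz] at h3
  exact h3

end OpenSub

section OpenChart

variable (E : SchDDFam fU) {Y : Scheme.{u}} (f : Y ⟶ S)
  (hU : Presieve.ofArrows U fU ∈ Scheme.fpqcPrecoverage S)
  (C : Over Y) (b : canonicalDDFam fU (Over.mk (C.hom ≫ f)) ⟶ E)

/-- A morphism to `C` over `Y` as a lift over `S`. -/
def liftOfHom {W : Over Y} (ε : W ⟶ C) : Lifts (Over.mk (C.hom ≫ f)) (W.hom ≫ f) :=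
  ⟨ε.left, by
    change ε.left ≫ C.hom ≫ f = W.hom ≫ f
    rw [← Category.assoc, Over.w]⟩

/-- The universal section of `E` over an effective open chart. -/
noncomputable def openChartSec : Sec E (C.hom ≫ f) :=
  Sec.push b (canSec fU (Over.mk (C.hom ≫ f)) (C.hom ≫ f) (liftOfHom f C (𝟙 C)))

/-- The morphism from an effective open chart to the sheaf of sections. -/
noncomputable def openChartMap : (AlgSp.yon Y).obj C ⟶ secSp E f :=
  yonEquiv.symm (openChartSec E f C b)

theorem yonEquiv_map_openChartMap {W : Over Y} (ε : W ⟶ C) :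
    yonEquiv ((AlgSp.yon Y).map ε ≫ openChartMap E f C b) =
      Sec.push b (canSec fU (Over.mk (C.hom ≫ f)) (W.hom ≫ f) (liftOfHom f C ε)) := by
  rw [← yonEquiv_naturality, openChartMap, Equiv.apply_symm_apply]
  have hε : ε.left ≫ C.hom ≫ f = W.hom ≫ f := by rw [← Category.assoc, Over.w]
  change (openChartSec E f C b).res ε.left (W.hom ≫ f) hε = _
  rw [openChartSec, ← Sec.push_res, canSec_res]
  have h1 : (⟨ε.left ≫ (liftOfHom f C (𝟙 C)).1, by
      rw [Category.assoc, (liftOfHom f C (𝟙 C)).2, hε]⟩ :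
      Lifts (Over.mk (C.hom ≫ f)) (W.hom ≫ f)) = liftOfHom f C ε :=
    Subtype.ext (Category.comp_id _)
  rw [h1]

variable [Mono f] [∀ i, IsOpenImmersion (b.hom i).left]

/-- The open subscheme of `T` where the section `ξ` lies in the chart, as a scheme over `Y`. -/
noncomputable abbrev chartOpen {T : Over Y} (ξ : (AlgSp.yon Y).obj T ⟶ secSp E f) :
    T.left.Opens :=
  openOf b (yonEquiv ξ : Sec E (T.hom ≫ f)) hU

noncomputable abbrev chartOpenObj {T : Over Y} (ξ : (AlgSp.yon Y).obj T ⟶ secSp E f) : Over Y :=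
  Over.mk ((chartOpen E f hU C b ξ).ι ≫ T.hom)

noncomputable abbrev chartOpenIncl {T : Over Y} (ξ : (AlgSp.yon Y).obj T ⟶ secSp E f) :
    chartOpenObj E f hU C b ξ ⟶ T :=
  Over.homMk (chartOpen E f hU C b ξ).ι rfl

theorem exists_chartLift {T : Over Y} (ξ : (AlgSp.yon Y).obj T ⟶ secSp E f) :
    ∃ l : chartOpenObj E f hU C b ξ ⟶ C,
      (AlgSp.yon Y).map l ≫ openChartMap E f C b =
        (AlgSp.yon Y).map (chartOpenIncl E f hU C b ξ) ≫ ξ := by
  let a : Sec E (T.hom ≫ f) := yonEquiv ξ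
  obtain ⟨m, hm⟩ := canSec_surjective fU (Over.mk (C.hom ≫ f)) hU
    ((chartOpenObj E f hU C b ξ).hom ≫ f)
    ((factorSec b a hU).cast (Category.assoc _ _ _).symm)
  have hm2 : m.1 ≫ C.hom = (chartOpen E f hU C b ξ).ι ≫ T.hom := by
    have := m.2
    rw [← cancel_mono f, Category.assoc]
    exact this
  refine ⟨Over.homMk m.1 hm2, ?_⟩
  apply yonEquiv.injective
  rw [yonEquiv_map_openChartMap, ← yonEquiv_naturality]
  have h1 : liftOfHom f C (Over.homMk m.1 hm2 : chartOpenObj E f hU C b ξ ⟶ C) = m :=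
    Subtype.ext rfl
  rw [h1, hm, Sec.push_cast, push_factorSec]
  rfl

include hU in
theorem repWith_openChartMap :
    AlgSp.RepWith @IsOpenImmersion (openChartMap E f C b) := by
  apply MorphismProperty.relative.of_exists
  intro T ξ
  let a : Sec E (T.hom ≫ f) := yonEquiv ξ
  obtain ⟨l, hl⟩ := exists_chartLift E f hU C b ξ
  refine ⟨chartOpenObj E f hU C b ξ, (AlgSp.yon Y).map l, chartOpenIncl E f hU C b ξ, ?_, ?_⟩
  · refine isPullback_yon_of_points _ _ _ _ hl ?_
    intro W' β c hbc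
    have hc : c.left ≫ T.hom = W'.hom := Over.w c
    have h5 := congrArg yonEquiv hbc
    rw [yonEquiv_map_openChartMap, ← yonEquiv_naturality] at h5
    have hmem : ∀ w : W'.left, c.left w ∈ chartOpen E f hU C b ξ := by
      intro w
      refine mem_openOf_of_push_eq b a hU c.left
        ((canSec fU (Over.mk (C.hom ≫ f)) (W'.hom ≫ f) (liftOfHom f C β)).cast
          (by rw [← hc, Category.assoc])) ?_ w
      rw [Sec.push_cast, h5]
      rfl
    have hrange : Set.range c.left ⊆ Set.range (chartOpen E f hU C b ξ).ι := by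
      rintro _ ⟨w, rfl⟩
      rw [Scheme.Opens.range_ι]
      exact hmem w
    let dl : W'.left ⟶ (chartOpen E f hU C b ξ).toScheme :=
      IsOpenImmersion.lift (chartOpen E f hU C b ξ).ι c.left hrange
    have hd1 : dl ≫ (chartOpen E f hU C b ξ).ι = c.left := IsOpenImmersion.lift_fac _ _ _
    let d : W' ⟶ chartOpenObj E f hU C b ξ := Over.homMk dl (by
      change dl ≫ (chartOpen E f hU C b ξ).ι ≫ T.hom = W'.hom
      rw [← Category.assoc, hd1, hc])
    have hdc : d ≫ chartOpenIncl E f hU C b ξ = c := by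
      apply Over.OverMorphism.ext
      exact hd1
    refine ⟨d, ⟨?_, hdc⟩, ?_⟩
    · have h6 : (AlgSp.yon Y).map (d ≫ l) ≫ openChartMap E f C b =
          (AlgSp.yon Y).map β ≫ openChartMap E f C b := by
        rw [Functor.map_comp, Category.assoc, hl, ← Category.assoc, ← Functor.map_comp, hdc, hbc]
      have h7 := congrArg yonEquiv h6
      rw [yonEquiv_map_openChartMap, yonEquiv_map_openChartMap] at h7
      have h8 := canSec_injective fU (Over.mk (C.hom ≫ f)) hU _ _ _
        (Sec.push_injective b _ _ h7)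
      apply Over.OverMorphism.ext
      exact congrArg Subtype.val h8
    · rintro d' ⟨-, hd'⟩
      apply Over.OverMorphism.ext
      have h8 : d'.left ≫ (chartOpen E f hU C b ξ).ι = c.left := congrArg CommaMorphism.left hd'
      change d'.left = dl
      rw [← cancel_mono (chartOpen E f hU C b ξ).ι, h8, hd1]
  · change IsOpenImmersion (chartOpen E f hU C b ξ).ι
    infer_instance

end OpenChart

section OpenCover

variable (E : SchDDFam fU) {Y : Scheme.{u}} (f : Y ⟶ S) [Mono f]
  (hU : Presieve.ofArrows U fU ∈ Scheme.fpqcPrecoverage S)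
  {A : Type u} (C : A → Over Y) (b : ∀ α, canonicalDDFam fU (Over.mk ((C α).hom ≫ f)) ⟶ E)
  [∀ α i, IsOpenImmersion ((b α).hom i).left]
  (hcov : ∀ (i : ι) (v : (E.obj i).left), ∃ α, v ∈ Set.range ((b α).hom i).left)

include hU hcov in
theorem locallyLifts_openChartMap :
    Groth.Agent.H53.ZarGlue.LocallyLifts (fun α => openChartMap E f (C α) (b α)) := by
  intro T ξ t
  let a : Sec E (T.hom ≫ f) := yonEquiv ξ
  obtain ⟨i, z, hz⟩ := jointly_surjective_of_fpqc (fun i => pullback.snd (fU i) (T.hom ≫ f))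
    (Groth.Agent.Lib.Helper26.DDFamFF.snd_mem fU hU (Over.mk (T.hom ≫ f))) t
  obtain ⟨α, hα⟩ := hcov i ((univPt a i).1 z)
  obtain ⟨l, hl⟩ := exists_chartLift E f hU (C α) (b α) ξ
  refine ⟨α, chartOpen E f hU (C α) (b α) ξ, l, ?_, hl.symm⟩
  rw [← hz]
  change z ∈ (pullback.snd (fU i) (T.hom ≫ f)) ⁻¹ᵁ (openOf (b α) a hU)
  rw [openOf_spec]
  exact hα

include hU hcov in
/-- If `E` is covered by effective open sub-descent data, the sections of `E` over schemes over
`Y` are representable by a scheme over `Y`. -/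
theorem exists_rep_of_open_charts :
    ∃ (D : Over Y) (θ : ∀ ⦃T : Scheme.{u}⦄ (y : T ⟶ Y), Lifts D y ≃ Sec E (y ≫ f)),
      ∀ ⦃T T' : Scheme.{u}⦄ (k : T' ⟶ T) (y : T ⟶ Y) (y' : T' ⟶ Y) (hy : k ≫ y = y')
        (d : Lifts D y) (d' : Lifts D y'), d'.1 = k ≫ d.1 →
        θ y' d' = (θ y d).res k (y' ≫ f) (by rw [← hy, Category.assoc]) := by
  obtain ⟨D, e, -⟩ := Groth.Agent.H53.ZarGlue.exists_iso_yon
    (fun α => repWith_openChartMap E f hU (C α) (b α))
    (locallyLifts_openChartMap E f hU C b hcov)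
  refine ⟨D, fun T y => repEquiv e y, ?_⟩
  intro T T' k y y' hy d d' hd
  subst hy
  exact repEquiv_nat e k y d d' hd

end OpenCover

section Effective

variable (fU) (hU : Presieve.ofArrows U fU ∈ Scheme.fpqcPrecoverage S)

/-- The sections of the canonical descent datum of `U'` are the morphisms to `U'`. -/
noncomputable def canSecEquiv (U' : Over S) {T : Scheme.{u}} (t : T ⟶ S) :
    Lifts U' t ≃ Sec (canonicalDDFam fU U') t :=
  Equiv.ofBijective (canSec fU U' t)
    ⟨fun m m' h => canSec_injective fU U' hU t m m' h, canSec_surjective fU U' hU t⟩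

/-- The sections of the canonical descent datum of `U'` are represented by `U'`. -/
noncomputable def SecRep.can (U' : Over S) :
    SecRep (canonicalDDFam fU U') (fun _ : PUnit.{u + 1} => 𝟙 S) where
  obj _ := U'
  θ _ T y := (liftsCongr U' (Category.comp_id y).symm).trans (canSecEquiv fU hU U' (y ≫ 𝟙 S))
  nat _ T T' k y y' hy d d' hd := by
    change canSec fU U' (y' ≫ 𝟙 S) _ = (canSec fU U' (y ≫ 𝟙 S) _).res k _ _
    rw [canSec_res]
    congr 1
    apply Subtype.ext
    exact hd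

variable {fU}

theorem SecRep.toDD_φ_id_val {E : SchDDFam fU} (ρ : SecRep E (fun _ : PUnit.{u + 1} => 𝟙 S))
    {T : Scheme.{u}} (j₀ _j₁ : PUnit.{u + 1}) (y₀ y₁ : T ⟶ S) (h : y₀ ≫ 𝟙 S = y₁ ≫ 𝟙 S)
    (v : Lifts (ρ.obj j₀) y₀) : (ρ.toDD.φ y₀ y₁ h v).1 = v.1 := by
  have hy : y₀ = y₁ := by simpa using h
  subst hy
  rw [SecRep.toDD_φ, Sec.cast_rfl, Equiv.symm_apply_apply]

/-- Two descent data relative to the identity carried by representing data on the same scheme
are isomorphic. -/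
noncomputable def SecRep.idIso {E : SchDDFam fU} (ρ : SecRep E (fun _ : PUnit.{u + 1} => 𝟙 S)) :
    ρ.toDD ≅ (SecRep.can fU hU (ρ.obj ⟨⟩)).toDD :=
  isoMkLifts ρ.toDD (SecRep.can fU hU (ρ.obj ⟨⟩)).toDD (fun _ _ _ => Equiv.refl _)
    (fun _ _ _ _ _ _ _ _ _ hv => hv)
    (fun _ j₀ j₁ x₀ x₁ h v => Subtype.ext
      ((SecRep.toDD_φ_id_val (SecRep.can fU hU (ρ.obj ⟨⟩)) j₀ j₁ x₀ x₁ h v).trans
        (SecRep.toDD_φ_id_val ρ j₀ j₁ x₀ x₁ h v).symm))

include hU in
/-- A descent datum whose sections are representable over `S` is effective. -/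
theorem isEffective_of_secRep {E : SchDDFam fU} (ρ : SecRep E (fun _ : PUnit.{u + 1} => 𝟙 S)) :
    Nonempty (canonicalDDFam fU (ρ.obj ⟨⟩) ≅ E) := by
  have w : ∀ i, fU i ≫ 𝟙 S = fU i ≫ 𝟙 S := fun i => rfl
  exact ⟨(selfIso (canonicalDDFam fU (ρ.obj ⟨⟩))).symm ≪≫
    (pullIso (fV := fun _ : PUnit.{u + 1} => 𝟙 S) (α := fun _ => ⟨⟩) (g := fU) w
      (SecRep.can fU hU (ρ.obj ⟨⟩)) (SecRep.self _)).symm ≪≫
    (pullDDFam (f := fun _ : PUnit.{u + 1} => 𝟙 S) (α := fun _ => ⟨⟩) (p' := fU) w).mapIso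
      (SecRep.idIso hU ρ).symm ≪≫
    pullIso (fV := fun _ : PUnit.{u + 1} => 𝟙 S) (α := fun _ => ⟨⟩) (g := fU) w
      ρ (SecRep.self E) ≪≫ selfIso E⟩

end Effective

theorem isOpenImmersion_comp₃ {A B C D : Scheme.{u}} (f1 : A ⟶ B) (f2 : B ⟶ C) (f3 : C ⟶ D)
    (_ : IsIso f1) (_ : IsIso f2) (_ : IsOpenImmersion f3) : IsOpenImmersion (f1 ≫ f2 ≫ f3) :=
  inferInstance

theorem mem_range_comp₃ {A B C D : Scheme.{u}} (f1 : A ⟶ B) (f2 : B ⟶ C) (f3 : C ⟶ D)
    (_ : IsIso f1) (_ : IsIso f2) (d : D) (hd : d ∈ Set.range f3) :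
    d ∈ Set.range (f1 ≫ f2 ≫ f3) := by
  obtain ⟨c, rfl⟩ := hd
  refine ⟨inv f1 (inv f2 c), ?_⟩
  have h1 : ∀ b : B, f1 (inv f1 b) = b := fun b => by
    rw [← Scheme.Hom.comp_apply, IsIso.inv_hom_id]
    rfl
  have h2 : ∀ c : C, f2 (inv f2 c) = c := fun c => by
    rw [← Scheme.Hom.comp_apply, IsIso.inv_hom_id]
    rfl
  rw [Scheme.Hom.comp_apply, Scheme.Hom.comp_apply, h1, h2]

end Groth.Agent.Lib.Helper51.DescSec
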