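import Groth.Agent.Lib.Helper51.SheafGlue
import Groth.Agent.H52.Basic

/-!
# Pullback squares of fppf sheaves are detected on points (helper51)
-/

set_option autoImplicit false
universe u
open CategoryTheory CategoryTheory.Limits Opposite AlgebraicGeometry AlgSp

namespace Groth.Agent.Lib.Helper51

variable {S : Scheme.{u}}

/-- A commutative square of fppf sheaves is cartesian as soon as it is cartesian on `h_T`-points
for all `T`. -/
theorem isPullback_of_forall_yon {A B C D : Sp S} (p : A ⟶ B) (q : A ⟶ C) (h : B ⟶ D)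
    (k : C ⟶ D) (w : p ≫ h = q ≫ k)
    (H : ∀ ⦃T : Over S⦄ (b : (yon S).obj T ⟶ B) (c : (yon S).obj T ⟶ C), b ≫ h = c ≫ k →
      ∃! a : (yon S).obj T ⟶ A, a ≫ p = b ∧ a ≫ q = c) : IsPullback p q h k := by
  have key : ∀ (W : Sp S) (b : W ⟶ B) (c : W ⟶ C), b ≫ h = c ≫ k →
      ∃ l : W ⟶ A, l ≫ p = b ∧ l ≫ q = c := by
    intro W b c hbc
    have hex : ∀ ⦃T : Over S⦄ (w' : (yon S).obj T ⟶ W),
        ∃! a : (yon S).obj T ⟶ A, a ≫ p = w' ≫ b ∧ a ≫ q = w' ≫ c :=
      fun T w' => H _ _ (by rw [Category.assoc, Category.assoc, hbc])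
    let G : ∀ ⦃T : Over S⦄, ((yon S).obj T ⟶ W) → ((yon S).obj T ⟶ A) :=
      fun T w' => (hex w').exists.choose
    have hG : ∀ ⦃T : Over S⦄ (w' : (yon S).obj T ⟶ W),
        G w' ≫ p = w' ≫ b ∧ G w' ≫ q = w' ≫ c := fun T w' => (hex w').exists.choose_spec
    have hnat : ∀ ⦃T T' : Over S⦄ (r : T' ⟶ T) (w' : (yon S).obj T ⟶ W),
        G ((yon S).map r ≫ w') = (yon S).map r ≫ G w' := by
      intro T T' r w'
      refine (hex ((yon S).map r ≫ w')).unique (hG _) ⟨?_, ?_⟩
      · rw [Category.assoc, (hG w').1, Category.assoc]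
      · rw [Category.assoc, (hG w').2, Category.assoc]
    refine ⟨homOfYon G hnat, ?_, ?_⟩
    · apply H52.sp_hom_ext
      intro T w'
      rw [← Category.assoc, comp_homOfYon]
      exact (hG w').1
    · apply H52.sp_hom_ext
      intro T w'
      rw [← Category.assoc, comp_homOfYon]
      exact (hG w').2
  have huniq : ∀ (W : Sp S) (l l' : W ⟶ A), l ≫ p = l' ≫ p → l ≫ q = l' ≫ q → l = l' := by
    intro W l l' h1 h2
    apply H52.sp_hom_ext
    intro T w'
    refine (H (w' ≫ l ≫ p) (w' ≫ l ≫ q) (by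
      rw [Category.assoc, Category.assoc, Category.assoc, Category.assoc, w])).unique
      ⟨Category.assoc _ _ _, Category.assoc _ _ _⟩ ⟨?_, ?_⟩
    · rw [Category.assoc, h1]
    · rw [Category.assoc, h2]
  refine ⟨⟨w⟩, ⟨PullbackCone.IsLimit.mk w
    (fun s => (key _ s.fst s.snd s.condition).choose)
    (fun s => (key _ s.fst s.snd s.condition).choose_spec.1)
    (fun s => (key _ s.fst s.snd s.condition).choose_spec.2)
    (fun s m h1 h2 => huniq _ _ _
      (h1.trans (key _ s.fst s.snd s.condition).choose_spec.1.symm)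
      (h2.trans (key _ s.fst s.snd s.condition).choose_spec.2.symm))⟩⟩

/-- A square of representables over a sheaf is cartesian as soon as it is cartesian on points
with values in schemes. -/
theorem isPullback_yon_of_points {G : Sp S} {X T P : Over S} (f : (yon S).obj X ⟶ G)
    (ξ : (yon S).obj T ⟶ G) (fst : P ⟶ X) (snd : P ⟶ T)
    (w : (yon S).map fst ≫ f = (yon S).map snd ≫ ξ)
    (H : ∀ ⦃W : Over S⦄ (b : W ⟶ X) (c : W ⟶ T), (yon S).map b ≫ f = (yon S).map c ≫ ξ →
      ∃! d : W ⟶ P, d ≫ fst = b ∧ d ≫ snd = c) :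
    IsPullback ((yon S).map fst) ((yon S).map snd) f ξ := by
  refine isPullback_of_forall_yon _ _ _ _ w ?_
  intro W b c hbc
  obtain ⟨b, rfl⟩ := (yon S).map_surjective b
  obtain ⟨c, rfl⟩ := (yon S).map_surjective c
  obtain ⟨d, ⟨hd1, hd2⟩, hduniq⟩ := H b c hbc
  refine ⟨(yon S).map d, ⟨?_, ?_⟩, ?_⟩
  · rw [← Functor.map_comp, hd1]
  · rw [← Functor.map_comp, hd2]
  · rintro a ⟨ha1, ha2⟩
    obtain ⟨a, rfl⟩ := (yon S).map_surjective a
    rw [hduniq a ⟨(yon S).map_injective (by rw [Functor.map_comp, ha1]),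
      (yon S).map_injective (by rw [Functor.map_comp, ha2])⟩]

end Groth.Agent.Lib.Helper51
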