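import Groth.Agent.Lib.Helper51.DescSecFpqc
import Groth.Agent.Lib.Helper51.SpPullbackPts
import Groth.Agent.Lib.Helper51.RelRepSheaf

/-!
# Descent of representability of a map of sheaves along a chart (helper51)

Let `f : G ⟶ F` be a map of fppf sheaves over `S`, `ξ : h_T ⟶ F` a point, `r : T' ⟶ T` an fppf
covering and `V ⟶ T'` a scheme representing the base change of `f` along `h_{T'} ⟶ h_T ⟶ F`.  The
points of `G` over the points of `T` (`GPts`) form a sheaf whose restriction to the points of `T'`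
is represented by `V`; this equips `V` with a descent datum relative to `r` (`descDatum`) whose
sections are the `GPts`.  If the descent datum is effective, the descended scheme represents the
base change of `f` along `ξ`.
-/

set_option autoImplicit false
set_option backward.isDefEq.respectTransparency false
set_option backward.isDefEq.respectTransparency.types false

universe u

open CategoryTheory CategoryTheory.Limits AlgebraicGeometry Opposite AlgSp

namespace Groth.Agent.Lib.Helper51.ChartDescent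

open Desc Groth.Agent.Lib.Helper51.DescFam Groth.Agent.Lib.Helper51
  Groth.Agent.Lib.Helper51.DescSec

variable {S : Scheme.{u}} {T : Over S}

/-- The scheme over `S` attached to a point of `T`. -/
abbrev ov {Z : Scheme.{u}} (t : Z ⟶ T.left) : Over S := Over.mk (t ≫ T.hom)

/-- A point of `T` as a morphism over `S`. -/
abbrev ovHom {Z : Scheme.{u}} (t : Z ⟶ T.left) : ov t ⟶ T := Over.homMk t rfl

/-- Restriction of points as a morphism over `S`. -/
def ovMap {Z Z' : Scheme.{u}} (k : Z' ⟶ Z) (t : Z ⟶ T.left) (t' : Z' ⟶ T.left)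
    (hk : k ≫ t = t') : ov t' ⟶ ov t :=
  Over.homMk k (by
    change k ≫ t ≫ T.hom = t' ≫ T.hom
    rw [← Category.assoc, hk])

@[simp] theorem ovMap_left {Z Z' : Scheme.{u}} (k : Z' ⟶ Z) (t : Z ⟶ T.left) (t' : Z' ⟶ T.left)
    (hk : k ≫ t = t') : (ovMap k t t' hk).left = k := rfl

theorem ovMap_ovHom {Z Z' : Scheme.{u}} (k : Z' ⟶ Z) (t : Z ⟶ T.left) (t' : Z' ⟶ T.left)
    (hk : k ≫ t = t') : ovMap k t t' hk ≫ ovHom t = ovHom t' := by
  ext
  exact hk

theorem ovMap_comp {Z Z' Z'' : Scheme.{u}} (k : Z' ⟶ Z) (t : Z ⟶ T.left) (t' : Z' ⟶ T.left)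
    (hk : k ≫ t = t') (k' : Z'' ⟶ Z') (t'' : Z'' ⟶ T.left) (hk' : k' ≫ t' = t'') :
    ovMap k' t' t'' hk' ≫ ovMap k t t' hk =
      ovMap (k' ≫ k) t t'' (by rw [Category.assoc, hk, hk']) := by
  ext
  rfl

theorem ovMap_id {Z : Scheme.{u}} (t : Z ⟶ T.left) :
    ovMap (𝟙 Z) t t (Category.id_comp t) = 𝟙 (ov t) := by
  ext
  rfl

section Points

variable {G F : Sp S} (f : G ⟶ F) (ξ : (yon S).obj T ⟶ F)

/-- The points of `G` over a point `t` of `T`. -/
structure GPts {Z : Scheme.{u}} (t : Z ⟶ T.left) : Type (u + 1) where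
  /-- the point of `G` -/
  hom : (yon S).obj (ov t) ⟶ G
  w : hom ≫ f = (yon S).map (ovHom t) ≫ ξ

namespace GPts

variable {f ξ}

theorem ext' {Z : Scheme.{u}} {t : Z ⟶ T.left} {γ γ' : GPts f ξ t} (h : γ.hom = γ'.hom) :
    γ = γ' := by
  cases γ
  cases γ'
  congr

/-- Restriction of points. -/
def res {Z Z' : Scheme.{u}} {t : Z ⟶ T.left} (γ : GPts f ξ t) (k : Z' ⟶ Z) (t' : Z' ⟶ T.left)
    (hk : k ≫ t = t') : GPts f ξ t' :=
  ⟨(yon S).map (ovMap k t t' hk) ≫ γ.hom, by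
    rw [Category.assoc, γ.w, ← Category.assoc, ← Functor.map_comp, ovMap_ovHom]⟩

theorem res_hom {Z Z' : Scheme.{u}} {t : Z ⟶ T.left} (γ : GPts f ξ t) (k : Z' ⟶ Z)
    (t' : Z' ⟶ T.left) (hk : k ≫ t = t') :
    (γ.res k t' hk).hom = (yon S).map (ovMap k t t' hk) ≫ γ.hom := rfl

theorem res_res {Z Z' Z'' : Scheme.{u}} {t : Z ⟶ T.left} (γ : GPts f ξ t) (k : Z' ⟶ Z)
    (t' : Z' ⟶ T.left) (hk : k ≫ t = t') (k' : Z'' ⟶ Z') (t'' : Z'' ⟶ T.left)
    (hk' : k' ≫ t' = t'') :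
    (γ.res k t' hk).res k' t'' hk' =
      γ.res (k' ≫ k) t'' (by rw [Category.assoc, hk, hk']) := by
  apply ext'
  rw [res_hom, res_hom, res_hom, ← Category.assoc, ← Functor.map_comp, ovMap_comp]

theorem res_id {Z : Scheme.{u}} {t : Z ⟶ T.left} (γ : GPts f ξ t) :
    γ.res (𝟙 Z) t (Category.id_comp t) = γ := by
  apply ext'
  rw [res_hom, ovMap_id, (yon S).map_id, Category.id_comp]

theorem res_congr {Z Z' : Scheme.{u}} {t : Z ⟶ T.left} (γ : GPts f ξ t) {k k' : Z' ⟶ Z}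
    (hkk : k = k') (t' : Z' ⟶ T.left) (hk : k ≫ t = t') :
    γ.res k t' hk = γ.res k' t' (by rw [← hkk, hk]) := by
  subst hkk
  rfl

end GPts

end Points

section Chart

variable {G F : Sp S} (f : G ⟶ F) (ξ : (yon S).obj T ⟶ F) {T' V : Over S} (r : T' ⟶ T)
  (g : V ⟶ T') (a : (yon S).obj V ⟶ G)

/-- The morphism over `S` underlying a point of `V`. -/
def liftHom {Z : Scheme.{u}} (x : Z ⟶ T'.left) (t : Z ⟶ T.left) (hx : x ≫ r.left = t)
    (v : Lifts (Over.mk g.left) x) : ov t ⟶ V :=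
  Over.homMk v.1 (by
    have h1 : v.1 ≫ g.left = x := v.2
    change v.1 ≫ V.hom = t ≫ T.hom
    rw [← Over.w g, ← Over.w r, ← Category.assoc, h1, ← Category.assoc, hx])

@[simp] theorem liftHom_left {Z : Scheme.{u}} (x : Z ⟶ T'.left) (t : Z ⟶ T.left)
    (hx : x ≫ r.left = t) (v : Lifts (Over.mk g.left) x) : (liftHom r g x t hx v).left = v.1 :=
  rfl

/-- A point of `T'` as a morphism over `S`. -/
def ptHom {Z : Scheme.{u}} (x : Z ⟶ T'.left) (t : Z ⟶ T.left) (hx : x ≫ r.left = t) :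
    ov t ⟶ T' :=
  Over.homMk x (by
    change x ≫ T'.hom = t ≫ T.hom
    rw [← Over.w r, ← Category.assoc, hx])

theorem ptHom_comp {Z : Scheme.{u}} (x : Z ⟶ T'.left) (t : Z ⟶ T.left) (hx : x ≫ r.left = t) :
    ptHom r x t hx ≫ r = ovHom t := by
  ext
  exact hx

theorem liftHom_comp {Z : Scheme.{u}} (x : Z ⟶ T'.left) (t : Z ⟶ T.left) (hx : x ≫ r.left = t)
    (v : Lifts (Over.mk g.left) x) : liftHom r g x t hx v ≫ g = ptHom r x t hx := by
  ext
  exact v.2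

theorem ovMap_liftHom {Z Z' : Scheme.{u}} (k : Z' ⟶ Z) (x : Z ⟶ T'.left) (t : Z ⟶ T.left)
    (hx : x ≫ r.left = t) (v : Lifts (Over.mk g.left) x) (x' : Z' ⟶ T'.left) (t' : Z' ⟶ T.left)
    (hx' : x' ≫ r.left = t') (hk : k ≫ t = t') (v' : Lifts (Over.mk g.left) x')
    (hv : v'.1 = k ≫ v.1) :
    ovMap k t t' hk ≫ liftHom r g x t hx v = liftHom r g x' t' hx' v' := by
  ext
  exact hv.symm

variable (sq : IsPullback a ((yon S).map g) f ((yon S).map r ≫ ξ))

include sq in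
theorem ptOfLift_w {Z : Scheme.{u}} (x : Z ⟶ T'.left) (t : Z ⟶ T.left) (hx : x ≫ r.left = t)
    (v : Lifts (Over.mk g.left) x) :
    ((yon S).map (liftHom r g x t hx v) ≫ a) ≫ f = (yon S).map (ovHom t) ≫ ξ := by
  rw [Category.assoc, sq.w, ← Category.assoc, ← Category.assoc, ← Functor.map_comp,
    ← Functor.map_comp, liftHom_comp, ptHom_comp]

/-- The point of `G` attached to a point of `V`. -/
def ptOfLift {Z : Scheme.{u}} (x : Z ⟶ T'.left) (t : Z ⟶ T.left) (hx : x ≫ r.left = t)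
    (v : Lifts (Over.mk g.left) x) : GPts f ξ t :=
  ⟨(yon S).map (liftHom r g x t hx v) ≫ a, ptOfLift_w f ξ r g a sq x t hx v⟩

theorem ptOfLift_hom {Z : Scheme.{u}} (x : Z ⟶ T'.left) (t : Z ⟶ T.left) (hx : x ≫ r.left = t)
    (v : Lifts (Over.mk g.left) x) :
    (ptOfLift f ξ r g a sq x t hx v).hom = (yon S).map (liftHom r g x t hx v) ≫ a := rfl

theorem ptOfLift_res {Z Z' : Scheme.{u}} (k : Z' ⟶ Z) (x : Z ⟶ T'.left) (t : Z ⟶ T.left)
    (hx : x ≫ r.left = t) (v : Lifts (Over.mk g.left) x) (x' : Z' ⟶ T'.left) (t' : Z' ⟶ T.left)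
    (hx' : x' ≫ r.left = t') (hk : k ≫ t = t') (v' : Lifts (Over.mk g.left) x')
    (hv : v'.1 = k ≫ v.1) :
    ptOfLift f ξ r g a sq x' t' hx' v' = (ptOfLift f ξ r g a sq x t hx v).res k t' hk := by
  apply GPts.ext'
  rw [GPts.res_hom, ptOfLift_hom, ptOfLift_hom, ← Category.assoc, ← Functor.map_comp,
    ovMap_liftHom r g k x t hx v x' t' hx' hk v' hv]

theorem ptOfLift_injective {Z : Scheme.{u}} (x : Z ⟶ T'.left) (t : Z ⟶ T.left)
    (hx : x ≫ r.left = t) : Function.Injective (ptOfLift f ξ r g a sq x t hx) := by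
  intro v v' h
  have h1 : (yon S).map (liftHom r g x t hx v) ≫ a = (yon S).map (liftHom r g x t hx v') ≫ a :=
    congrArg GPts.hom h
  have h2 : (yon S).map (liftHom r g x t hx v) = (yon S).map (liftHom r g x t hx v') := by
    apply sq.hom_ext h1
    rw [← Functor.map_comp, ← Functor.map_comp, liftHom_comp, liftHom_comp]
  have h3 := (yon S).map_injective h2
  exact Subtype.ext (congrArg (fun m => m.left) h3)

theorem ptOfLift_surjective {Z : Scheme.{u}} (x : Z ⟶ T'.left) (t : Z ⟶ T.left)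
    (hx : x ≫ r.left = t) : Function.Surjective (ptOfLift f ξ r g a sq x t hx) := by
  intro γ
  have hw : γ.hom ≫ f = (yon S).map (ptHom r x t hx) ≫ (yon S).map r ≫ ξ := by
    rw [γ.w, ← Category.assoc, ← Functor.map_comp, ptHom_comp]
  obtain ⟨w, hw'⟩ := (yon S).map_surjective (sq.lift γ.hom ((yon S).map (ptHom r x t hx)) hw)
  have h1 : w ≫ g = ptHom r x t hx := by
    apply (yon S).map_injective
    rw [Functor.map_comp, hw', sq.lift_snd]
  have h2 : w.left ≫ g.left = x := congrArg (fun m => m.left) h1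
  refine ⟨⟨w.left, h2⟩, ?_⟩
  apply GPts.ext'
  rw [ptOfLift_hom]
  have h3 : liftHom r g x t hx ⟨w.left, h2⟩ = w := by
    ext
    rfl
  rw [h3, hw', sq.lift_fst]

/-- The points of `V` over a point `x` of `T'` are the points of `G` over the image of `x`. -/
noncomputable def liftEquiv {Z : Scheme.{u}} (x : Z ⟶ T'.left) (t : Z ⟶ T.left)
    (hx : x ≫ r.left = t) : Lifts (Over.mk g.left) x ≃ GPts f ξ t :=
  Equiv.ofBijective (ptOfLift f ξ r g a sq x t hx)
    ⟨ptOfLift_injective f ξ r g a sq x t hx, ptOfLift_surjective f ξ r g a sq x t hx⟩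

theorem liftEquiv_apply {Z : Scheme.{u}} (x : Z ⟶ T'.left) (t : Z ⟶ T.left)
    (hx : x ≫ r.left = t) (v : Lifts (Over.mk g.left) x) :
    liftEquiv f ξ r g a sq x t hx v = ptOfLift f ξ r g a sq x t hx v := rfl

theorem liftEquiv_res {Z Z' : Scheme.{u}} (k : Z' ⟶ Z) (x : Z ⟶ T'.left) (t : Z ⟶ T.left)
    (hx : x ≫ r.left = t) (v : Lifts (Over.mk g.left) x) (x' : Z' ⟶ T'.left) (t' : Z' ⟶ T.left)
    (hx' : x' ≫ r.left = t') (hk : k ≫ t = t') (v' : Lifts (Over.mk g.left) x')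
    (hv : v'.1 = k ≫ v.1) :
    liftEquiv f ξ r g a sq x' t' hx' v' = (liftEquiv f ξ r g a sq x t hx v).res k t' hk :=
  ptOfLift_res f ξ r g a sq k x t hx v x' t' hx' hk v' hv

/-- The gluing bijections of the descent datum on `V`. -/
noncomputable def phi {Z : Scheme.{u}} (t : Z ⟶ T.left) (x₀ x₁ : Z ⟶ T'.left)
    (h₀ : x₀ ≫ r.left = t) (h₁ : x₁ ≫ r.left = t) :
    Lifts (Over.mk g.left) x₀ ≃ Lifts (Over.mk g.left) x₁ :=
  (liftEquiv f ξ r g a sq x₀ t h₀).trans (liftEquiv f ξ r g a sq x₁ t h₁).symm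

theorem phi_indep {Z : Scheme.{u}} (t t' : Z ⟶ T.left) (x₀ x₁ : Z ⟶ T'.left)
    (h₀ : x₀ ≫ r.left = t) (h₁ : x₁ ≫ r.left = t) (h₀' : x₀ ≫ r.left = t')
    (h₁' : x₁ ≫ r.left = t') :
    phi f ξ r g a sq t x₀ x₁ h₀ h₁ = phi f ξ r g a sq t' x₀ x₁ h₀' h₁' := by
  subst h₀
  subst h₀'
  rfl

theorem liftEquiv_phi {Z : Scheme.{u}} (t : Z ⟶ T.left) (x₀ x₁ : Z ⟶ T'.left)
    (h₀ : x₀ ≫ r.left = t) (h₁ : x₁ ≫ r.left = t) (v : Lifts (Over.mk g.left) x₀) :
    liftEquiv f ξ r g a sq x₁ t h₁ (phi f ξ r g a sq t x₀ x₁ h₀ h₁ v) =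
      liftEquiv f ξ r g a sq x₀ t h₀ v :=
  Equiv.apply_symm_apply _ _

theorem phi_nat {Z Z' : Scheme.{u}} (k : Z' ⟶ Z) (t : Z ⟶ T.left) (x₀ x₁ : Z ⟶ T'.left)
    (h₀ : x₀ ≫ r.left = t) (h₁ : x₁ ≫ r.left = t) (t' : Z' ⟶ T.left) (y₀ y₁ : Z' ⟶ T'.left)
    (h₀' : y₀ ≫ r.left = t') (h₁' : y₁ ≫ r.left = t') (hk : k ≫ t = t')
    (hy₁ : k ≫ x₁ = y₁) (v : Lifts (Over.mk g.left) x₀) (v' : Lifts (Over.mk g.left) y₀)
    (hv : v'.1 = k ≫ v.1) :
    (phi f ξ r g a sq t' y₀ y₁ h₀' h₁' v').1 = k ≫ (phi f ξ r g a sq t x₀ x₁ h₀ h₁ v).1 := by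
  let u := phi f ξ r g a sq t x₀ x₁ h₀ h₁ v
  have hu : u.1 ≫ g.left = x₁ := u.2
  let u' : Lifts (Over.mk g.left) y₁ := ⟨k ≫ u.1, by
    change (k ≫ u.1) ≫ g.left = y₁
    rw [Category.assoc, hu, hy₁]⟩
  have key : phi f ξ r g a sq t' y₀ y₁ h₀' h₁' v' = u' := by
    change (liftEquiv f ξ r g a sq y₁ t' h₁').symm (liftEquiv f ξ r g a sq y₀ t' h₀' v') = u'
    rw [Equiv.symm_apply_eq, liftEquiv_res f ξ r g a sq k x₀ t h₀ v y₀ t' h₀' hk v' hv,
      liftEquiv_res f ξ r g a sq k x₁ t h₁ u y₁ t' h₁' hk u' rfl, liftEquiv_phi]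
  rw [key]

/-- The descent datum on `V` relative to `r`: two points of `V` over points of `T'` with the same
image in `T` correspond when they define the same point of `G`. -/
noncomputable def descDatum : SchDD r.left where
  obj := Over.mk g.left
  φ Z x₀ x₁ h := phi f ξ r g a sq (x₀ ≫ r.left) x₀ x₁ rfl h.symm
  φ_natural Z Z' k x₀ x₁ h h' v v' hv :=
    phi_nat f ξ r g a sq k (x₀ ≫ r.left) x₀ x₁ rfl h.symm ((k ≫ x₀) ≫ r.left) (k ≫ x₀) (k ≫ x₁)
      rfl h'.symm (Category.assoc _ _ _).symm rfl v v' hv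
  φ_self Z x v := by
    change (liftEquiv f ξ r g a sq x (x ≫ r.left) rfl).symm
      (liftEquiv f ξ r g a sq x (x ≫ r.left) rfl v) = v
    exact Equiv.symm_apply_apply _ _
  φ_comp Z x₀ x₁ x₂ h₀₁ h₁₂ v := by
    rw [phi_indep f ξ r g a sq (x₁ ≫ r.left) (x₀ ≫ r.left) x₁ x₂ rfl h₁₂.symm h₀₁.symm
      (h₁₂.symm.trans h₀₁.symm)]
    apply (liftEquiv f ξ r g a sq x₂ (x₀ ≫ r.left) (h₁₂.symm.trans h₀₁.symm)).injective
    rw [liftEquiv_phi, liftEquiv_phi, liftEquiv_phi]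

theorem descDatum_φ {Z : Scheme.{u}} (t : Z ⟶ T.left) (x₀ x₁ : Z ⟶ T'.left)
    (h₀ : x₀ ≫ r.left = t) (h₁ : x₁ ≫ r.left = t) :
    (descDatum f ξ r g a sq).φ x₀ x₁ (h₀.trans h₁.symm) = phi f ξ r g a sq t x₀ x₁ h₀ h₁ :=
  phi_indep f ξ r g a sq _ _ x₀ x₁ _ _ _ _

end Chart

section Glue

variable {G F : Sp S} {f : G ⟶ F} {ξ : (yon S).obj T ⟶ F}

/-- A scheme over a point of `T` is (isomorphic to) the scheme attached to the composite point. -/
def ovIso (W : Over S) {Z : Scheme.{u}} (t : Z ⟶ T.left) (w : W ⟶ ov t) : W ⟶ ov (w.left ≫ t) :=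
  Over.homMk (𝟙 W.left) (by
    change 𝟙 _ ≫ (w.left ≫ t) ≫ T.hom = W.hom
    rw [Category.id_comp, Category.assoc]
    exact Over.w w)

theorem ovIso_comp (W : Over S) {Z : Scheme.{u}} (t : Z ⟶ T.left) (w : W ⟶ ov t) :
    ovIso W t w ≫ ovMap w.left t (w.left ≫ t) rfl = w := by
  ext
  exact Category.id_comp _

theorem ovIso_ovHom (W : Over S) {Z : Scheme.{u}} (t : Z ⟶ T.left) (w : W ⟶ ov t) :
    ovIso W t w ≫ ovHom (w.left ≫ t) = w ≫ ovHom t := by
  ext
  exact Category.id_comp _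

theorem ovIso_nat (W W' : Over S) {Z : Scheme.{u}} (t : Z ⟶ T.left) (w : W ⟶ ov t) (m : W' ⟶ W) :
    m ≫ ovIso W t w = ovIso W' t (m ≫ w) ≫
      ovMap m.left (w.left ≫ t) ((m ≫ w).left ≫ t) (Category.assoc _ _ _).symm := by
  ext
  exact (Category.comp_id _).trans (Category.id_comp _).symm

theorem ovIso_ovMap {Z Z' : Scheme.{u}} (t : Z ⟶ T.left) (k : Z' ⟶ Z) :
    ovIso (ov (k ≫ t)) t (ovMap k t (k ≫ t) rfl) = 𝟙 (ov (k ≫ t)) := by
  ext
  rfl

theorem mem_J_of_mem_fppfTopology {Z : Scheme.{u}} (t : Z ⟶ T.left) (R : Sieve Z)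
    (hR : R ∈ Scheme.fppfTopology Z) : (Sieve.overEquiv (ov t)).symm R ∈ J S (ov t) := by
  rw [J_eq, GrothendieckTopology.mem_over_iff]
  have e : (Sieve.overEquiv (ov t)) ((Sieve.overEquiv (ov t)).symm R) = R :=
    (Sieve.overEquiv (ov t)).apply_symm_apply R
  exact e.symm ▸ hR

/-- Two points of `G` over `t` which agree on a covering sieve are equal. -/
theorem GPts.ext_of_mem {Z : Scheme.{u}} {t : Z ⟶ T.left} (R : Sieve Z)
    (hR : R ∈ Scheme.fppfTopology Z) (γ γ' : GPts f ξ t)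
    (h : ∀ ⦃Z' : Scheme.{u}⦄ (k : Z' ⟶ Z), R k → γ.res k (k ≫ t) rfl = γ'.res k (k ≫ t) rfl) :
    γ = γ' := by
  apply GPts.ext'
  refine yon_hom_ext_of_mem_J (mem_J_of_mem_fppfTopology t R hR) ?_
  intro W w hw
  rw [Sieve.overEquiv_symm_iff] at hw
  have h1 := congrArg GPts.hom (h w.left hw)
  rw [GPts.res_hom, GPts.res_hom] at h1
  rw [← ovIso_comp W t w, Functor.map_comp, Category.assoc, Category.assoc, h1]

/-- A compatible family of points of `G` on a covering sieve glues. -/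
theorem GPts.exists_glue {Z : Scheme.{u}} {t : Z ⟶ T.left} (R : Sieve Z)
    (hR : R ∈ Scheme.fppfTopology Z)
    (xs : ∀ ⦃Z' : Scheme.{u}⦄ (k : Z' ⟶ Z), R k → GPts f ξ (k ≫ t))
    (hxs : ∀ ⦃Z' Z'' : Scheme.{u}⦄ (m : Z'' ⟶ Z') (k : Z' ⟶ Z) (hk : R k),
      xs (m ≫ k) (R.downward_closed hk m) =
        (xs k hk).res m ((m ≫ k) ≫ t) (Category.assoc _ _ _).symm) :
    ∃ γ : GPts f ξ t, ∀ ⦃Z' : Scheme.{u}⦄ (k : Z' ⟶ Z) (hk : R k),
      γ.res k (k ≫ t) rfl = xs k hk := by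
  have hSv := mem_J_of_mem_fppfTopology t R hR
  have hmem : ∀ ⦃W : Over S⦄ (w : W ⟶ ov t), (Sieve.overEquiv (ov t)).symm R w → R w.left :=
    fun W w hw => (Sieve.overEquiv_symm_iff R w).1 hw
  obtain ⟨ξ₀, hξ₀⟩ := exists_yon_glue (X := G) hSv
    (fun W w hw => (yon S).map (ovIso W t w) ≫ (xs w.left (hmem w hw)).hom) (by
      intro W W' w hw m
      have e := congrArg GPts.hom (hxs m.left w.left (hmem w hw))
      rw [GPts.res_hom] at e
      change _ = (yon S).map (ovIso W' t (m ≫ w)) ≫ (xs (m.left ≫ w.left) _).hom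
      rw [e, ← Category.assoc, ← Category.assoc, ← Functor.map_comp, ← Functor.map_comp,
        ovIso_nat]
      rfl)
  have hw₀ : ξ₀ ≫ f = (yon S).map (ovHom t) ≫ ξ := by
    refine yon_hom_ext_of_mem_J hSv ?_
    intro W w hw
    rw [← Category.assoc, hξ₀ w hw, Category.assoc, (xs w.left (hmem w hw)).w, ← Category.assoc,
      ← Category.assoc, ← Functor.map_comp, ← Functor.map_comp, ovIso_ovHom]
  refine ⟨⟨ξ₀, hw₀⟩, ?_⟩
  intro Z' k hk
  apply GPts.ext'
  rw [GPts.res_hom]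
  have hk' : (Sieve.overEquiv (ov t)).symm R (ovMap k t (k ≫ t) rfl) :=
    (Sieve.overEquiv_symm_iff (Y := ov t) R (ovMap k t (k ≫ t) rfl)).2 hk
  refine (hξ₀ (ovMap k t (k ≫ t) rfl) hk').trans ?_
  rw [ovIso_ovMap, (yon S).map_id, Category.id_comp]
  rfl

end Glue

section Sections

variable {G F : Sp S} (f : G ⟶ F) (ξ : (yon S).obj T ⟶ F) {T' V : Over S} (r : T' ⟶ T)
  (g : V ⟶ T') (a : (yon S).obj V ⟶ G)
  (sq : IsPullback a ((yon S).map g) f ((yon S).map r ≫ ξ))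

theorem liftEquiv_symm_res {Z Z' : Scheme.{u}} (k : Z' ⟶ Z) (x : Z ⟶ T'.left) (t : Z ⟶ T.left)
    (hx : x ≫ r.left = t) (γ : GPts f ξ t) (x' : Z' ⟶ T'.left) (t' : Z' ⟶ T.left)
    (hx' : x' ≫ r.left = t') (hk : k ≫ t = t') (hkx : k ≫ x = x') :
    ((liftEquiv f ξ r g a sq x' t' hx').symm (γ.res k t' hk)).1 =
      k ≫ ((liftEquiv f ξ r g a sq x t hx).symm γ).1 := by
  let u := (liftEquiv f ξ r g a sq x t hx).symm γ
  have hu : u.1 ≫ g.left = x := u.2
  let u' : Lifts (Over.mk g.left) x' := ⟨k ≫ u.1, by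
    change (k ≫ u.1) ≫ g.left = x'
    rw [Category.assoc, hu, hkx]⟩
  have key : (liftEquiv f ξ r g a sq x' t' hx').symm (γ.res k t' hk) = u' := by
    rw [Equiv.symm_apply_eq, liftEquiv_res f ξ r g a sq k x t hx u x' t' hx' hk u' rfl,
      Equiv.apply_symm_apply]
  rw [key]

theorem liftEquiv_symm_congr {Z : Scheme.{u}} (x : Z ⟶ T'.left) {t₁ t₂ : Z ⟶ T.left}
    (ht : t₁ = t₂) (h₁ : x ≫ r.left = t₁) (h₂ : x ≫ r.left = t₂) (γ₁ : GPts f ξ t₁)
    (γ₂ : GPts f ξ t₂) (hγ : γ₁.res (𝟙 Z) t₂ (by rw [Category.id_comp, ht]) = γ₂) :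
    ((liftEquiv f ξ r g a sq x t₁ h₁).symm γ₁).1 = ((liftEquiv f ξ r g a sq x t₂ h₂).symm γ₂).1 := by
  subst ht
  subst hγ
  rw [GPts.res_id]

/-- The descent datum on `V` as a descent datum relative to a one-member family. -/
noncomputable abbrev descFam : SchDDFam (fun _ : PUnit.{u + 1} => r.left) :=
  (SchDDFam.ofSchDD r.left).obj (descDatum f ξ r g a sq)

theorem descFam_φ {Z : Scheme.{u}} (t : Z ⟶ T.left) (x₀ x₁ : Z ⟶ T'.left)
    (h₀ : x₀ ≫ r.left = t) (h₁ : x₁ ≫ r.left = t) :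
    (descFam f ξ r g a sq).φ (i := PUnit.unit) (j := PUnit.unit) x₀ x₁ (h₀.trans h₁.symm) =
      phi f ξ r g a sq t x₀ x₁ h₀ h₁ :=
  descDatum_φ f ξ r g a sq t x₀ x₁ h₀ h₁

/-- The section of the descent datum attached to a point of `G`. -/
noncomputable def toSec {Z : Scheme.{u}} {t : Z ⟶ T.left} (γ : GPts f ξ t) :
    Sec (descFam f ξ r g a sq) t where
  val _ Z' x k h := (liftEquiv f ξ r g a sq x (k ≫ t) h).symm (γ.res k (k ≫ t) rfl)
  nat _ Z' Z'' m x k h x' k' h' hx hk := by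
    have e : γ.res k' (k' ≫ t) rfl =
        (γ.res k (k ≫ t) rfl).res m (k' ≫ t) (by rw [← hk, Category.assoc]) := by
      rw [GPts.res_res]
      exact GPts.res_congr γ hk.symm _ _
    rw [e]
    exact liftEquiv_symm_res f ξ r g a sq m x (k ≫ t) h _ x' (k' ≫ t) h' _ hx
  compat _ _ Z' x₀ x₁ k h₀ h₁ := by
    rw [descFam_φ f ξ r g a sq (k ≫ t) x₀ x₁ h₀ h₁]
    change (liftEquiv f ξ r g a sq x₁ (k ≫ t) h₁).symm (liftEquiv f ξ r g a sq x₀ (k ≫ t) h₀
      ((liftEquiv f ξ r g a sq x₀ (k ≫ t) h₀).symm _)) = _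
    rw [Equiv.apply_symm_apply]

theorem toSec_val {Z : Scheme.{u}} {t : Z ⟶ T.left} (γ : GPts f ξ t) (i : PUnit.{u + 1})
    {Z' : Scheme.{u}} (x : Z' ⟶ T'.left) (k : Z' ⟶ Z) (h : x ≫ r.left = k ≫ t) :
    (toSec f ξ r g a sq γ).val i x k h =
      (liftEquiv f ξ r g a sq x (k ≫ t) h).symm (γ.res k (k ≫ t) rfl) := rfl

theorem toSec_res {Z Z' : Scheme.{u}} {t : Z ⟶ T.left} (γ : GPts f ξ t) (k : Z' ⟶ Z)
    (t' : Z' ⟶ T.left) (hk : k ≫ t = t') :
    toSec f ξ r g a sq (γ.res k t' hk) = (toSec f ξ r g a sq γ).res k t' hk := by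
  apply Sec.ext'
  intro i Z'' x k' hk'
  rw [Sec.res_val, toSec_val, toSec_val]
  refine liftEquiv_symm_congr f ξ r g a sq x (by rw [Category.assoc, hk]) _ _ _ _ ?_
  rw [GPts.res_res, GPts.res_res]
  exact GPts.res_congr γ (by rw [Category.id_comp]) _ _

/-- The local point of `G` attached to a section of the descent datum. -/
noncomputable def locPt {Z : Scheme.{u}} {t : Z ⟶ T.left} (s : Sec (descFam f ξ r g a sq) t)
    {Z' : Scheme.{u}} (n : Z' ⟶ Z) (x : Z' ⟶ T'.left) (h : x ≫ r.left = n ≫ t) :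
    GPts f ξ (n ≫ t) :=
  liftEquiv f ξ r g a sq x (n ≫ t) h (s.val PUnit.unit x n h)

theorem locPt_indep {Z : Scheme.{u}} {t : Z ⟶ T.left} (s : Sec (descFam f ξ r g a sq) t)
    {Z' : Scheme.{u}} (n : Z' ⟶ Z) (x x' : Z' ⟶ T'.left) (h : x ≫ r.left = n ≫ t)
    (h' : x' ≫ r.left = n ≫ t) :
    locPt f ξ r g a sq s n x h = locPt f ξ r g a sq s n x' h' := by
  have h1 := s.compat (i := PUnit.unit) (i' := PUnit.unit) x x' n h h'
  rw [descFam_φ f ξ r g a sq (n ≫ t) x x' h h'] at h1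
  exact (liftEquiv_phi f ξ r g a sq (n ≫ t) x x' h h' (s.val PUnit.unit x n h)).symm.trans
    (congrArg (liftEquiv f ξ r g a sq x' (n ≫ t) h') h1)

theorem locPt_res {Z : Scheme.{u}} {t : Z ⟶ T.left} (s : Sec (descFam f ξ r g a sq) t)
    {Z' Z'' : Scheme.{u}} (m : Z'' ⟶ Z') (n : Z' ⟶ Z) (x : Z' ⟶ T'.left)
    (h : x ≫ r.left = n ≫ t) :
    locPt f ξ r g a sq s (m ≫ n) (m ≫ x) (by rw [Category.assoc, h, Category.assoc]) =
      (locPt f ξ r g a sq s n x h).res m ((m ≫ n) ≫ t) (Category.assoc _ _ _).symm := by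
  have hh : (m ≫ x) ≫ r.left = (m ≫ n) ≫ t := by rw [Category.assoc, h, Category.assoc]
  exact liftEquiv_res f ξ r g a sq m x (n ≫ t) h (s.val PUnit.unit x n h) (m ≫ x) ((m ≫ n) ≫ t)
    hh (Category.assoc _ _ _).symm (s.val PUnit.unit (m ≫ x) (m ≫ n) hh)
    (s.nat PUnit.unit m x n h (m ≫ x) (m ≫ n) hh rfl rfl)

variable [Flat r.left] [LocallyOfFinitePresentation r.left] [Surjective r.left]

theorem coverSieve_mem_fppf {Z : Scheme.{u}} (t : Z ⟶ T.left) :
    coverSieve (fun _ : PUnit.{u + 1} => r.left) t ∈ Scheme.fppfTopology Z := by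
  refine Scheme.fppfTopology.superset_covering ?_ (Precoverage.generate_mem_toGrothendieck
    (pullback.snd r.left t).singleton_mem_fppfPrecoverage)
  rw [Sieve.generate_le_iff]
  rintro Z' n ⟨⟩
  exact ⟨PUnit.unit, pullback.fst r.left t, pullback.condition⟩

theorem toSec_injective {Z : Scheme.{u}} (t : Z ⟶ T.left) :
    Function.Injective (toSec f ξ r g a sq (t := t)) := by
  intro γ γ' h
  refine GPts.ext_of_mem _ (coverSieve_mem_fppf r t) γ γ' ?_
  rintro Z' k ⟨i, x, hx⟩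
  have h1 := congrArg (fun s : Sec (descFam f ξ r g a sq) t => s.val i x k hx) h
  exact (liftEquiv f ξ r g a sq x (k ≫ t) hx).symm.injective h1

theorem toSec_surjective {Z : Scheme.{u}} (t : Z ⟶ T.left) :
    Function.Surjective (toSec f ξ r g a sq (t := t)) := by
  intro s
  let R := coverSieve (fun _ : PUnit.{u + 1} => r.left) t
  let xs : ∀ ⦃Z' : Scheme.{u}⦄ (n : Z' ⟶ Z), R n → GPts f ξ (n ≫ t) := fun Z' n hn =>
    locPt f ξ r g a sq s n hn.choose_spec.choose hn.choose_spec.choose_spec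
  have xs_eq : ∀ ⦃Z' : Scheme.{u}⦄ (n : Z' ⟶ Z) (hn : R n) (x : Z' ⟶ T'.left)
      (h : x ≫ r.left = n ≫ t), xs n hn = locPt f ξ r g a sq s n x h :=
    fun Z' n hn x h => locPt_indep f ξ r g a sq s n _ x _ h
  obtain ⟨γ, hγ⟩ := GPts.exists_glue R (coverSieve_mem_fppf r t) xs (by
    rintro Z' Z'' m n ⟨i, x, hx⟩
    rw [xs_eq n ⟨i, x, hx⟩ x hx,
      xs_eq (m ≫ n) (R.downward_closed ⟨i, x, hx⟩ m) (m ≫ x)
        (by rw [Category.assoc, hx, Category.assoc])]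
    exact locPt_res f ξ r g a sq s m n x hx)
  refine ⟨γ, Sec.ext' ?_⟩
  intro i Z' x k hk
  rw [toSec_val, hγ k ⟨i, x, hk⟩, xs_eq k ⟨i, x, hk⟩ x hk]
  unfold locPt
  rw [Equiv.symm_apply_apply]

/-- The points of `G` over a point of `T` are the sections of the descent datum on `V`. -/
noncomputable def secEquivPts {Z : Scheme.{u}} (t : Z ⟶ T.left) :
    GPts f ξ t ≃ Sec (descFam f ξ r g a sq) t :=
  Equiv.ofBijective (toSec f ξ r g a sq) ⟨toSec_injective f ξ r g a sq t,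
    toSec_surjective f ξ r g a sq t⟩

end Sections

section Main

variable {G F : Sp S} (f : G ⟶ F) (ξ : (yon S).obj T ⟶ F) {T' V : Over S} (r : T' ⟶ T)
  (g : V ⟶ T') (a : (yon S).obj V ⟶ G)
  (sq : IsPullback a ((yon S).map g) f ((yon S).map r ≫ ξ))
  [Flat r.left] [LocallyOfFinitePresentation r.left] [Surjective r.left]
  (W₀ : Over T.left) (e : (toDD r.left).obj W₀ ≅ descDatum f ξ r g a sq)

theorem ofArrows_mem_fpqc :
    Presieve.ofArrows (fun _ : PUnit.{u + 1} => T'.left) (fun _ => r.left) ∈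
      Scheme.fpqcPrecoverage T.left := by
  rw [Presieve.ofArrows_pUnit]
  exact Scheme.fppfPrecoverage_le_fpqcPrecoverage _ r.left.singleton_mem_fppfPrecoverage

/-- The isomorphism of descent data relative to the one-member family. -/
noncomputable def famIso :
    canonicalDDFam (fun _ : PUnit.{u + 1} => r.left) W₀ ≅ descFam f ξ r g a sq :=
  (SchDDFam.ofSchDD r.left).mapIso e

/-- If the descent datum on `V` is effective, the points of the descended scheme are the points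
of `G`. -/
noncomputable def theta {Z : Scheme.{u}} (t : Z ⟶ T.left) : Lifts W₀ t ≃ GPts f ξ t :=
  (canSecEquiv (fun _ : PUnit.{u + 1} => r.left) (ofArrows_mem_fpqc r) W₀ t).trans
    ((secIsoEquiv (famIso f ξ r g a sq W₀ e) t).trans (secEquivPts f ξ r g a sq t).symm)

theorem theta_nat {Z Z' : Scheme.{u}} (k : Z' ⟶ Z) (t : Z ⟶ T.left) (t' : Z' ⟶ T.left)
    (hk : k ≫ t = t') (d : Lifts W₀ t) (d' : Lifts W₀ t') (hd : d'.1 = k ≫ d.1) :
    theta f ξ r g a sq W₀ e t' d' = (theta f ξ r g a sq W₀ e t d).res k t' hk := by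
  apply (secEquivPts f ξ r g a sq t').injective
  have h1 : secEquivPts f ξ r g a sq t' (theta f ξ r g a sq W₀ e t' d') =
      Sec.push (famIso f ξ r g a sq W₀ e).hom
        (canSec (fun _ : PUnit.{u + 1} => r.left) W₀ t' d') := Equiv.apply_symm_apply _ _
  have h2 : secEquivPts f ξ r g a sq t' ((theta f ξ r g a sq W₀ e t d).res k t' hk) =
      (Sec.push (famIso f ξ r g a sq W₀ e).hom
        (canSec (fun _ : PUnit.{u + 1} => r.left) W₀ t d)).res k t' hk := by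
    change toSec f ξ r g a sq _ = _
    rw [toSec_res]
    congr 1
    exact Equiv.apply_symm_apply (secEquivPts f ξ r g a sq t) _
  rw [h1, h2, ← Sec.push_res, canSec_res]
  have hd' : d' = ⟨k ≫ d.1, by rw [Category.assoc, d.2, hk]⟩ := Subtype.ext hd
  rw [hd']

/-- The universal point of `G` over the descended scheme. -/
noncomputable def univPt : GPts f ξ W₀.hom :=
  theta f ξ r g a sq W₀ e W₀.hom ⟨𝟙 _, Category.id_comp _⟩

theorem theta_eq {Z : Scheme.{u}} (t : Z ⟶ T.left) (v : Lifts W₀ t) :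
    theta f ξ r g a sq W₀ e t v = (univPt f ξ r g a sq W₀ e).res v.1 t v.2 :=
  theta_nat f ξ r g a sq W₀ e v.1 W₀.hom t v.2 ⟨𝟙 _, Category.id_comp _⟩ v
    (Category.comp_id _).symm

theorem exists_unique_lift {Z : Scheme.{u}} (s : Z ⟶ S) (t : Z ⟶ T.left) (hs : t ≫ T.hom = s)
    (b : (yon S).obj (Over.mk s) ⟶ G)
    (hb : b ≫ f = (yon S).map (Over.homMk t hs : Over.mk s ⟶ T) ≫ ξ) :
    ∃! d : (yon S).obj (Over.mk s) ⟶ (yon S).obj (ov W₀.hom),
      d ≫ (univPt f ξ r g a sq W₀ e).hom = b ∧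
        d ≫ (yon S).map (ovHom W₀.hom) = (yon S).map (Over.homMk t hs : Over.mk s ⟶ T) := by
  subst hs
  let γ : GPts f ξ t := ⟨b, hb⟩
  let v := (theta f ξ r g a sq W₀ e t).symm γ
  have hv : theta f ξ r g a sq W₀ e t v = γ := Equiv.apply_symm_apply _ _
  refine ⟨(yon S).map (ovMap v.1 W₀.hom t v.2), ⟨?_, ?_⟩, ?_⟩
  · have h1 := congrArg GPts.hom ((theta_eq f ξ r g a sq W₀ e t v).symm.trans hv)
    exact h1
  · rw [← Functor.map_comp, ovMap_ovHom]
  · rintro d ⟨hd1, hd2⟩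
    obtain ⟨d₁, rfl⟩ := (yon S).map_surjective d
    have h2 : d₁ ≫ ovHom W₀.hom = ovHom t := by
      apply (yon S).map_injective
      rw [Functor.map_comp, hd2]
    have h3 : d₁.left ≫ W₀.hom = t := congrArg (fun m => m.left) h2
    let v' : Lifts W₀ t := ⟨d₁.left, h3⟩
    have h4 : ovMap d₁.left W₀.hom t h3 = d₁ := by
      ext
      rfl
    have h5 : theta f ξ r g a sq W₀ e t v' = γ := by
      rw [theta_eq]
      apply GPts.ext'
      rw [GPts.res_hom, h4]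
      exact hd1
    have h6 : v' = v := (theta f ξ r g a sq W₀ e t).injective (h5.trans hv.symm)
    have h7 : d₁.left = v.1 := congrArg Subtype.val h6
    congr 1
    ext
    exact h7

/-- If the descent datum on `V` is effective, the descended scheme represents the base change of
`f` along `ξ`. -/
theorem isPullback_of_iso :
    IsPullback (univPt f ξ r g a sq W₀ e).hom ((yon S).map (ovHom W₀.hom)) f ξ := by
  refine isPullback_of_forall_yon _ _ _ _ (univPt f ξ r g a sq W₀ e).w ?_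
  intro W b c hbc
  obtain ⟨c₀, rfl⟩ := (yon S).map_surjective c
  exact exists_unique_lift f ξ r g a sq W₀ e W.hom c₀.left (Over.w c₀) b hbc

include e in
/-- A property which is fppf local on the target descends to the descended scheme. -/
theorem prop_of_iso (P : MorphismProperty Scheme.{u})
    [P.IsLocalAtTarget Scheme.fppfPrecoverage] (hP : P g.left) : P W₀.hom := by
  refine MorphismProperty.IsLocalAtTarget.of_forall_pullbackSnd (K := Scheme.fppfPrecoverage)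
    r.left.singleton_mem_fppfPrecoverage ?_
  rintro U' g' _ ⟨⟩
  have h0 := isIso_hom_left (famIso f ξ r g a sq W₀ e) PUnit.unit
  have h1 : ((famIso f ξ r g a sq W₀ e).hom.hom PUnit.unit).left ≫ g.left =
      pullback.fst r.left W₀.hom := Over.w ((famIso f ξ r g a sq W₀ e).hom.hom PUnit.unit)
  rw [← pullbackSymmetry_hom_comp_fst, ← h1]
  exact (P.cancel_left_of_respectsIso _ _).2 ((P.cancel_left_of_respectsIso _ _).2 hP)

end Main

end Groth.Agent.Lib.Helper51.ChartDescent
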