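import Groth.Agent.Lib.Helper51.QuotSpFppf
import Groth.Agent.H52.QC

/-!
# Descent of open immersions along an epimorphism from a scheme (helper51)

A monomorphism `φ : F' ⟶ F` of fppf sheaves whose base change along an epimorphism
`π : h_U ⟶ F` from a scheme is (the inclusion of) an open subscheme `W ⊆ U` is representable by
open immersions.
-/

set_option autoImplicit false
universe u
open CategoryTheory CategoryTheory.Limits Opposite AlgebraicGeometry AlgSp

namespace Groth.Agent.Lib.Helper51

variable {S : Scheme.{u}}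

/-- A sieve containing a jointly surjective family of flat, locally finitely presented morphisms
is a covering sieve of the fppf topology over `S`. -/
lemma mem_J_of_fppf_family {U : Over S} {ι : Type*} (E : ι → Over S) (c : ∀ i, E i ⟶ U)
    (hflat : ∀ i, Flat (c i).left) (hlfp : ∀ i, LocallyOfFinitePresentation (c i).left)
    (hsurj : ∀ x : ↥U.left, ∃ i, x ∈ Set.range (c i).left) (R : Sieve U) (hR : ∀ i, R (c i)) :
    R ∈ AlgSp.J S U := by
  rw [AlgSp.J_eq, GrothendieckTopology.mem_over_iff]
  have hmem : Presieve.ofArrows (fun i => (E i).left) (fun i => (c i).left) ∈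
      Scheme.fppfPrecoverage U.left := by
    change _ ∈ Scheme.precoverage (@Flat ⊓ @LocallyOfFinitePresentation) U.left
    rw [Scheme.ofArrows_mem_precoverage_iff]
    exact ⟨hsurj, fun i => ⟨hflat i, hlfp i⟩⟩
  refine Scheme.fppfTopology.superset_covering ?_ (Precoverage.generate_mem_toGrothendieck hmem)
  rintro W g ⟨Z, k, q, ⟨i⟩, rfl⟩
  rw [Sieve.overEquiv_iff]
  have : (Over.homMk (k ≫ (c i).left) : Over.mk ((k ≫ (c i).left) ≫ U.hom) ⟶ U) =
      (Over.homMk k (by simp) : Over.mk ((k ≫ (c i).left) ≫ U.hom) ⟶ E i) ≫ c i := by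
    ext; simp
  rw [this]
  exact R.downward_closed (hR i) _

variable {F' F : Sp S} (φ : F' ⟶ F)

/-- The sieve of morphisms along which `x` factors through `φ`. -/
def factorSieve {T : Over S} (x : (yon S).obj T ⟶ F) : Sieve T where
  arrows Y k := ∃ η : (yon S).obj Y ⟶ F', η ≫ φ = (yon S).map k ≫ x
  downward_closed := by
    rintro Y Z k ⟨η, hη⟩ m
    exact ⟨(yon S).map m ≫ η, by rw [Category.assoc, hη, Functor.map_comp, Category.assoc]⟩

/-- A section which locally factors through a monomorphism of sheaves factors through it. -/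
theorem exists_factor_of_factorSieve_mem [Mono φ] {T : Over S} (x : (yon S).obj T ⟶ F)
    (h : factorSieve φ x ∈ J S T) : ∃ η : (yon S).obj T ⟶ F', η ≫ φ = x := by
  have hm : Mono (pullback.snd φ x) := inferInstance
  have he : Epi (pullback.snd φ x) := by
    apply epi_of_forall_local_lift
    intro Y z
    obtain ⟨z', rfl⟩ := (yon S).map_surjective z
    refine ⟨(factorSieve φ x).pullback z', (J S).pullback_stable z' h, fun Z k hk => ?_⟩
    obtain ⟨η, hη⟩ := hk
    refine ⟨pullback.lift η ((yon S).map (k ≫ z')) hη, ?_⟩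
    rw [pullback.lift_snd, Functor.map_comp]
  have hiso : IsIso (pullback.snd φ x) := isIso_of_mono_of_epi_sp _
  refine ⟨inv (pullback.snd φ x) ≫ pullback.fst φ x, ?_⟩
  rw [Category.assoc, pullback.condition, IsIso.inv_hom_id_assoc]

/-- The locus of points of `T` around which `ξ` factors through `φ` locally for the fppf
topology. -/
def factorLocus {T : Over S} (ξ : (yon S).obj T ⟶ F) : Set ↥T.left :=
  {x | ∃ (E : Over S) (c : E ⟶ T) (η : (yon S).obj E ⟶ F'), Flat c.left ∧
    LocallyOfFinitePresentation c.left ∧ x ∈ Set.range c.left ∧ η ≫ φ = (yon S).map c ≫ ξ}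

theorem isOpen_factorLocus {T : Over S} (ξ : (yon S).obj T ⟶ F) : IsOpen (factorLocus φ ξ) := by
  rw [isOpen_iff_forall_mem_open]
  rintro x ⟨E, c, η, hfl, hfp, hx, hη⟩
  have hopen : UniversallyOpen c.left := inferInstance
  refine ⟨Set.range c.left, ?_, c.left.isOpenMap.isOpen_range, hx⟩
  rintro y hy
  exact ⟨E, c, η, hfl, hfp, hy, hη⟩

/-- A morphism into the factor locus factors through `φ`. -/
theorem exists_factor_of_range_subset_factorLocus [Mono φ] {T T' : Over S}
    (ξ : (yon S).obj T ⟶ F) (f : T' ⟶ T) (h : Set.range f.left ⊆ factorLocus φ ξ) :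
    ∃ η : (yon S).obj T' ⟶ F', η ≫ φ = (yon S).map f ≫ ξ := by
  apply exists_factor_of_factorSieve_mem
  have key : ∀ x' : ↥T'.left, ∃ (E : Over S) (c : E ⟶ T) (η : (yon S).obj E ⟶ F'), Flat c.left ∧
      LocallyOfFinitePresentation c.left ∧ f.left x' ∈ Set.range c.left ∧
      η ≫ φ = (yon S).map c ≫ ξ := fun x' => h ⟨x', rfl⟩
  choose E c η hfl hfp hx hη using key
  have sql := fun x' => (IsPullback.of_hasPullback f (c x')).map (Over.forget S)
  refine mem_J_of_fppf_family (fun x' => pullback f (c x')) (fun x' => pullback.fst f (c x'))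
    (fun x' => ?_) (fun x' => ?_) (fun x' => ?_) _ (fun x' => ?_)
  · exact MorphismProperty.of_isPullback (P := @Flat) (sql x').flip (hfl x')
  · exact MorphismProperty.of_isPullback (P := @LocallyOfFinitePresentation) (sql x').flip (hfp x')
  · obtain ⟨e, he⟩ := hx x'
    obtain ⟨e₀, he₀, -⟩ := Scheme.exists_preimage_of_isPullback (sql x') x' e he.symm
    exact ⟨x', e₀, he₀⟩
  · refine ⟨(yon S).map (pullback.snd f (c x')) ≫ η x', ?_⟩
    rw [Category.assoc, hη, ← Category.assoc, ← Category.assoc, ← Functor.map_comp,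
      ← Functor.map_comp, pullback.condition]

/-- If the base change of `φ` along an epimorphism `π : h_U ⟶ F` is an open subscheme `W` of `U`,
then every point of a scheme over which `ξ` factors through `φ` lies in the factor locus. -/
theorem range_subset_factorLocus_of_isPullback {U : Over S} (π : (yon S).obj U ⟶ F) [Epi π]
    (W : U.left.Opens) (ηW : (yon S).obj (H52.overOpen U W) ⟶ F')
    (sq : IsPullback ηW ((yon S).map (H52.overOpenι U W)) φ π)
    {T T' : Over S} (ξ : (yon S).obj T ⟶ F) (f : T' ⟶ T) (η : (yon S).obj T' ⟶ F')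
    (hη : η ≫ φ = (yon S).map f ≫ ξ) : Set.range f.left ⊆ factorLocus φ ξ := by
  rintro _ ⟨x', rfl⟩
  obtain ⟨Sv, hSv, hl⟩ := exists_cover_lift_of_epi π ξ
  obtain ⟨E, c, hc, ⟨e, he⟩, hfl, hfp⟩ := exists_fppf_mem_of_mem_J hSv (f.left x')
  obtain ⟨a₀, ha₀⟩ := hl c hc
  obtain ⟨a, rfl⟩ := (yon S).map_surjective a₀
  -- the point `a e` lies in `W`
  have sql := (IsPullback.of_hasPullback f c).map (Over.forget S)
  obtain ⟨e'', he''1, he''2⟩ := Scheme.exists_preimage_of_isPullback sql x' e he.symm
  have hcomm : ((yon S).map (pullback.fst f c) ≫ η) ≫ φ =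
      (yon S).map (pullback.snd f c ≫ a) ≫ π := by
    rw [Category.assoc, hη, Functor.map_comp, Category.assoc, ha₀, ← Category.assoc,
      ← Category.assoc, ← Functor.map_comp, ← Functor.map_comp, pullback.condition]
  obtain ⟨l', hl'⟩ := (yon S).map_surjective (sq.lift _ _ hcomm)
  have hl'2 : l' ≫ H52.overOpenι U W = pullback.snd f c ≫ a := by
    apply (yon S).map_injective
    rw [Functor.map_comp, hl', sq.lift_snd]
  have haeW : a.left e ∈ Set.range (H52.overOpenι U W).left := by
    refine ⟨l'.left e'', ?_⟩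
    have h1 : l'.left ≫ (H52.overOpenι U W).left = (pullback.snd f c).left ≫ a.left := by
      rw [← Over.comp_left, hl'2, Over.comp_left]
    have h2 := congrArg (fun m : (pullback f c).left ⟶ U.left => m e'') h1
    simp only [Scheme.Hom.comp_apply] at h2
    rw [h2]
    exact congrArg a.left he''2
  -- restrict to the preimage of `W`
  have sqW := (IsPullback.of_hasPullback a (H52.overOpenι U W)).map (Over.forget S)
  obtain ⟨w, hw⟩ := haeW
  obtain ⟨eW, heW1, -⟩ := Scheme.exists_preimage_of_isPullback sqW e w hw.symm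
  have hoi : IsOpenImmersion (H52.overOpenι U W).left := by
    change IsOpenImmersion W.ι
    infer_instance
  have hp1 : IsOpenImmersion (pullback.fst a (H52.overOpenι U W)).left :=
    MorphismProperty.of_isPullback (P := @IsOpenImmersion) sqW.flip hoi
  refine ⟨pullback a (H52.overOpenι U W), pullback.fst a (H52.overOpenι U W) ≫ c,
    (yon S).map (pullback.snd a (H52.overOpenι U W)) ≫ ηW, ?_, ?_, ⟨eW, ?_⟩, ?_⟩
  · change Flat ((pullback.fst a (H52.overOpenι U W)).left ≫ c.left)
    infer_instance
  · change LocallyOfFinitePresentation ((pullback.fst a (H52.overOpenι U W)).left ≫ c.left)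
    infer_instance
  · change ((pullback.fst a (H52.overOpenι U W)).left ≫ c.left) eW = _
    rw [Scheme.Hom.comp_apply]
    erw [heW1]
    exact he
  · rw [Category.assoc, sq.w, ← Category.assoc, ← Functor.map_comp, ← pullback.condition,
      Functor.map_comp, Category.assoc, ha₀, Functor.map_comp, Category.assoc]

/-- Descent of open immersions: a monomorphism `φ : F' ⟶ F` of fppf sheaves whose base change
along an epimorphism `π : h_U ⟶ F` from a scheme is an open subscheme `W ⊆ U` is representable
by open immersions. -/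
theorem repWith_isOpenImmersion_of_isPullback_epi [Mono φ] {U : Over S}
    (π : (yon S).obj U ⟶ F) [Epi π]
    (W : U.left.Opens) (ηW : (yon S).obj (H52.overOpen U W) ⟶ F')
    (sq : IsPullback ηW ((yon S).map (H52.overOpenι U W)) φ π) :
    RepWith @IsOpenImmersion φ := by
  apply MorphismProperty.relative.of_exists
  intro T ξ
  let T₀ : T.left.Opens := ⟨factorLocus φ ξ, isOpen_factorLocus φ ξ⟩
  have hrange : Set.range (H52.overOpenι T T₀).left ⊆ factorLocus φ ξ := by
    change Set.range T₀.ι ⊆ _
    rw [Scheme.Opens.range_ι]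
    exact subset_rfl
  obtain ⟨η₀, hη₀⟩ := exists_factor_of_range_subset_factorLocus φ ξ (H52.overOpenι T T₀) hrange
  have hmono : Mono (H52.overOpenι T T₀) := by
    have : Mono (H52.overOpenι T T₀).left := by
      change Mono T₀.ι
      infer_instance
    exact Over.mono_of_mono_left _
  refine ⟨H52.overOpen T T₀, η₀, H52.overOpenι T T₀, ?_, ?_⟩
  · refine Groth.Agent.Lib.Helper54.isPullback_of_forall_yon _ _ _ _ hη₀ ?_ ?_
    · intro Y a a' _ h2
      obtain ⟨a₁, rfl⟩ := (yon S).map_surjective a
      obtain ⟨a₂, rfl⟩ := (yon S).map_surjective a'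
      rw [← Functor.map_comp, ← Functor.map_comp] at h2
      have h3 := (yon S).map_injective h2
      rw [cancel_mono] at h3
      rw [h3]
    · intro Y b c hbc
      obtain ⟨c', rfl⟩ := (yon S).map_surjective c
      have hsub := range_subset_factorLocus_of_isPullback φ π W ηW sq ξ c' b hbc
      have hsub' : Set.range c'.left ⊆ Set.range T₀.ι := by
        rw [Scheme.Opens.range_ι]
        exact hsub
      have hfac : IsOpenImmersion.lift T₀.ι c'.left hsub' ≫ T₀.ι = c'.left :=
        IsOpenImmersion.lift_fac _ _ _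
      let a' : Y ⟶ H52.overOpen T T₀ := Over.homMk (IsOpenImmersion.lift T₀.ι c'.left hsub') (by
        change _ ≫ T₀.ι ≫ T.hom = Y.hom
        rw [← Category.assoc, hfac, Over.w])
      have ha' : a' ≫ H52.overOpenι T T₀ = c' := by
        ext1
        exact hfac
      refine ⟨(yon S).map a', ?_, ?_⟩
      · rw [← cancel_mono φ, Category.assoc, hη₀, ← Category.assoc, ← Functor.map_comp, ha', hbc]
      · rw [← Functor.map_comp, ha']
  · change IsOpenImmersion T₀.ι
    infer_instance

end Groth.Agent.Lib.Helper51
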