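import Groth.Agent.Lib.Helper51.QuotSpKernel
import Groth.Agent.H52.LocPCalc2
import Groth.Agent.H52.LocPCalc4
import Groth.Agent.H52.LocPInst
import Groth.Agent.H52.FibreProd
import Groth.Agent.Lib.Helper54.FpqcCover
import Groth.Agent.Lib.Helper54.OpenSubspace

/-!
# The quotient map `U ⟶ U/R` inherits fpqc-local properties of `s` (helper51)

If `s, t : R ⟶ U` is an equivalence relation of algebraic spaces whose quotient sheaf `U/R` is an
algebraic space, and `P` is a property which is etale local on source and target and fpqc local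
on the base, then `LocP P s` implies `LocP P (U ⟶ U/R)`.
-/

set_option autoImplicit false
universe u
open CategoryTheory CategoryTheory.Limits Opposite AlgebraicGeometry AlgSp

namespace Groth.Agent.Lib.Helper51

variable {S : Scheme.{u}}

set_option backward.isDefEq.respectTransparency.types false in
/-- A covering sieve for the fppf topology over `S` contains, around every point, a flat morphism
locally of finite presentation. -/
theorem exists_fppf_mem_of_mem_J {T : Over S} {R : Sieve T} (hR : R ∈ AlgSp.J S T) (x : ↥T.left) :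
    ∃ (V : Over S) (f : V ⟶ T), R f ∧ x ∈ Set.range f.left ∧ Flat f.left ∧
      LocallyOfFinitePresentation f.left := by
  rw [GrothendieckTopology.mem_over_iff] at hR
  have := Groth.Agent.Lib.Helper54.isMultiplicative_flat_inf_lfp.{u}
  obtain ⟨𝒰, h𝒰⟩ := Scheme.mem_grothendieckTopology_iff.1 hR
  obtain ⟨v, hv⟩ := 𝒰.covers x
  have hmem : (Sieve.overEquiv T R) (𝒰.f (𝒰.idx x)) := h𝒰 _ _ (Presieve.ofArrows.mk _)
  rw [Sieve.overEquiv_iff] at hmem
  have hp := 𝒰.map_prop (𝒰.idx x)
  exact ⟨_, _, hmem, ⟨v, hv⟩, hp.1, hp.2⟩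

/-- A family of flat, locally finitely presented, jointly surjective morphisms of schemes over `S`
gives an fpqc covering of the represented sheaf. -/
theorem isFpqcCover_yon_of_fppf_family {V : Over S} {ι : Type u} (E : ι → Over S)
    (c : ∀ i, E i ⟶ V) (hflat : ∀ i, Flat (c i).left)
    (hlfp : ∀ i, LocallyOfFinitePresentation (c i).left)
    (hsurj : ∀ x : ↥V.left, ∃ i, x ∈ Set.range (c i).left) :
    IsFpqcCover (fun i => (yon S).obj (E i)) (fun i => (yon S).map (c i)) := by
  refine ⟨fun i => ?_, fun Z hZ h => ?_⟩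
  · exact H52.isEtLocal_flat.locP_of_repWith' _ ((repWith_yon_map_iff _ _).2 (hflat i))
  · obtain ⟨h', rfl⟩ := (yon S).map_surjective h
    have sql := fun i => (IsPullback.of_hasPullback (c i) h').map (Over.forget S)
    have : CompactSpace ↥Z.left := inferInstance
    refine Groth.Agent.Lib.Helper54.fpqcRefines_of_open_family _ Z _ (fun i => pullback (c i) h')
      (fun i => pullback.snd (c i) h') (fun i => ?_) (fun i => ?_) (fun z => ?_) (fun i => ?_)
    · exact MorphismProperty.of_isPullback (P := @Flat) (sql i) (hflat i)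
    · have := hflat i
      have := hlfp i
      have h1 : UniversallyOpen (c i).left := inferInstance
      have h2 : UniversallyOpen (pullback.snd (c i) h').left :=
        MorphismProperty.of_isPullback (P := @UniversallyOpen) (sql i) h1
      exact h2.universally_isOpenMap _ _ _ IsPullback.of_id_snd
    · obtain ⟨i, w, hw⟩ := hsurj (h'.left z)
      obtain ⟨e₀, -, he₀⟩ := Scheme.exists_preimage_of_isPullback (sql i) w z hw
      exact ⟨i, e₀, he₀⟩
    · refine ⟨i, (yon S).map (pullback.fst (c i) h'), ?_⟩
      rw [← Functor.map_comp, ← Functor.map_comp, pullback.condition]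

variable {R U : Sp S} (s t : R ⟶ U)

/-- If `U/R` is an algebraic space for an equivalence relation `s, t : R ⟶ U` of algebraic spaces
and `P` is etale local on source and target and fpqc local on the base, then `LocP P s` implies
`LocP P (U ⟶ U/R)`. -/
theorem locP_quotSpπ_of_isEqvRelSp {P : MorphismProperty Scheme.{u}} (hP : H52.IsEtLocal P)
    (hloc : IsLocalOnBase (IsFpqcCover (S := S)) (LocP P))
    (hR : IsAlgSpace R) (hU : IsAlgSpace U) (hj : IsEqvRelSp s t)
    (hs : LocP P s) (hF : IsAlgSpace (quotSp s t)) : LocP P (quotSpπ s t) := by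
  have K := isPullback_quotSpπ_of_isEqvRelSp s t hj
  have hepi : Epi (quotSpπ s t) := coequalizer.π_epi
  obtain ⟨V, v, hve, hvs⟩ := hF.atlas
  have sqW := IsPullback.of_hasPullback (quotSpπ s t) v
  have hW : IsAlgSpace (pullback (quotSpπ s t) v) :=
    H52.isAlgSpace_of_isPullback sqW hU hF (IsAlgSpace.yon_obj V)
  refine hP.locP_of_target_cover hU hF (quotSpπ s t) V v hve hvs _ _ sqW ?_
  -- an fppf covering of `V` over which `v` lifts to `U`
  obtain ⟨Sv, hSv, hl⟩ := exists_cover_lift_of_epi (quotSpπ s t) v
  have key : ∀ x : ↥V.left, ∃ (E : Over S) (c : E ⟶ V) (l : (yon S).obj E ⟶ U),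
      x ∈ Set.range c.left ∧ Flat c.left ∧ LocallyOfFinitePresentation c.left ∧
      l ≫ quotSpπ s t = (yon S).map c ≫ v := by
    intro x
    obtain ⟨E, c, hc, hx, h1, h2⟩ := exists_fppf_mem_of_mem_J hSv x
    obtain ⟨l, hl'⟩ := hl c hc
    exact ⟨E, c, l, hx, h1, h2, hl'⟩
  choose E c l hx hflat hlfp hlc using key
  have hcov : IsFpqcCover (fun x => (yon S).obj (E x)) (fun x => (yon S).map (c x)) :=
    isFpqcCover_yon_of_fppf_family E c hflat hlfp (fun x => ⟨x, hx x⟩)
  -- the base changes
  have sqL := fun x => IsPullback.of_hasPullback s (l x)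
  have hXi : ∀ x, IsAlgSpace (pullback s (l x)) := fun x =>
    H52.isAlgSpace_of_isPullback (sqL x) hR hU (IsAlgSpace.yon_obj (E x))
  have hcomm : ∀ x, (pullback.fst s (l x) ≫ t) ≫ quotSpπ s t =
      (pullback.snd s (l x) ≫ (yon S).map (c x)) ≫ v := by
    intro x
    rw [Category.assoc, K.w, ← Category.assoc, pullback.condition, Category.assoc, hlc,
      Category.assoc]
  have sq : ∀ x, IsPullback (sqW.lift _ _ (hcomm x)) (pullback.snd s (l x))
      (pullback.snd (quotSpπ s t) v) ((yon S).map (c x)) := by
    intro x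
    refine IsPullback.of_right ?_ (sqW.lift_snd _ _ _) sqW
    rw [sqW.lift_fst, ← hlc]
    exact (sqL x).paste_horiz K
  refine (hloc (fun x => (yon S).obj (E x)) (fun x => (yon S).map (c x)) (IsAlgSpace.yon_obj V)
    (fun x => IsAlgSpace.yon_obj (E x)) hcov (pullback.snd (quotSpπ s t) v) hW
    (fun x => pullback s (l x)) (fun x => pullback.snd s (l x))
    (fun x => sqW.lift _ _ (hcomm x)) hXi sq).2 fun x => ?_
  exact hP.locP_of_isPullback hR hU (IsAlgSpace.yon_obj (E x)) (sqL x) hs

end Groth.Agent.Lib.Helper51
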