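import Groth.Agent.Lib.Helper51.OpenImmDescent

/-!
# Gluing morphisms of fppf sheaves along a jointly locally surjective pair (helper51)

For `j : U ⟶ W` and `f : V ⟶ W` of fppf sheaves such that every `h_T`-point of `W` lifts locally
to `U` or to `V`, a pair of morphisms `a : U ⟶ X`, `b : V ⟶ X` which agree on all coincidences
descends uniquely to `W`.  As a consequence a cartesian square with this property is cocartesian
as soon as `j` is a monomorphism and two points of `V` with the same image in `W` are, locally,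
equal or in the image of `U`.
-/

set_option autoImplicit false
universe u
open CategoryTheory CategoryTheory.Limits Opposite AlgebraicGeometry AlgSp

namespace Groth.Agent.Lib.Helper51

variable {S : Scheme.{u}}

/-- Two `h_T`-points of a sheaf which agree on a covering sieve are equal. -/
theorem yon_hom_ext_of_mem_J {X : Sp S} {T : Over S} {Sv : Sieve T} (hSv : Sv ∈ J S T)
    {ξ₁ ξ₂ : (yon S).obj T ⟶ X}
    (h : ∀ ⦃Y : Over S⦄ (k : Y ⟶ T), Sv k → (yon S).map k ≫ ξ₁ = (yon S).map k ≫ ξ₂) :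
    ξ₁ = ξ₂ := by
  apply yonEquiv.injective
  have hX : Presieve.IsSheaf (J S) X.obj := (isSheaf_iff_isSheaf_of_type _ _).1 X.property
  refine (hX _ hSv).isSeparatedFor.ext fun Y k hk => ?_
  rw [yonEquiv_naturality, yonEquiv_naturality, h k hk]

/-- A compatible family of points of a sheaf on a covering sieve glues. -/
theorem exists_yon_glue {X : Sp S} {T : Over S} {Sv : Sieve T} (hSv : Sv ∈ J S T)
    (x : ∀ ⦃Y : Over S⦄ (k : Y ⟶ T), Sv k → ((yon S).obj Y ⟶ X))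
    (hx : ∀ ⦃Y Z : Over S⦄ (k : Y ⟶ T) (hk : Sv k) (m : Z ⟶ Y),
      (yon S).map m ≫ x k hk = x (m ≫ k) (Sv.downward_closed hk m)) :
    ∃ ξ : (yon S).obj T ⟶ X, ∀ ⦃Y : Over S⦄ (k : Y ⟶ T) (hk : Sv k),
      (yon S).map k ≫ ξ = x k hk := by
  have hX : Presieve.IsSheaf (J S) X.obj := (isSheaf_iff_isSheaf_of_type _ _).1 X.property
  let fam : Presieve.FamilyOfElements X.obj Sv.arrows := fun Y k hk => yonEquiv (x k hk)
  have hfam : fam.Compatible := by
    rw [Presieve.compatible_iff_sieveCompatible]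
    intro Y Z k m hk
    change yonEquiv (x (m ≫ k) _) = X.obj.map m.op (yonEquiv (x k hk))
    rw [yonEquiv_naturality, hx]
  obtain ⟨s, hs, -⟩ := hX _ hSv fam hfam
  refine ⟨yonEquiv.symm s, fun Y k hk => ?_⟩
  apply yonEquiv.injective
  rw [← yonEquiv_naturality, Equiv.apply_symm_apply]
  exact hs k hk

/-- A natural family of maps on `h_T`-points defines a morphism of sheaves. -/
noncomputable def homOfYon {W X : Sp S}
    (G : ∀ ⦃T : Over S⦄, ((yon S).obj T ⟶ W) → ((yon S).obj T ⟶ X))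
    (hG : ∀ ⦃T T' : Over S⦄ (h : T' ⟶ T) (w : (yon S).obj T ⟶ W),
      G ((yon S).map h ≫ w) = (yon S).map h ≫ G w) : W ⟶ X :=
  ObjectProperty.homMk
    { app := fun T => TypeCat.ofHom fun s => (yonEquiv (T := T.unop)) (G (yonEquiv.symm s))
      naturality := by
        intro T T' h
        ext s
        change (yonEquiv (T := T'.unop)) (G (yonEquiv.symm (W.obj.map h s))) =
          X.obj.map h ((yonEquiv (T := T.unop)) (G (yonEquiv.symm s)))
        have h1 : yonEquiv.symm (W.obj.map h s) =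
            (yon S).map h.unop ≫ (yonEquiv (T := T.unop)).symm s := by
          apply yonEquiv.injective
          rw [Equiv.apply_symm_apply, ← yonEquiv_naturality, Equiv.apply_symm_apply]
          rfl
        rw [h1, hG]
        exact (yonEquiv_naturality _ h.unop).symm }

theorem comp_homOfYon {W X : Sp S}
    (G : ∀ ⦃T : Over S⦄, ((yon S).obj T ⟶ W) → ((yon S).obj T ⟶ X))
    (hG : ∀ ⦃T T' : Over S⦄ (h : T' ⟶ T) (w : (yon S).obj T ⟶ W),
      G ((yon S).map h ≫ w) = (yon S).map h ≫ G w) {T : Over S} (w : (yon S).obj T ⟶ W) :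
    w ≫ homOfYon G hG = G w := by
  apply yonEquiv.injective
  rw [yonEquiv_comp]
  change yonEquiv (G (yonEquiv.symm (yonEquiv w))) = _
  rw [Equiv.symm_apply_apply]

section Pair

variable {U V W : Sp S} (j : U ⟶ W) (f : V ⟶ W)

/-- The sieve of morphisms along which a point of `W` lifts to `U` or to `V`. -/
def liftSieve {T : Over S} (w : (yon S).obj T ⟶ W) : Sieve T where
  arrows Y k := (∃ u : (yon S).obj Y ⟶ U, u ≫ j = (yon S).map k ≫ w) ∨
    (∃ v : (yon S).obj Y ⟶ V, v ≫ f = (yon S).map k ≫ w)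
  downward_closed := by
    rintro Y Z k (⟨u, hu⟩ | ⟨v, hv⟩) m
    · exact Or.inl ⟨(yon S).map m ≫ u, by
        rw [Category.assoc, hu, Functor.map_comp, Category.assoc]⟩
    · exact Or.inr ⟨(yon S).map m ≫ v, by
        rw [Category.assoc, hv, Functor.map_comp, Category.assoc]⟩

/-- The sieve of morphisms along which two points of `V` become equal or their image in `W`
lifts to `U`. -/
def eqOrLiftSieve {T : Over S} (v₁ v₂ : (yon S).obj T ⟶ V) : Sieve T where
  arrows Y k := (yon S).map k ≫ v₁ = (yon S).map k ≫ v₂ ∨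
    (∃ u : (yon S).obj Y ⟶ U, u ≫ j = (yon S).map k ≫ v₁ ≫ f)
  downward_closed := by
    rintro Y Z k (h | ⟨u, hu⟩) m
    · exact Or.inl (by rw [Functor.map_comp, Category.assoc, h, Category.assoc])
    · exact Or.inr ⟨(yon S).map m ≫ u, by
        rw [Category.assoc, hu, Functor.map_comp, Category.assoc]⟩

/-- If every point of `W` lifts locally to `U` or `V`, then `j` and `f` are jointly
epimorphic. -/
theorem hom_ext_of_liftSieve_mem
    (hcov : ∀ ⦃T : Over S⦄ (w : (yon S).obj T ⟶ W), liftSieve j f w ∈ J S T)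
    {X : Sp S} {g g' : W ⟶ X} (h1 : j ≫ g = j ≫ g') (h2 : f ≫ g = f ≫ g') : g = g' := by
  apply H52.sp_hom_ext
  intro T w
  refine yon_hom_ext_of_mem_J (hcov w) ?_
  rintro Y k (⟨u, hu⟩ | ⟨v, hv⟩)
  · rw [← Category.assoc, ← Category.assoc, ← hu, Category.assoc, Category.assoc, h1]
  · rw [← Category.assoc, ← Category.assoc, ← hv, Category.assoc, Category.assoc, h2]

/-- Descent of a pair of morphisms along a jointly locally surjective pair. -/
theorem exists_desc_of_liftSieve_mem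
    (hcov : ∀ ⦃T : Over S⦄ (w : (yon S).obj T ⟶ W), liftSieve j f w ∈ J S T)
    {X : Sp S} (a : U ⟶ X) (b : V ⟶ X)
    (hUU : ∀ ⦃T : Over S⦄ (u₁ u₂ : (yon S).obj T ⟶ U), u₁ ≫ j = u₂ ≫ j → u₁ ≫ a = u₂ ≫ a)
    (hUV : ∀ ⦃T : Over S⦄ (u : (yon S).obj T ⟶ U) (v : (yon S).obj T ⟶ V),
      u ≫ j = v ≫ f → u ≫ a = v ≫ b)
    (hVV : ∀ ⦃T : Over S⦄ (v₁ v₂ : (yon S).obj T ⟶ V), v₁ ≫ f = v₂ ≫ f → v₁ ≫ b = v₂ ≫ b) :
    ∃ g : W ⟶ X, j ≫ g = a ∧ f ≫ g = b := by
  -- the relation "x is the value at w' forced by a and b"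
  let Good : ∀ ⦃Y : Over S⦄, ((yon S).obj Y ⟶ W) → ((yon S).obj Y ⟶ X) → Prop :=
    fun Y w' x => (∃ u : (yon S).obj Y ⟶ U, u ≫ j = w' ∧ u ≫ a = x) ∨
      (∃ v : (yon S).obj Y ⟶ V, v ≫ f = w' ∧ v ≫ b = x)
  have WD : ∀ ⦃Y : Over S⦄ (w' : (yon S).obj Y ⟶ W) (x₁ x₂ : (yon S).obj Y ⟶ X),
      Good w' x₁ → Good w' x₂ → x₁ = x₂ := by
    rintro Y w' x₁ x₂ (⟨u₁, h1, rfl⟩ | ⟨v₁, h1, rfl⟩) (⟨u₂, h2, rfl⟩ | ⟨v₂, h2, rfl⟩)
    · exact hUU u₁ u₂ (h1.trans h2.symm)
    · exact hUV u₁ v₂ (h1.trans h2.symm)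
    · exact (hUV u₂ v₁ (h2.trans h1.symm)).symm
    · exact hVV v₁ v₂ (h1.trans h2.symm)
  have Res : ∀ ⦃Y Z : Over S⦄ (m : Z ⟶ Y) (w' : (yon S).obj Y ⟶ W) (x : (yon S).obj Y ⟶ X),
      Good w' x → Good ((yon S).map m ≫ w') ((yon S).map m ≫ x) := by
    rintro Y Z m w' x (⟨u, h1, rfl⟩ | ⟨v, h1, rfl⟩)
    · exact Or.inl ⟨(yon S).map m ≫ u, by rw [Category.assoc, h1], by rw [Category.assoc]⟩
    · exact Or.inr ⟨(yon S).map m ≫ v, by rw [Category.assoc, h1], by rw [Category.assoc]⟩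
  let LocGood : ∀ ⦃T : Over S⦄, ((yon S).obj T ⟶ W) → ((yon S).obj T ⟶ X) → Prop :=
    fun T w ξ => ∀ ⦃Y : Over S⦄ (k : Y ⟶ T), liftSieve j f w k →
      Good ((yon S).map k ≫ w) ((yon S).map k ≫ ξ)
  have hex : ∀ ⦃T : Over S⦄ (w : (yon S).obj T ⟶ W), ∃ ξ, LocGood w ξ := by
    intro T w
    have hloc : ∀ ⦃Y : Over S⦄ (k : Y ⟶ T), liftSieve j f w k →
        ∃ x, Good ((yon S).map k ≫ w) x := by
      rintro Y k (⟨u, hu⟩ | ⟨v, hv⟩)
      · exact ⟨u ≫ a, Or.inl ⟨u, hu, rfl⟩⟩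
      · exact ⟨v ≫ b, Or.inr ⟨v, hv, rfl⟩⟩
    obtain ⟨ξ, hξ⟩ := exists_yon_glue (X := X) (hcov w)
      (fun Y k hk => (hloc k hk).choose) (by
        intro Y Z k hk m
        refine WD ((yon S).map (m ≫ k) ≫ w) _ _ ?_
          (hloc (m ≫ k) ((liftSieve j f w).downward_closed hk m)).choose_spec
        rw [Functor.map_comp, Category.assoc]
        exact Res m _ _ (hloc k hk).choose_spec)
    refine ⟨ξ, fun Y k hk => ?_⟩
    rw [hξ k hk]
    exact (hloc k hk).choose_spec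
  have huniq : ∀ ⦃T : Over S⦄ (w : (yon S).obj T ⟶ W) (ξ₁ ξ₂ : (yon S).obj T ⟶ X),
      LocGood w ξ₁ → LocGood w ξ₂ → ξ₁ = ξ₂ := by
    intro T w ξ₁ ξ₂ h1 h2
    exact yon_hom_ext_of_mem_J (hcov w) fun Y k hk => WD _ _ _ (h1 k hk) (h2 k hk)
  have hnat : ∀ ⦃T T' : Over S⦄ (h : T' ⟶ T) (w : (yon S).obj T ⟶ W) (ξ : (yon S).obj T ⟶ X),
      LocGood w ξ → LocGood ((yon S).map h ≫ w) ((yon S).map h ≫ ξ) := by
    intro T T' h w ξ hξ Y k hk
    have hk' : liftSieve j f w (k ≫ h) := by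
      rcases hk with ⟨u, hu⟩ | ⟨v, hv⟩
      · exact Or.inl ⟨u, by rw [hu, Functor.map_comp, Category.assoc]⟩
      · exact Or.inr ⟨v, by rw [hv, Functor.map_comp, Category.assoc]⟩
    have := hξ (k ≫ h) hk'
    rw [Functor.map_comp, Category.assoc, Category.assoc] at this
    exact this
  let G : ∀ ⦃T : Over S⦄, ((yon S).obj T ⟶ W) → ((yon S).obj T ⟶ X) :=
    fun T w => (hex w).choose
  have hGspec : ∀ ⦃T : Over S⦄ (w : (yon S).obj T ⟶ W), LocGood w (G w) :=
    fun T w => (hex w).choose_spec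
  have hG : ∀ ⦃T T' : Over S⦄ (h : T' ⟶ T) (w : (yon S).obj T ⟶ W),
      G ((yon S).map h ≫ w) = (yon S).map h ≫ G w :=
    fun T T' h w => huniq _ _ _ (hGspec _) (hnat h w _ (hGspec w))
  refine ⟨homOfYon G hG, ?_, ?_⟩
  · apply H52.sp_hom_ext
    intro T u
    rw [← Category.assoc, comp_homOfYon]
    refine huniq (u ≫ j) _ _ (hGspec _) fun Y k _ => ?_
    exact Or.inl ⟨(yon S).map k ≫ u, by rw [Category.assoc], by rw [Category.assoc]⟩
  · apply H52.sp_hom_ext
    intro T v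
    rw [← Category.assoc, comp_homOfYon]
    refine huniq (v ≫ f) _ _ (hGspec _) fun Y k _ => ?_
    exact Or.inr ⟨(yon S).map k ≫ v, by rw [Category.assoc], by rw [Category.assoc]⟩

/-- A cartesian square of sheaves in which `j` is a monomorphism, every point of `W` lifts
locally to `U` or to `V`, and two points of `V` with the same image in `W` are locally equal or
in the image of `U`, is cocartesian. -/
theorem isPushout_of_liftSieve_mem {P : Sp S} (p : P ⟶ U) (q : P ⟶ V)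
    (hP : IsPullback p q j f) [Mono j]
    (hcov : ∀ ⦃T : Over S⦄ (w : (yon S).obj T ⟶ W), liftSieve j f w ∈ J S T)
    (hC : ∀ ⦃T : Over S⦄ (v₁ v₂ : (yon S).obj T ⟶ V), v₁ ≫ f = v₂ ≫ f →
      eqOrLiftSieve j f v₁ v₂ ∈ J S T) : IsPushout p q j f := by
  have key : ∀ s : PushoutCocone p q, ∃ g : W ⟶ s.pt, j ≫ g = s.inl ∧ f ≫ g = s.inr := by
    intro s
    have hUV : ∀ ⦃T : Over S⦄ (u : (yon S).obj T ⟶ U) (v : (yon S).obj T ⟶ V),
        u ≫ j = v ≫ f → u ≫ s.inl = v ≫ s.inr := by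
      intro T u v h
      rw [← hP.lift_fst u v h, Category.assoc, s.condition, ← Category.assoc, hP.lift_snd]
    refine exists_desc_of_liftSieve_mem j f hcov s.inl s.inr ?_ hUV ?_
    · intro T u₁ u₂ h
      rw [(cancel_mono j).1 h]
    · intro T v₁ v₂ h
      refine yon_hom_ext_of_mem_J (hC v₁ v₂ h) ?_
      rintro Y k (hk | ⟨u, hu⟩)
      · rw [← Category.assoc, hk, Category.assoc]
      · have h1 := hUV u ((yon S).map k ≫ v₁) (by rw [hu, Category.assoc])
        have h2 := hUV u ((yon S).map k ≫ v₂) (by rw [hu, Category.assoc, h])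
        rw [← Category.assoc, ← h1, h2, Category.assoc]
  choose g hg1 hg2 using key
  refine ⟨⟨hP.w⟩, ⟨PushoutCocone.IsColimit.mk _ g hg1 hg2 ?_⟩⟩
  intro s m h1 h2
  exact hom_ext_of_liftSieve_mem j f hcov (h1.trans (hg1 s).symm) (h2.trans (hg2 s).symm)

end Pair

end Groth.Agent.Lib.Helper51
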