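import Groth.Agent.Lib.Helper51.AlgSpCoprod
import Mathlib.AlgebraicGeometry.Morphisms.Flat
import Mathlib.AlgebraicGeometry.ResidueField

/-!
# Coproducts in `Over S` are universal (helper51)
-/

set_option autoImplicit false
universe u
open CategoryTheory CategoryTheory.Limits AlgebraicGeometry Opposite

namespace Groth.Agent.Lib.Helper51

variable {S : Scheme.{u}} {ι : Type u}

section

variable (Y : ι → Scheme.{u}) (f : ∀ i, Y i ⟶ S)

/-- `sigmaOver` is a coproduct in `Over S`. -/
noncomputable def isColimitSigmaOver : IsColimit (Cofan.mk (sigmaOver Y f) (sigmaOverι Y f)) :=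
  Cofan.IsColimit.mk _
    (fun s ↦ Over.homMk (Sigma.desc fun i ↦ (s.inj i).left) (by
      apply Sigma.hom_ext
      intro i
      simp))
    (fun s i ↦ by
      apply Over.OverMorphism.ext
      simp)
    (fun s m hm ↦ by
      apply Over.OverMorphism.ext
      apply Sigma.hom_ext
      intro i
      simp [← hm])

theorem isUniversalColimit_sigmaOver :
    IsUniversalColimit (Cofan.mk (sigmaOver Y f) (sigmaOverι Y f)) := by
  apply IsUniversalColimit.of_mapCocone (AlgSp.yon S)
  exact (isVanKampenColimit_sheaf_discrete (AlgSp.J S) _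
    ((isColimitMapCoconeCofanMkEquiv _ _ _).symm (isColimitYonSigmaOver Y f))).isUniversal

end

/-- Coproducts (indexed by a type in the universe of the schemes) in `Over S` are universal. -/
theorem isUniversalColimit_cofan_over {X : ι → Over S} (c : Cofan X) (hc : IsColimit c) :
    IsUniversalColimit c :=
  IsUniversalColimit.of_iso
    (isUniversalColimit_sigmaOver (fun i ↦ (X i).left) (fun i ↦ (X i).hom))
    ((isColimitSigmaOver _ _).uniqueUpToIso hc)

/-- A scheme over `S` mapping to a coproduct is the coproduct of the fibres over the summands. -/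
theorem nonempty_isColimit_pullback_cofan {X : ι → Over S} (c : Cofan X) (hc : IsColimit c)
    {T : Over S} (r : T ⟶ c.pt) :
    Nonempty (IsColimit (Cofan.mk T (fun i ↦ pullback.fst r (c.inj i)))) := by
  refine isUniversalColimit_cofan_over c hc (Cofan.mk T (fun i ↦ pullback.fst r (c.inj i)))
    (Discrete.natTrans fun i ↦ pullback.snd r (c.inj i.as)) r ?_
    (NatTrans.Equifibered.of_discrete _) ?_
  · apply NatTrans.ext
    funext ⟨j⟩
    exact (pullback.condition).symm
  · rintro ⟨j⟩
    exact IsPullback.of_hasPullback r (c.inj j)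

/-- A property local at the source holds for a map out of a coproduct in `Over S` if it holds on
each summand. -/
theorem left_mem_of_forall_inj {P : MorphismProperty Scheme.{u}} [IsZariskiLocalAtSource P]
    {X : ι → Over S} (c : Cofan X) (hc : IsColimit c) {Z : Over S} (m : c.pt ⟶ Z)
    (h : ∀ i, P (c.inj i ≫ m).left) : P m.left := by
  let e := hc.coconePointUniqueUpToIso
    (isColimitSigmaOver (fun i ↦ (X i).left) (fun i ↦ (X i).hom))
  have he : ∀ i, c.inj i ≫ e.hom = sigmaOverι (fun i ↦ (X i).left) (fun i ↦ (X i).hom) i :=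
    fun i ↦ IsColimit.comp_coconePointUniqueUpToIso_hom hc _ ⟨i⟩
  have h1 : (e.inv ≫ m).left = Sigma.desc (fun i ↦ (c.inj i ≫ m).left) := by
    apply Sigma.hom_ext
    intro i
    rw [Sigma.ι_desc]
    have : Sigma.ι (fun i ↦ (X i).left) i =
        (sigmaOverι (fun i ↦ (X i).left) (fun i ↦ (X i).hom) i).left := rfl
    rw [this, ← Over.comp_left, ← he, Category.assoc, Iso.hom_inv_id_assoc]
  have h2 : m.left = e.hom.left ≫ (e.inv ≫ m).left := by
    rw [← Over.comp_left, Iso.hom_inv_id_assoc]
  rw [h2, P.cancel_left_of_respectsIso, h1]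
  exact IsZariskiLocalAtSource.sigmaDesc h

/-- `Spec` of a homomorphism of fields is an epimorphism of schemes. -/
theorem epi_specMap_of_isField {K L : CommRingCat.{u}} (hK : IsField K) (hL : IsField L) (φ : K ⟶ L) :
    Epi (Spec.map φ) := by
  let _ := hK.toField
  let _ := hL.toField
  have h1 : Flat (Spec.map φ) := by
    rw [HasRingHomProperty.Spec_iff (P := @Flat)]
    let _ := φ.hom.toAlgebra
    change Module.Flat K L
    infer_instance
  have h2 : Surjective (Spec.map φ) := by
    refine ⟨fun z ↦ ?_⟩
    have : Nonempty (PrimeSpectrum L) := inferInstance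
    obtain ⟨y⟩ := this
    have : Subsingleton (PrimeSpectrum K) := inferInstance
    exact ⟨y, Subsingleton.elim (α := PrimeSpectrum K) _ _⟩
  exact Flat.epi_of_flat_of_surjective _

instance epi_specMap_residueFieldMap {X Y : Scheme.{u}} (f : X ⟶ Y) (x : X) :
    Epi (Spec.map (f.residueFieldMap x)) :=
  epi_specMap_of_isField (Field.toIsField _) (Field.toIsField _) _

/-- If `a : W ⟶ U` is fixed by an endomorphism `σ` of `U` that fixes no point of `U` together with
its residue field, then `W` is empty. -/
theorem isEmpty_of_comp_eq_of_free {W U : Scheme.{u}} (a : W ⟶ U) (σ : U ⟶ U) (h : a ≫ σ = a)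
    (hσ : ∀ x : U, U.fromSpecResidueField x ≫ σ ≠ U.fromSpecResidueField x) : IsEmpty W := by
  refine ⟨fun y ↦ hσ (a y) ?_⟩
  rw [← cancel_epi (Spec.map (a.residueFieldMap y)),
    Scheme.Hom.SpecMap_residueFieldMap_fromSpecResidueField_assoc,
    Scheme.Hom.SpecMap_residueFieldMap_fromSpecResidueField, h]

end Groth.Agent.Lib.Helper51
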