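import Groth.Agent.Lib.Helper51.QuotSpEff
import Groth.Agent.H52.Epi
import Groth.Agent.H52.Points

/-!
# Cartesian squares descend along epimorphisms of sheaves (helper51)
-/

set_option autoImplicit false
universe u
open CategoryTheory CategoryTheory.Limits AlgebraicGeometry Opposite AlgSp

namespace Groth.Agent.Lib.Helper51

variable {S : Scheme.{u}}

/-- A morphism of fppf sheaves through which every `T`-point lifts locally is an epimorphism. -/
theorem epi_of_forall_local_lift {F G : Sp S} (m : F ⟶ G)
    (h : ∀ ⦃T : Over S⦄ (z : (yon S).obj T ⟶ G), ∃ Sv ∈ J S T, ∀ ⦃Y : Over S⦄ (f : Y ⟶ T), Sv f →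
      ∃ c : (yon S).obj Y ⟶ F, c ≫ m = (yon S).map f ≫ z) : Epi m := by
  rw [← Sheaf.isLocallySurjective_iff_epi]
  constructor
  intro T s
  obtain ⟨Sv, hSv, hl⟩ := h (yonEquiv.symm s)
  refine (J S).superset_covering ?_ hSv
  intro Y f hf
  obtain ⟨c, hc⟩ := hl f hf
  refine ⟨yonEquiv c, ?_⟩
  have := congrArg yonEquiv hc
  rw [yonEquiv_comp, ← yonEquiv_naturality, Equiv.apply_symm_apply] at this
  exact this

/-- If the left square and the outer rectangle are cartesian and the bottom left map is an
epimorphism of sheaves, then the right square is cartesian. -/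
theorem isPullback_of_isPullback_comp_of_epi {A B C D E F : Sp S} (ac : A ⟶ C) (ab : A ⟶ B)
    (cd : C ⟶ D) (bd : B ⟶ D) (ce : C ⟶ E) (df : D ⟶ F) (ef : E ⟶ F)
    (hl : IsPullback ac ab cd bd) (hcomm : cd ≫ df = ce ≫ ef)
    (hout : IsPullback (ac ≫ ce) ab ef (bd ≫ df)) [Epi bd] : IsPullback ce cd ef df := by
  have hmono : Mono (pullback.lift ce cd hcomm.symm) := by
    apply mono_of_forall_yon
    intro T x y hxy
    have h1 : x ≫ ce = y ≫ ce := by
      have := congrArg (· ≫ pullback.fst ef df) hxy
      simpa only [Category.assoc, pullback.lift_fst] using this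
    have h2 : x ≫ cd = y ≫ cd := by
      have := congrArg (· ≫ pullback.snd ef df) hxy
      simpa only [Category.assoc, pullback.lift_snd] using this
    obtain ⟨Sv, hSv, hlift⟩ := exists_cover_lift_of_epi bd (x ≫ cd)
    refine yon_hom_ext_of_cover x y Sv hSv fun Y f hf => ?_
    obtain ⟨b, hb⟩ := hlift f hf
    have hx : ((yon S).map f ≫ x) ≫ cd = b ≫ bd := by rw [Category.assoc, hb]
    have hy : ((yon S).map f ≫ y) ≫ cd = b ≫ bd := by rw [Category.assoc, ← h2, hb]
    have e : hl.lift _ _ hx = hl.lift _ _ hy := by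
      apply hout.hom_ext
      · rw [← Category.assoc, ← Category.assoc, hl.lift_fst, hl.lift_fst, Category.assoc,
          Category.assoc, h1]
      · rw [hl.lift_snd, hl.lift_snd]
    have := congrArg (· ≫ ac) e
    simpa only [hl.lift_fst] using this
  have hepi : Epi (pullback.lift ce cd hcomm.symm) := by
    apply epi_of_forall_local_lift
    intro T z
    obtain ⟨Sv, hSv, hlift⟩ := exists_cover_lift_of_epi bd (z ≫ pullback.snd ef df)
    refine ⟨Sv, hSv, fun Y f hf => ?_⟩
    obtain ⟨b, hb⟩ := hlift f hf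
    have hw : ((yon S).map f ≫ z ≫ pullback.fst ef df) ≫ ef = b ≫ bd ≫ df := by
      rw [← Category.assoc b, hb]
      simp only [Category.assoc, pullback.condition]
    refine ⟨hout.lift _ _ hw ≫ ac, ?_⟩
    apply pullback.hom_ext
    · rw [Category.assoc, pullback.lift_fst, Category.assoc, hout.lift_fst, Category.assoc]
    · rw [Category.assoc, pullback.lift_snd, Category.assoc, hl.w, ← Category.assoc,
        hout.lift_snd, hb, Category.assoc]
  have hiso : IsIso (pullback.lift ce cd hcomm.symm) := isIso_of_mono_of_epi_sp _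
  exact IsPullback.of_iso_pullback ⟨hcomm.symm⟩ (asIso (pullback.lift ce cd hcomm.symm))
    (pullback.lift_fst _ _ _) (pullback.lift_snd _ _ _)

/-- A surjective etale morphism from an algebraic space is an epimorphism of sheaves. -/
theorem epi_of_isSurjectiveMor_of_isEtaleMor {B D : Sp S} (hB : IsAlgSpace B) (bd : B ⟶ D)
    (hs : IsSurjectiveMor bd) (he : IsEtaleMor bd) : Epi bd := by
  obtain ⟨U, p, hpe, hps⟩ := hB.atlas
  have h1 : RepWith @Etale (p ≫ bd) := he p hpe
  have h2 : RepWith @Surjective (p ≫ bd) := by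
    apply H52.repWith_surjective_of_surjective_points _ h1.rep
    intro d
    obtain ⟨b, rfl⟩ := hs d
    obtain ⟨u, rfl⟩ := H52.surjective_points_of_repWith_surjective p hps b
    exact ⟨u, Points.map_comp _ _ _⟩
  have : Epi (p ≫ bd) := H52.epi_of_repWith_etale_surjective _ h1 h2
  exact epi_of_epi p bd

end Groth.Agent.Lib.Helper51
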