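import Groth.Agent.Lib.Helper51.AlgSpBasic
import Mathlib.AlgebraicGeometry.Limits

/-!
# `h_{∐ Y_i} = ∐ h_{Y_i}` in fppf sheaves over `S` (helper51)
-/

set_option autoImplicit false
universe u

namespace Groth.Agent.Lib.Helper51

open CategoryTheory Limits AlgebraicGeometry Opposite

variable {S : Scheme.{u}}

/-- An fppf sheaf has at most one section over an empty scheme. -/
lemma subsingleton_of_isEmpty (F : AlgSp.Sp S) (Z : Over S) [IsEmpty Z.left] :
    Subsingleton (F.obj.obj (op Z)) := by
  have hbot : (⊥ : Sieve Z) ∈ AlgSp.J S Z := by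
    rw [AlgSp.J_eq, GrothendieckTopology.mem_over_iff]
    have : Sieve.overEquiv Z (⊥ : Sieve Z) = ⊥ := by
      ext W g
      rw [Sieve.overEquiv_iff]
      rfl
    rw [this]
    exact Scheme.bot_mem_grothendieckTopology Z.left
  have hs := ((isSheaf_iff_isSheaf_of_type _ _).1 F.property) (⊥ : Sieve Z) hbot
  refine ⟨fun a b ↦ ?_⟩
  exact hs.isSeparatedFor.ext (fun Y f hf ↦ hf.elim)

section

variable {ι : Type u} (Y : ι → Scheme.{u}) (f : ∀ i, Y i ⟶ S)

/-- The coproduct of the `Y i` as a scheme over `S`. -/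
noncomputable abbrev sigmaOver : Over S := Over.mk (Sigma.desc f)

/-- The coprojections, over `S`. -/
noncomputable abbrev sigmaOverι (i : ι) : Over.mk (f i) ⟶ sigmaOver Y f :=
  Over.homMk (Sigma.ι Y i) (by simp)

lemma sigmaOverι_mem_J :
    Sieve.ofArrows (fun i ↦ Over.mk (f i)) (sigmaOverι Y f) ∈ AlgSp.J S (sigmaOver Y f) := by
  rw [AlgSp.J_eq, GrothendieckTopology.mem_over_iff, Sieve.overEquiv_ofArrows]
  exact Precoverage.toGrothendieck_mono Scheme.zariskiPrecoverage_le_fppfPrecoverage _
    (sigmaOpenCover Y).mem_grothendieckTopology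

instance (i : ι) : Mono (sigmaOverι Y f i) := by
  have : Mono ((Over.forget S).map (sigmaOverι Y f i)) := by
    change Mono (Sigma.ι Y i)
    infer_instance
  exact (Over.forget S).mono_of_mono_map this

/-- Sections of an fppf sheaf over a coproduct are families of sections over the summands. -/
lemma existsUnique_section_sigmaOver (F : AlgSp.Sp S) (x : ∀ i, F.obj.obj (op (Over.mk (f i)))) :
    ∃! t : F.obj.obj (op (sigmaOver Y f)), ∀ i, F.obj.map (sigmaOverι Y f i).op t = x i := by
  have hs := ((isSheaf_iff_isSheaf_of_type _ _).1 F.property) _ (sigmaOverι_mem_J Y f)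
  rw [Sieve.ofArrows, ← Presieve.isSheafFor_iff_generate, Presieve.isSheafFor_arrows_iff] at hs
  refine hs x ?_
  intro i j Z gi gj hcomm
  by_cases hij : i = j
  · subst hij
    rw [(cancel_mono _).1 hcomm]
  · have : IsEmpty Z.left :=
      isEmpty_of_commSq_sigmaι_of_ne (g := Y) (a := gi.left) (b := gj.left)
        ⟨congr_arg (fun k ↦ k.left) hcomm⟩ hij
    have := subsingleton_of_isEmpty F Z
    exact Subsingleton.elim _ _

/-- `h_{∐ Y_i}` with the maps `h_{Y_i} ⟶ h_{∐ Y_i}` is a coproduct in fppf sheaves over `S`. -/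
noncomputable def isColimitYonSigmaOver :
    IsColimit (Cofan.mk ((AlgSp.yon S).obj (sigmaOver Y f))
      (fun i ↦ (AlgSp.yon S).map (sigmaOverι Y f i))) := by
  refine Cofan.IsColimit.mk _
    (fun s ↦ yonEquiv.symm
      (existsUnique_section_sigmaOver Y f s.pt (fun i ↦ yonEquiv (s.inj i))).exists.choose)
    (fun s i ↦ ?_) (fun s m hm ↦ ?_)
  · apply yonEquiv.injective
    have h := (existsUnique_section_sigmaOver Y f s.pt
      (fun i ↦ yonEquiv (s.inj i))).exists.choose_spec i
    rw [← h]
    exact (yonEquiv_naturality _ _).symm.trans (by rw [Equiv.apply_symm_apply])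
  · apply yonEquiv.injective
    rw [Equiv.apply_symm_apply]
    apply (existsUnique_section_sigmaOver Y f s.pt (fun i ↦ yonEquiv (s.inj i))).unique
    · intro i
      rw [yonEquiv_naturality]
      exact congr_arg _ (hm i)
    · exact (existsUnique_section_sigmaOver Y f s.pt
        (fun i ↦ yonEquiv (s.inj i))).exists.choose_spec

end

end Groth.Agent.Lib.Helper51
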