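import Mathlib.AlgebraicGeometry.Geometrically.Reduced
import Mathlib.AlgebraicGeometry.Geometrically.Irreducible
import Mathlib.AlgebraicGeometry.Geometrically.Connected
import Mathlib.AlgebraicGeometry.Morphisms.Flat
import Mathlib.AlgebraicGeometry.Fiber

set_option autoImplicit false
universe u
open CategoryTheory AlgebraicGeometry CategoryTheory.Limits TensorProduct

namespace Groth.Agent.Lib.Helper51

/-- If `P` descends along flat surjective quasi-compact morphisms, then "geometrically `P`" for a scheme
over a field `k` can be checked after a field extension `K / k`. -/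
theorem geometrically_of_fieldExt {P : ObjectProperty Scheme.{u}}
    (hP : ∀ {Z' Z : Scheme.{u}} (q : Z' ⟶ Z) [Flat q] [Surjective q] [QuasiCompact q], P Z' → P Z)
    {k K : Type u} [Field k] [Field K] (φ : CommRingCat.of k ⟶ CommRingCat.of K)
    {X XK : Scheme.{u}} (p : X ⟶ Spec (.of k)) (pK : XK ⟶ Spec (.of K)) (fst : XK ⟶ X)
    (h : IsPullback fst pK p (Spec.map φ))
    (hK : geometrically P pK) : geometrically P p := by
  intro L _ y Z fst' snd' hZ
  obtain ⟨ψ, rfl⟩ := Spec.map_surjective y
  algebraize [φ.hom, ψ.hom]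
  obtain ⟨m, hm⟩ := Ideal.exists_maximal (K ⊗[k] L)
  let Ω := (K ⊗[k] L) ⧸ m
  let _ : Field Ω := Ideal.Quotient.field m
  let ιK : K →+* Ω := (Ideal.Quotient.mk m).comp (Algebra.TensorProduct.includeLeftRingHom)
  let ιL : L →+* Ω := (Ideal.Quotient.mk m).comp (Algebra.TensorProduct.includeRight (R := k) (A := K) (B := L)).toRingHom
  have hcomp : ιK.comp φ.hom = ιL.comp ψ.hom := by
    ext x
    simp only [ιK, ιL, RingHom.comp_apply]
    congr 1
    show (algebraMap k K x) ⊗ₜ[k] (1 : L) = (1 : K) ⊗ₜ[k] (algebraMap k L x)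
    rw [Algebra.algebraMap_eq_smul_one, Algebra.algebraMap_eq_smul_one, TensorProduct.smul_tmul]
  have hcomp' : Spec.map (CommRingCat.ofHom ιK) ≫ Spec.map φ =
      Spec.map (CommRingCat.ofHom ιL) ≫ Spec.map ψ := by
    rw [← Spec.map_comp, ← Spec.map_comp]
    congr 1
    ext x
    exact congrFun (congrArg DFunLike.coe hcomp) x
  let W := pullback snd' (Spec.map (CommRingCat.ofHom ιL))
  have hflat : Flat (Spec.map (CommRingCat.ofHom ιL)) := by
    rw [Flat.SpecMap_iff]
    algebraize [ιL]
    show Module.Flat L Ω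
    infer_instance
  have hsurj : Surjective (Spec.map (CommRingCat.ofHom ιL)) := by
    refine ⟨fun x ↦ ⟨IsLocalRing.closedPoint Ω, Subsingleton.elim (α := PrimeSpectrum L) _ _⟩⟩
  refine hP (pullback.fst snd' (Spec.map (CommRingCat.ofHom ιL))) ?_
  have hpaste := (IsPullback.of_hasPullback snd' (Spec.map (CommRingCat.ofHom ιL))).paste_horiz hZ
  rw [← hcomp'] at hpaste
  let l : W ⟶ XK := h.lift (pullback.fst _ _ ≫ fst') (pullback.snd _ _ ≫ Spec.map (CommRingCat.ofHom ιK))
    (by rw [Category.assoc, Category.assoc, hcomp', hZ.w, pullback.condition_assoc])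
  have hl : l ≫ fst = pullback.fst _ _ ≫ fst' := h.lift_fst _ _ _
  have hW : IsPullback l (pullback.snd snd' (Spec.map (CommRingCat.ofHom ιL))) pK
      (Spec.map (CommRingCat.ofHom ιK)) := by
    refine IsPullback.of_right ?_ (h.lift_snd _ _ _) h
    rw [hl]
    exact hpaste
  exact hK _ _ _ hW

/-- Formation of the locus of points with geometrically-`P` fibre commutes with base change, provided
`P` descends along flat surjective quasi-compact morphisms. -/
theorem geometrically_fibre_baseChange_iff {P : ObjectProperty Scheme.{u}}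
    (hP : ∀ {Z' Z : Scheme.{u}} (q : Z' ⟶ Z) [Flat q] [Surjective q] [QuasiCompact q], P Z' → P Z)
    {X Y X' Y' : Scheme.{u}} {f : X ⟶ Y} {g : Y' ⟶ Y} {f' : X' ⟶ Y'} {g' : X' ⟶ X}
    (hc : IsPullback g' f' f g) (y' : Y') :
    geometrically P (f'.fiberToSpecResidueField y') ↔
      geometrically P (f.fiberToSpecResidueField (g y')) := by
  have hpb := isPullback_fiberToSpecResidueField_of_isPullback hc y'
  constructor
  · intro h
    exact geometrically_of_fieldExt hP (k := Y.residueField (g y')) (K := Y'.residueField y')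
      (g.residueFieldMap y') _ _ _ hpb h
  · intro h
    exact MorphismProperty.of_isPullback hpb h

/-- Reducedness descends along flat surjective morphisms. -/
theorem isReduced_of_flat_surjective {X Y : Scheme.{u}} (f : X ⟶ Y) [Flat f] [Surjective f]
    [IsReduced X] : IsReduced Y := by
  have key : ∀ y : Y, _root_.IsReduced (Y.presheaf.stalk y) := by
    intro y
    obtain ⟨x, rfl⟩ := ‹Surjective f›.surj y
    algebraize [(f.stalkMap x).hom]
    have : Module.FaithfullyFlat (Y.presheaf.stalk (f x)) (X.presheaf.stalk x) :=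
      @Module.FaithfullyFlat.of_flat_of_isLocalHom _ _ _ _ _ _ _
        (Flat.stalkMap f x) (f.toLRSHom.prop x)
    have hinj : Function.Injective (f.stalkMap x).hom := ‹RingHom.FaithfullyFlat _›.injective
    exact isReduced_of_injective (f.stalkMap x).hom hinj
  exact isReduced_of_isReduced_stalk Y

theorem geometricallyReduced_fibre_baseChange_iff
    {X Y X' Y' : Scheme.{u}} {f : X ⟶ Y} {g : Y' ⟶ Y} {f' : X' ⟶ Y'} {g' : X' ⟶ X}
    (hc : IsPullback g' f' f g) (y' : Y') :
    GeometricallyReduced (f'.fiberToSpecResidueField y') ↔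
      GeometricallyReduced (f.fiberToSpecResidueField (g y')) := by
  rw [geometricallyReduced_iff, geometricallyReduced_iff]
  refine geometrically_fibre_baseChange_iff (P := IsReduced) ?_ hc y'
  intro Z' Z q _ _ _ h
  have : IsReduced Z' := h
  exact isReduced_of_flat_surjective q

theorem geometricallyIrreducible_fibre_baseChange_iff
    {X Y X' Y' : Scheme.{u}} {f : X ⟶ Y} {g : Y' ⟶ Y} {f' : X' ⟶ Y'} {g' : X' ⟶ X}
    (hc : IsPullback g' f' f g) (y' : Y') :
    GeometricallyIrreducible (f'.fiberToSpecResidueField y') ↔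
      GeometricallyIrreducible (f.fiberToSpecResidueField (g y')) := by
  rw [geometricallyIrreducible_iff, geometricallyIrreducible_iff]
  refine geometrically_fibre_baseChange_iff (P := (IrreducibleSpace ·)) ?_ hc y'
  intro Z' Z q _ _ _ h
  have : IrreducibleSpace Z' := h
  exact (q.surjective).irreducibleSpace q.continuous

theorem geometricallyConnected_fibre_baseChange_iff
    {X Y X' Y' : Scheme.{u}} {f : X ⟶ Y} {g : Y' ⟶ Y} {f' : X' ⟶ Y'} {g' : X' ⟶ X}
    (hc : IsPullback g' f' f g) (y' : Y') :
    GeometricallyConnected (f'.fiberToSpecResidueField y') ↔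
      GeometricallyConnected (f.fiberToSpecResidueField (g y')) := by
  rw [geometricallyConnected_iff, geometricallyConnected_iff]
  refine geometrically_fibre_baseChange_iff (P := (ConnectedSpace ·)) ?_ hc y'
  intro Z' Z q _ _ _ h
  have : ConnectedSpace Z' := h
  exact (q.surjective).connectedSpace q.continuous

end Groth.Agent.Lib.Helper51
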