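import Groth.Agent.Lib.Helper51.DescSecOpen
import Mathlib.CategoryTheory.Extensive

/-!
# Representability of the sheaf of sections, fpqc locally (helper51)

* `SecRep.secEquiv'`: for representing data `ρ` of the sections of `E` over a family `fV`, the
  sections of `E` over `t` are the sections of the descent datum `ρ.toDD` carried by `ρ`, when
  `t` lifts to the family locally for a subcanonical topology (the sections form a sheaf).
* `SecRep.exists_rep_of_zariski_cover`: Zariski gluing of representing data.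
* `SecRep.pull`, `monoConv`, `monoConvSecEquiv`, `secIsoEquiv`, `affineStepEquiv`: descent of
  representability of the sections along a single fpqc morphism `p : X₀ ⟶ Y` over an open `Y`
  of the base, given effectivity of the descent datum relative to `p` carried by representing
  data over `X₀`.
* `exists_rep_over_affineOpen`: the sections of `E` (relative to an fpqc covering family) are
  representable over each affine open of the base if descent data with a property `P` (stable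
  under base change and finite disjoint unions) relative to flat surjective morphisms of affine
  schemes are effective.
-/

set_option autoImplicit false
set_option backward.isDefEq.respectTransparency false
set_option backward.isDefEq.respectTransparency.types false

universe u

open CategoryTheory CategoryTheory.Limits AlgebraicGeometry Opposite

namespace Groth.Agent.Lib.Helper51.DescSec

open Desc Groth.Agent.Lib.Helper51.DescFam Groth.Agent.Lib.Helper51

variable {S : Scheme.{u}} {ι : Type u} {U : ι → Scheme.{u}} {fU : ∀ i, U i ⟶ S}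

section SecRepSec

variable {E : SchDDFam fU} {κ : Type u} {V : κ → Scheme.{u}} {fV : ∀ j, V j ⟶ S}
  (ρ : SecRep E fV)

/-- A section of `E` gives a section of the descent datum carried by representing data. -/
def SecRep.toSec {T : Scheme.{u}} {t : T ⟶ S} (a : Sec E t) : Sec ρ.toDD t where
  val j Z x k h := (ρ.θ j x).symm (a.res k (x ≫ fV j) h.symm)
  nat j Z Z' m x k h x' k' h' hx hk := by
    subst hx hk
    refine ρ.nat_symm j m x (m ≫ x) rfl (a.res k (x ≫ fV j) h.symm) _ ?_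
    rw [Sec.res_res]
  compat j j' Z x₀ x₁ k h₀ h₁ := by
    rw [SecRep.toDD_φ, Equiv.apply_symm_apply]
    rfl

theorem SecRep.toSec_val {T : Scheme.{u}} {t : T ⟶ S} (a : Sec E t) (j : κ) {Z : Scheme.{u}}
    (x : Z ⟶ V j) (k : Z ⟶ T) (h : x ≫ fV j = k ≫ t) :
    (ρ.toSec a).val j x k h = (ρ.θ j x).symm (a.res k (x ≫ fV j) h.symm) := rfl

theorem SecRep.toSec_res {T T' : Scheme.{u}} {t : T ⟶ S} (a : Sec E t) (r : T' ⟶ T)
    (t' : T' ⟶ S) (ht : r ≫ t = t') :
    ρ.toSec (a.res r t' ht) = (ρ.toSec a).res r t' ht := by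
  apply Sec.ext'
  intro j Z x k hk
  rw [Sec.res_val, SecRep.toSec_val, SecRep.toSec_val, Sec.res_res]

theorem SecRep.toSec_cast {T : Scheme.{u}} {t t' : T ⟶ S} (a : Sec E t) (ht : t = t') :
    ρ.toSec (a.cast ht) = (ρ.toSec a).cast ht := by
  subst ht
  rfl

/-- The sieve of morphisms to `T` along which `t` lifts to a member of the family `fV`. -/
def coverSieve (fV : ∀ j, V j ⟶ S) {T : Scheme.{u}} (t : T ⟶ S) : Sieve T where
  arrows Z n := ∃ (j : κ) (x : Z ⟶ V j), x ≫ fV j = n ≫ t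
  downward_closed := by
    rintro Z Z' n ⟨j, x, h⟩ m
    exact ⟨j, m ≫ x, by rw [Category.assoc, h, Category.assoc]⟩

variable {T : Scheme.{u}} {t : T ⟶ S} (a' : Sec ρ.toDD t)

/-- The section of `E` over a lift of `t` attached to a section of `ρ.toDD`. -/
def SecRep.locSec {Z : Scheme.{u}} (n : Z ⟶ T) (j : κ) (x : Z ⟶ V j) (h : x ≫ fV j = n ≫ t) :
    Sec E (n ≫ t) :=
  (ρ.θ j x (a'.val j x n h)).cast h

theorem SecRep.locSec_indep {Z : Scheme.{u}} (n : Z ⟶ T) (j : κ) (x : Z ⟶ V j)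
    (h : x ≫ fV j = n ≫ t) (j' : κ) (x' : Z ⟶ V j') (h' : x' ≫ fV j' = n ≫ t) :
    ρ.locSec a' n j x h = ρ.locSec a' n j' x' h' := by
  have h1 := a'.compat x x' n h h'
  rw [SecRep.toDD_φ] at h1
  unfold SecRep.locSec
  rw [← h1, Equiv.apply_symm_apply]
  rfl

theorem SecRep.locSec_res {Z Z' : Scheme.{u}} (m : Z' ⟶ Z) (n : Z ⟶ T) (j : κ) (x : Z ⟶ V j)
    (h : x ≫ fV j = n ≫ t) :
    ρ.locSec a' (m ≫ n) j (m ≫ x) (by rw [Category.assoc, h, Category.assoc]) =
      (ρ.locSec a' n j x h).res m ((m ≫ n) ≫ t) (Category.assoc _ _ _).symm := by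
  have hh : (m ≫ x) ≫ fV j = (m ≫ n) ≫ t := by rw [Category.assoc, h, Category.assoc]
  have h1 := ρ.nat j m x (m ≫ x) rfl (a'.val j x n h) (a'.val j (m ≫ x) (m ≫ n) hh)
    (a'.nat j m x n h (m ≫ x) (m ≫ n) hh rfl rfl)
  unfold SecRep.locSec
  rw [h1]
  rfl

/-- The family of local sections on the covering sieve. -/
noncomputable def SecRep.xs ⦃Z : Scheme.{u}⦄ (n : Z ⟶ T) (hn : coverSieve fV t n) :
    Sec E (n ≫ t) :=
  ρ.locSec a' n hn.choose hn.choose_spec.choose hn.choose_spec.choose_spec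

theorem SecRep.xs_eq ⦃Z : Scheme.{u}⦄ (n : Z ⟶ T) (hn : coverSieve fV t n) (j : κ)
    (x : Z ⟶ V j) (h : x ≫ fV j = n ≫ t) : ρ.xs a' n hn = ρ.locSec a' n j x h :=
  ρ.locSec_indep a' n _ _ _ j x h

theorem SecRep.xs_compat ⦃Z Z' : Scheme.{u}⦄ (m : Z' ⟶ Z) (n : Z ⟶ T)
    (hn : coverSieve fV t n) :
    ρ.xs a' (m ≫ n) ((coverSieve fV t).downward_closed hn m) =
      (ρ.xs a' n hn).res m ((m ≫ n) ≫ t) (Category.assoc _ _ _).symm := by
  obtain ⟨j, x, h⟩ := hn
  rw [ρ.xs_eq a' n ⟨j, x, h⟩ j x h,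
    ρ.xs_eq a' (m ≫ n) _ j (m ≫ x) (by rw [Category.assoc, h, Category.assoc])]
  exact ρ.locSec_res a' m n j x h

variable (K : GrothendieckTopology Scheme.{u}) [K.Subcanonical]
  (hcov : coverSieve fV t ∈ K T)

/-- The section of `E` glued from a section of `ρ.toDD`. -/
noncomputable def SecRep.ofSec : Sec E t :=
  glueSec (coverSieve fV t) (ρ.xs a') (ρ.xs_compat a') K hcov

theorem SecRep.toSec_ofSec : ρ.toSec (ρ.ofSec a' K hcov) = a' := by
  apply Sec.ext'
  intro j Z x k hk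
  rw [SecRep.toSec_val]
  have hk' : coverSieve fV t k := ⟨j, x, hk⟩
  have h1 := glueSec_res (coverSieve fV t) (ρ.xs a') (ρ.xs_compat a') K hcov k hk'
  rw [ρ.xs_eq a' k hk' j x hk] at h1
  have h2 : (ρ.ofSec a' K hcov).res k (x ≫ fV j) hk.symm = ρ.θ j x (a'.val j x k hk) := by
    have h3 := congrArg (fun s : Sec E (k ≫ t) => s.cast hk.symm) h1
    exact h3
  rw [h2, Equiv.symm_apply_apply]

theorem SecRep.ofSec_toSec (a : Sec E t) : ρ.ofSec (ρ.toSec a) K hcov = a := by
  symm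
  refine glueSec_unique (coverSieve fV t) (ρ.xs (ρ.toSec a)) (ρ.xs_compat (ρ.toSec a)) K hcov a ?_
  intro Z n hn
  obtain ⟨j, x, h⟩ := hn
  rw [ρ.xs_eq (ρ.toSec a) n ⟨j, x, h⟩ j x h]
  unfold SecRep.locSec
  rw [SecRep.toSec_val, Equiv.apply_symm_apply]
  rfl

/-- Sections of `E` are sections of the descent datum carried by representing data, over a base
which is covered by lifts to the family. -/
noncomputable def SecRep.secEquiv' : Sec E t ≃ Sec ρ.toDD t where
  toFun := ρ.toSec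
  invFun a' := ρ.ofSec a' K hcov
  left_inv a := ρ.ofSec_toSec K hcov a
  right_inv a' := ρ.toSec_ofSec a' K hcov

theorem coverSieve_mem_of_cover (fV : ∀ j, V j ⟶ S) {T : Scheme.{u}} (t : T ⟶ S) {A : Type u}
    {C : A → Scheme.{u}} (c : ∀ a, C a ⟶ T)
    (hc : Presieve.ofArrows C c ∈ Scheme.fpqcPrecoverage T)
    (hl : ∀ a, ∃ (j : κ) (x : C a ⟶ V j), x ≫ fV j = c a ≫ t) :
    coverSieve fV t ∈ Scheme.fpqcTopology T := by
  refine Scheme.fpqcTopology.superset_covering ?_ (Precoverage.generate_mem_toGrothendieck hc)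
  rw [Sieve.generate_le_iff]
  rintro Z n ⟨a⟩
  exact hl a

/-- Zariski gluing of representing data: if the sections of `E` are representable over the
members of an open cover of `Y`, they are representable over `Y`. -/
theorem SecRep.exists_rep_of_zariski_cover (ρ : SecRep E fV) {Y : Scheme.{u}} (f : Y ⟶ S)
    (ga : ∀ a, V a ⟶ Y) (hga : ∀ a, ga a ≫ f = fV a) [∀ a, IsOpenImmersion (ga a)]
    (hsurj : ∀ y : Y, ∃ a, y ∈ Set.range (ga a)) :
    ∃ (D : Over Y) (θ : ∀ ⦃T : Scheme.{u}⦄ (y : T ⟶ Y), Lifts D y ≃ Sec E (y ≫ f)),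
      ∀ ⦃T T' : Scheme.{u}⦄ (k : T' ⟶ T) (y : T ⟶ Y) (y' : T' ⟶ Y) (hy : k ≫ y = y')
        (d : Lifts D y) (d' : Lifts D y'), d'.1 = k ≫ d.1 →
        θ y' d' = (θ y d).res k (y' ≫ f) (by rw [← hy, Category.assoc]) := by
  obtain ⟨D, θ', nat'⟩ := DescSec.exists_rep_of_zariski_cover ρ.toDD f (fun a => a) ga hga hsurj
  have hY : Presieve.ofArrows V ga ∈ Scheme.fpqcPrecoverage Y := by
    apply Scheme.zariskiPrecoverage_le_fpqcPrecoverage
    rw [Scheme.zariskiPrecoverage, Scheme.ofArrows_mem_precoverage_iff]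
    exact ⟨hsurj, fun a => inferInstance⟩
  have hcov : ∀ ⦃T : Scheme.{u}⦄ (y : T ⟶ Y), coverSieve fV (y ≫ f) ∈ Scheme.fpqcTopology T := by
    intro T y
    refine coverSieve_mem_of_cover fV (y ≫ f) (fun a => pullback.fst y (ga a))
      (pullback_cover_mem ga hY y) (fun a => ⟨a, pullback.snd y (ga a), ?_⟩)
    rw [← hga, ← Category.assoc, ← pullback.condition, Category.assoc]
  refine ⟨D, fun T y => (θ' y).trans (ρ.secEquiv' Scheme.fpqcTopology (hcov y)).symm, ?_⟩
  intro T T' k y y' hy d d' hd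
  apply (ρ.secEquiv' Scheme.fpqcTopology (hcov y')).injective
  have h1 : ρ.secEquiv' Scheme.fpqcTopology (hcov y')
      ((ρ.secEquiv' Scheme.fpqcTopology (hcov y')).symm (θ' y' d')) = θ' y' d' :=
    Equiv.apply_symm_apply _ _
  have h2 : ρ.secEquiv' Scheme.fpqcTopology (hcov y')
      (((ρ.secEquiv' Scheme.fpqcTopology (hcov y)).symm (θ' y d)).res k (y' ≫ f)
        (by rw [← hy, Category.assoc])) = (θ' y d).res k (y' ≫ f)
        (by rw [← hy, Category.assoc]) := by
    change ρ.toSec _ = _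
    rw [SecRep.toSec_res]
    congr 1
    exact Equiv.apply_symm_apply (ρ.secEquiv' Scheme.fpqcTopology (hcov y)) _
  exact h1.trans ((nat' k y y' hy d d' hd).trans h2.symm)

end SecRepSec

section PullRep

variable {E : SchDDFam fU} {κ : Type u} {V : κ → Scheme.{u}} {fV : ∀ j, V j ⟶ S}
  (ρ : SecRep E fV) {ι' : Type u} {U' : ι' → Scheme.{u}} {fU' : ∀ i, U' i ⟶ S} {α : ι' → κ}
  (g : ∀ i, U' i ⟶ V (α i)) (hw : ∀ i, g i ≫ fV (α i) = fU' i)

include hw in
theorem SecRep.pull_base_eq (i : ι') {T : Scheme.{u}} (y : T ⟶ U' i) :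
    (y ≫ g i) ≫ fV (α i) = y ≫ fU' i := by
  rw [Category.assoc, hw]

/-- The pullback of representing data along a morphism of families. -/
noncomputable def SecRep.pull : SecRep E fU' where
  obj i := Over.mk (pullback.snd (ρ.obj (α i)).hom (g i))
  θ i T y := (liftsPullbackEquiv (ρ.obj (α i)) (g i) y).trans
    ((ρ.θ (α i) (y ≫ g i)).trans (castEquiv E (SecRep.pull_base_eq g hw i y)))
  nat i T T' k y y' hy d d' hd := by
    have hy' : k ≫ y ≫ g i = y' ≫ g i := by rw [← hy, Category.assoc]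
    have h1 := ρ.nat (α i) k (y ≫ g i) (y' ≫ g i) hy'
      (liftsPullbackEquiv (ρ.obj (α i)) (g i) y d)
      (liftsPullbackEquiv (ρ.obj (α i)) (g i) y' d') (by
        simp only [liftsPullbackEquiv, Equiv.coe_fn_mk]
        rw [hd, Category.assoc])
    change (ρ.θ (α i) (y' ≫ g i) (liftsPullbackEquiv (ρ.obj (α i)) (g i) y' d')).cast
      (SecRep.pull_base_eq g hw i y') =
      ((ρ.θ (α i) (y ≫ g i) (liftsPullbackEquiv (ρ.obj (α i)) (g i) y d)).cast
        (SecRep.pull_base_eq g hw i y)).res k (y' ≫ fU' i) (by rw [← hy, Category.assoc])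
    rw [h1]
    rfl

end PullRep

section PushIso

variable {D D' : SchDDFam fU}

theorem Sec.push_id {T : Scheme.{u}} {t : T ⟶ S} (a : Sec D t) : Sec.push (𝟙 D) a = a := by
  apply Sec.ext'
  intro i Z x k hk
  rw [Sec.push_val, DescFam.push_id]

theorem Sec.push_comp {D'' : SchDDFam fU} (b : D ⟶ D') (b' : D' ⟶ D'') {T : Scheme.{u}}
    {t : T ⟶ S} (a : Sec D t) : Sec.push (b ≫ b') a = Sec.push b' (Sec.push b a) := by
  apply Sec.ext'
  intro i Z x k hk
  rw [Sec.push_val, Sec.push_val, Sec.push_val, DescFam.push_comp]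

/-- Isomorphic descent data have the same sections. -/
def secIsoEquiv (e : D ≅ D') {T : Scheme.{u}} (t : T ⟶ S) : Sec D t ≃ Sec D' t where
  toFun := Sec.push e.hom
  invFun := Sec.push e.inv
  left_inv a := by rw [← Sec.push_comp, e.hom_inv_id, Sec.push_id]
  right_inv a := by rw [← Sec.push_comp, e.inv_hom_id, Sec.push_id]

end PushIso

section MonoConv

variable {Y : Scheme.{u}} (j : Y ⟶ S) {X : ι → Scheme.{u}} {f : ∀ i, X i ⟶ Y}

include j in
theorem monoConv_base {T : Scheme.{u}} {i i' : ι} {x₀ : T ⟶ X i} {x₁ : T ⟶ X i'}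
    (h : x₀ ≫ f i = x₁ ≫ f i') : x₀ ≫ f i ≫ j = x₁ ≫ f i' ≫ j := by
  rw [← Category.assoc, h, Category.assoc]

variable [Mono j]

/-- A descent datum relative to a family of morphisms to `S` factoring through a monomorphism
`j : Y ⟶ S` is a descent datum relative to the family of morphisms to `Y`. -/
def monoConv (D : SchDDFam (fun i => f i ≫ j)) : SchDDFam f where
  obj := D.obj
  φ _ _ _ x₀ x₁ h := D.φ x₀ x₁ (monoConv_base j h)
  φ_natural _ _ g _ _ x₀ x₁ h y₀ y₁ hy₀ hy₁ h' v v' hv :=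
    D.φ_natural g x₀ x₁ (monoConv_base j h) y₀ y₁ hy₀ hy₁ (monoConv_base j h') v v' hv
  φ_self _ _ x v := D.φ_self x v
  φ_comp _ _ _ _ x₀ x₁ x₂ h₀₁ h₁₂ v :=
    D.φ_comp x₀ x₁ x₂ (monoConv_base j h₀₁) (monoConv_base j h₁₂) v

variable {j}

/-- Sections of `monoConv j D` over `y` are sections of `D` over `y ≫ j`. -/
def monoConvSecEquiv (D : SchDDFam (fun i => f i ≫ j)) {T : Scheme.{u}} (y : T ⟶ Y) :
    Sec D (y ≫ j) ≃ Sec (monoConv j D) y where
  toFun a :=
    { val := fun i Z x k h => a.val i x k (by rw [← Category.assoc, h, Category.assoc])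
      nat := fun i Z Z' m x k h x' k' h' hx hk => a.nat i m x k _ x' k' _ hx hk
      compat := fun i i' Z x₀ x₁ k h₀ h₁ => a.compat x₀ x₁ k _ _ }
  invFun a :=
    { val := fun i Z x k h => a.val i x k (by
        rw [← cancel_mono j, Category.assoc, Category.assoc]
        exact h)
      nat := fun i Z Z' m x k h x' k' h' hx hk => a.nat i m x k _ x' k' _ hx hk
      compat := fun i i' Z x₀ x₁ k h₀ h₁ => a.compat x₀ x₁ k _ _ }
  left_inv a := rfl
  right_inv a := rfl

theorem monoConvSecEquiv_res (D : SchDDFam (fun i => f i ≫ j)) {T T' : Scheme.{u}} (y : T ⟶ Y)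
    (a : Sec D (y ≫ j)) (r : T' ⟶ T) (y' : T' ⟶ Y) (hy : r ≫ y = y') :
    monoConvSecEquiv D y' (a.res r (y' ≫ j) (by rw [← hy, Category.assoc])) =
      (monoConvSecEquiv D y a).res r y' hy := rfl

end MonoConv

section AffineStep

variable {E : SchDDFam fU} {Y : Scheme.{u}} (j : Y ⟶ S) [Mono j] {X₀ : Scheme.{u}} (p : X₀ ⟶ Y)
  (hp : Presieve.ofArrows (fun _ : PUnit.{u + 1} => X₀) (fun _ => p) ∈ Scheme.fpqcPrecoverage Y)
  (ρ : SecRep E (fun _ : PUnit.{u + 1} => p ≫ j)) (U₀ : Over Y)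
  (e : canonicalDDFam (fun _ : PUnit.{u + 1} => p) U₀ ≅ monoConv j ρ.toDD)

include hp in
omit [Mono j] in
theorem coverSieve_single_mem {T : Scheme.{u}} (y : T ⟶ Y) :
    coverSieve (fun _ : PUnit.{u + 1} => p ≫ j) (y ≫ j) ∈ Scheme.fpqcTopology T := by
  refine coverSieve_mem_of_cover _ (y ≫ j) (fun _ : PUnit.{u + 1} => pullback.fst y p)
    (pullback_cover_mem _ hp y) (fun _ => ⟨⟨⟩, pullback.snd y p, ?_⟩)
  rw [← Category.assoc, ← pullback.condition, Category.assoc]

/-- If the descent datum relative to `p : X₀ ⟶ Y` carried by representing data over `X₀` is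
effective, with descended scheme `U₀`, then `U₀` represents the sections of `E` over `Y`. -/
noncomputable def affineStepEquiv {T : Scheme.{u}} (y : T ⟶ Y) : Lifts U₀ y ≃ Sec E (y ≫ j) :=
  (canSecEquiv (fun _ : PUnit.{u + 1} => p) hp U₀ y).trans
    ((secIsoEquiv e y).trans ((monoConvSecEquiv ρ.toDD y).symm.trans
      (ρ.secEquiv' Scheme.fpqcTopology (coverSieve_single_mem j p hp y)).symm))

theorem affineStepEquiv_nat ⦃T T' : Scheme.{u}⦄ (k : T' ⟶ T) (y : T ⟶ Y) (y' : T' ⟶ Y)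
    (hy : k ≫ y = y') (d : Lifts U₀ y) (d' : Lifts U₀ y') (hd : d'.1 = k ≫ d.1) :
    affineStepEquiv j p hp ρ U₀ e y' d' =
      (affineStepEquiv j p hp ρ U₀ e y d).res k (y' ≫ j) (by rw [← hy, Category.assoc]) := by
  subst hy
  have hd' : d' = ⟨k ≫ d.1, by rw [Category.assoc, d.2]⟩ := Subtype.ext hd
  subst hd'
  let z : Sec ρ.toDD (y ≫ j) := (monoConvSecEquiv ρ.toDD y).symm
    (Sec.push e.hom (canSec (fun _ : PUnit.{u + 1} => p) U₀ y d))
  let z' : Sec ρ.toDD ((k ≫ y) ≫ j) := (monoConvSecEquiv ρ.toDD (k ≫ y)).symm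
    (Sec.push e.hom (canSec (fun _ : PUnit.{u + 1} => p) U₀ (k ≫ y)
      ⟨k ≫ d.1, by rw [Category.assoc, d.2]⟩))
  have hz : z' = z.res k ((k ≫ y) ≫ j) (Category.assoc _ _ _).symm := by
    apply (monoConvSecEquiv ρ.toDD (k ≫ y)).injective
    rw [monoConvSecEquiv_res ρ.toDD y z k (k ≫ y) rfl]
    change monoConvSecEquiv ρ.toDD (k ≫ y) ((monoConvSecEquiv ρ.toDD (k ≫ y)).symm _) =
      (monoConvSecEquiv ρ.toDD y ((monoConvSecEquiv ρ.toDD y).symm _)).res k (k ≫ y) rfl
    rw [Equiv.apply_symm_apply, Equiv.apply_symm_apply, ← Sec.push_res, canSec_res]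
  apply (ρ.secEquiv' Scheme.fpqcTopology (coverSieve_single_mem j p hp (k ≫ y))).injective
  have h1 : ρ.secEquiv' Scheme.fpqcTopology (coverSieve_single_mem j p hp (k ≫ y))
      (affineStepEquiv j p hp ρ U₀ e (k ≫ y) ⟨k ≫ d.1, by rw [Category.assoc, d.2]⟩) = z' :=
    Equiv.apply_symm_apply _ _
  have h2 : ρ.secEquiv' Scheme.fpqcTopology (coverSieve_single_mem j p hp (k ≫ y))
      ((affineStepEquiv j p hp ρ U₀ e y d).res k ((k ≫ y) ≫ j) (Category.assoc _ _ _).symm) =
      z.res k ((k ≫ y) ≫ j) (Category.assoc _ _ _).symm := by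
    change ρ.toSec _ = _
    rw [SecRep.toSec_res]
    congr 1
    exact Equiv.apply_symm_apply (ρ.secEquiv' Scheme.fpqcTopology
      (coverSieve_single_mem j p hp y)) z
  exact h1.trans (hz.trans h2.symm)

end AffineStep

section Refinement

theorem prop_of_sigma {P : MorphismProperty Scheme.{u}} [P.IsStableUnderBaseChange]
    (h2 : ∀ (m : ℕ) (Y V : Fin m → Scheme.{u}) (q : ∀ j, Y j ⟶ V j), (∀ j, P (q j)) →
      P (Limits.Sigma.map q))
    {m : ℕ} (W : Fin m → Scheme.{u}) {V : Scheme.{u}} (g : V ⟶ ∐ W)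
    (hg : ∀ b, P (pullback.snd g (Sigma.ι W b))) : P g := by
  have huniv : IsUniversalColimit (Cofan.mk (∐ W) (Sigma.ι W)) :=
    (FinitaryExtensive.isVanKampen_finiteCoproducts (coproductIsCoproduct W)).isUniversal
  obtain ⟨hc⟩ : Nonempty (IsColimit (Cofan.mk V (fun b => pullback.fst g (Sigma.ι W b)))) := by
    refine huniv (Cofan.mk V (fun b => pullback.fst g (Sigma.ι W b)))
      (Discrete.natTrans fun b => pullback.snd g (Sigma.ι W b.as)) g ?_
      (NatTrans.Equifibered.of_discrete _) ?_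
    · apply NatTrans.ext
      funext ⟨b⟩
      exact (pullback.condition).symm
    · rintro ⟨b⟩
      exact IsPullback.of_hasPullback g (Sigma.ι W b)
  let e : ∐ (fun b => pullback g (Sigma.ι W b)) ≅ V :=
    (coproductIsCoproduct _).coconePointUniqueUpToIso hc
  have he : ∀ b, Sigma.ι (fun b => pullback g (Sigma.ι W b)) b ≫ e.hom =
      pullback.fst g (Sigma.ι W b) := fun b =>
    (coproductIsCoproduct _).comp_coconePointUniqueUpToIso_hom hc ⟨b⟩
  have h1 : e.hom ≫ g = Limits.Sigma.map (fun b => pullback.snd g (Sigma.ι W b)) := by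
    apply Sigma.hom_ext
    intro b
    rw [← Category.assoc, he, Sigma.ι_map, pullback.condition]
  have h3 : P (e.hom ≫ g) := by
    rw [h1]
    exact h2 m _ _ _ hg
  exact (P.cancel_left_of_respectsIso e.hom g).1 h3

theorem exists_affine_refinement {S : Scheme.{u}} {ι : Type u} {U : ι → Scheme.{u}}
    (u : ∀ i, U i ⟶ S) (hu : Presieve.ofArrows U u ∈ Scheme.fpqcPrecoverage S) (Y₀ : S.Opens)
    (hY₀ : IsAffineOpen Y₀) :
    ∃ (m : ℕ) (idx : Fin m → ι) (Wo : ∀ b, (U (idx b)).Opens), (∀ b, IsAffineOpen (Wo b)) ∧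
      ⋃ b, (u (idx b)) '' (Wo b : Set (U (idx b))) = (Y₀ : Set S) := by
  let E : PreZeroHypercover.{u} S := ⟨ι, U, u⟩
  have hE : QuasiCompactCover E := Scheme.presieve₀_mem_qcPrecoverage_iff.1 hu.1
  exact QuasiCompactCover.exists_isAffineOpen_of_isCompact E hY₀.isCompact

theorem isIso_hom_left {κ : Type u} {V : κ → Scheme.{u}} {fV : ∀ j, V j ⟶ S}
    {D D' : SchDDFam fV} (e : D ≅ D') (i : κ) : IsIso (e.hom.hom i).left := by
  have h2 : e.hom.hom i ≫ e.inv.hom i = 𝟙 _ := by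
    rw [← SchDDFam.comp_hom, e.hom_inv_id]
    rfl
  have h3 : e.inv.hom i ≫ e.hom.hom i = 𝟙 _ := by
    rw [← SchDDFam.comp_hom, e.inv_hom_id]
    rfl
  exact ⟨⟨(e.inv.hom i).left, by rw [← Over.comp_left, h2]; rfl,
    by rw [← Over.comp_left, h3]; rfl⟩⟩

end Refinement

section AffineCase

variable (P : MorphismProperty Scheme.{u}) [P.IsStableUnderBaseChange]
  (h2 : ∀ (m : ℕ) (Y V : Fin m → Scheme.{u}) (q : ∀ j, Y j ⟶ V j), (∀ j, P (q j)) →
    P (Limits.Sigma.map q))
  (h3 : ∀ (X S : Scheme.{u}) (p : X ⟶ S), IsAffine X → IsAffine S → Flat p → Surjective p →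
    ∀ D : Desc.SchDD p, P D.obj.hom → ∃ U : Over S, Nonempty ((Desc.toDD p).obj U ≅ D))
  (hU : Presieve.ofArrows U fU ∈ Scheme.fpqcPrecoverage S) (E : SchDDFam fU)
  (hE : ∀ i, P (E.obj i).hom)

include h2 h3 hU hE in
/-- The sections of `E` over an affine open subscheme of `S` are representable, if descent data
with property `P` relative to flat surjective morphisms of affine schemes are effective. -/
theorem exists_rep_over_affineOpen (Y₀ : S.Opens) (hY₀ : IsAffineOpen Y₀) :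
    ∃ (D : Over Y₀.toScheme)
      (θ : ∀ ⦃T : Scheme.{u}⦄ (y : T ⟶ Y₀.toScheme), Lifts D y ≃ Sec E (y ≫ Y₀.ι)),
      ∀ ⦃T T' : Scheme.{u}⦄ (k : T' ⟶ T) (y : T ⟶ Y₀.toScheme) (y' : T' ⟶ Y₀.toScheme)
        (hy : k ≫ y = y') (d : Lifts D y) (d' : Lifts D y'), d'.1 = k ≫ d.1 →
        θ y' d' = (θ y d).res k (y' ≫ Y₀.ι) (by rw [← hy, Category.assoc]) := by
  obtain ⟨m, idx, Wo, hWo, hcovW⟩ := exists_affine_refinement fU hU Y₀ hY₀
  have hflat : ∀ i, Flat (fU i) :=
    ((Scheme.ofArrows_mem_precoverage_iff (P := @Flat)).1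
      (Scheme.propQCPrecoverage_le_precoverage _ hU)).2
  have : IsAffine Y₀.toScheme := hY₀
  have : ∀ b, IsAffine (Wo b).toScheme := fun b => hWo b
  -- the schemes `W b` and their morphisms to `Y₀`
  let W : Fin m → Scheme.{u} := fun b => (Wo b).toScheme
  have hrange : ∀ b, Set.range ((Wo b).ι ≫ fU (idx b)) ⊆ Set.range Y₀.ι := by
    intro b
    rintro _ ⟨z, rfl⟩
    rw [Scheme.Opens.range_ι, ← hcovW]
    refine Set.mem_iUnion.2 ⟨b, (Wo b).ι z, ?_, ?_⟩
    · exact z.2
    · rw [Scheme.Hom.comp_apply]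
  let w : ∀ b, W b ⟶ Y₀.toScheme := fun b =>
    IsOpenImmersion.lift Y₀.ι ((Wo b).ι ≫ fU (idx b)) (hrange b)
  have hw : ∀ b, w b ≫ Y₀.ι = (Wo b).ι ≫ fU (idx b) := fun b =>
    IsOpenImmersion.lift_fac _ _ _
  have : ∀ b, Flat (w b) := by
    intro b
    have := hflat (idx b)
    refine MorphismProperty.of_postcomp (W := @Flat) (W' := @IsOpenImmersion) (w b) Y₀.ι
      inferInstance ?_
    rw [hw]
    infer_instance
  let X₀ : Scheme.{u} := ∐ W
  let p : X₀ ⟶ Y₀.toScheme := Sigma.desc w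
  have hpι : ∀ b, Sigma.ι W b ≫ p = w b := fun b => Sigma.ι_desc w b
  have : Surjective p := by
    apply Surjective.sigmaDesc_of_union_range_eq_univ
    rw [Set.eq_univ_iff_forall]
    intro y
    have hy : Y₀.ι y ∈ (Y₀ : Set S) := y.2
    rw [← hcovW] at hy
    obtain ⟨b, z, hz, hzy⟩ := Set.mem_iUnion.1 hy
    refine Set.mem_iUnion.2 ⟨b, ⟨z, hz⟩, ?_⟩
    apply Y₀.ι.isOpenEmbedding.injective
    rw [← Scheme.Hom.comp_apply, hw, Scheme.Hom.comp_apply]
    exact hzy
  have hp : Presieve.ofArrows (fun _ : PUnit.{u + 1} => X₀) (fun _ => p) ∈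
      Scheme.fpqcPrecoverage Y₀.toScheme := by
    rw [Presieve.ofArrows_pUnit]
    exact p.singleton_mem_fpqcPrecoverage
  -- representing data over the `W b`
  let ρW : SecRep E (fun b : ULift.{u} (Fin m) => (Wo b.down).ι ≫ fU (idx b.down)) :=
    (SecRep.self E).pull (α := fun b : ULift.{u} (Fin m) => idx b.down)
      (fun b => (Wo b.down).ι) (fun _ => rfl)
  -- representing data over `X₀`
  have hga : ∀ b : ULift.{u} (Fin m), Sigma.ι W b.down ≫ p ≫ Y₀.ι =
      (Wo b.down).ι ≫ fU (idx b.down) := by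
    intro b
    rw [← Category.assoc, hpι, hw]
  obtain ⟨DX, θX, natX⟩ := ρW.exists_rep_of_zariski_cover (p ≫ Y₀.ι)
    (fun b => Sigma.ι W b.down) hga (by
      intro y
      obtain ⟨b, z, hz⟩ := (sigmaOpenCover W).exists_eq y
      exact ⟨⟨b⟩, z, hz⟩)
  let ρX : SecRep E (fun _ : PUnit.{u + 1} => p ≫ Y₀.ι) := ⟨fun _ => DX, fun _ => θX, fun _ => natX⟩
  -- the property `P`
  have hPX : P DX.hom := by
    refine prop_of_sigma h2 W DX.hom (fun b => ?_)
    have hw' : ∀ b : ULift.{u} (Fin m), Sigma.ι W b.down ≫ (p ≫ Y₀.ι) =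
        ((Wo b.down).ι ≫ fU (idx b.down)) ≫ 𝟙 S := by
      intro b
      rw [hga, Category.comp_id]
    let e := pullIso (fV := fun _ : PUnit.{u + 1} => p ≫ Y₀.ι) (α := fun _ => ⟨⟩)
      (g := fun b : ULift.{u} (Fin m) => Sigma.ι W b.down) hw' ρX ρW
    have := isIso_hom_left e ⟨b⟩
    have h5 : (e.hom.hom ⟨b⟩).left ≫ (ρW.obj ⟨b⟩).hom = pullback.snd DX.hom (Sigma.ι W b) :=
      Over.w (e.hom.hom ⟨b⟩)
    rw [← h5]
    refine (P.cancel_left_of_respectsIso _ _).2 ?_
    exact P.pullback_snd _ _ (hE (idx b))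
  -- the descent datum relative to `p` and its effectivity
  let DD : SchDD p := (SchDDFam.toSchDD p).obj (monoConv Y₀.ι ρX.toDD)
  obtain ⟨U₀, ⟨iso₀⟩⟩ := h3 X₀ Y₀.toScheme p inferInstance inferInstance inferInstance
    inferInstance DD hPX
  let e : canonicalDDFam (fun _ : PUnit.{u + 1} => p) U₀ ≅ monoConv Y₀.ι ρX.toDD :=
    (SchDDFam.ofSchDD p).mapIso iso₀
  exact ⟨U₀, fun T y => affineStepEquiv Y₀.ι p hp ρX U₀ e y,
    affineStepEquiv_nat Y₀.ι p hp ρX U₀ e⟩

end AffineCase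

end Groth.Agent.Lib.Helper51.DescSec
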