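import Groth.Agent.Lib.Helper51.AlgSpCoprodPullback
import Groth.Prelude.Def_AlgSp3
import Mathlib.AlgebraicGeometry.Morphisms.Finite
import Mathlib.CategoryTheory.Limits.Constructions.FiniteProductsOfBinaryProducts

/-!
# Finite coproducts and finite morphisms (helper51)

* `isFinite_of_cofan` : a morphism out of a finite coproduct of schemes is finite if it is so on
  every summand.
* `isPullback_cofan_desc` : a fibre product with a coproduct of fppf sheaves is the coproduct of
  the fibre products with the summands (representable case).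
* `isFiniteMor_of_cofan` : the same as the first for fppf sheaves and `AlgSp.IsFiniteMor`.
-/

set_option autoImplicit false
universe u

namespace Groth.Agent.Lib.Helper51

open CategoryTheory Limits AlgebraicGeometry Opposite

/-- A morphism out of a coproduct of schemes indexed by `Fin n` is finite if it is so on every
summand. -/
theorem isFinite_of_cofan_fin : ∀ {n : ℕ} {X : Fin n → Scheme.{u}} {Y : Scheme.{u}}
    (c : Cofan X) (_ : IsColimit c) (d : c.pt ⟶ Y) (_ : ∀ i, IsFinite (c.inj i ≫ d)),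
    IsFinite d := by
  intro n
  induction n with
  | zero =>
    intro X Y c hc d hd
    have hI : IsInitial c.pt :=
      IsInitial.ofUniqueHom (fun Z ↦ Cofan.IsColimit.desc hc (fun i ↦ i.elim0))
        (fun Z m ↦ Cofan.IsColimit.hom_ext hc _ _ (fun i ↦ i.elim0))
    have : IsEmpty c.pt := isInitial_iff_isEmpty.1 ⟨hI⟩
    infer_instance
  | succ n ih =>
    intro X Y c hc d hd
    have hc₁ : IsColimit (Cofan.mk (∐ fun i : Fin n ↦ X i.succ) (Sigma.ι fun i : Fin n ↦ X i.succ)) :=
      coproductIsCoproduct _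
    have hc₂ : IsColimit (BinaryCofan.mk (coprod.inl : X 0 ⟶ X 0 ⨿ (∐ fun i : Fin n ↦ X i.succ))
        coprod.inr) := coprodIsCoprod _ _
    have hE := extendCofanIsColimit X hc₁ hc₂
    let e : X 0 ⨿ (∐ fun i : Fin n ↦ X i.succ) ≅ c.pt := hE.coconePointUniqueUpToIso hc
    have he : ∀ i, (extendCofan (Cofan.mk (∐ fun i : Fin n ↦ X i.succ)
        (Sigma.ι fun i : Fin n ↦ X i.succ)) (BinaryCofan.mk (coprod.inl :
          X 0 ⟶ X 0 ⨿ (∐ fun i : Fin n ↦ X i.succ)) coprod.inr)).inj i ≫ e.hom = c.inj i :=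
      fun i ↦ IsColimit.comp_coconePointUniqueUpToIso_hom hE hc ⟨i⟩
    have he0 : (coprod.inl : X 0 ⟶ X 0 ⨿ (∐ fun i : Fin n ↦ X i.succ)) ≫ e.hom = c.inj 0 :=
      he 0
    have hes : ∀ i : Fin n, (Sigma.ι (fun i : Fin n ↦ X i.succ) i ≫
        (coprod.inr : _ ⟶ X 0 ⨿ (∐ fun i : Fin n ↦ X i.succ))) ≫ e.hom = c.inj i.succ := by
      intro i
      have := he i.succ
      simp only [extendCofan, Cofan.inj, Cofan.mk_ι_app, Fin.cases_succ] at this
      exact this
    have h1 : IsFinite (Sigma.desc (fun i : Fin n ↦ c.inj i.succ ≫ d)) := by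
      apply ih _ hc₁
      intro i
      have : (Cofan.mk (∐ fun i : Fin n ↦ X i.succ) (Sigma.ι fun i : Fin n ↦ X i.succ)).inj i ≫
          Sigma.desc (fun i : Fin n ↦ c.inj i.succ ≫ d) = c.inj i.succ ≫ d := by
        simp
      rw [this]
      exact hd _
    have h0 : IsFinite (c.inj 0 ≫ d) := hd 0
    have h2 : e.hom ≫ d =
        coprod.desc (c.inj 0 ≫ d) (Sigma.desc (fun i : Fin n ↦ c.inj i.succ ≫ d)) := by
      apply coprod.hom_ext
      · rw [coprod.inl_desc, ← Category.assoc, he0]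
      · rw [coprod.inr_desc]
        apply Sigma.hom_ext
        intro i
        rw [colimit.ι_desc, ← Category.assoc, ← Category.assoc, hes]
        rfl
    have h3 : IsFinite (e.hom ≫ d) := by
      rw [h2]
      infer_instance
    exact (MorphismProperty.cancel_left_of_respectsIso @IsFinite e.hom d).1 h3

/-- A morphism out of a finite coproduct of schemes is finite if it is so on every summand. -/
theorem isFinite_of_cofan {ι : Type*} [Finite ι] {X : ι → Scheme.{u}} {Y : Scheme.{u}}
    (c : Cofan X) (hc : IsColimit c) (d : c.pt ⟶ Y) (hd : ∀ i, IsFinite (c.inj i ≫ d)) :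
    IsFinite d := by
  obtain ⟨n, ⟨e⟩⟩ := Finite.exists_equiv_fin ι
  have hc' := Cofan.isColimitEquivOfEquiv e.symm c hc
  exact isFinite_of_cofan_fin _ hc' d (fun i ↦ hd (e.symm i))

instance isFinite_sigmaDesc {ι : Type*} [Finite ι] [Small.{u} ι] {X : ι → Scheme.{u}}
    {Y : Scheme.{u}} (f : ∀ i, X i ⟶ Y) [∀ i, IsFinite (f i)] : IsFinite (Sigma.desc f) := by
  refine isFinite_of_cofan (Cofan.mk (∐ X) (Sigma.ι X)) (coproductIsCoproduct _) _ (fun i ↦ ?_)
  have : (Cofan.mk (∐ X) (Sigma.ι X)).inj i ≫ Sigma.desc f = f i := by simp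
  rw [this]
  infer_instance

variable {S : Scheme.{u}} {ι : Type u}

/-- A fibre product with a coproduct of fppf sheaves is the coproduct of the fibre products with
the summands, when these are representable. -/
theorem isPullback_cofan_desc (F : ι → AlgSp.Sp S) (c : Cofan F) (hc : IsColimit c)
    {G : AlgSp.Sp S} (d : c.pt ⟶ G) {Z : Over S} (g : (AlgSp.yon S).obj Z ⟶ G)
    (Y : ι → Scheme.{u}) (f : ∀ i, Y i ⟶ S) (w : ∀ i, Over.mk (f i) ⟶ Z)
    (fst : ∀ i, (AlgSp.yon S).obj (Over.mk (f i)) ⟶ F i)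
    (h : ∀ i, IsPullback (fst i) ((AlgSp.yon S).map (w i)) (c.inj i ≫ d) g) :
    IsPullback (Cofan.IsColimit.desc (isColimitYonSigmaOver Y f) (fun i ↦ fst i ≫ c.inj i))
      ((AlgSp.yon S).map (sigmaOverDesc f w)) d g := by
  have hcW := isColimitYonSigmaOver Y f
  have hw : ∀ i, (fst i ≫ c.inj i) ≫ d = (AlgSp.yon S).map (w i) ≫ g := fun i ↦ by
    rw [Category.assoc, (h i).w]
  let p : ∀ i, (AlgSp.yon S).obj (Over.mk (f i)) ⟶ pullback d g := fun i ↦
    pullback.lift (fst i ≫ c.inj i) ((AlgSp.yon S).map (w i)) (hw i)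
  have hp1 : ∀ i, p i ≫ pullback.fst d g = fst i ≫ c.inj i := fun i ↦ pullback.lift_fst _ _ _
  have hp2 : ∀ i, p i ≫ pullback.snd d g = (AlgSp.yon S).map (w i) := fun i ↦
    pullback.lift_snd _ _ _
  have top : ∀ i, IsPullback (p i) (fst i) (pullback.fst d g) (c.inj i) := by
    intro i
    refine IsPullback.of_right ?_ (hp1 i) (IsPullback.of_hasPullback d g).flip
    rw [hp2]
    exact (h i).flip
  have vk := isVanKampenColimit_sheaf_discrete (AlgSp.J S) c hc
  let cQ : Cofan (fun i ↦ (AlgSp.yon S).obj (Over.mk (f i))) := Cofan.mk (pullback d g) p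
  have hcQ : IsColimit cQ :=
    ((vk cQ (Discrete.natTrans fun i ↦ fst i.as) (pullback.fst d g)
      (by
        apply NatTrans.ext
        funext ⟨j⟩
        exact (hp1 j).symm)
      (NatTrans.Equifibered.of_discrete _)).2 (fun ⟨i⟩ ↦ top i)).some
  let m : (AlgSp.yon S).obj (sigmaOver Y f) ⟶ pullback d g := Cofan.IsColimit.desc hcW p
  have hm : ∀ i, (AlgSp.yon S).map (sigmaOverι Y f i) ≫ m = p i := fun i ↦
    Cofan.IsColimit.fac hcW p i
  have hiso : IsIso m := by
    have : m = (hcW.coconePointUniqueUpToIso hcQ).hom := by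
      apply Cofan.IsColimit.hom_ext hcW
      intro i
      exact (hm i).trans (IsColimit.comp_coconePointUniqueUpToIso_hom hcW hcQ ⟨i⟩).symm
    rw [this]
    infer_instance
  have hm1 : m ≫ pullback.fst d g =
      Cofan.IsColimit.desc (isColimitYonSigmaOver Y f) (fun i ↦ fst i ≫ c.inj i) := by
    apply Cofan.IsColimit.hom_ext hcW
    intro i
    change (AlgSp.yon S).map (sigmaOverι Y f i) ≫ _ = (AlgSp.yon S).map (sigmaOverι Y f i) ≫ _
    rw [reassoc_of% (hm i), hp1]
    exact (Cofan.IsColimit.fac (isColimitYonSigmaOver Y f) (fun i ↦ fst i ≫ c.inj i) i).symm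
  have hm2 : m ≫ pullback.snd d g = (AlgSp.yon S).map (sigmaOverDesc f w) := by
    apply Cofan.IsColimit.hom_ext hcW
    intro i
    change (AlgSp.yon S).map (sigmaOverι Y f i) ≫ _ = (AlgSp.yon S).map (sigmaOverι Y f i) ≫ _
    rw [reassoc_of% (hm i), hp2, ← Functor.map_comp, sigmaOverι_desc]
  have hcomm : Cofan.IsColimit.desc (isColimitYonSigmaOver Y f) (fun i ↦ fst i ≫ c.inj i) ≫ d =
      (AlgSp.yon S).map (sigmaOverDesc f w) ≫ g := by
    rw [← hm1, ← hm2, Category.assoc, Category.assoc, pullback.condition]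
  exact IsPullback.of_iso_pullback ⟨hcomm⟩ (asIso m) hm1 hm2

/-- A morphism out of a finite coproduct of fppf sheaves is finite if it is so on every
summand. -/
theorem isFiniteMor_of_cofan [Finite ι] (F : ι → AlgSp.Sp S) (c : Cofan F) (hc : IsColimit c)
    {G : AlgSp.Sp S} (d : c.pt ⟶ G) (hd : ∀ i, AlgSp.IsFiniteMor (c.inj i ≫ d)) :
    AlgSp.IsFiniteMor d := by
  intro Z hZ g
  choose W w fst hpb hW hfin using fun i ↦ hd i hZ g
  refine ⟨sigmaOver (fun i ↦ (W i).left) (fun i ↦ (W i).hom),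
    sigmaOverDesc (fun i ↦ (W i).hom) (fun i ↦ w i),
    Cofan.IsColimit.desc (isColimitYonSigmaOver _ _) (fun i ↦ fst i ≫ c.inj i),
    isPullback_cofan_desc F c hc d g (fun i ↦ (W i).left) (fun i ↦ (W i).hom) (fun i ↦ w i) fst hpb,
    ?_, ?_⟩
  · change IsAffine (∐ fun i ↦ (W i).left)
    infer_instance
  · change IsFinite (Sigma.desc fun i ↦ (w i).left)
    infer_instance

end Groth.Agent.Lib.Helper51
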