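import Groth.Agent.Lib.Helper51.DescSecFpqc
import Groth.Agent.Lib.Helper26.ClosedDescent

/-!
# Descent data whose scheme is a subobject (helper51)

For a descent datum `D` relative to `p : X ⟶ S` whose scheme is a monomorphism into `X`, the
gluing bijections are automatic; `D` is effective as soon as its scheme is the preimage of a
scheme over `S`.  Closed subschemes descend along flat surjective quasi-compact morphisms
(using helper26's `ClosedDescent.main`).  A property local at the target is stable under finite
disjoint unions.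
-/

set_option autoImplicit false
set_option backward.isDefEq.respectTransparency false
set_option backward.isDefEq.respectTransparency.types false

universe u

open CategoryTheory CategoryTheory.Limits AlgebraicGeometry Opposite

namespace Groth.Agent.Lib.Helper51.DescMono

open Desc Groth.Agent.Lib.Helper51.DescFam Groth.Agent.Lib.Helper51

/-- A property local at the target holds for a finite disjoint union of morphisms having it. -/
theorem sigmaMap_of_isZariskiLocalAtTarget (P : MorphismProperty Scheme.{u})
    [IsZariskiLocalAtTarget P] {m : ℕ} (Y V : Fin m → Scheme.{u}) (q : ∀ j, Y j ⟶ V j)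
    (hq : ∀ j, P (q j)) : P (Limits.Sigma.map q) := by
  have hvk := FinitaryExtensive.isVanKampen_finiteCoproducts (coproductIsCoproduct V)
  have sq : ∀ j, IsPullback (Sigma.ι Y j) (q j) (Limits.Sigma.map q) (Sigma.ι V j) := fun j =>
    ((hvk (Cofan.mk (∐ Y) (Sigma.ι Y)) (Discrete.natTrans fun j => q j.as) (Limits.Sigma.map q)
      (by ext ⟨j⟩; simp) (NatTrans.Equifibered.of_discrete _)).1
      ⟨coproductIsCoproduct Y⟩) ⟨j⟩
  rw [IsZariskiLocalAtTarget.iff_of_openCover (P := P) (sigmaOpenCover V)]
  intro j
  have e : (sq j).isoPullback.hom ≫ pullback.snd (Limits.Sigma.map q) (Sigma.ι V j) = q j :=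
    (sq j).isoPullback_hom_snd
  have h1 : P ((sq j).isoPullback.hom ≫ pullback.snd (Limits.Sigma.map q) (Sigma.ι V j)) := by
    rw [e]
    exact hq j
  exact (P.cancel_left_of_respectsIso _ _).1 h1

section MonoDD

variable {X S : Scheme.{u}} (p : X ⟶ S) (D : SchDD p) [Mono D.obj.hom]

instance subsingleton_lifts_of_mono {T : Scheme.{u}} (x : T ⟶ X) : Subsingleton (Lifts D.obj x) :=
  ⟨fun a b => Subtype.ext ((cancel_mono D.obj.hom).1 (a.2.trans b.2.symm))⟩

/-- A descent datum whose scheme is a subobject of `X` is effective as soon as its scheme is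
the preimage of a scheme over `S`. -/
theorem nonempty_iso_of_mono (U : Over S) (e : Over.mk (pullback.fst p U.hom) ≅ D.obj) :
    Nonempty ((toDD p).obj U ≅ D) := by
  let fU : PUnit.{u + 1} → (X ⟶ S) := fun _ => p
  let E : SchDDFam fU := (SchDDFam.ofSchDD p).obj D
  have hsub : ∀ {T : Scheme.{u}} (x : T ⟶ X), Subsingleton (Lifts (E.obj ⟨⟩) x) := fun x =>
    subsingleton_lifts_of_mono p D x
  let eq : ∀ (i : PUnit.{u + 1}) ⦃T : Scheme.{u}⦄ (x : T ⟶ X),
      Lifts ((canonicalDDFam fU U).obj i) x ≃ Lifts (E.obj i) x := fun i T x =>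
    { toFun := fun v => ⟨v.1 ≫ e.hom.left, by
        rw [Category.assoc]
        have h1 : e.hom.left ≫ D.obj.hom = pullback.fst p U.hom := Over.w e.hom
        change v.1 ≫ e.hom.left ≫ D.obj.hom = x
        rw [h1]
        exact v.2⟩
      invFun := fun v => ⟨v.1 ≫ e.inv.left, by
        rw [Category.assoc]
        have h1 : e.inv.left ≫ pullback.fst p U.hom = D.obj.hom := Over.w e.inv
        change v.1 ≫ e.inv.left ≫ pullback.fst p U.hom = x
        rw [h1]
        exact v.2⟩
      left_inv := fun v => Subtype.ext (by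
        change (v.1 ≫ e.hom.left) ≫ e.inv.left = v.1
        rw [Category.assoc, ← Over.comp_left, e.hom_inv_id]
        exact Category.comp_id _)
      right_inv := fun v => Subtype.ext (by
        change (v.1 ≫ e.inv.left) ≫ e.hom.left = v.1
        rw [Category.assoc, ← Over.comp_left, e.inv_hom_id]
        exact Category.comp_id _) }
  have iso : canonicalDDFam fU U ≅ E := isoMkLifts (canonicalDDFam fU U) E eq
    (fun i T T' g x y hy v v' hv => by
      change v'.1 ≫ e.hom.left = g ≫ v.1 ≫ e.hom.left
      rw [hv, Category.assoc])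
    (fun T i j x₀ x₁ h v => (hsub x₁).elim _ _)
  exact ⟨(SchDDFam.toSchDD p).mapIso iso⟩

/-- The two preimages in `X ×_S X` of the subobject of `X` underlying a descent datum agree. -/
theorem pullback_fst_eq_pullback_snd :
    (Subobject.pullback (pullback.fst p p)).obj (Subobject.mk D.obj.hom) =
      (Subobject.pullback (pullback.snd p p)).obj (Subobject.mk D.obj.hom) := by
  have key : ∀ (a b : pullback p p ⟶ X), a ≫ p = b ≫ p →
      (Subobject.pullback a).obj (Subobject.mk D.obj.hom) ≤
        (Subobject.pullback b).obj (Subobject.mk D.obj.hom) := by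
    intro a b hab
    let Y := Subobject.mk D.obj.hom
    let A := (Subobject.pullback a).obj Y
    have sqa := Subobject.isPullback a Y
    have sqb := Subobject.isPullback b Y
    -- the point of `D.obj` over `A.arrow ≫ a`
    let l₀ : Lifts D.obj (A.arrow ≫ a) :=
      ⟨Subobject.pullbackπ a Y ≫ (Subobject.underlyingIso D.obj.hom).hom, by
        rw [Category.assoc, Subobject.underlyingIso_hom_comp_eq_mk]
        exact sqa.w⟩
    let l₁ : Lifts D.obj (A.arrow ≫ b) :=
      D.φ (A.arrow ≫ a) (A.arrow ≫ b) (by rw [Category.assoc, Category.assoc, hab]) l₀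
    have hl₁ : (l₁.1 ≫ (Subobject.underlyingIso D.obj.hom).inv) ≫ Y.arrow = A.arrow ≫ b := by
      rw [Category.assoc, Subobject.underlyingIso_arrow]
      exact l₁.2
    exact Subobject.le_of_comm (sqb.lift _ _ hl₁) (sqb.lift_snd _ _ _)
  exact le_antisymm (key _ _ pullback.condition) (key _ _ pullback.condition.symm)

end MonoDD

/-- Descent data relative to a flat, surjective, quasi-compact morphism whose scheme is a closed
subscheme are effective. -/
theorem schDD_effective_of_isClosedImmersion {X S : Scheme.{u}} (p : X ⟶ S) [Flat p]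
    [Surjective p] [QuasiCompact p] (D : SchDD p) (hD : IsClosedImmersion D.obj.hom) :
    ∃ U : Over S, Nonempty ((toDD p).obj U ≅ D) := by
  have : Mono D.obj.hom := inferInstance
  have hY : IsClosedImmersion (Subobject.mk D.obj.hom).arrow := by
    rw [← Subobject.underlyingIso_hom_comp_eq_mk]
    infer_instance
  obtain ⟨Y', hY', hYY'⟩ := (Groth.Agent.Lib.Helper26.ClosedDescent.main p).2.2
    ⟨hY, pullback_fst_eq_pullback_snd p D⟩
  rw [Subobject.pullback_obj] at hYY'
  let e₀ : pullback Y'.arrow p ≅ D.obj.left :=
    Subobject.isoOfMkEqMk (pullback.snd Y'.arrow p) D.obj.hom hYY'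
  have he₀ : e₀.hom ≫ D.obj.hom = pullback.snd Y'.arrow p := by
    change Subobject.ofMkLEMk _ _ _ ≫ _ = _
    exact Subobject.ofMkLEMk_comp _
  refine ⟨Over.mk Y'.arrow, nonempty_iso_of_mono p D (Over.mk Y'.arrow)
    (Over.isoMk ((pullbackSymmetry p Y'.arrow) ≪≫ e₀) ?_)⟩
  change ((pullbackSymmetry p Y'.arrow).hom ≫ e₀.hom) ≫ D.obj.hom = pullback.fst p Y'.arrow
  rw [Category.assoc, he₀, pullbackSymmetry_hom_comp_snd]

end Groth.Agent.Lib.Helper51.DescMono
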