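import Mathlib.AlgebraicGeometry.Morphisms.LocalFlatDescent
import Mathlib.AlgebraicGeometry.Sites.Fpqc
import Mathlib.AlgebraicGeometry.Cover.Sigma
import Mathlib.AlgebraicGeometry.Limits

/-!
# From descent along fppf surjections to locality for the fppf precoverage (helper51)
-/

set_option autoImplicit false
universe u

namespace Groth.Agent.Lib.Helper51

open CategoryTheory Limits AlgebraicGeometry MorphismProperty

/-- A property of morphisms of schemes which is Zariski local on the target, stable under base
change and descends along surjective flat locally finitely presented morphisms is local on the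
target for the fppf precoverage. -/
theorem isLocalAtTarget_fppf_of_descendsAlong (P : MorphismProperty Scheme.{u})
    [IsZariskiLocalAtTarget P] [P.IsStableUnderBaseChange]
    [P.DescendsAlong (@Surjective ⊓ @Flat ⊓ @LocallyOfFinitePresentation)] :
    P.IsLocalAtTarget Scheme.fppfPrecoverage := by
  have : Precoverage.Small.{u} Scheme.fppfPrecoverage.{u} :=
    inferInstanceAs <| Precoverage.Small.{u}
      (Scheme.precoverage (@Flat ⊓ @LocallyOfFinitePresentation))
  refine IsLocalAtTarget.mk_of_small.{u} (fun 𝒰 hf i ↦ P.pullback_snd _ _ hf) ?_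
  intro X Y f 𝒰 h
  -- the single covering morphism
  let 𝒱 : Scheme.Cover.{u} (Scheme.precoverage (@Flat ⊓ @LocallyOfFinitePresentation)) Y := 𝒰
  let q : (∐ 𝒱.X) ⟶ Y := Sigma.desc 𝒱.f
  have hq : (@Surjective ⊓ @Flat ⊓ @LocallyOfFinitePresentation : MorphismProperty Scheme.{u}) q := by
    have hmem := 𝒱.sigma.mem₀
    rw [Scheme.presieve₀_mem_precoverage_iff] at hmem
    obtain ⟨hs, hp⟩ := hmem
    have hp' := hp PUnit.unit
    refine ⟨⟨⟨fun y ↦ ?_⟩, hp'.1⟩, hp'.2⟩
    obtain ⟨_, z, hz⟩ := hs y
    exact ⟨z, hz⟩
  refine MorphismProperty.of_pullback_snd_of_descendsAlong (f := f) (g := q) hq ?_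
  -- check `P` Zariski locally on the coproduct
  refine IsZariskiLocalAtTarget.of_openCover (AlgebraicGeometry.sigmaOpenCover 𝒱.X) fun i ↦ ?_
  have h1 : IsPullback (pullback.fst (pullback.snd f q) ((AlgebraicGeometry.sigmaOpenCover 𝒱.X).f i) ≫
      pullback.fst f q) (pullback.snd (pullback.snd f q) ((AlgebraicGeometry.sigmaOpenCover 𝒱.X).f i)) f
      ((AlgebraicGeometry.sigmaOpenCover 𝒱.X).f i ≫ q) :=
    (IsPullback.of_hasPullback (pullback.snd f q) ((AlgebraicGeometry.sigmaOpenCover 𝒱.X).f i)).paste_horiz
      (IsPullback.of_hasPullback f q)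
  have h2 : (AlgebraicGeometry.sigmaOpenCover 𝒱.X).f i ≫ q = 𝒰.f i := Sigma.ι_desc _ _
  rw [h2] at h1
  change P (pullback.snd (pullback.snd f q) ((AlgebraicGeometry.sigmaOpenCover 𝒱.X).f i))
  rw [← P.cancel_left_of_respectsIso h1.isoPullback.inv, h1.isoPullback_inv_snd]
  exact h i

instance : MorphismProperty.IsLocalAtTarget (@LocallyOfFiniteType : MorphismProperty Scheme.{u})
    Scheme.fppfPrecoverage := isLocalAtTarget_fppf_of_descendsAlong _

instance : MorphismProperty.IsLocalAtTarget (@LocallyOfFinitePresentation : MorphismProperty Scheme.{u})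
    Scheme.fppfPrecoverage := isLocalAtTarget_fppf_of_descendsAlong _

instance : MorphismProperty.IsLocalAtTarget (@Etale : MorphismProperty Scheme.{u})
    Scheme.fppfPrecoverage := isLocalAtTarget_fppf_of_descendsAlong _

instance : MorphismProperty.IsLocalAtTarget (@Smooth : MorphismProperty Scheme.{u})
    Scheme.fppfPrecoverage := isLocalAtTarget_fppf_of_descendsAlong _

end Groth.Agent.Lib.Helper51
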