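import Groth.Agent.Lib.Helper51.QuotSpEff
import Groth.Agent.Lib.Helper51.EpiDescentPullback
import Groth.Agent.H52.OpenSub
import Groth.Agent.H52.Points

/-!
# The kernel pair of the quotient map of an equivalence relation (helper51)

For an equivalence relation `s, t : R ⟶ U` of fppf sheaves, `R` is the kernel pair of
`U ⟶ U/R`: the square `t, s, π, π` is cartesian.
-/

set_option autoImplicit false
universe u
open CategoryTheory CategoryTheory.Limits Opposite AlgebraicGeometry AlgSp

namespace Groth.Agent.Lib.Helper51

variable {S : Scheme.{u}} {R U : Sp S} (s t : R ⟶ U)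

/-- For an equivalence relation `(t, s) : R ⟶ U × U` of sheaves, `R = U ×_{U/R} U`. -/
theorem isPullback_quotSpπ_of_isEqvRelSp (hj : IsEqvRelSp s t) :
    IsPullback t s (quotSpπ s t) (quotSpπ s t) := by
  have w : t ≫ quotSpπ s t = s ≫ quotSpπ s t := (coequalizer.condition s t).symm
  have hmono : Mono (pullback.lift t s w) := by
    apply mono_of_forall_yon
    intro T x y hxy
    apply hj.injective T x y
    · have := congrArg (· ≫ pullback.fst (quotSpπ s t) (quotSpπ s t)) hxy
      simpa only [Category.assoc, pullback.lift_fst] using this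
    · have := congrArg (· ≫ pullback.snd (quotSpπ s t) (quotSpπ s t)) hxy
      simpa only [Category.assoc, pullback.lift_snd] using this
  have hepi : Epi (pullback.lift t s w) := by
    apply epi_of_forall_local_lift
    intro T z
    obtain ⟨Sv, hSv, hl⟩ := exists_cover_rel_of_quotSpπ_eq s t hj.equivalence
      (z ≫ pullback.fst _ _) (z ≫ pullback.snd _ _)
      (by rw [Category.assoc, Category.assoc, pullback.condition])
    refine ⟨Sv, hSv, fun Y f hf => ?_⟩
    obtain ⟨r, hr1, hr2⟩ := hl f hf
    refine ⟨r, ?_⟩
    apply pullback.hom_ext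
    · rw [Category.assoc, pullback.lift_fst, hr1, Category.assoc]
    · rw [Category.assoc, pullback.lift_snd, hr2, Category.assoc]
  have hiso : IsIso (pullback.lift t s w) := isIso_of_mono_of_epi_sp _
  exact IsPullback.of_iso_pullback ⟨w⟩ (asIso (pullback.lift t s w))
    (pullback.lift_fst _ _ _) (pullback.lift_snd _ _ _)

/-- An epimorphism of fppf sheaves is surjective on points. -/
theorem isSurjectiveMor_of_epi {F G : Sp S} (e : F ⟶ G) [Epi e] : IsSurjectiveMor e := by
  intro y
  induction y using Points.ind with
  | h q =>
    obtain ⟨W', g, u, ⟨w', -⟩, hu⟩ := H52.exists_local_lift_of_epi e (H52.fieldPtToHom q)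
      (IsLocalRing.closedPoint q.K : ↥(Spec (CommRingCat.of q.K)))
    refine ⟨Points.map u (Points.ofScheme W' w'), ?_⟩
    rw [← Points.map_comp, hu, Points.map_comp, H52.points_mk_eq_map_tautPt q]
    congr 1
    exact Subsingleton.elim _ _

/-- The quotient map of a pair of morphisms of sheaves is surjective on points. -/
theorem isSurjectiveMor_quotSpπ : IsSurjectiveMor (quotSpπ s t) := by
  have hepi : Epi (quotSpπ s t) := coequalizer.π_epi
  exact isSurjectiveMor_of_epi _

end Groth.Agent.Lib.Helper51
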