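import Groth.Agent.Lib.Helper51.RelFPRing
import Groth.Agent.Lib.Helper45.FiniteType
import Groth.Prelude.Def_Flatn

/-!
# Relative finite presentation of modules on schemes is affine-local (helper51)

For `f : X ⟶ S` locally of finite type and `F` a quasi-coherent `O_X`-module:

* `relFPOn_basicOpen`: `Flatn.RelFPOn f F U V` passes to basic opens of `U`;
* `relFPOn_of_span`, `relFPOn_of_forall_exists`: it may be checked on a cover of `U` by basic opens;
* `relFPOn_base_iff`: it does not depend on the affine open `V ⊇ f(U)` of the base;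
* `relFPOn_comp_iff`: changing the base along a morphism locally of finite presentation;
* `relFPOn_of_isRelFP`: `Flatn.IsRelFP f F` implies `RelFPOn` on all pairs of affine opens;
* `isRelFP_of_forall`: the converse; `isRelFP_iff`: both together.
-/

set_option autoImplicit false
universe u

open AlgebraicGeometry CategoryTheory Limits TopologicalSpace Opposite

namespace Groth.Agent.Lib.Helper51.RelFPSch

open Groth.Agent.Lib.Helper51.RelFPRing Groth.Agent.Lib.Helper45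

attribute [local instance] sectionsBasicOpenModule

section

variable {X S : Scheme.{u}} (f : X ⟶ S) (F : X.Modules)

/-- Relative finite presentation on an affine open passes to basic opens. -/
theorem relFPOn_basicOpen [SheafOfModules.IsQuasicoherent.{u, u, u} F] (U : X.affineOpens)
    (V : S.affineOpens) (hUV : (U : X.Opens) ≤ f ⁻¹ᵁ (V : S.Opens)) (g : Γ(X, (U : X.Opens)))
    (h : Flatn.RelFPOn f F U V hUV) :
    Flatn.RelFPOn f F (X.affineBasicOpen g) V ((X.basicOpen_le g).trans hUV) := by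
  unfold Flatn.RelFPOn at h ⊢
  let algU : Algebra Γ(S, (V : S.Opens)) Γ(X, (U : X.Opens)) :=
    (f.appLE (V : S.Opens) (U : X.Opens) hUV).hom.toAlgebra
  let algg : Algebra Γ(S, (V : S.Opens)) Γ(X, X.basicOpen g) :=
    (f.appLE (V : S.Opens) (X.basicOpen g) ((X.basicOpen_le g).trans hUV)).hom.toAlgebra
  have tower : IsScalarTower Γ(S, (V : S.Opens)) Γ(X, (U : X.Opens)) Γ(X, X.basicOpen g) := by
    refine IsScalarTower.of_algebraMap_eq' ?_
    change (f.appLE (V : S.Opens) (X.basicOpen g) _).hom =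
      (X.presheaf.map (homOfLE (X.basicOpen_le g)).op).hom.comp
        (f.appLE (V : S.Opens) (U : X.Opens) hUV).hom
    rw [← CommRingCat.hom_comp, Scheme.Hom.appLE_map]
  have hloc : IsLocalization.Away g Γ(X, X.basicOpen g) := U.2.isLocalization_basicOpen g
  have hfp : Algebra.FinitePresentation Γ(X, (U : X.Opens)) Γ(X, X.basicOpen g) :=
    IsLocalization.Away.finitePresentation g
  have hlocM : IsLocalizedModule.Away g (restrictBasicOpenₗ F g) :=
    isLocalizedModule_restrictBasicOpenₗ U.2 F g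
  have hbc : IsBaseChange Γ(X, X.basicOpen g) (restrictBasicOpenₗ F g) :=
    IsLocalizedModule.isBaseChange (Submonoid.powers g) Γ(X, X.basicOpen g) (restrictBasicOpenₗ F g)
  change FlatCA.RelFinitePresentation Γ(S, (V : S.Opens)) Γ(X, X.basicOpen g) Γ(F, X.basicOpen g)
  exact relFP_of_isBaseChange (restrictBasicOpenₗ F g) hbc h

/-- Relative finite presentation on an affine open can be checked on a covering family of
basic opens. -/
theorem relFPOn_of_span [LocallyOfFiniteType f] [SheafOfModules.IsQuasicoherent.{u, u, u} F]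
    (U : X.affineOpens) (V : S.affineOpens)
    (hUV : (U : X.Opens) ≤ f ⁻¹ᵁ (V : S.Opens)) (s : Set Γ(X, (U : X.Opens)))
    (hs : Ideal.span s = ⊤)
    (H : ∀ g ∈ s, Flatn.RelFPOn f F (X.affineBasicOpen g) V ((X.basicOpen_le g).trans hUV)) :
    Flatn.RelFPOn f F U V hUV := by
  unfold Flatn.RelFPOn at H ⊢
  let algU : Algebra Γ(S, (V : S.Opens)) Γ(X, (U : X.Opens)) :=
    (f.appLE (V : S.Opens) (U : X.Opens) hUV).hom.toAlgebra
  let algg : ∀ g : s, Algebra Γ(S, (V : S.Opens)) Γ(X, X.basicOpen g.val) := fun g =>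
    (f.appLE (V : S.Opens) (X.basicOpen g.val) ((X.basicOpen_le g.val).trans hUV)).hom.toAlgebra
  have tower : ∀ g : s, IsScalarTower Γ(S, (V : S.Opens)) Γ(X, (U : X.Opens))
      Γ(X, X.basicOpen g.val) := fun g => by
    refine IsScalarTower.of_algebraMap_eq' ?_
    change (f.appLE (V : S.Opens) (X.basicOpen g.val) _).hom =
      (X.presheaf.map (homOfLE (X.basicOpen_le g.val)).op).hom.comp
        (f.appLE (V : S.Opens) (U : X.Opens) hUV).hom
    rw [← CommRingCat.hom_comp, Scheme.Hom.appLE_map]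
  have hft : Algebra.FiniteType Γ(S, (V : S.Opens)) Γ(X, (U : X.Opens)) :=
    HasRingHomProperty.appLE (P := @LocallyOfFiniteType) f inferInstance V U hUV
  have hloc : ∀ g : s, IsLocalization.Away g.val Γ(X, X.basicOpen g.val) := fun g =>
    U.2.isLocalization_basicOpen g.val
  have hlocM : ∀ g : s, IsLocalizedModule (Submonoid.powers g.val) (restrictBasicOpenₗ F g.val) :=
    fun g => isLocalizedModule_restrictBasicOpenₗ U.2 F g.val
  change FlatCA.RelFinitePresentation Γ(S, (V : S.Opens)) Γ(X, (U : X.Opens)) Γ(F, (U : X.Opens))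
  exact relFP_of_localizationSpan' (R := Γ(S, (V : S.Opens))) Γ(F, (U : X.Opens)) s hs
    (Aₚ := fun g => Γ(X, X.basicOpen g.val)) (Mₚ := fun g => Γ(F, X.basicOpen g.val))
    (fun g => restrictBasicOpenₗ F g.val) (fun g => H g.val g.2)

/-- Relative finite presentation on an affine open can be checked locally on basic opens. -/
theorem relFPOn_of_forall_exists [LocallyOfFiniteType f]
    [SheafOfModules.IsQuasicoherent.{u, u, u} F]
    (U : X.affineOpens) (V : S.affineOpens)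
    (hUV : (U : X.Opens) ≤ f ⁻¹ᵁ (V : S.Opens))
    (H : ∀ x ∈ (U : X.Opens), ∃ g : Γ(X, (U : X.Opens)), x ∈ X.basicOpen g ∧
      Flatn.RelFPOn f F (X.affineBasicOpen g) V ((X.basicOpen_le g).trans hUV)) :
    Flatn.RelFPOn f F U V hUV := by
  let s : Set Γ(X, (U : X.Opens)) :=
    {g | Flatn.RelFPOn f F (X.affineBasicOpen g) V ((X.basicOpen_le g).trans hUV)}
  refine relFPOn_of_span f F U V hUV s ?_ (fun g hg => hg)
  rw [← U.2.self_le_iSup_basicOpen_iff]
  intro x hx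
  obtain ⟨g, hxg, hg⟩ := H x hx
  exact Opens.mem_iSup.mpr ⟨⟨g, hg⟩, hxg⟩

theorem finitePresentation_res {V' V : S.Opens} (hV' : IsAffineOpen V') (hV : IsAffineOpen V)
    (h : V' ≤ V) : (S.presheaf.map (homOfLE h).op).hom.FinitePresentation := by
  have h1 := HasRingHomProperty.appLE (P := @LocallyOfFinitePresentation) (𝟙 S) inferInstance
    ⟨V, hV⟩ ⟨V', hV'⟩ (by simpa using h)
  have h2 : (𝟙 S : S ⟶ S).appLE V V' (by simpa using h) = S.presheaf.map (homOfLE h).op := by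
    rw [Scheme.Hom.appLE, Scheme.Hom.id_app]
    exact Category.id_comp _
  rw [h2] at h1
  exact h1

/-- Shrinking or enlarging the affine open of the base. -/
theorem relFPOn_base_iff (U : X.affineOpens) (V' V : S.affineOpens)
    (hV : (V' : S.Opens) ≤ (V : S.Opens))
    (hUV' : (U : X.Opens) ≤ f ⁻¹ᵁ (V' : S.Opens)) (hUV : (U : X.Opens) ≤ f ⁻¹ᵁ (V : S.Opens)) :
    Flatn.RelFPOn f F U V' hUV' ↔ Flatn.RelFPOn f F U V hUV := by
  unfold Flatn.RelFPOn
  let a1 : Algebra Γ(S, (V : S.Opens)) Γ(S, (V' : S.Opens)) :=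
    (S.presheaf.map (homOfLE hV).op).hom.toAlgebra
  let a2 : Algebra Γ(S, (V' : S.Opens)) Γ(X, (U : X.Opens)) :=
    (f.appLE (V' : S.Opens) (U : X.Opens) hUV').hom.toAlgebra
  let a3 : Algebra Γ(S, (V : S.Opens)) Γ(X, (U : X.Opens)) :=
    (f.appLE (V : S.Opens) (U : X.Opens) hUV).hom.toAlgebra
  have tower : IsScalarTower Γ(S, (V : S.Opens)) Γ(S, (V' : S.Opens)) Γ(X, (U : X.Opens)) := by
    refine IsScalarTower.of_algebraMap_eq' ?_
    change (f.appLE (V : S.Opens) (U : X.Opens) hUV).hom =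
      (f.appLE (V' : S.Opens) (U : X.Opens) hUV').hom.comp (S.presheaf.map (homOfLE hV).op).hom
    rw [← CommRingCat.hom_comp, Scheme.Hom.map_appLE]
  have hfp' : Algebra.FinitePresentation Γ(S, (V : S.Opens)) Γ(S, (V' : S.Opens)) :=
    finitePresentation_res V'.2 V.2 hV
  exact relFP_change_base (R := Γ(S, (V : S.Opens))) (R' := Γ(S, (V' : S.Opens)))
    (A := Γ(X, (U : X.Opens))) (F.val.obj (op (U : X.Opens)))

theorem relFPOn_congr {U U' : X.affineOpens} (e : U = U') (V : S.affineOpens)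
    (h : (U : X.Opens) ≤ f ⁻¹ᵁ (V : S.Opens)) (h' : (U' : X.Opens) ≤ f ⁻¹ᵁ (V : S.Opens)) :
    Flatn.RelFPOn f F U V h ↔ Flatn.RelFPOn f F U' V h' := by
  subst e
  rfl

/-- The affine-local characterization of relative finite presentation, hard direction. -/
theorem relFPOn_of_isRelFP [LocallyOfFiniteType f] [SheafOfModules.IsQuasicoherent.{u, u, u} F]
    (h : Flatn.IsRelFP f F) (U₀ : X.affineOpens) (V₀ : S.affineOpens)
    (h₀ : (U₀ : X.Opens) ≤ f ⁻¹ᵁ (V₀ : S.Opens)) : Flatn.RelFPOn f F U₀ V₀ h₀ := by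
  obtain ⟨𝒱, h𝒱, H⟩ := h
  apply relFPOn_of_forall_exists
  intro x hx
  have hfx : f x ∈ (⨆ V ∈ 𝒱, (V : S.Opens)) := by rw [h𝒱]; trivial
  obtain ⟨V, hV𝒱, hfxV⟩ : ∃ V ∈ 𝒱, f x ∈ (V : S.Opens) := by
    simpa [Opens.mem_iSup] using hfx
  obtain ⟨𝒰, h𝒰, HU⟩ := H V hV𝒱
  have hxU' : x ∈ (⨆ U ∈ 𝒰, (U : X.Opens)) := by rw [h𝒰]; exact hfxV
  obtain ⟨U, hU𝒰, hxU⟩ : ∃ U ∈ 𝒰, x ∈ (U : X.Opens) := by
    simpa [Opens.mem_iSup] using hxU'
  have hUV : (U : X.Opens) ≤ f ⁻¹ᵁ (V : S.Opens) := by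
    rw [← h𝒰]
    exact le_iSup₂ (f := fun (U : X.affineOpens) (_ : U ∈ 𝒰) => (U : X.Opens)) U hU𝒰
  have hrel := HU U hU𝒰 hUV
  -- an affine neighbourhood of `f x` inside `V₀ ⊓ V`
  obtain ⟨V₁, hV₁aff, hfxV₁, hV₁le⟩ : ∃ V₁ : S.Opens, IsAffineOpen V₁ ∧ f x ∈ V₁ ∧
      V₁ ≤ (V₀ : S.Opens) ⊓ (V : S.Opens) := by
    obtain ⟨V₁, hV₁, hx₁, hle⟩ := (Opens.isBasis_iff_nbhd.mp S.isBasis_affineOpens)
      (show f x ∈ (V₀ : S.Opens) ⊓ (V : S.Opens) from ⟨h₀ hx, hfxV⟩)
    exact ⟨V₁, hV₁, hx₁, hle⟩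
  -- a basic open of `U` inside `U₀ ⊓ f⁻¹ V₁`
  obtain ⟨a, haW, hxa⟩ := U.2.exists_basicOpen_le
    (V := (U₀ : X.Opens) ⊓ f ⁻¹ᵁ V₁) ⟨x, ⟨hx, hfxV₁⟩⟩ hxU
  -- a common basic open of `U₀` and `D(a)`
  obtain ⟨g₀, b, hgb, hxg⟩ := exists_basicOpen_le_affine_inter U₀.2 (U.2.basicOpen a) x ⟨hx, hxa⟩
  refine ⟨g₀, hxg, ?_⟩
  have h1 := relFPOn_basicOpen f F U V hUV a hrel
  have h2 := relFPOn_basicOpen f F (X.affineBasicOpen a) V ((X.basicOpen_le a).trans hUV) b h1
  have hb₁ : ((X.affineBasicOpen (U := X.affineBasicOpen a) b : X.affineOpens) : X.Opens) ≤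
      f ⁻¹ᵁ V₁ :=
    (X.basicOpen_le b).trans (haW.trans inf_le_right)
  have h3 := (relFPOn_base_iff f F (X.affineBasicOpen (U := X.affineBasicOpen a) b) ⟨V₁, hV₁aff⟩ V
    (hV₁le.trans inf_le_right) hb₁ _).mpr h2
  have hb₀ : ((X.affineBasicOpen (U := X.affineBasicOpen a) b : X.affineOpens) : X.Opens) ≤
      f ⁻¹ᵁ (V₀ : S.Opens) :=
    hb₁.trans (f.preimage_mono (hV₁le.trans inf_le_left))
  have h4 := (relFPOn_base_iff f F (X.affineBasicOpen (U := X.affineBasicOpen a) b) ⟨V₁, hV₁aff⟩ V₀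
    (hV₁le.trans inf_le_left) hb₁ hb₀).mp h3
  have e : X.affineBasicOpen (U := X.affineBasicOpen a) b = X.affineBasicOpen g₀ :=
    Subtype.ext hgb.symm
  exact (relFPOn_congr f F e V₀ hb₀ _).mp h4

theorem iSup_affineOpens_le (W : X.Opens) :
    (⨆ U ∈ {U : X.affineOpens | (U : X.Opens) ≤ W}, (U : X.Opens)) = W := by
  apply le_antisymm
  · exact iSup₂_le fun U hU => hU
  · intro x hx
    obtain ⟨U', hU', hxU', hle⟩ := (Opens.isBasis_iff_nbhd.mp X.isBasis_affineOpens) hx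
    exact Opens.mem_iSup.mpr ⟨⟨U', hU'⟩, Opens.mem_iSup.mpr ⟨hle, hxU'⟩⟩

/-- The affine-local characterization of relative finite presentation, easy direction. -/
theorem isRelFP_of_forall
    (H : ∀ (U : X.affineOpens) (V : S.affineOpens) (h : (U : X.Opens) ≤ f ⁻¹ᵁ (V : S.Opens)),
      Flatn.RelFPOn f F U V h) : Flatn.IsRelFP f F :=
  ⟨{V : S.affineOpens | (V : S.Opens) ≤ ⊤}, iSup_affineOpens_le ⊤, fun V _ =>
    ⟨{U : X.affineOpens | (U : X.Opens) ≤ f ⁻¹ᵁ (V : S.Opens)}, iSup_affineOpens_le _,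
      fun U _ h => H U V h⟩⟩

theorem isRelFP_iff [LocallyOfFiniteType f] [SheafOfModules.IsQuasicoherent.{u, u, u} F] :
    Flatn.IsRelFP f F ↔
      ∀ (U : X.affineOpens) (V : S.affineOpens) (h : (U : X.Opens) ≤ f ⁻¹ᵁ (V : S.Opens)),
        Flatn.RelFPOn f F U V h :=
  ⟨fun h U V hUV => relFPOn_of_isRelFP f F h U V hUV, isRelFP_of_forall f F⟩

end

section

variable {X Y S : Scheme.{u}} (f : X ⟶ Y) (g : Y ⟶ S) (F : X.Modules)

/-- Changing the base affine open along a ring map of finite presentation. -/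
theorem relFPOn_comp_iff (U : X.affineOpens) (V : Y.affineOpens) (W : S.affineOpens)
    (hUV : (U : X.Opens) ≤ f ⁻¹ᵁ (V : Y.Opens)) (hVW : (V : Y.Opens) ≤ g ⁻¹ᵁ (W : S.Opens))
    (hUW : (U : X.Opens) ≤ (f ≫ g) ⁻¹ᵁ (W : S.Opens))
    (hfp : (g.appLE (W : S.Opens) (V : Y.Opens) hVW).hom.FinitePresentation) :
    Flatn.RelFPOn f F U V hUV ↔ Flatn.RelFPOn (f ≫ g) F U W hUW := by
  unfold Flatn.RelFPOn
  let a1 : Algebra Γ(S, (W : S.Opens)) Γ(Y, (V : Y.Opens)) :=
    (g.appLE (W : S.Opens) (V : Y.Opens) hVW).hom.toAlgebra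
  let a2 : Algebra Γ(Y, (V : Y.Opens)) Γ(X, (U : X.Opens)) :=
    (f.appLE (V : Y.Opens) (U : X.Opens) hUV).hom.toAlgebra
  let a3 : Algebra Γ(S, (W : S.Opens)) Γ(X, (U : X.Opens)) :=
    ((f ≫ g).appLE (W : S.Opens) (U : X.Opens) hUW).hom.toAlgebra
  have tower : IsScalarTower Γ(S, (W : S.Opens)) Γ(Y, (V : Y.Opens)) Γ(X, (U : X.Opens)) := by
    refine IsScalarTower.of_algebraMap_eq' ?_
    change ((f ≫ g).appLE (W : S.Opens) (U : X.Opens) hUW).hom =
      (f.appLE (V : Y.Opens) (U : X.Opens) hUV).hom.comp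
        (g.appLE (W : S.Opens) (V : Y.Opens) hVW).hom
    rw [← CommRingCat.hom_comp, Scheme.Hom.appLE_comp_appLE]
  have hfp' : Algebra.FinitePresentation Γ(S, (W : S.Opens)) Γ(Y, (V : Y.Opens)) := hfp
  exact relFP_change_base (R := Γ(S, (W : S.Opens))) (R' := Γ(Y, (V : Y.Opens)))
    (A := Γ(X, (U : X.Opens))) (F.val.obj (op (U : X.Opens)))

end

end Groth.Agent.Lib.Helper51.RelFPSch
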