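import Mathlib.FieldTheory.IsAlgClosed.Classification
import Mathlib.FieldTheory.IsAlgClosed.AlgebraicClosure
import Mathlib.RingTheory.AlgebraicIndependent.TranscendenceBasis

/-!
# Two embeddings of a field into a large algebraically closed field differ by an automorphism
(helper51)
-/

set_option autoImplicit false
universe u
open Cardinal

namespace Groth.Agent.Lib.Helper51

/-- Algebraically closed extensions of `k` of the same transcendence degree are isomorphic over
`k`. -/
theorem exists_ringEquiv_of_trdeg_eq {k A₁ A₂ : Type u} [Field k] [Field A₁] [Field A₂]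
    [Algebra k A₁] [Algebra k A₂] [IsAlgClosed A₁] [IsAlgClosed A₂]
    (h : Algebra.trdeg k A₁ = Algebra.trdeg k A₂) :
    ∃ τ : A₁ ≃+* A₂, (τ : A₁ →+* A₂).comp (algebraMap k A₁) = algebraMap k A₂ := by
  obtain ⟨ι₁, v, hv⟩ := exists_isTranscendenceBasis' k A₁
  obtain ⟨ι₂, w, hw⟩ := exists_isTranscendenceBasis' k A₂
  have hcard : #ι₁ = #ι₂ := by
    rw [hv.cardinalMk_eq_trdeg, hw.cardinalMk_eq_trdeg, h]
  obtain ⟨e⟩ := Cardinal.eq.1 hcard
  have := IsAlgClosed.isAlgClosure_of_transcendence_basis v hv
  have := IsAlgClosed.isAlgClosure_of_transcendence_basis w hw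
  let e₀ : Algebra.adjoin k (Set.range v) ≃ₐ[k] Algebra.adjoin k (Set.range w) :=
    hv.1.aevalEquiv.symm.trans ((MvPolynomial.renameEquiv k e).trans hw.1.aevalEquiv)
  refine ⟨IsAlgClosure.equivOfEquiv A₁ A₂ e₀.toRingEquiv, ?_⟩
  ext x
  have h1 : algebraMap k A₁ x =
      algebraMap (Algebra.adjoin k (Set.range v)) A₁ (algebraMap k _ x) := rfl
  have h2 : algebraMap k A₂ x =
      algebraMap (Algebra.adjoin k (Set.range w)) A₂ (algebraMap k _ x) := rfl
  rw [RingHom.comp_apply, h1, h2]
  change IsAlgClosure.equivOfEquiv A₁ A₂ e₀.toRingEquiv _ = _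
  rw [IsAlgClosure.equivOfEquiv_algebraMap]
  congr 1
  exact e₀.commutes x

/-- The transcendence degree over a subfield `k` of a field `k'` of large transcendence degree
over an intermediate field `K`. -/
theorem trdeg_comp_eq_of_large {k K k' : Type u} [Field k] [Field K] [Field k']
    (a : k →+* K) (incl : K →+* k')
    (h1 : ℵ₀ ≤ @Algebra.trdeg K k' _ _ incl.toAlgebra)
    (h2 : #K ≤ @Algebra.trdeg K k' _ _ incl.toAlgebra) :
    @Algebra.trdeg k k' _ _ (incl.comp a).toAlgebra = @Algebra.trdeg K k' _ _ incl.toAlgebra := by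
  let _ : Algebra K k' := incl.toAlgebra
  let _ : Algebra k K := a.toAlgebra
  let _ : Algebra k k' := (incl.comp a).toAlgebra
  have : IsScalarTower k K k' := IsScalarTower.of_algebraMap_eq (fun _ => rfl)
  have hadd := trdeg_add_eq k K (A := k')
  have hle : Algebra.trdeg k K ≤ #K := by
    obtain ⟨s, hs⟩ := exists_isTranscendenceBasis k K
    rw [← hs.cardinalMk_eq_trdeg]
    exact Cardinal.mk_set_le s
  rw [← hadd]
  exact Cardinal.add_eq_right h1 (hle.trans h2)

/-- Two embeddings `a, b : k → K` become conjugate under an automorphism of any algebraically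
closed extension `k'` of `K` of large transcendence degree over `K`. -/
theorem exists_aut_of_large {k K k' : Type u} [Field k] [Field K] [Field k'] [IsAlgClosed k']
    (a b : k →+* K) (incl : K →+* k')
    (h1 : ℵ₀ ≤ @Algebra.trdeg K k' _ _ incl.toAlgebra)
    (h2 : #K ≤ @Algebra.trdeg K k' _ _ incl.toAlgebra) :
    ∃ τ : k' ≃+* k', (τ : k' →+* k').comp (incl.comp a) = incl.comp b := by
  have h := (trdeg_comp_eq_of_large a incl h1 h2).trans (trdeg_comp_eq_of_large b incl h1 h2).symm
  obtain ⟨τ, hτ⟩ := @exists_ringEquiv_of_trdeg_eq k k' k' _ _ _ (incl.comp a).toAlgebra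
    (incl.comp b).toAlgebra _ _ h
  exact ⟨τ, hτ⟩

/-- Every field has an algebraically closed extension (in the same universe) of transcendence
degree at least `ℵ₀` and at least the cardinality of the field. -/
theorem exists_algClosed_large (K : Type u) [Field K] :
    ∃ (k' : Type u) (_ : Field k') (_ : IsAlgClosed k') (incl : K →+* k'),
      ℵ₀ ≤ @Algebra.trdeg K k' _ _ incl.toAlgebra ∧ #K ≤ @Algebra.trdeg K k' _ _ incl.toAlgebra := by
  let P := MvPolynomial (ℕ × K) K
  let L := FractionRing P
  let k' := AlgebraicClosure L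
  let f : P →ₐ[K] k' := IsScalarTower.toAlgHom K P k'
  have hf : Function.Injective f := by
    have h1 : Function.Injective (algebraMap P L) := IsFractionRing.injective P L
    have h2 : Function.Injective (algebraMap L k') := (algebraMap L k').injective
    have : (f : P → k') = algebraMap L k' ∘ algebraMap P L := by
      funext x
      exact IsScalarTower.algebraMap_apply P L k' x
    rw [this]
    exact h2.comp h1
  have hind : AlgebraicIndependent K (f ∘ MvPolynomial.X) :=
    (MvPolynomial.algebraicIndependent_X (ℕ × K) K).map' hf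
  have hle := hind.cardinalMk_le_trdeg
  have halg : (algebraMap K k').toAlgebra = (inferInstance : Algebra K k') := by
    apply Algebra.algebra_ext
    intro r
    rfl
  refine ⟨k', inferInstance, inferInstance, algebraMap K k', ?_, ?_⟩
  · rw [halg]
    refine le_trans ?_ hle
    rw [Cardinal.mk_prod, Cardinal.mk_nat, Cardinal.lift_aleph0, Cardinal.lift_uzero]
    exact Cardinal.le_mul_right (Cardinal.mk_ne_zero K)
  · rw [halg]
    refine le_trans ?_ hle
    rw [Cardinal.mk_prod, Cardinal.mk_nat, Cardinal.lift_aleph0, Cardinal.lift_uzero]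
    exact Cardinal.le_mul_left Cardinal.aleph0_ne_zero

/-- Given two embeddings `a, b : k → K` of fields there are an algebraically closed extension
`incl : K → k'` and an automorphism `τ` of `k'` with `τ ∘ incl ∘ a = incl ∘ b`. -/
theorem exists_algClosed_aut_of_two_embeddings {k K : Type u} [Field k] [Field K] (a b : k →+* K) :
    ∃ (k' : Type u) (_ : Field k') (_ : IsAlgClosed k') (incl : K →+* k') (τ : k' ≃+* k'),
      (τ : k' →+* k').comp (incl.comp a) = incl.comp b := by
  obtain ⟨k', _, _, incl, h1, h2⟩ := exists_algClosed_large K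
  obtain ⟨τ, hτ⟩ := exists_aut_of_large a b incl h1 h2
  exact ⟨k', inferInstance, inferInstance, incl, τ, hτ⟩

end Groth.Agent.Lib.Helper51
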