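import Groth.Agent.Lib.Helper51.VanKampenTypes
import Mathlib.CategoryTheory.Sites.LeftExact
import Mathlib.CategoryTheory.Limits.FunctorCategory.Basic

/-!
# Arbitrary coproducts of sheaves of types are van Kampen colimits (helper51)
-/

set_option autoImplicit false
universe w v u u'

namespace Groth.Agent.Lib.Helper51

open CategoryTheory Limits

/-- Colimit cocones over discrete diagrams of presheaves of types are van Kampen. -/
theorem isVanKampenColimit_presheaf_discrete {C : Type u} [Category.{v} C] {ι : Type u'}
    [HasColimitsOfShape (Discrete ι) (Type w)]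
    {F : Discrete ι ⥤ (Cᵒᵖ ⥤ Type w)} (c : Cocone F) (hc : IsColimit c) :
    IsVanKampenColimit c :=
  isVanKampenColimit_of_evaluation _ c fun _ ↦
    isVanKampenColimit_types_discrete _ (isColimitOfPreserves _ hc)

/-- Colimit cocones over discrete diagrams are van Kampen in a reflective localization `D` of `C`
with left exact reflector, if they are in `C`. -/
theorem isVanKampenColimit_discrete_of_reflective {C : Type*} [Category C] {D : Type*} [Category D]
    {ι : Type u'} [HasColimitsOfShape (Discrete ι) C] [HasPullbacks C]
    (hC : ∀ {F : Discrete ι ⥤ C} (c : Cocone F), IsColimit c → IsVanKampenColimit c)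
    {Gl : C ⥤ D} {Gr : D ⥤ C} (adj : Gl ⊣ Gr) [Gr.Full] [Gr.Faithful]
    [PreservesLimitsOfShape WalkingCospan Gl]
    {F : Discrete ι ⥤ D} (c : Cocone F) (hc : IsColimit c) : IsVanKampenColimit c := by
  have : PreservesColimitsOfSize Gl := adj.leftAdjoint_preservesColimits
  apply (IsVanKampenColimit.precompose_isIso_iff
    (Functor.isoWhiskerLeft _ (asIso adj.counit) ≪≫ Functor.rightUnitor _).hom).mp
  refine ((hC _ (colimit.isColimit <| F ⋙ Gr)).map_reflective adj).of_iso
    (IsColimit.uniqueUpToIso ?_ ?_)
  · exact isColimitOfPreserves Gl (colimit.isColimit _)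
  · exact (IsColimit.precomposeHomEquiv _ _).symm hc

/-- Colimit cocones over discrete diagrams of sheaves of types are van Kampen. -/
theorem isVanKampenColimit_sheaf_discrete {C : Type u} [Category.{v} C]
    (J : GrothendieckTopology C) {ι : Type u'} [HasColimitsOfShape (Discrete ι) (Type w)]
    [HasSheafify J (Type w)]
    {F : Discrete ι ⥤ Sheaf J (Type w)} (c : Cocone F) (hc : IsColimit c) :
    IsVanKampenColimit c :=
  isVanKampenColimit_discrete_of_reflective (C := Cᵒᵖ ⥤ Type w)
    (fun c hc ↦ isVanKampenColimit_presheaf_discrete c hc)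
    (sheafificationAdjunction J (Type w)) c hc

end Groth.Agent.Lib.Helper51
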