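import Groth.Agent.Lib.Helper51.YonCoprod
import Groth.Agent.Lib.Helper51.VanKampenSheaf

/-!
# Coproducts of fppf sheaves: open and closed decompositions (helper51)
-/

set_option autoImplicit false
universe u

namespace Groth.Agent.Lib.Helper51

open CategoryTheory Limits AlgebraicGeometry Opposite

/-- The coprojections of a coproduct of schemes are closed immersions. -/
instance isClosedImmersion_sigmaι {ι : Type u} (Y : ι → Scheme.{u}) (i : ι) :
    IsClosedImmersion (Sigma.ι Y i) := by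
  apply IsClosedImmersion.of_isPreimmersion
  rw [← isOpen_compl_iff]
  have : (Set.range (Sigma.ι Y i))ᶜ = ⋃ j ∈ {j | j ≠ i}, Set.range (Sigma.ι Y j) := by
    ext x
    simp only [Set.mem_compl_iff, Set.mem_range, ne_eq, Set.mem_ofPred_eq, Set.mem_iUnion,
      exists_prop]
    constructor
    · intro hx
      obtain ⟨j, y, hy⟩ := (sigmaOpenCover Y).exists_eq x
      refine ⟨j, ?_, y, hy⟩
      rintro rfl
      exact hx ⟨y, hy⟩
    · rintro ⟨j, hj, y, hy⟩ ⟨z, hz⟩
      have := (sigmaι_eq_iff Y i j z y).1 (hz.trans hy.symm)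
      exact hj (congr_arg Sigma.fst this).symm
  rw [this]
  exact isOpen_biUnion fun j _ ↦ (Sigma.ι Y j).isOpenEmbedding.isOpen_range

variable {S : Scheme.{u}}

/-- `h_S` is the terminal fppf sheaf over `S`. -/
noncomputable def isTerminalYonId : IsTerminal ((AlgSp.yon S).obj (Over.mk (𝟙 S))) :=
  IsTerminal.isTerminalObj (AlgSp.yon S) _ Over.mkIdTerminal

section

variable {ι : Type u} (F : ι → AlgSp.Sp S) (c : Cofan F)

/-- The index scheme `∐_ι S` over `S`. -/
noncomputable abbrev idxOver (ι : Type u) (S : Scheme.{u}) : Over S :=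
  sigmaOver (fun _ : ι ↦ S) (fun _ ↦ 𝟙 S)

/-- The map from a coproduct of sheaves to the "constant sheaf" `h_{∐_ι S}`. -/
noncomputable def toIdx (hc : IsColimit c) : c.pt ⟶ (AlgSp.yon S).obj (idxOver ι S) :=
  Cofan.IsColimit.desc hc (fun i ↦ isTerminalYonId.from (F i) ≫
    (AlgSp.yon S).map (sigmaOverι (fun _ : ι ↦ S) (fun _ ↦ 𝟙 S) i))

lemma inj_toIdx (hc : IsColimit c) (i : ι) : c.inj i ≫ toIdx F c hc = isTerminalYonId.from (F i) ≫
    (AlgSp.yon S).map (sigmaOverι (fun _ : ι ↦ S) (fun _ ↦ 𝟙 S) i) :=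
  Cofan.IsColimit.fac hc _ i

/-- Each summand of a coproduct of sheaves is the fibre of the map to the index sheaf. -/
lemma isPullback_inj_toIdx (hc : IsColimit c) (i : ι) :
    IsPullback (c.inj i) (isTerminalYonId.from (F i)) (toIdx F c hc)
      ((AlgSp.yon S).map (sigmaOverι (fun _ : ι ↦ S) (fun _ ↦ 𝟙 S) i)) := by
  have vk := isVanKampenColimit_sheaf_discrete (AlgSp.J S) _
    (isColimitYonSigmaOver (fun _ : ι ↦ S) (fun _ ↦ 𝟙 S))
  have := (vk c (Discrete.natTrans fun i ↦ isTerminalYonId.from (F i.as)) (toIdx F c hc)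
    (by
      apply NatTrans.ext
      funext ⟨j⟩
      exact (inj_toIdx F c hc j).symm)
    (NatTrans.Equifibered.of_discrete _)).1 ⟨hc⟩ ⟨i⟩
  exact this

/-- Decomposition of a scheme `U` over `S` mapping to a coproduct of sheaves: the fibre of `h_U`
over the `i`-th summand is represented by the open and closed subscheme `V i` of `U` cut out by
the induced map `U ⟶ ∐_ι S`. -/
theorem exists_decomposition (hc : IsColimit c) (U : Over S) (h : (AlgSp.yon S).obj U ⟶ c.pt) :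
    ∃ (ψ : U ⟶ idxOver ι S) (V : ι → Over S) (g : ∀ i, V i ⟶ U)
      (k : ∀ i, V i ⟶ Over.mk (𝟙 S)) (fst : ∀ i, (AlgSp.yon S).obj (V i) ⟶ F i),
      (∀ i, IsPullback (fst i) ((AlgSp.yon S).map (g i)) (c.inj i) h) ∧
      (∀ i, IsPullback (g i) (k i) ψ (sigmaOverι (fun _ : ι ↦ S) (fun _ ↦ 𝟙 S) i)) := by
  obtain ⟨ψ, hψ⟩ := (AlgSp.yon S).map_surjective (h ≫ toIdx F c hc)
  refine ⟨ψ, fun i ↦ pullback ψ (sigmaOverι (fun _ : ι ↦ S) (fun _ ↦ 𝟙 S) i),
    fun i ↦ pullback.fst _ _, fun i ↦ pullback.snd _ _, ?_⟩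
  have hpb : ∀ i, IsPullback
      ((AlgSp.yon S).map (pullback.fst ψ (sigmaOverι (fun _ : ι ↦ S) (fun _ ↦ 𝟙 S) i)))
      ((AlgSp.yon S).map (pullback.snd ψ (sigmaOverι (fun _ : ι ↦ S) (fun _ ↦ 𝟙 S) i)))
      (h ≫ toIdx F c hc) ((AlgSp.yon S).map (sigmaOverι (fun _ : ι ↦ S) (fun _ ↦ 𝟙 S) i)) := by
    intro i
    rw [← hψ]
    exact (IsPullback.of_hasPullback ψ _).map (AlgSp.yon S)
  have hw : ∀ i, ((AlgSp.yon S).map (pullback.fst ψ
      (sigmaOverι (fun _ : ι ↦ S) (fun _ ↦ 𝟙 S) i)) ≫ h) ≫ toIdx F c hc =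
      (AlgSp.yon S).map (pullback.snd ψ (sigmaOverι (fun _ : ι ↦ S) (fun _ ↦ 𝟙 S) i)) ≫
        (AlgSp.yon S).map (sigmaOverι (fun _ : ι ↦ S) (fun _ ↦ 𝟙 S) i) := by
    intro i
    rw [Category.assoc]
    exact (hpb i).w
  refine ⟨fun i ↦ (isPullback_inj_toIdx F c hc i).lift _ _ (hw i), fun i ↦ ?_,
    fun i ↦ IsPullback.of_hasPullback _ _⟩
  refine IsPullback.of_right ?_ ((isPullback_inj_toIdx F c hc i).lift_fst _ _ (hw i))
    (isPullback_inj_toIdx F c hc i).flip
  have e : (isPullback_inj_toIdx F c hc i).lift _ _ (hw i) ≫ isTerminalYonId.from (F i) =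
      (AlgSp.yon S).map (pullback.snd ψ (sigmaOverι (fun _ : ι ↦ S) (fun _ ↦ 𝟙 S) i)) :=
    isTerminalYonId.hom_ext _ _
  rw [e]
  exact (hpb i).flip

/-- The coprojections of a coproduct of fppf sheaves are representable by open and closed
immersions. -/
theorem repWith_openClosed_inj (hc : IsColimit c) (i : ι) :
    AlgSp.RepWith (@IsOpenImmersion ⊓ @IsClosedImmersion) (c.inj i) := by
  apply MorphismProperty.relative.of_exists
  intro U h
  obtain ⟨ψ, V, g, k, fst, h1, h2⟩ := exists_decomposition F c hc U h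
  refine ⟨V i, fst i, g i, h1 i, ?_⟩
  have hpb : IsPullback (k i).left (g i).left (Sigma.ι (fun _ : ι ↦ S) i) ψ.left :=
    (h2 i).flip.map (Over.forget S)
  exact ⟨MorphismProperty.of_isPullback hpb (inferInstanceAs (IsOpenImmersion (Sigma.ι _ i))),
    MorphismProperty.of_isPullback hpb (inferInstanceAs (IsClosedImmersion (Sigma.ι _ i)))⟩

end

end Groth.Agent.Lib.Helper51
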