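import Groth.Agent.Lib.Helper51.AlgSpCoprodPullback

/-!
# Charts of a coproduct of sheaves from charts of the summands (helper51)
-/

set_option autoImplicit false
universe u

namespace Groth.Agent.Lib.Helper51

open CategoryTheory Limits AlgebraicGeometry Opposite

variable {S : Scheme.{u}} {ι : Type u} (F : ι → AlgSp.Sp S) (c : Cofan F)

/-- The chart `h_{∐ U_i} ⟶ ∐ F_i` induced by charts `p_i : h_{U_i} ⟶ F_i`. -/
noncomputable def coprodChart (hc : IsColimit c) (U : ι → Over S)
    (p : ∀ i, (AlgSp.yon S).obj (U i) ⟶ F i) :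
    (AlgSp.yon S).obj (sigmaOver (fun i ↦ (U i).left) (fun i ↦ (U i).hom)) ⟶ c.pt :=
  Cofan.IsColimit.desc (isColimitYonSigmaOver (fun i ↦ (U i).left) (fun i ↦ (U i).hom))
    (fun i ↦ p i ≫ c.inj i)

lemma ι_coprodChart (hc : IsColimit c) (U : ι → Over S)
    (p : ∀ i, (AlgSp.yon S).obj (U i) ⟶ F i) (i : ι) :
    (AlgSp.yon S).map (sigmaOverι (fun i ↦ (U i).left) (fun i ↦ (U i).hom) i) ≫
      coprodChart F c hc U p = p i ≫ c.inj i :=
  Cofan.IsColimit.fac (isColimitYonSigmaOver (fun i ↦ (U i).left) (fun i ↦ (U i).hom)) _ i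

/-- If the charts `p_i` are representable etale surjective, so is the induced chart of the
coproduct. -/
theorem repWith_etale_surjective_coprodChart (hc : IsColimit c) (U : ι → Over S)
    (p : ∀ i, (AlgSp.yon S).obj (U i) ⟶ F i)
    (hpe : ∀ i, AlgSp.RepWith @Etale (p i)) (hps : ∀ i, AlgSp.RepWith @Surjective (p i)) :
    AlgSp.RepWith @Etale (coprodChart F c hc U p) ∧
      AlgSp.RepWith @Surjective (coprodChart F c hc U p) := by
  have vk := isVanKampenColimit_sheaf_discrete (AlgSp.J S) c hc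
  have hmono : ∀ {A B : Over S} (g : A ⟶ B), IsOpenImmersion g.left → Mono g := by
    intro A B g hg
    have : Mono ((Over.forget S).map g) := by
      change Mono g.left
      infer_instance
    exact (Over.forget S).mono_of_mono_map this
  have hopen : ∀ {T : Over S} {ψ : T ⟶ idxOver ι S} {V : ι → Over S}
      {g : ∀ i, V i ⟶ T} {k : ∀ i, V i ⟶ Over.mk (𝟙 S)}
      (_ : ∀ i, IsPullback (g i) (k i) ψ (sigmaOverι (fun _ : ι ↦ S) (fun _ ↦ 𝟙 S) i)) (i : ι),
      IsOpenImmersion (g i).left := by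
    intro T ψ V g k h2 i
    have hpb : IsPullback (k i).left (g i).left (Sigma.ι (fun _ : ι ↦ S) i) ψ.left :=
      (h2 i).flip.map (Over.forget S)
    exact MorphismProperty.of_isPullback hpb (inferInstanceAs (IsOpenImmersion (Sigma.ι _ i)))
  have hcU := isColimitYonSigmaOver (fun i ↦ (U i).left) (fun i ↦ (U i).hom)
  have hP := ι_coprodChart F c hc U p
  have hsqP : ∀ i, IsPullback (p i) ((AlgSp.yon S).map
      (sigmaOverι (fun i ↦ (U i).left) (fun i ↦ (U i).hom) i)) (c.inj i)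
      (coprodChart F c hc U p) := by
    intro i
    exact ((vk _ (Discrete.natTrans fun i ↦ p i.as) (coprodChart F c hc U p)
      (by
        apply NatTrans.ext
        funext ⟨j⟩
        exact (hP j).symm)
      (NatTrans.Equifibered.of_discrete _)).1 ⟨hcU⟩ ⟨i⟩).flip
  have : ∀ i, Mono (sigmaOverι (fun i ↦ (U i).left) (fun i ↦ (U i).hom) i) :=
    fun i ↦ inferInstance
  have key : ∀ ⦃T : Over S⦄ (ξ : (AlgSp.yon S).obj T ⟶ c.pt), ∃ (W : Over S)
      (fstW : (AlgSp.yon S).obj W ⟶ (AlgSp.yon S).obj (sigmaOver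
        (fun i ↦ (U i).left) (fun i ↦ (U i).hom))) (snd : W ⟶ T)
      (_ : IsPullback fstW ((AlgSp.yon S).map snd) (coprodChart F c hc U p) ξ),
      Etale snd.left ∧ Surjective snd.left := by
    intro T ξ
    obtain ⟨ψ, V, g, k, fst, h1, h2⟩ := exists_decomposition F c hc T ξ
    have hgo : ∀ i, IsOpenImmersion (g i).left := hopen h2
    have : ∀ i, Mono (g i) := fun i ↦ hmono _ (hgo i)
    have hex : ∀ i, ∃ (W : Over S) (a : W ⟶ V i) (b : W ⟶ U i),
        IsPullback ((AlgSp.yon S).map a) ((AlgSp.yon S).map b) (fst i) (p i) ∧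
          Etale a.left ∧ Surjective a.left := by
      intro i
      obtain ⟨W, a, b', hW⟩ := (hpe i).1 (fst i)
      obtain ⟨b, rfl⟩ := (AlgSp.yon S).map_surjective b'
      exact ⟨W, a, b, hW.flip, (hpe i).2 _ _ _ hW, (hps i).2 _ _ _ hW⟩
    choose W a b hW hae has using hex
    have hpb := isPullback_sigmaOverDesc F c hc ξ (coprodChart F c hc U p) V U g
      (sigmaOverι (fun i ↦ (U i).left) (fun i ↦ (U i).hom))
      fst p h1 hsqP (fun i ↦ (W i).left) (fun i ↦ (W i).hom) a b hW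
    refine ⟨_, _, _, hpb.flip, ?_, ?_⟩
    · change Etale (Sigma.desc fun i ↦ (a i ≫ g i).left)
      apply IsZariskiLocalAtSource.sigmaDesc
      intro i
      rw [Over.comp_left]
      infer_instance
    · refine ⟨fun t ↦ ?_⟩
      obtain ⟨i, y, hy⟩ := (sigmaOpenCover (fun _ : ι ↦ S)).exists_eq (ψ.left t)
      have hpbS : IsPullback (g i).left (k i).left ψ.left (Sigma.ι (fun _ : ι ↦ S) i) :=
        (h2 i).map (Over.forget S)
      obtain ⟨v, hv, -⟩ := Scheme.exists_preimage_of_isPullback hpbS t y hy.symm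
      obtain ⟨w, hw⟩ := (has i).surj v
      refine ⟨Sigma.ι (fun i ↦ (W i).left) i w, ?_⟩
      change (Sigma.desc fun i ↦ (a i ≫ g i).left) (Sigma.ι (fun i ↦ (W i).left) i w) = t
      rw [← Scheme.Hom.comp_apply, Sigma.ι_desc, Over.comp_left, Scheme.Hom.comp_apply, hw, hv]
  refine ⟨?_, ?_⟩
  · apply MorphismProperty.relative.of_exists
    intro T ξ
    obtain ⟨W, fstW, snd, hpb, he, -⟩ := key ξ
    exact ⟨W, fstW, snd, hpb, he⟩
  · apply MorphismProperty.relative.of_exists
    intro T ξ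
    obtain ⟨W, fstW, snd, hpb, -, hs⟩ := key ξ
    exact ⟨W, fstW, snd, hpb, hs⟩

end Groth.Agent.Lib.Helper51
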