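import Groth.Agent.Lib.Helper51.AlgSpCoprod

/-!
# Fibre products over a coproduct of fppf sheaves (helper51)
-/

set_option autoImplicit false
universe u

namespace Groth.Agent.Lib.Helper51

open CategoryTheory Limits AlgebraicGeometry Opposite

variable {S : Scheme.{u}} {ι : Type u}

/-- The map out of a coproduct of schemes over `S`. -/
noncomputable def sigmaOverDesc {Y : ι → Scheme.{u}} (f : ∀ i, Y i ⟶ S) {T : Over S}
    (φ : ∀ i, Over.mk (f i) ⟶ T) : sigmaOver Y f ⟶ T :=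
  Over.homMk (Sigma.desc (fun i ↦ (φ i).left)) (by
    apply Sigma.hom_ext
    intro i
    have := Over.w (φ i)
    simp only [Over.mk_left, Over.mk_hom] at this ⊢
    rw [colimit.ι_desc_assoc, colimit.ι_desc]
    exact this)

@[reassoc]
lemma sigmaOverι_desc {Y : ι → Scheme.{u}} (f : ∀ i, Y i ⟶ S) {T : Over S}
    (φ : ∀ i, Over.mk (f i) ⟶ T) (i : ι) :
    sigmaOverι Y f i ≫ sigmaOverDesc f φ = φ i := by
  ext
  simp [sigmaOverDesc]

variable (F : ι → AlgSp.Sp S) (c : Cofan F)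

/-- Fibre products over a coproduct of sheaves can be computed summand by summand. -/
theorem isPullback_sigmaOverDesc (hc : IsColimit c) {T T' : Over S}
    (ξ : (AlgSp.yon S).obj T ⟶ c.pt) (ξ' : (AlgSp.yon S).obj T' ⟶ c.pt)
    (V V' : ι → Over S) (g : ∀ i, V i ⟶ T) (g' : ∀ i, V' i ⟶ T')
    [∀ i, Mono (g i)] [∀ i, Mono (g' i)]
    (fst : ∀ i, (AlgSp.yon S).obj (V i) ⟶ F i) (fst' : ∀ i, (AlgSp.yon S).obj (V' i) ⟶ F i)
    (h1 : ∀ i, IsPullback (fst i) ((AlgSp.yon S).map (g i)) (c.inj i) ξ)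
    (h1' : ∀ i, IsPullback (fst' i) ((AlgSp.yon S).map (g' i)) (c.inj i) ξ')
    (Y : ι → Scheme.{u}) (f : ∀ i, Y i ⟶ S)
    (a : ∀ i, Over.mk (f i) ⟶ V i) (b : ∀ i, Over.mk (f i) ⟶ V' i)
    (hW : ∀ i, IsPullback ((AlgSp.yon S).map (a i)) ((AlgSp.yon S).map (b i)) (fst i) (fst' i)) :
    IsPullback ((AlgSp.yon S).map (sigmaOverDesc f (fun i ↦ a i ≫ g i)))
      ((AlgSp.yon S).map (sigmaOverDesc f (fun i ↦ b i ≫ g' i))) ξ ξ' := by
  have hcW := isColimitYonSigmaOver Y f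
  have hA : ∀ i, (AlgSp.yon S).map (sigmaOverι Y f i) ≫
      (AlgSp.yon S).map (sigmaOverDesc f (fun i ↦ a i ≫ g i)) =
      (AlgSp.yon S).map (a i) ≫ (AlgSp.yon S).map (g i) := fun i ↦ by
    rw [← Functor.map_comp, sigmaOverι_desc, Functor.map_comp]
  have hB : ∀ i, (AlgSp.yon S).map (sigmaOverι Y f i) ≫
      (AlgSp.yon S).map (sigmaOverDesc f (fun i ↦ b i ≫ g' i)) =
      (AlgSp.yon S).map (b i) ≫ (AlgSp.yon S).map (g' i) := fun i ↦ by
    rw [← Functor.map_comp, sigmaOverι_desc, Functor.map_comp]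
  have hcomm : (AlgSp.yon S).map (sigmaOverDesc f (fun i ↦ a i ≫ g i)) ≫ ξ =
      (AlgSp.yon S).map (sigmaOverDesc f (fun i ↦ b i ≫ g' i)) ≫ ξ' := by
    apply Cofan.IsColimit.hom_ext hcW
    intro i
    change (AlgSp.yon S).map (sigmaOverι Y f i) ≫ _ = (AlgSp.yon S).map (sigmaOverι Y f i) ≫ _
    rw [reassoc_of% (hA i), reassoc_of% (hB i), ← (h1 i).w, ← (h1' i).w,
      reassoc_of% (hW i).w]
  let m : (AlgSp.yon S).obj (sigmaOver Y f) ⟶ pullback ξ ξ' := pullback.lift _ _ hcomm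
  have hm1 : m ≫ pullback.fst ξ ξ' = (AlgSp.yon S).map (sigmaOverDesc f (fun i ↦ a i ≫ g i)) :=
    pullback.lift_fst _ _ _
  have hm2 : m ≫ pullback.snd ξ ξ' = (AlgSp.yon S).map (sigmaOverDesc f (fun i ↦ b i ≫ g' i)) :=
    pullback.lift_snd _ _ _
  have hmg : ∀ i, Mono ((AlgSp.yon S).map (g i)) := fun i ↦ inferInstance
  have hmg' : ∀ i, Mono ((AlgSp.yon S).map (g' i)) := fun i ↦ inferInstance
  -- the summands of the fibre product
  have hsq : ∀ i, IsPullback ((AlgSp.yon S).map (sigmaOverι Y f i) ≫ m)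
      ((AlgSp.yon S).map (a i) ≫ fst i) (pullback.fst ξ ξ' ≫ ξ) (c.inj i) := by
    intro i
    refine IsPullback.mk' ?_ (fun Z φ φ' e1 e2 ↦ ?_) (fun Z s x hsx ↦ ?_)
    · rw [Category.assoc, reassoc_of% hm1, reassoc_of% (hA i), Category.assoc, (h1 i).w]
    · apply (hW i).hom_ext
      · rw [← cancel_mono ((AlgSp.yon S).map (g i)), Category.assoc, Category.assoc, ← hA i,
          ← hm1]
        simpa only [Category.assoc] using congr($e1 ≫ pullback.fst ξ ξ')
      · rw [← cancel_mono ((AlgSp.yon S).map (g' i)), Category.assoc, Category.assoc, ← hB i,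
          ← hm2]
        simpa only [Category.assoc] using congr($e1 ≫ pullback.snd ξ ξ')
    · have hs1 : x ≫ c.inj i = (s ≫ pullback.fst ξ ξ') ≫ ξ := by rw [Category.assoc, hsx]
      have hs2 : x ≫ c.inj i = (s ≫ pullback.snd ξ ξ') ≫ ξ' := by
        rw [Category.assoc, ← pullback.condition, hsx]
      have hv1 : (h1 i).lift x _ hs1 ≫ fst i = x := (h1 i).lift_fst _ _ _
      have hv2 : (h1 i).lift x _ hs1 ≫ (AlgSp.yon S).map (g i) = s ≫ pullback.fst ξ ξ' :=
        (h1 i).lift_snd _ _ _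
      have hy1 : (h1' i).lift x _ hs2 ≫ fst' i = x := (h1' i).lift_fst _ _ _
      have hy2 : (h1' i).lift x _ hs2 ≫ (AlgSp.yon S).map (g' i) = s ≫ pullback.snd ξ ξ' :=
        (h1' i).lift_snd _ _ _
      have hvy : (h1 i).lift x _ hs1 ≫ fst i = (h1' i).lift x _ hs2 ≫ fst' i := by rw [hv1, hy1]
      have hw1 : (hW i).lift _ _ hvy ≫ (AlgSp.yon S).map (a i) = (h1 i).lift x _ hs1 :=
        (hW i).lift_fst _ _ _
      have hw2 : (hW i).lift _ _ hvy ≫ (AlgSp.yon S).map (b i) = (h1' i).lift x _ hs2 :=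
        (hW i).lift_snd _ _ _
      refine ⟨(hW i).lift _ _ hvy, ?_, ?_⟩
      · apply pullback.hom_ext
        · rw [Category.assoc, Category.assoc, hm1, hA i, reassoc_of% hw1, hv2]
        · rw [Category.assoc, Category.assoc, hm2, hB i, reassoc_of% hw2, hy2]
      · rw [reassoc_of% hw1, hv1]
  -- the fibre product is the coproduct of its summands
  have vk := isVanKampenColimit_sheaf_discrete (AlgSp.J S) c hc
  let cQ : Cofan (fun i ↦ (AlgSp.yon S).obj (Over.mk (f i))) :=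
    Cofan.mk (pullback ξ ξ') (fun i ↦ (AlgSp.yon S).map (sigmaOverι Y f i) ≫ m)
  have hcQ : IsColimit cQ :=
    ((vk cQ (Discrete.natTrans fun i ↦ (AlgSp.yon S).map (a i.as) ≫ fst i.as)
      (pullback.fst ξ ξ' ≫ ξ)
      (by
        apply NatTrans.ext
        funext ⟨j⟩
        exact (hsq j).w.symm)
      (NatTrans.Equifibered.of_discrete _)).2 (fun ⟨i⟩ ↦ hsq i)).some
  have hiso : IsIso m := by
    have : m = (hcW.coconePointUniqueUpToIso hcQ).hom := by
      apply Cofan.IsColimit.hom_ext hcW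
      intro i
      exact (IsColimit.comp_coconePointUniqueUpToIso_hom hcW hcQ ⟨i⟩).symm
    rw [this]
    infer_instance
  exact IsPullback.of_iso_pullback ⟨hcomm⟩ (asIso m) hm1 hm2

end Groth.Agent.Lib.Helper51
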