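import Groth.Agent.Lib.Helper51.AlgSpBasic

/-!
# Fibre products of sheaves with representable diagonals (helper51)
-/

set_option autoImplicit false
universe u

namespace Groth.Agent.Lib.Helper51

open CategoryTheory Limits AlgebraicGeometry Opposite

section General

universe v₁ u₁

variable {D : Type u₁} [Category.{v₁} D] [HasBinaryProducts D]

/-- A pullback of the diagonal of `Y` along `(c, d)` is an equalizer of `c` and `d`. -/
lemma eq_of_isPullback_diag {Y W E : D} {c d : W ⟶ Y} {z : E ⟶ Y} {e : E ⟶ W}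
    (h : IsPullback z e (Limits.diag Y) (prod.lift c d)) : e ≫ c = e ≫ d := by
  have hd1 : Limits.diag Y ≫ prod.fst = 𝟙 Y := prod.lift_fst _ _
  have hd2 : Limits.diag Y ≫ prod.snd = 𝟙 Y := prod.lift_snd _ _
  have h1 : z ≫ Limits.diag Y ≫ prod.fst = e ≫ prod.lift c d ≫ prod.fst := by
    rw [← Category.assoc, h.w, Category.assoc]
  have h2 : z ≫ Limits.diag Y ≫ prod.snd = e ≫ prod.lift c d ≫ prod.snd := by
    rw [← Category.assoc, h.w, Category.assoc]
  rw [hd1, prod.lift_fst] at h1
  rw [hd2, prod.lift_snd] at h2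
  rw [← h1, ← h2]

lemma exists_lift_of_isPullback_diag {Y W E : D} {c d : W ⟶ Y} {z : E ⟶ Y} {e : E ⟶ W}
    (h : IsPullback z e (Limits.diag Y) (prod.lift c d)) {Z : D} (l : Z ⟶ W)
    (hl : l ≫ c = l ≫ d) : ∃ m : Z ⟶ E, m ≫ e = l := by
  have hd1 : Limits.diag Y ≫ prod.fst = 𝟙 Y := prod.lift_fst _ _
  have hd2 : Limits.diag Y ≫ prod.snd = 𝟙 Y := prod.lift_snd _ _
  refine ⟨h.lift (l ≫ c) l ?_, h.lift_snd _ _ _⟩
  apply Limits.prod.hom_ext
  · rw [Category.assoc, Category.assoc, hd1, Category.assoc, prod.lift_fst, Category.comp_id]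
  · rw [Category.assoc, Category.assoc, hd2, Category.assoc, prod.lift_snd, Category.comp_id, hl]

lemma mono_of_isPullback_diag {Y W E : D} {c d : W ⟶ Y} {z : E ⟶ Y} {e : E ⟶ W}
    (h : IsPullback z e (Limits.diag Y) (prod.lift c d)) : Mono e := by
  have hd1 : Limits.diag Y ≫ prod.fst = 𝟙 Y := prod.lift_fst _ _
  have : Mono (Limits.diag Y) := mono_of_mono_fac hd1
  exact h.mono_snd_of_mono

end General

variable {S : Scheme.{u}}

/-- If every map from a representable sheaf to `X` and to `Y` is representable, the same holds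
for every fibre product `X ×_H Y` (no assumption on `H`). -/
lemma representable_from_yon_of_isPullback {X Y H P : AlgSp.Sp S}
    (hX : AlgSp.Representable (Limits.diag X)) (hY : AlgSp.Representable (Limits.diag Y))
    {fst : P ⟶ X} {snd : P ⟶ Y} {f : X ⟶ H} {g : Y ⟶ H} (h : IsPullback fst snd f g)
    ⦃T : Over S⦄ (a : (AlgSp.yon S).obj T ⟶ P) : AlgSp.Representable a := by
  intro T' b
  -- first the fibre product over `X`
  obtain ⟨W₁, w', w, h1⟩ := Functor.relativelyRepresentable.of_diag hX (a ≫ fst) (b ≫ fst)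
  -- then the equalizer of the two maps to `Y`
  obtain ⟨E, e, z, h2⟩ := hY (prod.lift (w ≫ a ≫ snd) ((AlgSp.yon S).map w' ≫ b ≫ snd))
  have he := eq_of_isPullback_diag h2
  have : Mono ((AlgSp.yon S).map e) := mono_of_isPullback_diag h2
  have hw : ((AlgSp.yon S).map e ≫ w) ≫ a = (AlgSp.yon S).map (e ≫ w') ≫ b := by
    apply h.hom_ext
    · rw [Category.assoc, Category.assoc, h1.w, Functor.map_comp, Category.assoc, Category.assoc]
    · rw [Category.assoc, Category.assoc, he, Functor.map_comp, Category.assoc, Category.assoc]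
  refine ⟨E, e ≫ w', (AlgSp.yon S).map e ≫ w, ?_⟩
  refine IsPullback.mk' hw (fun Z φ φ' hφ hφ' ↦ ?_) (fun Z s s' hs ↦ ?_)
  · rw [← cancel_mono ((AlgSp.yon S).map e)]
    apply h1.hom_ext
    · simpa only [Category.assoc] using hφ
    · simpa only [Category.assoc, Functor.map_comp] using hφ'
  · have hs1 : s ≫ a ≫ fst = s' ≫ b ≫ fst := by rw [← Category.assoc, hs, Category.assoc]
    have hl1 : h1.lift s s' hs1 ≫ w = s := h1.lift_fst _ _ _
    have hl2 : h1.lift s s' hs1 ≫ (AlgSp.yon S).map w' = s' := h1.lift_snd _ _ _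
    obtain ⟨m, hm⟩ := exists_lift_of_isPullback_diag h2 (h1.lift s s' hs1) (by
      rw [reassoc_of% hl1, reassoc_of% hl2, reassoc_of% hs])
    refine ⟨m, ?_, ?_⟩
    · rw [← Category.assoc, hm, hl1]
    · rw [Functor.map_comp, ← Category.assoc, hm, hl2]

/-- The diagonal of a fibre product `X ×_H Y` of sheaves is representable as soon as those of `X`
and `Y` are. -/
lemma representable_diag_of_isPullback {X Y H P : AlgSp.Sp S}
    (hX : AlgSp.Representable (Limits.diag X)) (hY : AlgSp.Representable (Limits.diag Y))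
    {fst : P ⟶ X} {snd : P ⟶ Y} {f : X ⟶ H} {g : Y ⟶ H} (h : IsPullback fst snd f g) :
    AlgSp.Representable (Limits.diag P) :=
  Functor.relativelyRepresentable.diag_of_map_from_obj
    (representable_from_yon_of_isPullback hX hY h)

end Groth.Agent.Lib.Helper51
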