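import Mathlib

/-!
# Number of local generators: algebra (helper51)
-/

set_option autoImplicit false
set_option linter.style.haveILetI false
universe u
open TensorProduct

namespace Groth.Agent.Lib.Helper51.BddGen

section LemmaB

variable {A : Type u} [CommRing A] {M : Type u} [AddCommGroup M] [Module A M] [Module.Finite A M]

/-- If the fibre of a finite module `M` at a prime `p` has dimension `≤ r`, then on a basic open
neighbourhood `D(g)` of `p` the module is generated by `r` elements. -/
theorem exists_away_generators (p : Ideal A) [p.IsPrime] (r : ℕ)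
    (h : Module.finrank p.ResidueField (p.ResidueField ⊗[A] M) ≤ r) :
    ∃ g : A, g ∉ p ∧ ∃ m : Fin r → M, ∀ x : M, ∃ n : ℕ,
      g ^ n • x ∈ Submodule.span A (Set.range m) := by
  classical
  let κ := p.ResidueField
  let V := κ ⊗[A] M
  let S : Set V := Set.range (fun m : M => (1 : κ) ⊗ₜ[A] m)
  have hS : Submodule.span κ S = ⊤ := by
    rw [eq_top_iff]
    rintro v -
    induction v using TensorProduct.induction_on with
    | zero => exact Submodule.zero_mem _
    | tmul c m =>
      have : c ⊗ₜ[A] m = c • ((1 : κ) ⊗ₜ[A] m) := by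
        rw [TensorProduct.smul_tmul', smul_eq_mul, mul_one]
      rw [this]
      exact Submodule.smul_mem _ _ (Submodule.subset_span ⟨m, rfl⟩)
    | add a b ha hb => exact Submodule.add_mem _ ha hb
  obtain ⟨b, hbS, hbspan, hbli⟩ := exists_linearIndependent κ S
  have hbfin : b.Finite := hbli.setFinite
  haveI : Fintype b := hbfin.fintype
  have hcard : Fintype.card b ≤ r := (hbli.fintype_card_le_finrank).trans h
  let e : b ≃ Fin (Fintype.card b) := Fintype.equivFin b
  have hpre : ∀ v : b, ∃ m : M, (1 : κ) ⊗ₜ[A] m = v.1 := fun v => hbS v.2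
  choose pre hpre using hpre
  let m : Fin r → M := fun j =>
    if hj : j.1 < Fintype.card b then pre (e.symm ⟨j.1, hj⟩) else 0
  have hspan : Submodule.span κ (Set.range (fun j => (1 : κ) ⊗ₜ[A] m j)) = ⊤ := by
    rw [eq_top_iff, ← hS, ← hbspan]
    apply Submodule.span_mono
    intro v hv
    let j : Fin r := ⟨(e ⟨v, hv⟩).1, lt_of_lt_of_le (e ⟨v, hv⟩).2 hcard⟩
    refine ⟨j, ?_⟩
    have hj : j.1 < Fintype.card b := (e ⟨v, hv⟩).2
    simp only [m, j, hj, dite_true]
    rw [hpre]
    simp
  let N' : Submodule A M := Submodule.span A (Set.range m)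
  let Q := M ⧸ N'
  have hQ : Subsingleton (κ ⊗[A] Q) := by
    have hsurj : Function.Surjective (LinearMap.baseChange κ N'.mkQ) :=
      LinearMap.lTensor_surjective _ (Submodule.mkQ_surjective N')
    have hzero : LinearMap.baseChange κ N'.mkQ = 0 := by
      apply LinearMap.ext_on hspan
      rintro _ ⟨j, rfl⟩
      simp only [LinearMap.baseChange_tmul, LinearMap.zero_apply]
      have : N'.mkQ (m j) = 0 := by
        rw [Submodule.mkQ_apply, Submodule.Quotient.mk_eq_zero]
        exact Submodule.subset_span ⟨j, rfl⟩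
      rw [this, TensorProduct.tmul_zero]
    refine ⟨fun a c => ?_⟩
    obtain ⟨a', rfl⟩ := hsurj a
    obtain ⟨c', rfl⟩ := hsurj c
    rw [hzero]
    rfl
  have hsupp : (⟨p, inferInstance⟩ : PrimeSpectrum A) ∉ Module.support A Q := by
    rw [Module.mem_support_iff_nontrivial_residueField_tensorProduct]
    exact not_nontrivial_iff_subsingleton.mpr hQ
  rw [Module.notMem_support_iff] at hsupp
  haveI := hsupp
  obtain ⟨g, hg, hsub⟩ := LocalizedModule.exists_subsingleton_away (M := Q) p
  refine ⟨g, hg, m, fun x => ?_⟩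
  have h0 : LocalizedModule.mkLinearMap (Submonoid.powers g) Q (N'.mkQ x) = 0 :=
    Subsingleton.elim _ _
  rw [IsLocalizedModule.eq_zero_iff (Submonoid.powers g)] at h0
  obtain ⟨c, hc⟩ := h0
  obtain ⟨n, hn⟩ := c.2
  refine ⟨n, ?_⟩
  rw [← Submodule.Quotient.mk_eq_zero, Submodule.Quotient.mk_smul]
  have : (c : A) • N'.mkQ x = 0 := hc
  rw [← hn] at this
  exact this

end LemmaB

section LemmaA

variable {A : Type u} [CommRing A] {M : Type u} [AddCommGroup M] [Module A M]
  {B : Type u} [CommRing B] [Algebra A B]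

/-- If `B ⊗[A] M` is generated by `r` elements and `q` is a prime of `B` over `p`, then the fibre
of `M` at `p` has dimension `≤ r`. -/
theorem finrank_fiber_le_of_span (q : Ideal B) [q.IsPrime] (p : Ideal A) [p.IsPrime]
    (hpq : q.comap (algebraMap A B) = p) (r : ℕ) (t : Fin r → B ⊗[A] M)
    (ht : Submodule.span B (Set.range t) = ⊤) :
    Module.finrank p.ResidueField (p.ResidueField ⊗[A] M) ≤ r := by
  let κ := p.ResidueField
  let K := q.ResidueField
  have hf₁ : p ≤ RingHom.ker (algebraMap A K) := by
    intro a ha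
    rw [RingHom.mem_ker, IsScalarTower.algebraMap_apply A B K, Ideal.algebraMap_residueField_eq_zero]
    rw [← hpq] at ha
    exact ha
  have hf₂ : p.primeCompl ≤ (IsUnit.submonoid K).comap (algebraMap A K) := by
    intro a ha
    change IsUnit (algebraMap A K a)
    apply IsUnit.mk0
    rw [IsScalarTower.algebraMap_apply A B K, Ne, Ideal.algebraMap_residueField_eq_zero]
    intro h
    apply ha
    rw [← hpq]
    exact h
  let φ : κ →+* K := Ideal.ResidueField.lift p (algebraMap A K) hf₁ hf₂
  letI : Algebra κ K := φ.toAlgebra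
  haveI : IsScalarTower A κ K := IsScalarTower.of_algebraMap_eq' (by
    ext a
    simp only [RingHom.comp_apply, RingHom.algebraMap_toAlgebra]
    exact (Ideal.ResidueField.lift_algebraMap p (algebraMap A K) hf₁ hf₂ a).symm)
  let e1 : K ⊗[κ] (κ ⊗[A] M) ≃ₗ[K] K ⊗[A] M :=
    TensorProduct.AlgebraTensorModule.cancelBaseChange A κ K K M
  let e2 : K ⊗[B] (B ⊗[A] M) ≃ₗ[K] K ⊗[A] M :=
    TensorProduct.AlgebraTensorModule.cancelBaseChange A B K K M
  have h1 : Module.finrank κ (κ ⊗[A] M) = Module.finrank K (K ⊗[A] M) :=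
    (Module.finrank_baseChange (R := K) (S := κ) (M' := κ ⊗[A] M)).symm.trans e1.finrank_eq
  rw [h1, ← e2.finrank_eq]
  let L : (Fin r → B) →ₗ[B] B ⊗[A] M := Fintype.linearCombination B t
  have hL : Function.Surjective L := by
    rw [← LinearMap.range_eq_top, Fintype.range_linearCombination, ht]
  have hsurj : Function.Surjective (LinearMap.baseChange K L) :=
    LinearMap.lTensor_surjective _ hL
  have h2 := LinearMap.finrank_le_finrank_of_surjective hsurj
  haveI : Nontrivial B :=
    ⟨⟨0, 1, fun h => (Ideal.IsPrime.ne_top ‹q.IsPrime›)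
      ((Ideal.eq_top_iff_one q).mpr (h ▸ q.zero_mem))⟩⟩
  rw [Module.finrank_baseChange (R := K) (S := B) (M' := Fin r → B)] at h2
  simpa using h2

/-- Combined form: if `B ⊗[A] M` is generated by `r` elements, `M` is finite and `q` is a prime of
`B`, there is `g : A` not vanishing at `q` such that `M` is generated by `r` elements on `D(g)`. -/
theorem exists_away_generators_of_baseChange [Module.Finite A M] (q : Ideal B) [q.IsPrime] (r : ℕ)
    (t : Fin r → B ⊗[A] M) (ht : Submodule.span B (Set.range t) = ⊤) :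
    ∃ g : A, algebraMap A B g ∉ q ∧ ∃ m : Fin r → M, ∀ x : M, ∃ n : ℕ,
      g ^ n • x ∈ Submodule.span A (Set.range m) := by
  haveI : (q.comap (algebraMap A B)).IsPrime := Ideal.comap_isPrime _ _
  obtain ⟨g, hg, m, hm⟩ := exists_away_generators (M := M) (q.comap (algebraMap A B)) r
    (finrank_fiber_le_of_span q _ rfl r t ht)
  exact ⟨g, hg, m, hm⟩

end LemmaA

end Groth.Agent.Lib.Helper51.BddGen
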