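import Mathlib
import Groth.Agent.Lib.Helper49.PullbackSections
import Groth.Agent.Lib.Helper49.FiniteTypeAffine
import Groth.Agent.Lib.Helper16.FlatPull.Chart
import Groth.Agent.Lib.Helper51.BddGenAlg

/-!
# Local generation by at most `r` sections (helper51)
-/

set_option autoImplicit false
set_option linter.style.haveILetI false
universe u
open AlgebraicGeometry CategoryTheory Limits TensorProduct

namespace Groth.Agent.Lib.Helper51.BddGen

open Groth.Agent.Lib.Helper49

section Surj

variable (R : CommRingCat.{u})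

/-- Global generating sections of `M^~` give a surjection `(I →₀ R) → M`. -/
theorem exists_surjective_of_generatingSections_tilde (M : ModuleCat.{u} R)
    (G : ((tilde.functor R).obj M).GeneratingSections) :
    ∃ p : (G.I →₀ R) →ₗ[R] M, Function.Surjective p := by
  let q : (tilde.functor R).obj (ModuleCat.of R (G.I →₀ R)) ⟶ (tilde.functor R).obj M :=
    (tildeFinsupp G.I).hom ≫ G.π
  have h1 : Epi (C := (Spec R).Modules) G.π := G.epi
  have hq : Epi q := epi_comp (C := (Spec R).Modules) _ _
  obtain ⟨p, hp⟩ := (tilde.functor R).map_surjective q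
  have : Epi p := by
    rw [← hp] at hq
    exact (tilde.functor R).epi_of_epi_map hq
  exact ⟨p.hom, (ModuleCat.epi_iff_surjective _).mp this⟩

/-- Global generating sections of a quasi-coherent module on `Spec R` give a surjection onto the
module of global sections. -/
theorem exists_surjective_Γ_of_generatingSections (N : (Spec R).Modules) [N.IsQuasicoherent]
    (G : N.GeneratingSections) :
    ∃ p : (G.I →₀ R) →ₗ[R] ((modulesSpecToSheaf.obj N).presheaf.obj (.op ⊤)),
      Function.Surjective p := by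
  have h0 : IsIso (C := (Spec R).Modules) N.fromTildeΓ :=
    (isQuasicoherent_iff_isIso_fromTildeΓ N).mp inferInstance
  let q : N ⟶ tilde ((modulesSpecToSheaf.obj N).presheaf.obj (.op ⊤)) :=
    @inv (Spec R).Modules _ _ _ N.fromTildeΓ h0
  have hq : Epi (C := SheafOfModules (Spec R).ringCatSheaf) q :=
    (inferInstance : Epi (C := (Spec R).Modules) q)
  exact exists_surjective_of_generatingSections_tilde R _
    (@SheafOfModules.GeneratingSections.ofEpi _ _ _ _ _ _ _ _ G q hq)

end Surj

section Sections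

variable {X : Scheme.{u}} {U : X.Opens} (hU : IsAffineOpen U)

/-- Generating sections of `F|_U` (pulled back to `Spec Γ(X, U)`) give a surjection onto
`Γ(F, U)`. -/
theorem exists_surjective_sections_of_generatingSections (F : X.Modules) [F.IsQuasicoherent]
    (G : (F.restrict hU.fromSpec).GeneratingSections) :
    ∃ p : (G.I →₀ Γ(X, U)) →ₗ[Γ(X, U)] Γ(F, U), Function.Surjective p := by
  have : (F.restrict hU.fromSpec).IsQuasicoherent :=
    Scheme.Modules.isQuasicoherent_restrictFunctor _ _
  obtain ⟨p, hp⟩ := exists_surjective_Γ_of_generatingSections Γ(X, U) (F.restrict hU.fromSpec) G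
  exact ⟨(sectionsFromSpecTopEquiv hU F).toLinearMap ∘ₗ p,
    (sectionsFromSpecTopEquiv hU F).surjective.comp hp⟩

/-- A surjection from a free module on a finite type of cardinality `≤ r` gives a spanning family
indexed by `Fin r`. -/
theorem exists_span_fin_of_surjective {A : Type u} [CommRing A] {M : Type u} [AddCommGroup M]
    [Module A M] {I : Type u} [Finite I] (r : ℕ) (hI : Nat.card I ≤ r)
    (p : (I →₀ A) →ₗ[A] M) (hp : Function.Surjective p) :
    ∃ t : Fin r → M, Submodule.span A (Set.range t) = ⊤ := by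
  classical
  let e : I ≃ Fin (Nat.card I) := Finite.equivFin I
  let t : Fin r → M := fun j =>
    if hj : j.1 < Nat.card I then p (Finsupp.single (e.symm ⟨j.1, hj⟩) 1) else 0
  refine ⟨t, ?_⟩
  rw [eq_top_iff, ← LinearMap.range_eq_top.mpr hp, ← Submodule.map_top,
    ← (Finsupp.basisSingleOne (R := A) (ι := I)).span_eq, Submodule.map_span, Submodule.span_le]
  rintro _ ⟨_, ⟨i, rfl⟩, rfl⟩
  apply Submodule.subset_span
  let j : Fin r := ⟨(e i).1, lt_of_lt_of_le (e i).2 hI⟩
  refine ⟨j, ?_⟩
  have hj : j.1 < Nat.card I := (e i).2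
  simp only [t, j, hj, dite_true, Finsupp.coe_basisSingleOne]
  simp

/-- A quasi-coherent module locally generated by at most `r` sections is, on small affine opens
around every point, generated by `r` sections. -/
theorem exists_affine_span_of_localGeneratorsData {Y : Scheme.{u}} (N : Y.Modules)
    [N.IsQuasicoherent]
    (σ : SheafOfModules.LocalGeneratorsData.{u} (R := Y.ringCatSheaf) N) (r : ℕ)
    (hσ : ∀ k, Finite (σ.generators k).I ∧ Nat.card (σ.generators k).I ≤ r)
    (y : Y) (O : Y.Opens) (hy : y ∈ O) :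
    ∃ W : Y.Opens, IsAffineOpen W ∧ y ∈ W ∧ W ≤ O ∧
      ∃ t : Fin r → Γ(N, W), Submodule.span Γ(Y, W) (Set.range t) = ⊤ := by
  have hcov : TopologicalSpace.IsOpenCover σ.X := (Opens.coversTop_iff _ _).mp σ.coversTop
  have hy' : y ∈ (⨆ k, σ.X k : Y.Opens) := by rw [hcov]; trivial
  obtain ⟨k, hk⟩ := TopologicalSpace.Opens.mem_iSup.mp hy'
  obtain ⟨W, hW, hyW, hWle⟩ := exists_isAffineOpen_mem_and_subset (x := y) (U := σ.X k ⊓ O)
    ⟨hk, hy⟩
  let G := generatingSectionsRestrictOfOver N (σ.X k) (σ.generators k)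
  have hr : Set.range hW.fromSpec ⊆ σ.X k := by
    rw [hW.range_fromSpec]
    exact fun z hz => (hWle hz).1
  let G' := generatingSectionsOfLE N (σ.X k) G hW.fromSpec hr
  obtain ⟨p, hp⟩ := exists_surjective_sections_of_generatingSections hW N G'
  haveI : Finite G'.I := (hσ k).1
  have hcard : Nat.card G'.I ≤ r := (hσ k).2
  obtain ⟨t, ht⟩ := exists_span_fin_of_surjective r hcard p hp
  exact ⟨W, hW, hyW, fun z hz => (hWle hz).2, t, ht⟩

end Sections

section Converse

variable {X : Scheme.{u}}

/-- **Localization step.** If `g^n • y ∈ span m` for all `y ∈ Γ(F, U)`, the restrictions of the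
`m j` span `Γ(F, D(g))`. -/
theorem span_restrict_basicOpen_eq_top {U : X.Opens} (hU : IsAffineOpen U) (F : X.Modules)
    [F.IsQuasicoherent] (g : Γ(X, U)) {r : ℕ} (m : Fin r → Γ(F, U))
    (hm : ∀ y : Γ(F, U), ∃ n : ℕ, g ^ n • y ∈ Submodule.span Γ(X, U) (Set.range m)) :
    Submodule.span Γ(X, X.basicOpen g) (Set.range fun j =>
      F.presheaf.map (homOfLE (X.basicOpen_le g)).op (m j)) = ⊤ := by
  set ρ := F.presheaf.map (homOfLE (X.basicOpen_le g)).op with hρ
  set gb : Γ(X, X.basicOpen g) := X.presheaf.map (homOfLE (X.basicOpen_le g)).op g with hgb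
  have hunit : IsUnit gb := RingedSpace.isUnit_res_basicOpen X.toRingedSpace g
  have hres : ∀ t' : Γ(F, U), t' ∈ Submodule.span Γ(X, U) (Set.range m) →
      ρ t' ∈ Submodule.span Γ(X, X.basicOpen g) (Set.range fun j => ρ (m j)) := by
    intro t' ht'
    induction ht' using Submodule.span_induction with
    | mem x hx =>
      obtain ⟨j, rfl⟩ := hx
      exact Submodule.subset_span ⟨j, rfl⟩
    | zero => rw [map_zero]; exact Submodule.zero_mem _
    | add x y _ _ hx hy => rw [map_add]; exact Submodule.add_mem _ hx hy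
    | smul a x _ hx =>
      rw [hρ, Scheme.Modules.map_smul]
      exact Submodule.smul_mem _ _ hx
  rw [eq_top_iff]
  rintro s -
  obtain ⟨n, t, ht⟩ := Groth.Agent.Lib.Helper45.exists_restrict_eq_pow_smul hU F g s
  obtain ⟨k, hk⟩ := hm t
  have h1 := hres _ hk
  rw [hρ, Scheme.Modules.map_smul, map_pow, ← hρ, ← hgb] at h1
  have h2 : ρ t = gb ^ n • s := ht
  rw [h2, smul_smul, ← pow_add] at h1
  obtain ⟨v, hv⟩ := hunit.pow (k + n)
  have h3 : s = (↑v⁻¹ : Γ(X, X.basicOpen g)) • (gb ^ (k + n) • s) := by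
    rw [smul_smul, ← hv, Units.inv_mul, one_smul]
  rw [h3]
  exact Submodule.smul_mem _ _ h1

/-- Generating sections of a module on `Spec R` isomorphic to `M^~`, from a spanning family. -/
theorem exists_generatingSections_of_iso_tilde (R : CommRingCat.{u}) (M : ModuleCat.{u} R)
    (N : (Spec R).Modules) (e : (tilde.functor R).obj M ≅ N) {r : ℕ} (t : Fin r → M)
    (ht : Submodule.span R (Set.range t) = ⊤) :
    ∃ G : N.GeneratingSections, G.I = ULift.{u} (Fin r) := by
  let g : (ULift.{u} (Fin r) →₀ R) →ₗ[R] M :=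
    Finsupp.linearCombination R (fun i : ULift.{u} (Fin r) => t i.down)
  have hg : Function.Surjective g := by
    rw [← LinearMap.range_eq_top, Finsupp.range_linearCombination, eq_top_iff, ← ht]
    refine Submodule.span_mono ?_
    rintro _ ⟨j, rfl⟩
    exact ⟨⟨j⟩, rfl⟩
  have : Epi (ModuleCat.ofHom g) := (ModuleCat.epi_iff_surjective _).mpr hg
  let G0 := generatingSectionsTilde R M (ModuleCat.ofHom g)
  have he : Epi (C := SheafOfModules (Spec R).ringCatSheaf) e.hom :=
    (inferInstance : Epi (C := (Spec R).Modules) e.hom)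
  exact ⟨@SheafOfModules.GeneratingSections.ofEpi _ _ _ _ _ _ _ _ G0 e.hom he, rfl⟩

/-- From a spanning family of `r` sections over an affine open, generating sections (indexed by
`ULift (Fin r)`) of the restriction to that open. -/
theorem exists_generatingSections_of_span {U : X.Opens} (hU : IsAffineOpen U) (F : X.Modules)
    [F.IsQuasicoherent] {r : ℕ} (t : Fin r → Γ(F, U))
    (ht : Submodule.span Γ(X, U) (Set.range t) = ⊤) :
    ∃ G : (F.restrict hU.fromSpec.opensRange.ι).GeneratingSections,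
      Finite G.I ∧ Nat.card G.I ≤ r := by
  have hq : (F.restrict hU.fromSpec).IsQuasicoherent :=
    Scheme.Modules.isQuasicoherent_restrictFunctor _ _
  have h0 : IsIso (C := (Spec Γ(X, U)).Modules) (F.restrict hU.fromSpec).fromTildeΓ :=
    (isQuasicoherent_iff_isIso_fromTildeΓ (F.restrict hU.fromSpec)).mp hq
  let e := @asIso (Spec Γ(X, U)).Modules _ _ _ (F.restrict hU.fromSpec).fromTildeΓ h0
  let E : Γ(F.restrict hU.fromSpec, (⊤ : (Spec Γ(X, U)).Opens)) ≃ₗ[Γ(X, U)] Γ(F, U) :=
    sectionsFromSpecTopEquiv hU F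
  have ht' : Submodule.span Γ(X, U) (Set.range fun j => E.symm (t j)) = ⊤ := by
    rw [eq_top_iff]
    intro y _
    have hy : E y ∈ Submodule.span Γ(X, U) (Set.range t) := by rw [ht]; trivial
    have h1 : E.symm (E y) ∈
        Submodule.map E.symm.toLinearMap (Submodule.span Γ(X, U) (Set.range t)) :=
      Submodule.mem_map_of_mem hy
    rw [E.symm_apply_apply, Submodule.map_span] at h1
    refine Submodule.span_mono ?_ h1
    rintro _ ⟨_, ⟨j, rfl⟩, rfl⟩
    exact ⟨j, rfl⟩
  obtain ⟨G1, hG1⟩ := exists_generatingSections_of_iso_tilde Γ(X, U) _ (F.restrict hU.fromSpec) e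
    (fun j => E.symm (t j)) ht'
  refine ⟨generatingSectionsOfRange F hU.fromSpec G1, ?_, ?_⟩
  · change Finite G1.I
    rw [hG1]
    infer_instance
  · change Nat.card G1.I ≤ r
    rw [hG1]
    simp

/-- Assemble local generating sections with bounded index types into local generators data. -/
theorem exists_localGeneratorsData_of_cover (F : X.Modules) (r : ℕ)
    (h : ∀ x : X, ∃ (U : X.Opens) (G : (F.restrict U.ι).GeneratingSections),
      x ∈ U ∧ Finite G.I ∧ Nat.card G.I ≤ r) :
    ∃ σ : SheafOfModules.LocalGeneratorsData.{u} (R := X.ringCatSheaf) F,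
      ∀ k, Finite (σ.generators k).I ∧ Nat.card (σ.generators k).I ≤ r := by
  choose U G hxU hfin hcard using h
  have hcov : TopologicalSpace.IsOpenCover U := by
    rw [TopologicalSpace.IsOpenCover, eq_top_iff]
    rintro x -
    exact TopologicalSpace.Opens.mem_iSup.mpr ⟨x, hxU x⟩
  let σ : SheafOfModules.LocalGeneratorsData.{u, u, u, u} F :=
    { I := X, X := U, coversTop := (Opens.coversTop_iff _ _).mpr hcov
      generators := fun x => generatingSectionsOverOfRestrict F (U x) (G x) }
  refine ⟨σ, fun k => ⟨?_, ?_⟩⟩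
  · exact hfin k
  · exact hcard k

end Converse

theorem span_range_equiv_eq_top {R : Type*} [Semiring R] {M N : Type*} [AddCommMonoid M]
    [AddCommMonoid N] [Module R M] [Module R N] (E : M ≃ₗ[R] N) {κ : Type*} (t : κ → M)
    (ht : Submodule.span R (Set.range t) = ⊤) :
    Submodule.span R (Set.range fun j => E (t j)) = ⊤ := by
  have h1 : Set.range (fun j => E (t j)) = E.toLinearMap '' Set.range t := by
    rw [← Set.range_comp]
    rfl
  rw [h1, ← Submodule.map_span, ht, Submodule.map_top, LinearMap.range_eq_top]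
  exact E.surjective

section Descent

open Groth.Agent.Lib.Helper49.FamilyDescent

variable {ι : Type u} {X : Scheme.{u}} {Xi : ι → Scheme.{u}} (f : ∀ i, Xi i ⟶ X)

theorem exists_affine_refinement (hf : Presieve.ofArrows Xi f ∈ Scheme.fpqcPrecoverage X)
    (U : X.Opens) (hU : IsAffineOpen U) :
    ∃ (m : ℕ) (idx : Fin m → ι) (Wo : ∀ b, (Xi (idx b)).Opens), (∀ b, IsAffineOpen (Wo b)) ∧
      ⋃ b, (f (idx b)) '' (Wo b : Set (Xi (idx b))) = (U : Set X) := by
  let E : PreZeroHypercover.{u} X := ⟨ι, Xi, f⟩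
  have hE : QuasiCompactCover E := Scheme.presieve₀_mem_qcPrecoverage_iff.1 hf.1
  exact QuasiCompactCover.exists_isAffineOpen_of_isCompact E hU.isCompact

/-- Finite type descends along an fpqc covering family (sections over affine opens). -/
theorem finite_sections_of_family (hf : Presieve.ofArrows Xi f ∈ Scheme.fpqcPrecoverage X)
    (F : X.Modules) [F.IsQuasicoherent]
    (hft : ∀ i, SheafOfModules.IsFiniteType (R := (Xi i).ringCatSheaf)
      ((Scheme.Modules.pullback (f i)).obj F))
    {U : X.Opens} (hU : IsAffineOpen U) : Module.Finite Γ(X, U) Γ(F, U) := by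
  have hflat : ∀ i, Flat (f i) :=
    ((Scheme.ofArrows_mem_precoverage_iff (P := @Flat)).1
      (Scheme.propQCPrecoverage_le_precoverage _ hf)).2
  haveI hq : ∀ i, ((Scheme.Modules.pullback (f i)).obj F).IsQuasicoherent := fun i =>
    Groth.Agent.Lib.Helper16.FlatPull.isQuasicoherent_pullback (f i) F
  obtain ⟨m, idx, Wo, hWo, hcovW⟩ := exists_affine_refinement f hf U hU
  have hle : ∀ b, Wo b ≤ (f (idx b)) ⁻¹ᵁ U := by
    intro b z hz
    have : f (idx b) z ∈ (U : Set X) := by
      rw [← hcovW]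
      exact Set.mem_iUnion.mpr ⟨b, z, hz, rfl⟩
    exact this
  letI : ∀ b, Algebra Γ(X, U) Γ(Xi (idx b), Wo b) := fun b =>
    ((f (idx b)).appLE U (Wo b) (hle b)).hom.toAlgebra
  haveI : ∀ b, Module.Flat Γ(X, U) Γ(Xi (idx b), Wo b) := fun b =>
    HasRingHomProperty.appLE (P := @Flat) (f (idx b)) (hflat _) ⟨U, hU⟩ ⟨Wo b, hWo b⟩ (hle b)
  have hsurj : JointlySurjective Γ(X, U) (fun b => Γ(Xi (idx b), Wo b)) := by
    intro p
    let y : U := hU.isoSpec.inv p
    have hy : (y : X) ∈ (U : Set X) := y.2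
    rw [← hcovW] at hy
    obtain ⟨b, x', hx'W, hx'⟩ := Set.mem_iUnion.mp hy
    refine ⟨b, (hWo b).primeIdealOf ⟨x', hx'W⟩, ?_⟩
    have h1 := IsAffineOpen.comap_primeIdealOf_appLE (f := f (idx b)) U hU (Wo b) (hWo b) (hle b)
      hx'W
    have h2 : (⟨f (idx b) x', (hle b) hx'W⟩ : U) = y := Subtype.ext hx'
    rw [h2] at h1
    exact h1.trans (primeIdealOf_isoSpec_inv hU p)
  refine finite_of_forall_finite_tensorProduct hsurj Γ(F, U) fun b => ?_
  have := Groth.Agent.Lib.Helper49.finite_sections_of_isFiniteType _ (hft (idx b)) (hWo b)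
  exact Module.Finite.equiv (pullbackSectionsEquiv (f (idx b)) hU (hWo b) (hle b) F)

/-- **Descent of the number of local generators along an fpqc covering family.** -/
theorem main (hf : Presieve.ofArrows Xi f ∈ Scheme.fpqcPrecoverage X) (F : X.Modules)
    [F.IsQuasicoherent] (r : ℕ)
    (h : ∀ i, ∃ σ : SheafOfModules.LocalGeneratorsData.{u} (R := (Xi i).ringCatSheaf)
        ((Scheme.Modules.pullback (f i)).obj F),
      ∀ k, Finite (σ.generators k).I ∧ Nat.card (σ.generators k).I ≤ r) :
    ∃ σ : SheafOfModules.LocalGeneratorsData.{u} (R := X.ringCatSheaf) F,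
      ∀ k, Finite (σ.generators k).I ∧ Nat.card (σ.generators k).I ≤ r := by
  have hsurjX : ∀ x : X, ∃ i, x ∈ Set.range (f i) :=
    ((Scheme.ofArrows_mem_precoverage_iff (P := @Flat)).1
      (Scheme.propQCPrecoverage_le_precoverage _ hf)).1
  haveI hq : ∀ i, ((Scheme.Modules.pullback (f i)).obj F).IsQuasicoherent := fun i =>
    Groth.Agent.Lib.Helper16.FlatPull.isQuasicoherent_pullback (f i) F
  choose σ hσ using h
  have hft : ∀ i, SheafOfModules.IsFiniteType (R := (Xi i).ringCatSheaf)
      ((Scheme.Modules.pullback (f i)).obj F) := fun i =>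
    SheafOfModules.IsFiniteType.mk (M := (Scheme.Modules.pullback (f i)).obj F)
      ⟨σ i, { isFiniteType := fun k => ⟨(hσ i k).1⟩ }⟩
  apply exists_localGeneratorsData_of_cover
  intro x
  obtain ⟨U, hU, hxU, -⟩ := exists_isAffineOpen_mem_and_subset (x := x) (U := ⊤) trivial
  haveI hfinM : Module.Finite Γ(X, U) Γ(F, U) := finite_sections_of_family f hf F hft hU
  obtain ⟨i, x', hx'⟩ := hsurjX x
  have hx'O : x' ∈ (f i) ⁻¹ᵁ U := by
    change f i x' ∈ U
    rw [hx']
    exact hxU
  obtain ⟨W, hW, hx'W, hWU, t, ht⟩ := exists_affine_span_of_localGeneratorsData _ (σ i) r (hσ i)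
    x' ((f i) ⁻¹ᵁ U) hx'O
  letI : Algebra Γ(X, U) Γ(Xi i, W) := ((f i).appLE U W hWU).hom.toAlgebra
  let E : Γ((Scheme.Modules.pullback (f i)).obj F, W) ≃ₗ[Γ(Xi i, W)]
      (Γ(Xi i, W) ⊗[Γ(X, U)] Γ(F, U)) := pullbackSectionsEquiv (f i) hU hW hWU F
  have ht' : Submodule.span Γ(Xi i, W) (Set.range fun j => E (t j)) = ⊤ :=
    span_range_equiv_eq_top E t ht
  obtain ⟨g, hg, m, hm⟩ := exists_away_generators_of_baseChange (A := Γ(X, U)) (M := Γ(F, U))
    (B := Γ(Xi i, W)) (hW.primeIdealOf ⟨x', hx'W⟩).asIdeal r (fun j => E (t j)) ht'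
  have hxg : x ∈ X.basicOpen g := by
    have h1 := IsAffineOpen.comap_primeIdealOf_appLE (f := f i) U hU W hW hWU hx'W
    have h2 : (⟨f i x', hWU hx'W⟩ : U) = ⟨x, hxU⟩ := Subtype.ext hx'
    rw [h2] at h1
    have h3 := (Groth.Agent.Lib.Helper45.mem_basicOpen_iff_not_mem_primeIdealOf hU ⟨x, hxU⟩ g).mpr
    apply h3
    rw [← h1]
    exact hg
  have hspan := span_restrict_basicOpen_eq_top hU F g m hm
  obtain ⟨G, hGfin, hGcard⟩ := exists_generatingSections_of_span (hU.basicOpen g) F _ hspan
  refine ⟨(hU.basicOpen g).fromSpec.opensRange, G, ?_, hGfin, hGcard⟩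
  rw [(hU.basicOpen g).opensRange_fromSpec]
  exact hxg

end Descent

end Groth.Agent.Lib.Helper51.BddGen
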