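import Mathlib
import Groth.Agent.Lib.Helper10.KoszulH1

set_option autoImplicit false
set_option linter.style.haveILetI false
universe u
open TensorProduct

namespace Groth.Agent.Lib.Helper51.ConormalIndep

open Groth.Agent.Lib.Helper10.KoszulH1

section Coord

variable {A : Type u} [CommRing A] {B : Type*} [CommRing B] [Algebra A B]
  {S : Type*} [AddCommGroup S] [Module A S]

/-- Coordinate functionals on (a module mapping into) an ideal generated by an `H_1`-regular
sequence, with values in a quotient killing the ideal. -/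
theorem exists_coord {n : ℕ} (f : Fin n → A) (hf : CAlgX.IsH1Regular f)
    (hfB : ∀ k, algebraMap A B (f k) = 0) (ι : S →ₗ[A] A)
    (hι : ∀ x, ι x ∈ Ideal.span (Set.range f)) (l : Fin n) :
    ∃ ℓ : S →ₗ[A] B, ∀ (x : S) (a : Fin n → A), ι x = ∑ k, a k * f k →
      ℓ x = algebraMap A B (a l) := by
  have hspanB : ∀ y ∈ Ideal.span (Set.range f), algebraMap A B y = 0 := by
    intro y hy
    have : Ideal.span (Set.range f) ≤ RingHom.ker (algebraMap A B) := by
      rw [Ideal.span_le]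
      rintro _ ⟨k, rfl⟩
      exact hfB k
    exact this hy
  have hex : ∀ x : S, ∃ a : Fin n → A, ι x = ∑ k, a k * f k := by
    intro x
    obtain ⟨a, ha⟩ := (Ideal.mem_span_range_iff_exists_fun).1 (hι x)
    exact ⟨a, ha.symm⟩
  choose a₀ ha₀ using hex
  have huniq : ∀ (x : S) (a : Fin n → A), ι x = ∑ k, a k * f k →
      algebraMap A B (a₀ x l) = algebraMap A B (a l) := by
    intro x a ha
    have hrel : ∑ k, (a₀ x - a) k * f k ∈ Ideal.span (Set.range f) ^ 2 := by
      have : ∑ k, (a₀ x - a) k * f k = 0 := by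
        simp only [Pi.sub_apply, sub_mul, Finset.sum_sub_distrib]
        rw [← ha₀ x, ← ha, sub_self]
      rw [this]
      exact Ideal.zero_mem _
    have hmem := coeff_mem_of_isH1Regular f hf (a₀ x - a) hrel l
    have h0 := hspanB _ hmem
    rw [Pi.sub_apply, map_sub, sub_eq_zero] at h0
    exact h0
  refine ⟨{ toFun := fun x => algebraMap A B (a₀ x l)
            map_add' := fun x y => ?_
            map_smul' := fun t x => ?_ }, fun x a ha => huniq x a ha⟩
  · have h : ι (x + y) = ∑ k, (a₀ x + a₀ y) k * f k := by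
      simp only [Pi.add_apply, add_mul, Finset.sum_add_distrib]
      rw [map_add, ← ha₀ x, ← ha₀ y]
    rw [huniq (x + y) _ h, Pi.add_apply, map_add]
  · have h : ι (t • x) = ∑ k, (t • a₀ x) k * f k := by
      simp only [Pi.smul_apply, smul_eq_mul, mul_assoc]
      rw [map_smul, smul_eq_mul, ha₀ x, Finset.mul_sum]
    rw [huniq (t • x) _ h, Pi.smul_apply, smul_eq_mul, map_mul, RingHom.id_apply, Algebra.smul_def]

end Coord


section Core

variable {A B C : Type u} [CommRing A] [CommRing B] [CommRing C] [Algebra A B] [Algebra B C]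
  [Algebra A C] [IsScalarTower A B C]
  {S T : Type*} [AddCommGroup S] [Module A S] [AddCommGroup T] [Module A T]
  {P : Type*} [AddCommGroup P] [Module B P]
  {M N : Type*} [AddCommGroup M] [Module C M] [AddCommGroup N] [Module C N]

omit [IsScalarTower A B C] in
/-- Abstract core: a retraction of the conormal map forces the generators of the smaller ideal to
stay independent in the bigger ideal modulo a prime. -/
theorem coeff_mem_of_retraction
    (ιS : S →ₗ[A] A) (ιT : T →ₗ[A] A) (hιT : Function.Injective ιT)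
    (e₀ : B ⊗[A] S ≃ₗ[B] P) (e₁ : C ⊗[B] P ≃ₗ[C] M) (e₂ : C ⊗[A] T ≃ₗ[C] N)
    (φ : M →ₗ[C] N) (r : N →ₗ[C] M) (hr : ∀ m, r (φ m) = m)
    {n : ℕ} (f : Fin n → A) (hf : CAlgX.IsH1Regular f) (hfB : ∀ k, algebraMap A B (f k) = 0)
    (hS : ∀ x, ιS x ∈ Ideal.span (Set.range f))
    (s : Fin n → S) (hs : ∀ k, ιS (s k) = f k) (t : Fin n → T) (ht : ∀ k, ιT (t k) = f k)
    (hφ : ∀ k, φ (e₁ (1 ⊗ₜ e₀ (1 ⊗ₜ s k))) = e₂ (1 ⊗ₜ t k))
    (hAC : Function.Surjective (algebraMap A C))
    (𝔓 : Ideal A) (hK : RingHom.ker (algebraMap A C) ≤ 𝔓)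
    (c : Fin n → A) (hc : ∑ k, c k * f k ∈ 𝔓 * (LinearMap.range ιT : Ideal A)) :
    ∀ l, c l ∈ 𝔓 := by
  classical
  intro l
  obtain ⟨ℓ, hℓ⟩ := exists_coord (B := B) f hf hfB ιS hS l
  let ℓ' : P →ₗ[B] B := (LinearMap.liftBaseChange B ℓ) ∘ₗ e₀.symm.toLinearMap
  let ℓ'' : P →ₗ[B] C := (Algebra.linearMap B C) ∘ₗ ℓ'
  let lam : M →ₗ[C] C := (LinearMap.liftBaseChange C ℓ'') ∘ₗ e₁.symm.toLinearMap
  have hℓs : ∀ k, ℓ (s k) = if k = l then 1 else 0 := by
    intro k
    have h := hℓ (s k) (Pi.single k 1) (by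
      rw [hs, Finset.sum_eq_single k]
      · simp
      · intro b _ hb
        simp [hb]
      · simp)
    rw [h, Pi.single_apply]
    split_ifs with h1 h2 h2
    · simp
    · exact absurd h1.symm h2
    · exact absurd h2.symm h1
    · simp
  have hlam : ∀ k, lam (e₁ (1 ⊗ₜ e₀ (1 ⊗ₜ s k))) = if k = l then 1 else 0 := by
    intro k
    simp only [lam, ℓ'', ℓ', LinearMap.comp_apply, LinearEquiv.coe_coe,
      LinearEquiv.symm_apply_apply, LinearMap.liftBaseChange_tmul, one_smul, hℓs]
    split_ifs <;> simp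
  let Λ : T →ₗ[A] C :=
    ((lam ∘ₗ r ∘ₗ e₂.toLinearMap).restrictScalars A) ∘ₗ (TensorProduct.mk A C T 1)
  have hΛt : ∀ k, Λ (t k) = if k = l then 1 else 0 := by
    intro k
    change lam (r (e₂ (1 ⊗ₜ t k))) = _
    rw [← hφ k, hr, hlam]
  have hx : ∃ tx ∈ (𝔓 • ⊤ : Submodule A T), ιT tx = ∑ k, c k * f k := by
    refine Submodule.mul_induction_on hc ?_ ?_
    · intro p hp κ hκ
      obtain ⟨tκ, rfl⟩ := hκ
      exact ⟨p • tκ, Submodule.smul_mem_smul hp Submodule.mem_top, by
        rw [map_smul, smul_eq_mul]⟩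
    · rintro _ _ ⟨t1, h1, rfl⟩ ⟨t2, h2, rfl⟩
      exact ⟨t1 + t2, Submodule.add_mem _ h1 h2, map_add _ _ _⟩
  obtain ⟨tx, htx, htxx⟩ := hx
  have htx' : tx = ∑ k, c k • t k := by
    apply hιT
    rw [htxx, map_sum]
    refine Finset.sum_congr rfl fun k _ => ?_
    rw [map_smul, smul_eq_mul, ht]
  have h1 : Λ tx = algebraMap A C (c l) := by
    rw [htx', map_sum]
    simp only [map_smul, hΛt]
    rw [Finset.sum_eq_single l]
    · simp [Algebra.smul_def]
    · intro b _ hb
      simp [hb]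
    · simp
  have h2 : Λ tx ∈ (𝔓 • ⊤ : Submodule A C) := by
    have := Submodule.mem_map_of_mem (f := Λ) htx
    rw [Submodule.map_smul''] at this
    exact Submodule.smul_mono le_rfl le_top this
  have h3 : algebraMap A C (c l) ∈ Ideal.map (algebraMap A C) 𝔓 := by
    rw [← h1]
    refine Submodule.smul_induction_on h2 ?_ ?_
    · intro p hp y _
      rw [Algebra.smul_def]
      exact Ideal.mul_mem_right _ _ (Ideal.mem_map_of_mem _ hp)
    · intro a b ha hb
      exact Ideal.add_mem _ ha hb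
  have h4 : c l ∈ (Ideal.map (algebraMap A C) 𝔓).comap (algebraMap A C) := h3
  rw [Ideal.comap_map_of_surjective _ hAC, ← RingHom.ker_eq_comap_bot,
    sup_eq_left.mpr hK] at h4
  exact h4

end Core

end Groth.Agent.Lib.Helper51.ConormalIndep
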