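import Mathlib

set_option autoImplicit false
set_option linter.style.haveILetI false
universe u
open TensorProduct

namespace Groth.Agent.Lib.Helper51.ConormalIndep

section Core2

variable {A C : Type*} [CommRing A] [CommRing C] [Algebra A C]
  {S T M N : Type*} [AddCommGroup S] [Module A S] [AddCommGroup T] [Module A T]
  [AddCommGroup M] [Module A M] [AddCommGroup N] [Module A N]

/-- Abstract core, second form: a retraction of the conormal map shows
`I ∩ 𝔓 K ⊆ 𝔓 I` (in the form of modules of sections). -/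
theorem mem_smul_top_of_retraction
    (ιS : S → A) (ιT : T → A)
    (e : C ⊗[A] S ≃ₗ[A] M) (τ : T →ₗ[A] N)
    (φ : M →ₗ[A] N) (r : N →ₗ[A] M) (hr : ∀ m, r (φ m) = m)
    (hφ : ∀ s t, ιS s = ιT t → φ (e (1 ⊗ₜ s)) = τ t)
    (hAC : Function.Surjective (algebraMap A C))
    (𝔓 : Ideal A) (hK : RingHom.ker (algebraMap A C) ≤ 𝔓)
    (s : S) (t : T) (hst : ιS s = ιT t) (ht : t ∈ (𝔓 • ⊤ : Submodule A T)) :
    s ∈ (𝔓 • ⊤ : Submodule A S) := by
  have h1 : e (1 ⊗ₜ s) ∈ (𝔓 • ⊤ : Submodule A M) := by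
    have h2 : e (1 ⊗ₜ s) = (r ∘ₗ τ) t := by
      rw [LinearMap.comp_apply, ← hφ s t hst, hr]
    rw [h2]
    have := Submodule.mem_map_of_mem (f := r ∘ₗ τ) ht
    rw [Submodule.map_smul''] at this
    exact Submodule.smul_mono le_rfl le_top this
  have hAC' : Function.Surjective (Algebra.ofId A C) := hAC
  let ψ : C →ₐ[A] A ⧸ 𝔓 :=
    (Ideal.Quotient.factorₐ A (I := RingHom.ker (Algebra.ofId A C)) (J := 𝔓) hK).comp
      (Ideal.quotientKerAlgEquivOfSurjective hAC').symm.toAlgHom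
  let Ψ : M →ₗ[A] S ⧸ (𝔓 • ⊤ : Submodule A S) :=
    (TensorProduct.quotTensorEquivQuotSMul S 𝔓).toLinearMap ∘ₗ
      (LinearMap.rTensor S ψ.toLinearMap) ∘ₗ e.symm.toLinearMap
  have hΨ1 : Ψ (e (1 ⊗ₜ s)) = Submodule.Quotient.mk s := by
    simp only [Ψ, LinearMap.comp_apply, LinearEquiv.coe_coe, LinearEquiv.symm_apply_apply,
      LinearMap.rTensor_tmul, AlgHom.toLinearMap_apply, map_one]
    exact TensorProduct.quotTensorEquivQuotSMul_mk_one_tmul 𝔓 s
  have hΨ2 : ∀ m ∈ (𝔓 • ⊤ : Submodule A M), Ψ m = 0 := by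
    intro m hm
    refine Submodule.smul_induction_on hm ?_ ?_
    · intro p hp y _
      rw [map_smul]
      obtain ⟨s', hs'⟩ := Submodule.Quotient.mk_surjective _ (Ψ y)
      rw [← hs', ← Submodule.Quotient.mk_smul, Submodule.Quotient.mk_eq_zero]
      exact Submodule.smul_mem_smul hp Submodule.mem_top
    · intro x y hx hy
      rw [map_add, hx, hy, add_zero]
  have h3 := hΨ2 _ h1
  rw [hΨ1, Submodule.Quotient.mk_eq_zero] at h3
  exact h3

end Core2

end Groth.Agent.Lib.Helper51.ConormalIndep
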