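import Mathlib
import Groth.Agent.Lib.Helper10.RegDescentQuasi
import Groth.Agent.Lib.Helper10.RegDescentH1
import Groth.Agent.Lib.Helper90.QuasiRegReg
import Groth.Agent.Lib.Helper10.LciTrans

set_option autoImplicit false
set_option linter.style.haveILetI false
universe u

namespace Groth.Agent.Lib.Helper51.RegQuot

open Groth.Agent.Lib.Helper10.RegDescent Groth.Agent.Lib.Helper10.RegDescentQuasi
  Groth.Agent.Lib.Helper10.RegDescentH1

section H1

variable {A : Type u} [CommRing A]

/-- `H_1`-regularity passes to the quotient by the first element. -/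
theorem isH1Regular_quot {c : ℕ} (f : Fin (c + 1) → A) (hf : CAlgX.IsH1Regular f) :
    CAlgX.IsH1Regular (fun i : Fin c => Ideal.Quotient.mk (Ideal.span {f 0}) (f i.succ)) := by
  classical
  intro ā hā
  choose a ha using fun i => Ideal.Quotient.mk_surjective (ā i)
  have hf0 : Ideal.Quotient.mk (Ideal.span {f 0}) (f 0) = 0 :=
    Ideal.Quotient.eq_zero_iff_mem.mpr (Ideal.subset_span rfl)
  have h1 : ∑ i, a i * f i.succ ∈ Ideal.span {f 0} := by
    rw [← Ideal.Quotient.eq_zero_iff_mem, map_sum]
    simp only [map_mul, ha]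
    exact hā
  obtain ⟨b, hb⟩ := Ideal.mem_span_singleton'.mp h1
  have hv : ∑ i, (Fin.cons (-b) a : Fin (c + 1) → A) i * f i = 0 := by
    rw [Fin.sum_univ_succ]
    simp only [Fin.cons_zero, Fin.cons_succ]
    rw [← hb]
    ring
  have hmem := hf _ hv
  have key : ∀ w ∈ Submodule.span A {w : Fin (c + 1) → A | ∃ i j : Fin (c + 1),
      w = Pi.single i (f j) - Pi.single j (f i)},
      (fun i : Fin c => Ideal.Quotient.mk (Ideal.span {f 0}) (w i.succ)) ∈
        Submodule.span (A ⧸ Ideal.span {f 0}) {w : Fin c → A ⧸ Ideal.span {f 0} |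
          ∃ i j : Fin c, w = Pi.single i (Ideal.Quotient.mk (Ideal.span {f 0}) (f j.succ)) -
            Pi.single j (Ideal.Quotient.mk (Ideal.span {f 0}) (f i.succ))} := by
    intro w hw
    induction hw using Submodule.span_induction with
    | mem w hw =>
      obtain ⟨i, j, rfl⟩ := hw
      rcases Fin.eq_zero_or_eq_succ i with rfl | ⟨i', rfl⟩
      · rcases Fin.eq_zero_or_eq_succ j with rfl | ⟨j', rfl⟩
        · simp only [sub_self, Pi.zero_apply, map_zero]
          exact Submodule.zero_mem _
        · have : (fun k : Fin c => Ideal.Quotient.mk (Ideal.span {f 0})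
              ((Pi.single 0 (f j'.succ) - Pi.single j'.succ (f 0) : Fin (c + 1) → A) k.succ)) =
              0 := by
            funext k
            simp only [Pi.sub_apply, Pi.single_apply, Fin.succ_ne_zero, if_false, zero_sub,
              Pi.zero_apply, map_neg]
            split_ifs
            · rw [hf0, neg_zero]
            · simp
          rw [this]
          exact Submodule.zero_mem _
      · rcases Fin.eq_zero_or_eq_succ j with rfl | ⟨j', rfl⟩
        · have : (fun k : Fin c => Ideal.Quotient.mk (Ideal.span {f 0})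
              ((Pi.single i'.succ (f 0) - Pi.single 0 (f i'.succ) : Fin (c + 1) → A) k.succ)) =
              0 := by
            funext k
            simp only [Pi.sub_apply, Pi.single_apply, Fin.succ_ne_zero, if_false, sub_zero,
              Pi.zero_apply]
            split_ifs
            · exact hf0
            · simp
          rw [this]
          exact Submodule.zero_mem _
        · apply Submodule.subset_span
          refine ⟨i', j', ?_⟩
          funext k
          simp only [Pi.sub_apply, Pi.single_apply, Fin.succ_inj, map_sub]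
          congr 1 <;> split_ifs <;> simp
    | zero =>
      simp only [Pi.zero_apply, map_zero]
      exact Submodule.zero_mem _
    | add x y _ _ hx hy =>
      have : (fun i : Fin c => Ideal.Quotient.mk (Ideal.span {f 0}) ((x + y) i.succ)) =
          (fun i : Fin c => Ideal.Quotient.mk (Ideal.span {f 0}) (x i.succ)) +
            (fun i : Fin c => Ideal.Quotient.mk (Ideal.span {f 0}) (y i.succ)) := by
        funext i
        simp
      rw [this]
      exact Submodule.add_mem _ hx hy
    | smul r x _ hx =>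
      have : (fun i : Fin c => Ideal.Quotient.mk (Ideal.span {f 0}) ((r • x) i.succ)) =
          Ideal.Quotient.mk (Ideal.span {f 0}) r •
            (fun i : Fin c => Ideal.Quotient.mk (Ideal.span {f 0}) (x i.succ)) := by
        funext i
        simp
      rw [this]
      exact Submodule.smul_mem _ _ hx
  have h2 := key _ hmem
  have h3 : (fun i : Fin c => Ideal.Quotient.mk (Ideal.span {f 0})
      ((Fin.cons (-b) a : Fin (c + 1) → A) i.succ)) = ā := by
    funext i
    simp only [Fin.cons_succ]
    exact ha i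
  rw [h3] at h2
  exact h2

end H1


section Generic

variable (K : Kind.{u})

/-- one-step quotient stability of a kind. -/
def QuotStep : Prop :=
  ∀ {A : Type u} [CommRing A] (f : A) (l : List A), K.P A (f :: l) →
    K.P (A ⧸ Ideal.span {f}) (l.map (Ideal.Quotient.mk (Ideal.span {f})))

variable {K}

/-- For a kind with one-step quotient stability: if `gs ++ fs` is of the kind and `φ` is a
surjection with kernel `(fs)`, then `gs.map φ` is of the kind. -/
theorem P_map_of_append (hstep : QuotStep K) :
    ∀ (n : ℕ) {A B : Type u} [CommRing A] [CommRing B] (φ : A →+* B)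
      (_ : Function.Surjective φ) (fs gs : List A), fs.length = n →
      RingHom.ker φ = Ideal.ofList fs → K.P A (gs ++ fs) → K.P B (gs.map φ) := by
  intro n
  induction n with
  | zero =>
    intro A B _ _ φ hφ fs gs hlen hker h
    have hfs : fs = [] := List.length_eq_zero_iff.mp hlen
    subst hfs
    rw [Ideal.ofList_nil] at hker
    have hinj : Function.Injective φ := (RingHom.injective_iff_ker_eq_bot φ).mpr hker
    rw [List.append_nil] at h
    exact K.map_flat φ (RingHom.Flat.of_bijective ⟨hinj, hφ⟩) gs h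
  | succ n ih =>
    intro A B _ _ φ hφ fs gs hlen hker h
    obtain ⟨f, fs', rfl⟩ : ∃ f fs', fs = f :: fs' := by
      cases fs with
      | nil => simp at hlen
      | cons f fs' => exact ⟨f, fs', rfl⟩
    have hlen' : fs'.length = n := by simpa using hlen
    have h1 : K.P A (f :: (gs ++ fs')) := by
      refine K.of_ofList_eq _ _ h ?_ ?_
      · simp only [Ideal.ofList_cons, Ideal.ofList_append]
        rw [sup_left_comm]
      · simp
        omega
    have h2 := hstep f (gs ++ fs') h1
    rw [List.map_append] at h2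
    have hfker : ∀ a ∈ Ideal.span {f}, φ a = 0 := by
      intro a ha
      have : a ∈ RingHom.ker φ := by
        rw [hker, Ideal.ofList_cons]
        exact Ideal.mem_sup_left ha
      exact this
    have hφ₁ : Function.Surjective (Ideal.Quotient.lift (Ideal.span {f}) φ hfker) :=
      Ideal.Quotient.lift_surjective_of_surjective _ _ hφ
    have hker₁ : RingHom.ker (Ideal.Quotient.lift (Ideal.span {f}) φ hfker) =
        Ideal.ofList (fs'.map (Ideal.Quotient.mk (Ideal.span {f}))) := by
      ext x
      obtain ⟨x, rfl⟩ := Ideal.Quotient.mk_surjective x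
      rw [RingHom.mem_ker, Ideal.Quotient.lift_mk, ← Ideal.map_ofList,
        Ideal.mem_quotient_iff_mem_sup, ← RingHom.mem_ker, hker, Ideal.ofList_cons, sup_comm]
    have h3 := ih (Ideal.Quotient.lift (Ideal.span {f}) φ hfker) hφ₁
      (fs'.map (Ideal.Quotient.mk (Ideal.span {f})))
      (gs.map (Ideal.Quotient.mk (Ideal.span {f}))) (by simpa using hlen') hker₁ h2
    rw [List.map_map] at h3
    have h4 : (⇑(Ideal.Quotient.lift (Ideal.span {f}) φ hfker) ∘
        ⇑(Ideal.Quotient.mk (Ideal.span {f}))) = ⇑φ := by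
      funext a
      exact Ideal.Quotient.lift_mk _ _ _
    rw [h4] at h3
    exact h3

theorem quotStep_h1Kind : QuotStep h1Kind.{u} := by
  intro A _ f l h
  have h1 : CAlgX.IsH1Regular (fun i : Fin l.length =>
      Ideal.Quotient.mk (Ideal.span {(f :: l).get 0}) ((f :: l).get i.succ)) :=
    isH1Regular_quot (f :: l).get h
  exact (isH1Regular_map_get l (Ideal.Quotient.mk (Ideal.span {f}))).mpr h1

theorem quotStep_quasiKind : QuotStep quasiKind.{u} := by
  intro A _ f l h
  have h1 : CAlgX.IsQuasiRegular (fun i : Fin l.length =>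
      Ideal.Quotient.mk (Ideal.span {(f :: l).get 0}) ((f :: l).get i.succ)) :=
    Groth.Agent.Lib.Helper90.QuasiRegReg.isQuasiRegular_quot (f :: l).get h
  exact (isQuasiRegular_map_get l (Ideal.Quotient.mk (Ideal.span {f}))).mpr h1

end Generic


section Comap

open Groth.Agent.Lib.Helper10.LciTrans Groth.Agent.Lib.Helper10.FlatLocal

variable {K : Kind.{u}} {S₀ R₁ : Type u} [CommRing S₀] [CommRing R₁]

/-- **Removing a kernel, pointwise and for a general kind.**  Let `ε : S₀ → R₁` be a surjection
whose kernel is generated by `fs`, independent modulo `𝔓 · ε⁻¹(J)` for `𝔓 = ε⁻¹(𝔮)`.  If `ε⁻¹(J)`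
is locally of kind `K` (a kind with one-step quotient stability), then `J` is generated by a list
of kind `K` near `𝔮`. -/
theorem exists_data_of_comap (hstep : QuotStep K) (ε : S₀ →+* R₁) (hε : Function.Surjective ε)
    (fs : List S₀) (hker : RingHom.ker ε = Ideal.ofList fs) (J : Ideal R₁)
    (𝔮 : PrimeSpectrum R₁) (hJ𝔮 : J ≤ 𝔮.asIdeal)
    (hind : ∀ c : Fin fs.length → S₀,
      ∑ i, c i * fs.get i ∈ (𝔮.asIdeal.comap ε) * (J.comap ε) → ∀ i, c i ∈ 𝔮.asIdeal.comap ε)
    (h : IsLoc K (J.comap ε)) :
    ∃ g : R₁, g ∉ 𝔮.asIdeal ∧ ∃ (S : Type u) (_ : CommRing S) (_ : Algebra R₁ S)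
      (_ : IsLocalization.Away g S) (l : List S), K.P S l ∧
        J.map (algebraMap R₁ S) = Ideal.ofList l := by
  have hKJ : (J.comap ε).map ε = J := Ideal.map_comap_of_surjective ε hε J
  have hK𝔓 : J.comap ε ≤ 𝔮.asIdeal.comap ε := Ideal.comap_mono hJ𝔮
  have hKfg : (J.comap ε).FG := h.fg
  have hfsker : ∀ i, fs.get i ∈ RingHom.ker ε := fun i => by
    rw [hker]
    exact Ideal.subset_span (List.get_mem fs i)
  have hkerK : RingHom.ker ε ≤ J.comap ε := fun x hx => by
    rw [Ideal.mem_comap, RingHom.mem_ker.mp hx]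
    exact J.zero_mem
  obtain ⟨G, hG, l', hl'reg, hKl'⟩ := h (𝔮.comap ε) hK𝔓
  have hNG : NearGen (J.comap ε) (𝔮.comap ε) l'.length := ⟨G, hG, l', rfl, hKl'⟩
  obtain ⟨hms, hNGJ⟩ := count ε (J.comap ε) hKfg 𝔮 hK𝔓 fs.get (fun i => hkerK (hfsker i))
    (fun i => RingHom.mem_ker.mp (hfsker i)) hind hNG
  rw [hKJ] at hNGJ
  obtain ⟨g₁, hg₁, hh, hhlen, hJh⟩ := hNGJ
  obtain ⟨G₁, rfl⟩ := hε g₁
  have hGq : ε G ∉ 𝔮.asIdeal := hG
  haveI : IsLocalization.Away (ε (G * G₁))
      (Localization.Away (algebraMap R₁ (Localization.Away (ε G₁)) (ε G))) := by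
    rw [map_mul]
    infer_instance
  obtain ⟨φ₂, hφ₂⟩ : ∃ φ₂ : Localization.Away (algebraMap S₀ (Localization.Away G) G₁) →+*
      Localization.Away (algebraMap R₁ (Localization.Away (ε G₁)) (ε G)),
      φ₂ = IsLocalization.Away.map _ _ ε (G * G₁) := ⟨_, rfl⟩
  have hsq : φ₂.comp (algebraMap S₀ _) = (algebraMap R₁ _).comp ε := by
    rw [hφ₂]
    exact IsLocalization.map_comp _
  have hφsurj := locSq_surjective ε (G * G₁) _ rfl φ₂ hsq hε
  have hφker := locSq_ker ε (G * G₁) _ rfl φ₂ hsq
  have hφcomap := locSq_comap ε (G * G₁) _ rfl φ₂ hsq hε J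
  obtain ⟨fs₂, hfs₂⟩ : ∃ fs₂ : List (Localization.Away (algebraMap S₀ (Localization.Away G) G₁)),
      fs₂ = fs.map (algebraMap S₀ _) := ⟨_, rfl⟩
  have hker₂ : RingHom.ker φ₂ = Ideal.ofList fs₂ := by
    rw [hφker, hfs₂, ← Ideal.map_ofList, ← hker]
  obtain ⟨l₂, hl₂⟩ : ∃ l₂ : List (Localization.Away (algebraMap S₀ (Localization.Away G) G₁)),
      l₂ = l'.map (algebraMap (Localization.Away G) _) := ⟨_, rfl⟩
  have hl₂reg : K.P _ l₂ := by
    rw [hl₂]
    exact K.map_flat _ (algebraMap_away_flat _) l' hl'reg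
  have hK₂ : (J.comap ε).map (algebraMap S₀ _) = Ideal.ofList l₂ := by
    rw [hl₂, ← Ideal.map_ofList, ← hKl', Ideal.map_map, ← IsScalarTower.algebraMap_eq]
  obtain ⟨h₂, hh₂⟩ : ∃ h₂ : List (Localization.Away (algebraMap R₁ (Localization.Away (ε G₁))
      (ε G))), h₂ = hh.map (algebraMap (Localization.Away (ε G₁)) _) := ⟨_, rfl⟩
  have hJ₂ : J.map (algebraMap R₁ _) = Ideal.ofList h₂ := by
    rw [hh₂, ← Ideal.map_ofList, ← hJh, Ideal.map_map, ← IsScalarTower.algebraMap_eq]
  obtain ⟨gs, hgs⟩ := exists_map_eq φ₂ hφsurj h₂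
  have hEq : Ideal.ofList (gs ++ fs₂) = Ideal.ofList l₂ := by
    rw [← hK₂, hφcomap, hJ₂, ← hgs]
    exact (comap_ofList_map φ₂ hφsurj fs₂ gs hker₂).symm
  have hlen : (gs ++ fs₂).length = l₂.length := by
    have h1 : gs.length = h₂.length := by rw [← hgs, List.length_map]
    rw [List.length_append, h1, hh₂, hfs₂, hl₂, List.length_map, List.length_map,
      List.length_map, hhlen]
    omega
  have hreg : K.P _ (gs ++ fs₂) := K.of_ofList_eq l₂ (gs ++ fs₂) hl₂reg hEq hlen
  have hreg' := P_map_of_append hstep fs₂.length φ₂ hφsurj fs₂ gs rfl hker₂ hreg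
  rw [hgs] at hreg'
  refine ⟨ε (G * G₁), ?_, Localization.Away (algebraMap R₁ (Localization.Away (ε G₁)) (ε G)),
    inferInstance, inferInstance, inferInstance, h₂, hreg', hJ₂⟩
  rw [map_mul]
  exact fun hmem => (𝔮.isPrime.mem_or_mem hmem).elim hGq hg₁

end Comap

end Groth.Agent.Lib.Helper51.RegQuot
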