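import Mathlib
import Groth.Agent.Lib.Helper51.RegQuot

/-!
# Completing independent generators of a kernel to a list of kind `K` (helper51)
-/

set_option autoImplicit false
set_option linter.style.haveILetI false
universe u

namespace Groth.Agent.Lib.Helper51.RegQuot

open Groth.Agent.Lib.Helper10.RegDescent Groth.Agent.Lib.Helper10.LciTrans
  Groth.Agent.Lib.Helper10.FlatLocal

variable {K : Kind.{u}} {S₀ R₁ : Type u} [CommRing S₀] [CommRing R₁]

/-- Let `ε : S₀ → R₁` be a surjection whose kernel is generated by `fs`, independent modulo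
`𝔓 · ε⁻¹(J)` for `𝔓 = ε⁻¹(𝔮)`.  If `ε⁻¹(J)` is locally of kind `K`, then near `𝔓` the list `fs` can be
completed to a list of kind `K` generating `ε⁻¹(J)`. -/
theorem exists_append_of_comap (ε : S₀ →+* R₁) (hε : Function.Surjective ε)
    (fs : List S₀) (hker : RingHom.ker ε = Ideal.ofList fs) (J : Ideal R₁)
    (𝔮 : PrimeSpectrum R₁) (hJ𝔮 : J ≤ 𝔮.asIdeal)
    (hind : ∀ c : Fin fs.length → S₀,
      ∑ i, c i * fs.get i ∈ (𝔮.asIdeal.comap ε) * (J.comap ε) → ∀ i, c i ∈ 𝔮.asIdeal.comap ε)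
    (h : IsLoc K (J.comap ε)) :
    ∃ g : S₀, g ∉ 𝔮.asIdeal.comap ε ∧ ∀ (S : Type u) [CommRing S] [Algebra S₀ S]
      [IsLocalization.Away g S], ∃ gs : List S,
        K.P S (fs.map (algebraMap S₀ S) ++ gs) ∧
        (J.comap ε).map (algebraMap S₀ S) = Ideal.ofList (fs.map (algebraMap S₀ S) ++ gs) := by
  have hKJ : (J.comap ε).map ε = J := Ideal.map_comap_of_surjective ε hε J
  have hK𝔓 : J.comap ε ≤ 𝔮.asIdeal.comap ε := Ideal.comap_mono hJ𝔮
  have hKfg : (J.comap ε).FG := h.fg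
  have hfsker : ∀ i, fs.get i ∈ RingHom.ker ε := fun i => by
    rw [hker]
    exact Ideal.subset_span (List.get_mem fs i)
  have hkerK : RingHom.ker ε ≤ J.comap ε := fun x hx => by
    rw [Ideal.mem_comap, RingHom.mem_ker.mp hx]
    exact J.zero_mem
  obtain ⟨G, hG, l', hl'reg, hKl'⟩ := h (𝔮.comap ε) hK𝔓
  have hNG : NearGen (J.comap ε) (𝔮.comap ε) l'.length := ⟨G, hG, l', rfl, hKl'⟩
  obtain ⟨hms, hNGJ⟩ := count ε (J.comap ε) hKfg 𝔮 hK𝔓 fs.get (fun i => hkerK (hfsker i))
    (fun i => RingHom.mem_ker.mp (hfsker i)) hind hNG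
  rw [hKJ] at hNGJ
  obtain ⟨g₁, hg₁, hh, hhlen, hJh⟩ := hNGJ
  obtain ⟨G₁, rfl⟩ := hε g₁
  have hGq : ε G ∉ 𝔮.asIdeal := hG
  haveI : IsLocalization.Away (ε (G * G₁))
      (Localization.Away (algebraMap R₁ (Localization.Away (ε G₁)) (ε G))) := by
    rw [map_mul]
    infer_instance
  obtain ⟨φ₂, hφ₂⟩ : ∃ φ₂ : Localization.Away (algebraMap S₀ (Localization.Away G) G₁) →+*
      Localization.Away (algebraMap R₁ (Localization.Away (ε G₁)) (ε G)),
      φ₂ = IsLocalization.Away.map _ _ ε (G * G₁) := ⟨_, rfl⟩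
  have hsq : φ₂.comp (algebraMap S₀ _) = (algebraMap R₁ _).comp ε := by
    rw [hφ₂]
    exact IsLocalization.map_comp _
  have hφsurj := locSq_surjective ε (G * G₁) _ rfl φ₂ hsq hε
  have hφker := locSq_ker ε (G * G₁) _ rfl φ₂ hsq
  have hφcomap := locSq_comap ε (G * G₁) _ rfl φ₂ hsq hε J
  obtain ⟨fs₂, hfs₂⟩ : ∃ fs₂ : List (Localization.Away (algebraMap S₀ (Localization.Away G) G₁)),
      fs₂ = fs.map (algebraMap S₀ _) := ⟨_, rfl⟩
  have hker₂ : RingHom.ker φ₂ = Ideal.ofList fs₂ := by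
    rw [hφker, hfs₂, ← Ideal.map_ofList, ← hker]
  obtain ⟨l₂, hl₂⟩ : ∃ l₂ : List (Localization.Away (algebraMap S₀ (Localization.Away G) G₁)),
      l₂ = l'.map (algebraMap (Localization.Away G) _) := ⟨_, rfl⟩
  have hl₂reg : K.P _ l₂ := by
    rw [hl₂]
    exact K.map_flat _ (algebraMap_away_flat _) l' hl'reg
  have hK₂ : (J.comap ε).map (algebraMap S₀ _) = Ideal.ofList l₂ := by
    rw [hl₂, ← Ideal.map_ofList, ← hKl', Ideal.map_map, ← IsScalarTower.algebraMap_eq]
  obtain ⟨h₂, hh₂⟩ : ∃ h₂ : List (Localization.Away (algebraMap R₁ (Localization.Away (ε G₁))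
      (ε G))), h₂ = hh.map (algebraMap (Localization.Away (ε G₁)) _) := ⟨_, rfl⟩
  have hJ₂ : J.map (algebraMap R₁ _) = Ideal.ofList h₂ := by
    rw [hh₂, ← Ideal.map_ofList, ← hJh, Ideal.map_map, ← IsScalarTower.algebraMap_eq]
  obtain ⟨gs, hgs⟩ := exists_map_eq φ₂ hφsurj h₂
  have hEq : Ideal.ofList (gs ++ fs₂) = Ideal.ofList l₂ := by
    rw [← hK₂, hφcomap, hJ₂, ← hgs]
    exact (comap_ofList_map φ₂ hφsurj fs₂ gs hker₂).symm
  have hlen : (gs ++ fs₂).length = l₂.length := by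
    have h1 : gs.length = h₂.length := by rw [← hgs, List.length_map]
    rw [List.length_append, h1, hh₂, hfs₂, hl₂, List.length_map, List.length_map,
      List.length_map, hhlen]
    omega
  have hEq' : Ideal.ofList (fs₂ ++ gs) = Ideal.ofList l₂ := by
    rw [← hEq, Ideal.ofList_append, Ideal.ofList_append, sup_comm]
  have hlen' : (fs₂ ++ gs).length = l₂.length := by
    rw [← hlen, List.length_append, List.length_append, add_comm]
  have hreg : K.P _ (fs₂ ++ gs) := K.of_ofList_eq l₂ (fs₂ ++ gs) hl₂reg hEq' hlen'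
  refine ⟨G * G₁, ?_, ?_⟩
  · intro hmem
    have hmem' : ε (G * G₁) ∈ 𝔮.asIdeal := hmem
    rw [map_mul] at hmem'
    exact (𝔮.isPrime.mem_or_mem hmem').elim hGq hg₁
  · intro S _ _ _
    let e : Localization.Away (algebraMap S₀ (Localization.Away G) G₁) ≃ₐ[S₀] S :=
      IsLocalization.algEquiv (Submonoid.powers (G * G₁)) _ S
    have hcomp : (e : Localization.Away (algebraMap S₀ (Localization.Away G) G₁) →+* S).comp
        (algebraMap S₀ (Localization.Away (algebraMap S₀ (Localization.Away G) G₁))) =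
        algebraMap S₀ S :=
      RingHom.ext fun a => e.commutes a
    have hfs : fs₂.map e = fs.map (algebraMap S₀ S) := by
      rw [hfs₂, List.map_map]
      congr 1
      funext a
      exact e.commutes a
    refine ⟨gs.map e, ?_, ?_⟩
    · have := K.map_ringEquiv e.toRingEquiv (fs₂ ++ gs) hreg
      rw [List.map_append] at this
      rw [← hfs]
      exact this
    · rw [← hfs, ← List.map_append]
      have h1 : Ideal.ofList ((fs₂ ++ gs).map e) = (Ideal.ofList (fs₂ ++ gs)).map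
          (e : Localization.Away (algebraMap S₀ (Localization.Away G) G₁) →+* S) :=
        (Ideal.map_ofList
          (e : Localization.Away (algebraMap S₀ (Localization.Away G) G₁) →+* S) (fs₂ ++ gs)).symm
      rw [h1, hEq', ← hK₂, Ideal.map_map, hcomp]

end Groth.Agent.Lib.Helper51.RegQuot
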