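import Mathlib
import Groth.Agent.Lib.Helper10.RegImmDescent
import Groth.Agent.Lib.Helper10.KoszulMinGen

/-!
# Minimal generators of the kernel of an immersion near a point (helper51)
-/

set_option autoImplicit false
set_option linter.style.haveILetI false
universe u

namespace Groth.Agent.Lib.Helper51.MinGenChart

open AlgebraicGeometry CategoryTheory
open Groth.Agent.Lib.Helper10.RegDescent Groth.Agent.Lib.Helper10.RegImmDescent

section Alg

variable {A B : Type u} [CommRing A] [CommRing B]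

/-- a relation among generators with a coefficient outside a prime `𝔓`, modulo `𝔓 · (fs)`, lets us
express a multiple (by an element outside `𝔓`) of that generator by the others. -/
lemma exists_unit_relation (𝔓 : Ideal A) (fs : List A) (c : Fin fs.length → A)
    (hc : ∑ k, c k * fs.get k ∈ 𝔓 * Ideal.ofList fs) (k₀ : Fin fs.length) (hk₀ : c k₀ ∉ 𝔓) :
    ∃ u : A, u ∉ 𝔓 ∧ u * fs.get k₀ ∈ Ideal.ofList (fs.eraseIdx k₀) := by
  classical
  rw [← Groth.Agent.Lib.Helper10.KoszulMinGen.span_range_get, ← smul_eq_mul,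
    Ideal.span, Submodule.mem_ideal_smul_span_iff_exists_sum] at hc
  obtain ⟨b, hb, hsum⟩ := hc
  rw [Finsupp.sum_fintype _ _ (fun i => by simp)] at hsum
  refine ⟨c k₀ - b k₀, fun h => hk₀ ?_, ?_⟩
  · have := 𝔓.add_mem h (hb k₀)
    simpa using this
  · have hmem : ∀ k : Fin fs.length, k ≠ k₀ → fs.get k ∈ Ideal.ofList (fs.eraseIdx k₀) := by
      intro k hk
      apply Ideal.subset_span
      show fs.get k ∈ fs.eraseIdx k₀
      rw [List.mem_eraseIdx_iff_getElem]
      exact ⟨k.1, k.2, fun h => hk (Fin.ext h), rfl⟩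
    have h0 : ∑ k, (c k - b k) * fs.get k = 0 := by
      simp only [sub_mul, Finset.sum_sub_distrib]
      rw [sub_eq_zero, ← hsum]
      simp only [smul_eq_mul]
    rw [← Finset.add_sum_erase _ _ (Finset.mem_univ k₀)] at h0
    have h1 : (c k₀ - b k₀) * fs.get k₀ =
        -∑ k ∈ Finset.univ.erase k₀, (c k - b k) * fs.get k := eq_neg_of_add_eq_zero_left h0
    rw [h1]
    apply neg_mem
    apply Ideal.sum_mem
    intro k hk
    exact Ideal.mul_mem_left _ _ (hmem k (Finset.ne_of_mem_erase hk))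

/-- after inverting `u`, the generator `fs_{k₀}` becomes redundant. -/
lemma ofList_map_eraseIdx (φ : A →+* B) (fs : List A) (k₀ : Fin fs.length) (u : A)
    (hu : IsUnit (φ u)) (h : u * fs.get k₀ ∈ Ideal.ofList (fs.eraseIdx k₀)) :
    Ideal.ofList (fs.map φ) = Ideal.ofList ((fs.eraseIdx k₀).map φ) := by
  apply le_antisymm
  · rw [Ideal.ofList, Ideal.span_le]
    rintro _ hy
    obtain ⟨y, hy', rfl⟩ := List.mem_map.mp hy
    obtain ⟨k, rfl⟩ := List.mem_iff_get.mp hy'
    by_cases hk : k = k₀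
    · subst hk
      have h1 : φ (u * fs.get k) ∈ Ideal.ofList ((fs.eraseIdx k).map φ) := by
        rw [← Ideal.map_ofList]
        exact Ideal.mem_map_of_mem φ h
      rw [map_mul] at h1
      obtain ⟨v, hv⟩ := hu.exists_left_inv
      have h2 := Ideal.mul_mem_left _ v h1
      rw [← mul_assoc, hv, one_mul] at h2
      exact h2
    · apply Ideal.subset_span
      show φ (fs.get k) ∈ (fs.eraseIdx k₀).map φ
      apply List.mem_map_of_mem
      rw [List.mem_eraseIdx_iff_getElem]
      exact ⟨k.1, k.2, fun h => hk (Fin.ext h), rfl⟩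
  · rw [Ideal.ofList, Ideal.span_le]
    rintro _ hy
    obtain ⟨y, hy', rfl⟩ := List.mem_map.mp hy
    apply Ideal.subset_span
    show φ y ∈ fs.map φ
    exact List.mem_map_of_mem (List.mem_of_mem_eraseIdx hy')

end Alg

section Sch

variable {Z X : Scheme.{u}}

/-- pointwise version of `hasDataAt_of_isLoc`. -/
theorem hasDataAt_of_data {K : Kind.{u}} (i : Z ⟶ X) {U : X.Opens} (hU : IsAffineOpen U)
    (hcl : IsClosedImmersion (i ∣_ U)) (z : Z) (hz : i z ∈ U)
    (h : ∃ g : Γ(X, U), g ∉ (hU.primeIdealOf ⟨i z, hz⟩).asIdeal ∧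
      ∃ (S : Type u) (_ : CommRing S) (_ : Algebra Γ(X, U) S) (_ : IsLocalization.Away g S)
        (l : List S), K.P S l ∧
          (RingHom.ker (i.app U).hom).map (algebraMap Γ(X, U) S) = Ideal.ofList l) :
    HasDataAt K i z := by
  obtain ⟨g, hg, S, _, _, _, l, hl, hI⟩ := h
  have hD : IsAffineOpen (X.basicOpen g) := hU.basicOpen g
  obtain ⟨hclD, hkerD, -⟩ := restrictData i hU hD (X.basicOpen_le g) hcl
  haveI := hU.isLocalization_basicOpen g
  obtain ⟨l', -, hl', hI'⟩ := exists_list_of_isLocalization (K := K)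
    (RingHom.ker (i.app U).hom) g S Γ(X, X.basicOpen g) l hl hI
  refine ⟨⟨X.basicOpen g, hD⟩, ?_, hclD, l', hl', ?_⟩
  · exact (mem_basicOpen_iff_notMem_primeIdealOf hU _ hz g).mpr hg
  · rw [hkerD]
    exact hI'

/-- Shrinking an affine chart around `x` so that the kernel of `j` is generated by a list which is
independent modulo `𝔓 · ker` (i.e. a minimal system of generators at `x`). -/
theorem exists_minGen_chart_aux (j : Z ⟶ X) (x : X) :
    ∀ (n : ℕ) (D : X.Opens) (hD : IsAffineOpen D) (_ : IsClosedImmersion (j ∣_ D)) (_ : x ∈ D)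
      (fs : List Γ(X, D)), fs.length = n → RingHom.ker (j.app D).hom = Ideal.ofList fs →
      ∃ (D' : X.Opens) (hD' : IsAffineOpen D') (_ : D' ≤ D) (hxD' : x ∈ D')
        (fs' : List Γ(X, D')), IsClosedImmersion (j ∣_ D') ∧
          RingHom.ker (j.app D').hom = Ideal.ofList fs' ∧
          ∀ c : Fin fs'.length → Γ(X, D'),
            ∑ k, c k * fs'.get k ∈
              (hD'.primeIdealOf ⟨x, hxD'⟩).asIdeal * RingHom.ker (j.app D').hom →
            ∀ k, c k ∈ (hD'.primeIdealOf ⟨x, hxD'⟩).asIdeal := by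
  intro n
  induction n with
  | zero =>
    intro D hD hcl hx fs hlen hker
    refine ⟨D, hD, le_rfl, hx, fs, hcl, hker, ?_⟩
    intro c _ k
    exact absurd (hlen ▸ k.2 : k.1 < 0) (Nat.not_lt_zero _)
  | succ n ih =>
    intro D hD hcl hx fs hlen hker
    by_cases hind : ∀ c : Fin fs.length → Γ(X, D),
        ∑ k, c k * fs.get k ∈
          (hD.primeIdealOf ⟨x, hx⟩).asIdeal * RingHom.ker (j.app D).hom →
        ∀ k, c k ∈ (hD.primeIdealOf ⟨x, hx⟩).asIdeal
    · exact ⟨D, hD, le_rfl, hx, fs, hcl, hker, hind⟩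
    · push Not at hind
      obtain ⟨c, hc, k₀, hk₀⟩ := hind
      rw [hker] at hc
      obtain ⟨u, hu, hrel⟩ := exists_unit_relation _ fs c hc k₀ hk₀
      have hD₁ : IsAffineOpen (X.basicOpen u) := hD.basicOpen u
      obtain ⟨hcl₁, hker₁, -⟩ := restrictData j hD hD₁ (X.basicOpen_le u) hcl
      have hx₁ : x ∈ X.basicOpen u := (mem_basicOpen_iff_notMem_primeIdealOf hD x hx u).mpr hu
      have hunit : IsUnit ((X.presheaf.map (homOfLE (X.basicOpen_le u)).op).hom u) :=
        RingedSpace.isUnit_res_basicOpen _ u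
      have hker₂ : RingHom.ker (j.app (X.basicOpen u)).hom =
          Ideal.ofList ((fs.eraseIdx k₀).map (X.presheaf.map (homOfLE (X.basicOpen_le u)).op).hom) := by
        rw [hker₁, hker, Ideal.map_ofList]
        exact ofList_map_eraseIdx _ fs k₀ u hunit hrel
      have hlen₁ : ((fs.eraseIdx k₀).map
          (X.presheaf.map (homOfLE (X.basicOpen_le u)).op).hom).length = n := by
        rw [List.length_map, List.length_eraseIdx, if_pos k₀.2, hlen]
        rfl
      obtain ⟨D', hD', hle', hxD', fs', hcl', hker', hind'⟩ :=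
        ih (X.basicOpen u) hD₁ hcl₁ hx₁ _ hlen₁ hker₂
      exact ⟨D', hD', hle'.trans (X.basicOpen_le u), hxD', fs', hcl', hker', hind'⟩

theorem exists_minGen_chart (j : Z ⟶ X) (x : X) (D : X.Opens) (hD : IsAffineOpen D)
    (hcl : IsClosedImmersion (j ∣_ D)) (hx : x ∈ D) (hfg : (RingHom.ker (j.app D).hom).FG) :
    ∃ (D' : X.Opens) (hD' : IsAffineOpen D') (_ : D' ≤ D) (hxD' : x ∈ D')
      (fs' : List Γ(X, D')), IsClosedImmersion (j ∣_ D') ∧
        RingHom.ker (j.app D').hom = Ideal.ofList fs' ∧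
        ∀ c : Fin fs'.length → Γ(X, D'),
          ∑ k, c k * fs'.get k ∈
            (hD'.primeIdealOf ⟨x, hxD'⟩).asIdeal * RingHom.ker (j.app D').hom →
          ∀ k, c k ∈ (hD'.primeIdealOf ⟨x, hxD'⟩).asIdeal := by
  obtain ⟨s, hs⟩ := hfg
  refine exists_minGen_chart_aux j x s.toList.length D hD hcl hx s.toList rfl ?_
  rw [← hs, Ideal.ofList]
  congr 1
  ext y
  simp

end Sch

end Groth.Agent.Lib.Helper51.MinGenChart
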