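import Mathlib
import Groth.Prelude.Def_Omega4
import Groth.Agent.Lib.Helper51.RegQuot
import Groth.Agent.Lib.Helper51.MinGenChart
import Groth.Agent.Lib.Helper51.OmegaUniv.ConormalIndep2
import Groth.Agent.Lib.Helper51.OmegaUniv.SectionRetract
import Groth.Agent.Lib.Helper51.OmegaUniv.ConormalIndep
import Groth.Agent.Lib.Helper10.RegDescentKoszul
import Groth.Agent.Lib.Helper10.LciTrans

/-!
# Regularity of `i` from regularity of `i ≫ j` under a locally split conormal sequence (helper51)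
-/

set_option autoImplicit false
set_option linter.style.haveILetI false
universe u

namespace Groth.Agent.Lib.Helper51.SplitConormalReg

open AlgebraicGeometry CategoryTheory CategoryTheory.Limits
open Groth.Agent.Lib.Helper10.RegDescent Groth.Agent.Lib.Helper10.RegImmDescent
  Groth.Agent.Lib.Helper10.RegImmBaseChange Groth.Agent.Lib.Helper51.RegQuot
  Groth.Agent.Lib.Helper51.MinGenChart Groth.Agent.Lib.Helper51.OmegaUniv

lemma ker_fg_of_finitePresentation {A B : Type u} [CommRing A] [CommRing B] (f : A →+* B)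
    (hf : f.FinitePresentation) (hsurj : Function.Surjective f) : (RingHom.ker f).FG := by
  algebraize [f]
  exact Algebra.FinitePresentation.ker_fG_of_surjective (Algebra.ofId A B) hsurj

lemma ker_le_primeIdealOf {Z X : Scheme.{u}} (i : Z ⟶ X) {U : X.Opens} (hU : IsAffineOpen U)
    (z : Z) (hz : i z ∈ U) :
    RingHom.ker (i.app U).hom ≤ (hU.primeIdealOf ⟨i z, hz⟩).asIdeal := by
  intro a ha
  by_contra hnot
  have h1 : i z ∈ X.basicOpen a :=
    (mem_basicOpen_iff_notMem_primeIdealOf hU _ hz a).mpr hnot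
  have h2 : z ∈ i ⁻¹ᵁ X.basicOpen a := h1
  rw [Scheme.Hom.preimage_basicOpen, (RingHom.mem_ker).mp ha] at h2
  simp at h2

theorem hasDataAt_of_split_conormal {K : Kind.{u}} (hstep : QuotStep K) {Z Y X : Scheme.{u}}
    (i : Z ⟶ Y) (j : Y ⟶ X) [IsImmersion i] [IsImmersion j] [QuasiCompact i] [QuasiCompact j]
    (a : (Scheme.Modules.pullback i).obj (Omega.conormal j) ⟶ Omega.conormal (i ≫ j))
    (ha : OmegaSh.IsConormalMap (i ≫ j) j (𝟙 X) i a)
    {Q : Z.Modules} (b' : Omega.conormal (i ≫ j) ⟶ Q)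
    [LocallyOfFinitePresentation j]
    (w : a ≫ b' = 0) (hex : (ShortComplex.mk a b' w).ShortExact)
    (hsplit : ∀ z : ↥Z, ∃ U : Z.Opens, z ∈ U ∧
      ∃ r : (Scheme.Modules.restrictFunctor U.ι).obj Q ⟶
          (Scheme.Modules.restrictFunctor U.ι).obj (Omega.conormal (i ≫ j)),
        r ≫ (Scheme.Modules.restrictFunctor U.ι).map b' = 𝟙 _)
    (h : ∀ z, HasDataAt K (i ≫ j) z) (z : Z) : HasDataAt K i z := by
  classical
  obtain ⟨UZ, hzUZ, σ, hσ⟩ := hsplit z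
  have hemb : Topology.IsEmbedding (i ≫ j) := (i ≫ j).isEmbedding
  obtain ⟨O, hO⟩ : ∃ O : X.Opens, (i ≫ j) ⁻¹ᵁ O = UZ := by
    obtain ⟨O, hOo, hOe⟩ := hemb.isInducing.isOpen_iff.mp UZ.2
    exact ⟨⟨O, hOo⟩, TopologicalSpace.Opens.ext hOe⟩
  have hxO : j (i z) ∈ O := by
    have h1 : z ∈ (i ≫ j) ⁻¹ᵁ O := by
      rw [hO]
      exact hzUZ
    exact h1
  have hx₁ : j (i z) ∈ j.coborderRange := subset_coborder ⟨i z, rfl⟩
  have hx₂ : j (i z) ∈ (i ≫ j).coborderRange := subset_coborder ⟨z, rfl⟩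
  have hmem : j (i z) ∈ j.coborderRange ⊓ (i ≫ j).coborderRange ⊓ O := ⟨⟨hx₁, hx₂⟩, hxO⟩
  obtain ⟨_, ⟨D₀, hD₀, rfl⟩, hxD₀, hle₀⟩ := X.isBasis_affineOpens.exists_subset_of_mem_open
    hmem (j.coborderRange ⊓ (i ≫ j).coborderRange ⊓ O).2
  have hcl₀ : IsClosedImmersion (j ∣_ D₀) :=
    isClosedImmersion_restrict_of_le_coborder j D₀ (fun y hy => (hle₀ hy).1.1)
  obtain ⟨hV₀, hsurj₀⟩ := app_surjective_of_restrict j D₀ hD₀ hcl₀
  have hfp : (j.app D₀).hom.FinitePresentation := by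
    have := HasRingHomProperty.appLE (P := @LocallyOfFinitePresentation) j inferInstance
      ⟨D₀, hD₀⟩ ⟨j ⁻¹ᵁ D₀, hV₀⟩ le_rfl
    rwa [Scheme.Hom.appLE_eq_app] at this
  have hfg : (RingHom.ker (j.app D₀).hom).FG := ker_fg_of_finitePresentation _ hfp hsurj₀
  obtain ⟨D, hD, hle, hxD, fs, hclD, hkerD, hindD⟩ :=
    exists_minGen_chart j (j (i z)) D₀ hD₀ hcl₀ hxD₀ hfg
  have hclD' : IsClosedImmersion ((i ≫ j) ∣_ D) :=
    isClosedImmersion_restrict_of_le_coborder (i ≫ j) D (fun y hy => (hle₀ (hle hy)).1.2)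
  obtain ⟨hDY, hsurjAB⟩ := app_surjective_of_restrict j D hD hclD
  obtain ⟨hW, hsurjAC⟩ := app_surjective_of_restrict (i ≫ j) D hD hclD'
  have hcli : IsClosedImmersion (i ∣_ (j ⁻¹ᵁ D)) := by
    have h1 : IsClosedImmersion (i ∣_ (j ⁻¹ᵁ D) ≫ j ∣_ D) := by
      rw [← morphismRestrict_comp]
      exact hclD'
    exact IsClosedImmersion.of_comp_isClosedImmersion (i ∣_ (j ⁻¹ᵁ D)) (j ∣_ D)
  have hlocK : IsLoc K (RingHom.ker ((i ≫ j).app D).hom) := isLoc_ker (i ≫ j) h hD hclD'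
  have hcomap : (RingHom.ker (i.app (j ⁻¹ᵁ D)).hom).comap (j.app D).hom =
      RingHom.ker ((i ≫ j).app D).hom := by
    ext x
    rfl
  have hWUZ : i ⁻¹ᵁ (j ⁻¹ᵁ D) ≤ UZ := by
    rw [← hO]
    intro y hy
    exact (hle₀ (hle hy)).2
  obtain ⟨s, hs⟩ := exists_linear_section_of_restrict b' UZ σ hσ _ hWUZ
  obtain ⟨r, hr⟩ := exists_linear_retraction_of_shortExact_of_section a b' w hex _ s hs
  have hz : i z ∈ j ⁻¹ᵁ D := hxD
  have hprime : (hDY.primeIdealOf ⟨i z, hz⟩).asIdeal.comap (j.app D).hom =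
      (hD.primeIdealOf ⟨j (i z), hxD⟩).asIdeal := by
    have h1 := IsAffineOpen.comap_primeIdealOf_appLE (f := j) D hD (j ⁻¹ᵁ D) hDY le_rfl hz
    rw [Scheme.Hom.appLE_eq_app] at h1
    exact congrArg PrimeSpectrum.asIdeal h1
  have hJ𝔮 := ker_le_primeIdealOf i hDY z hz
  apply hasDataAt_of_data i hDY hcli z hz
  refine exists_data_of_comap hstep (j.app D).hom hsurjAB fs hkerD _ _ hJ𝔮 ?_ (by
    rw [hcomap]
    exact hlocK)
  intro c hc
  rw [hcomap] at hc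
  rw [hprime] at hc ⊢
  apply hindD c
  refine mem_mul_ker_of_conormal_retraction j i ha hD hW hsurjAC r hr _ ?_ _ ?_ hc
  · rw [← hprime, ← hcomap]
    exact Ideal.comap_mono hJ𝔮
  · rw [hkerD]
    apply Ideal.sum_mem
    intro k _
    exact Ideal.mul_mem_left _ _ (Ideal.subset_span (List.get_mem fs k))

/-- the Koszul case: here regularity of `j` is needed as well. -/
theorem hasDataAt_koszul_of_split_conormal {Z Y X : Scheme.{u}}
    (i : Z ⟶ Y) (j : Y ⟶ X) [IsImmersion i] [IsImmersion j] [QuasiCompact i] [QuasiCompact j]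
    (a : (Scheme.Modules.pullback i).obj (Omega.conormal j) ⟶ Omega.conormal (i ≫ j))
    (ha : OmegaSh.IsConormalMap (i ≫ j) j (𝟙 X) i a)
    {Q : Z.Modules} (b' : Omega.conormal (i ≫ j) ⟶ Q)
    (w : a ≫ b' = 0) (hex : (ShortComplex.mk a b' w).ShortExact)
    (hsplit : ∀ z : ↥Z, ∃ U : Z.Opens, z ∈ U ∧
      ∃ r : (Scheme.Modules.restrictFunctor U.ι).obj Q ⟶
          (Scheme.Modules.restrictFunctor U.ι).obj (Omega.conormal (i ≫ j)),
        r ≫ (Scheme.Modules.restrictFunctor U.ι).map b' = 𝟙 _)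
    (hj : ∀ y, HasDataAt Groth.Agent.Lib.Helper10.RegDescentKoszul.koszulKind j y)
    (h : ∀ z, HasDataAt Groth.Agent.Lib.Helper10.RegDescentKoszul.koszulKind (i ≫ j) z) (z : Z) :
    HasDataAt Groth.Agent.Lib.Helper10.RegDescentKoszul.koszulKind i z := by
  classical
  obtain ⟨UZ, hzUZ, σ, hσ⟩ := hsplit z
  obtain ⟨U₁, hx₁, hcl₁, fs, hfs, hker₁⟩ := hj (i z)
  have hemb : Topology.IsEmbedding (i ≫ j) := (i ≫ j).isEmbedding
  obtain ⟨O, hO⟩ : ∃ O : X.Opens, (i ≫ j) ⁻¹ᵁ O = UZ := by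
    obtain ⟨O, hOo, hOe⟩ := hemb.isInducing.isOpen_iff.mp UZ.2
    exact ⟨⟨O, hOo⟩, TopologicalSpace.Opens.ext hOe⟩
  have hxO : j (i z) ∈ O := by
    have h1 : z ∈ (i ≫ j) ⁻¹ᵁ O := by
      rw [hO]
      exact hzUZ
    exact h1
  have hx₂ : j (i z) ∈ (i ≫ j).coborderRange := subset_coborder ⟨z, rfl⟩
  obtain ⟨g, hgO, hxg⟩ := U₁.2.exists_basicOpen_le (V := O ⊓ (i ≫ j).coborderRange)
    ⟨j (i z), ⟨hxO, hx₂⟩⟩ hx₁
  have hD : IsAffineOpen (X.basicOpen g) := U₁.2.basicOpen g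
  obtain ⟨hclD, hkerD, hflatD⟩ := restrictData j U₁.2 hD (X.basicOpen_le g) hcl₁
  have hfsD : LCI.IsKoszulRegularSeq Γ(X, X.basicOpen g)
      (fs.map (X.presheaf.map (homOfLE (X.basicOpen_le g)).op).hom) :=
    Groth.Agent.Lib.Helper10.RegDescentKoszul.koszulKind.map_flat _ hflatD fs hfs
  have hkerD' : RingHom.ker (j.app (X.basicOpen g)).hom =
      Ideal.ofList (fs.map (X.presheaf.map (homOfLE (X.basicOpen_le g)).op).hom) := by
    rw [hkerD, hker₁, Ideal.map_ofList]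
  have hclD' : IsClosedImmersion ((i ≫ j) ∣_ X.basicOpen g) :=
    isClosedImmersion_restrict_of_le_coborder (i ≫ j) _ (fun y hy => (hgO hy).2)
  obtain ⟨hDY, hsurjAB⟩ := app_surjective_of_restrict j (X.basicOpen g) hD hclD
  obtain ⟨hW, hsurjAC⟩ := app_surjective_of_restrict (i ≫ j) (X.basicOpen g) hD hclD'
  have hcli : IsClosedImmersion (i ∣_ (j ⁻¹ᵁ X.basicOpen g)) := by
    have h1 : IsClosedImmersion (i ∣_ (j ⁻¹ᵁ X.basicOpen g) ≫ j ∣_ X.basicOpen g) := by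
      rw [← morphismRestrict_comp]
      exact hclD'
    exact IsClosedImmersion.of_comp_isClosedImmersion (i ∣_ (j ⁻¹ᵁ X.basicOpen g))
      (j ∣_ X.basicOpen g)
  have hlocK : IsLoc Groth.Agent.Lib.Helper10.RegDescentKoszul.koszulKind
      (RingHom.ker ((i ≫ j).app (X.basicOpen g)).hom) := isLoc_ker (i ≫ j) h hD hclD'
  have hcomap : (RingHom.ker (i.app (j ⁻¹ᵁ X.basicOpen g)).hom).comap (j.app (X.basicOpen g)).hom =
      RingHom.ker ((i ≫ j).app (X.basicOpen g)).hom := by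
    ext x
    rfl
  have hWUZ : i ⁻¹ᵁ (j ⁻¹ᵁ X.basicOpen g) ≤ UZ := by
    rw [← hO]
    intro y hy
    exact (hgO hy).1
  obtain ⟨s, hs⟩ := exists_linear_section_of_restrict b' UZ σ hσ _ hWUZ
  obtain ⟨r, hr⟩ := exists_linear_retraction_of_shortExact_of_section a b' w hex _ s hs
  have hlocJ : IsLoc Groth.Agent.Lib.Helper10.RegDescentKoszul.koszulKind
      (RingHom.ker (i.app (j ⁻¹ᵁ X.basicOpen g)).hom) := by
    refine Groth.Agent.Lib.Helper10.LciTrans.isLoc_of_comap (j.app (X.basicOpen g)).hom hsurjAB _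
      hkerD' hfsD _ ?_ (by
        rw [hcomap]
        exact hlocK)
    intro 𝔮 hJ𝔮 c hc
    rw [hcomap] at hc
    exact indep_of_conormal_retraction j i ha hD hDY hW hsurjAC r hr _
      (Groth.Agent.Lib.Helper10.KoszulH1.isH1Regular_of_isKoszulRegularSeq _ hfsD)
      (by rw [hkerD', Groth.Agent.Lib.Helper10.KoszulMinGen.span_range_get])
      (𝔮.asIdeal.comap (j.app (X.basicOpen g)).hom)
      (by rw [← hcomap]; exact Ideal.comap_mono hJ𝔮) c hc
  exact hasDataAt_of_isLoc (K := Groth.Agent.Lib.Helper10.RegDescentKoszul.koszulKind) i hDY hcli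
    hlocJ z hxg

end Groth.Agent.Lib.Helper51.SplitConormalReg
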