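import Mathlib
import Groth.Prelude.Def_Omega4
import Groth.Agent.Lib.Helper51.SplitConormalReg
import Groth.Agent.Lib.Helper10.LciComp

/-!
# Local versions of the split conormal sequence arguments (helper51)
-/

set_option autoImplicit false
set_option linter.style.haveILetI false
universe u

namespace Groth.Agent.Lib.Helper51.SplitConormalLocal

open AlgebraicGeometry CategoryTheory CategoryTheory.Limits
open Groth.Agent.Lib.Helper10.RegDescent Groth.Agent.Lib.Helper10.RegImmDescent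
  Groth.Agent.Lib.Helper10.RegImmBaseChange Groth.Agent.Lib.Helper51.RegQuot
  Groth.Agent.Lib.Helper51.MinGenChart Groth.Agent.Lib.Helper51.OmegaUniv
  Groth.Agent.Lib.Helper51.SplitConormalReg

/-- an ideal generated by a list of kind `K` is locally so. -/
lemma isLoc_of_ofList_gen {K : Kind.{u}} {A : Type u} [CommRing A] (I : Ideal A) (l : List A)
    (hl : K.P A l) (hI : I = Ideal.ofList l) : IsLoc K I := by
  intro 𝔭 _
  refine ⟨1, fun h => 𝔭.isPrime.ne_top ((Ideal.eq_top_iff_one _).mpr h),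
    l.map (algebraMap A (Localization.Away (1 : A))),
    K.map_flat _ (algebraMap_away_flat _) l hl, ?_⟩
  rw [hI, Ideal.map_ofList]

/-- local data at a point gives `IsLoc` of the kernel on every smaller affine open. -/
theorem isLoc_ker_of_le {K : Kind.{u}} {Z X : Scheme.{u}} (f : Z ⟶ X) (U : X.affineOpens)
    (hcl : IsClosedImmersion (f ∣_ U.1)) (rs : List Γ(X, U.1)) (hrs : K.P Γ(X, U.1) rs)
    (hker : RingHom.ker (f.app U.1).hom = Ideal.ofList rs) {D : X.Opens} (hD : IsAffineOpen D)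
    (hle : D ≤ U.1) :
    IsClosedImmersion (f ∣_ D) ∧ IsLoc K (RingHom.ker (f.app D).hom) := by
  obtain ⟨hclD, hkerD, hflatD⟩ := restrictData f U.2 hD hle hcl
  refine ⟨hclD, isLoc_of_ofList_gen _ (rs.map (X.presheaf.map (homOfLE hle).op).hom)
    (K.map_flat _ hflatD rs hrs) ?_⟩
  rw [hkerD, hker, Ideal.map_ofList]

/-- **Core lemma for `i`.**  If the conormal map `a : i^*C_{Y/X} → C_{Z/X}` has linear retractions
on sections over the charts below `D₀`, and the kernel of `i ≫ j` on `D₀` is locally of kind `K`,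
then `i` has data of kind `K` at `z`. -/
theorem hasDataAt_of_retraction_core {K : Kind.{u}} (hstep : QuotStep K) {Z Y X : Scheme.{u}}
    (i : Z ⟶ Y) (j : Y ⟶ X) [IsImmersion i] [IsImmersion j] [QuasiCompact i] [QuasiCompact j]
    (a : (Scheme.Modules.pullback i).obj (Omega.conormal j) ⟶ Omega.conormal (i ≫ j))
    (ha : OmegaSh.IsConormalMap (i ≫ j) j (𝟙 X) i a) (z : Z)
    (D₀ : X.Opens) (hD₀ : IsAffineOpen D₀) (hxD₀ : j (i z) ∈ D₀)
    (hcl₀ : IsClosedImmersion (j ∣_ D₀)) (hcl₀' : IsClosedImmersion ((i ≫ j) ∣_ D₀))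
    (hfg : (RingHom.ker (j.app D₀).hom).FG)
    (hret : ∀ D : X.Opens, D ≤ D₀ →
      ∃ r : Γ(Omega.conormal (i ≫ j), i ⁻¹ᵁ (j ⁻¹ᵁ D)) →ₗ[Γ(Z, i ⁻¹ᵁ (j ⁻¹ᵁ D))]
        Γ((Scheme.Modules.pullback i).obj (Omega.conormal j), i ⁻¹ᵁ (j ⁻¹ᵁ D)),
        ∀ m, r (a.app (i ⁻¹ᵁ (j ⁻¹ᵁ D)) m) = m)
    (hloc : IsLoc K (RingHom.ker ((i ≫ j).app D₀).hom)) : HasDataAt K i z := by
  classical
  obtain ⟨D, hD, hle, hxD, fs, hclD, hkerD, hindD⟩ :=
    exists_minGen_chart j (j (i z)) D₀ hD₀ hcl₀ hxD₀ hfg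
  obtain ⟨hclD', hkerD', hflatD'⟩ := restrictData (i ≫ j) hD₀ hD hle hcl₀'
  obtain ⟨hDY, hsurjAB⟩ := app_surjective_of_restrict j D hD hclD
  obtain ⟨hW, hsurjAC⟩ := app_surjective_of_restrict (i ≫ j) D hD hclD'
  have hcli : IsClosedImmersion (i ∣_ (j ⁻¹ᵁ D)) := by
    have h1 : IsClosedImmersion (i ∣_ (j ⁻¹ᵁ D) ≫ j ∣_ D) := by
      rw [← morphismRestrict_comp]
      exact hclD'
    exact IsClosedImmersion.of_comp_isClosedImmersion (i ∣_ (j ⁻¹ᵁ D)) (j ∣_ D)
  have hlocK : IsLoc K (RingHom.ker ((i ≫ j).app D).hom) := by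
    rw [hkerD']
    exact Groth.Agent.Lib.Helper10.LciComp.isLoc_map_of_flat _ hflatD' _ hloc
  have hcomap : (RingHom.ker (i.app (j ⁻¹ᵁ D)).hom).comap (j.app D).hom =
      RingHom.ker ((i ≫ j).app D).hom := by
    ext x
    rfl
  obtain ⟨r, hr⟩ := hret D hle
  have hz : i z ∈ j ⁻¹ᵁ D := hxD
  have hprime : (hDY.primeIdealOf ⟨i z, hz⟩).asIdeal.comap (j.app D).hom =
      (hD.primeIdealOf ⟨j (i z), hxD⟩).asIdeal := by
    have h1 := IsAffineOpen.comap_primeIdealOf_appLE (f := j) D hD (j ⁻¹ᵁ D) hDY le_rfl hz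
    rw [Scheme.Hom.appLE_eq_app] at h1
    exact congrArg PrimeSpectrum.asIdeal h1
  have hJ𝔮 := ker_le_primeIdealOf i hDY z hz
  apply hasDataAt_of_data i hDY hcli z hz
  refine exists_data_of_comap hstep (j.app D).hom hsurjAB fs hkerD _ _ hJ𝔮 ?_ (by
    rw [hcomap]
    exact hlocK)
  intro c hc
  rw [hcomap] at hc
  rw [hprime] at hc ⊢
  apply hindD c
  refine mem_mul_ker_of_conormal_retraction j i ha hD hW hsurjAC r hr _ ?_ _ ?_ hc
  · rw [← hprime, ← hcomap]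
    exact Ideal.comap_mono hJ𝔮
  · rw [hkerD]
    apply Ideal.sum_mem
    intro k _
    exact Ideal.mul_mem_left _ _ (Ideal.subset_span (List.get_mem fs k))

end Groth.Agent.Lib.Helper51.SplitConormalLocal
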