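import Mathlib
import Groth.Prelude.Def_Omega4
import Groth.Agent.Lib.Helper51.SplitConormalLocal
import Groth.Agent.Lib.Helper51.RegQuot2
import Groth.Agent.H8.QuasiRegSch

/-!
# The outer immersion is regular when the conormal sequence splits (locally Noetherian case)
-/

set_option autoImplicit false
set_option linter.style.haveILetI false
universe u

namespace Groth.Agent.Lib.Helper51.SplitConormalNoeth

open AlgebraicGeometry CategoryTheory CategoryTheory.Limits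
open Groth.Agent.Lib.Helper10.RegDescent Groth.Agent.Lib.Helper10.RegImmDescent
  Groth.Agent.Lib.Helper10.RegImmBaseChange Groth.Agent.Lib.Helper51.RegQuot
  Groth.Agent.Lib.Helper51.MinGenChart Groth.Agent.Lib.Helper51.OmegaUniv
  Groth.Agent.Lib.Helper51.SplitConormalReg Groth.Agent.Lib.Helper51.SplitConormalLocal
  Groth.Agent.Lib.Helper10.RegDescentQuasi

lemma notMem_basicOpen_of_mem_ker {Z X : Scheme.{u}} (f : Z ⟶ X) (U : X.Opens) (z : Z)
    (r : Γ(X, U)) (hr : r ∈ RingHom.ker (f.app U).hom) : f z ∉ X.basicOpen r := by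
  intro h1
  have h2 : z ∈ f ⁻¹ᵁ X.basicOpen r := h1
  rw [Scheme.Hom.preimage_basicOpen, (RingHom.mem_ker).mp hr] at h2
  simp at h2

/-- **Core lemma for `j`.**  On a locally Noetherian scheme: if the conormal map
`a : i^*C_{Y/X} → C_{Z/X}` has linear retractions on sections over the charts below `D₀`, and the
kernel of `i ≫ j` on `D₀` is locally quasi-regular, then `j` is regular at `i z`. -/
theorem isRegularImmersionAt_of_retraction_core {Z Y X : Scheme.{u}} [IsLocallyNoetherian X]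
    (i : Z ⟶ Y) (j : Y ⟶ X) [IsImmersion i] [IsImmersion j] [QuasiCompact i] [QuasiCompact j]
    (a : (Scheme.Modules.pullback i).obj (Omega.conormal j) ⟶ Omega.conormal (i ≫ j))
    (ha : OmegaSh.IsConormalMap (i ≫ j) j (𝟙 X) i a) (z : Z)
    (D₀ : X.Opens) (hD₀ : IsAffineOpen D₀) (hxD₀ : j (i z) ∈ D₀)
    (hcl₀ : IsClosedImmersion (j ∣_ D₀)) (hcl₀' : IsClosedImmersion ((i ≫ j) ∣_ D₀))
    (hret : ∀ D : X.Opens, D ≤ D₀ →
      ∃ r : Γ(Omega.conormal (i ≫ j), i ⁻¹ᵁ (j ⁻¹ᵁ D)) →ₗ[Γ(Z, i ⁻¹ᵁ (j ⁻¹ᵁ D))]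
        Γ((Scheme.Modules.pullback i).obj (Omega.conormal j), i ⁻¹ᵁ (j ⁻¹ᵁ D)),
        ∀ m, r (a.app (i ⁻¹ᵁ (j ⁻¹ᵁ D)) m) = m)
    (hloc : IsLoc quasiKind (RingHom.ker ((i ≫ j).app D₀).hom)) :
    RegImm.IsRegularImmersionAt RegImm.Kind.regular j (i z) := by
  classical
  have hN₀ : IsNoetherianRing Γ(X, D₀) :=
    IsLocallyNoetherian.component_noetherian (⟨D₀, hD₀⟩ : X.affineOpens)
  have hfg : (RingHom.ker (j.app D₀).hom).FG := IsNoetherian.noetherian _
  obtain ⟨D, hD, hle, hxD, fs, hclD, hkerD, hindD⟩ :=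
    exists_minGen_chart j (j (i z)) D₀ hD₀ hcl₀ hxD₀ hfg
  obtain ⟨hclD', hkerD', hflatD'⟩ := restrictData (i ≫ j) hD₀ hD hle hcl₀'
  obtain ⟨hDY, hsurjAB⟩ := app_surjective_of_restrict j D hD hclD
  obtain ⟨hW, hsurjAC⟩ := app_surjective_of_restrict (i ≫ j) D hD hclD'
  have hlocK : IsLoc quasiKind (RingHom.ker ((i ≫ j).app D).hom) := by
    rw [hkerD']
    exact Groth.Agent.Lib.Helper10.LciComp.isLoc_map_of_flat _ hflatD' _ hloc
  have hcomap : (RingHom.ker (i.app (j ⁻¹ᵁ D)).hom).comap (j.app D).hom =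
      RingHom.ker ((i ≫ j).app D).hom := by
    ext x
    rfl
  obtain ⟨r, hr⟩ := hret D hle
  have hz : i z ∈ j ⁻¹ᵁ D := hxD
  have hprime : (hDY.primeIdealOf ⟨i z, hz⟩).asIdeal.comap (j.app D).hom =
      (hD.primeIdealOf ⟨j (i z), hxD⟩).asIdeal := by
    have h1 := IsAffineOpen.comap_primeIdealOf_appLE (f := j) D hD (j ⁻¹ᵁ D) hDY le_rfl hz
    rw [Scheme.Hom.appLE_eq_app] at h1
    exact congrArg PrimeSpectrum.asIdeal h1
  have hJ𝔮 := ker_le_primeIdealOf i hDY z hz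
  obtain ⟨g, hg, H⟩ := exists_append_of_comap (K := quasiKind) (j.app D).hom hsurjAB fs hkerD
    (RingHom.ker (i.app (j ⁻¹ᵁ D)).hom) (hDY.primeIdealOf ⟨i z, hz⟩) hJ𝔮 (by
      intro c hc
      rw [hcomap] at hc
      rw [hprime] at hc ⊢
      apply hindD c
      refine mem_mul_ker_of_conormal_retraction j i ha hD hW hsurjAC r hr _ ?_ _ ?_ hc
      · rw [← hprime, ← hcomap]
        exact Ideal.comap_mono hJ𝔮
      · rw [hkerD]
        apply Ideal.sum_mem
        intro k _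
        exact Ideal.mul_mem_left _ _ (Ideal.subset_span (List.get_mem fs k))) (by
      rw [hcomap]
      exact hlocK)
  rw [hprime] at hg
  rw [hcomap] at H
  have hD₁ : IsAffineOpen (X.basicOpen g) := hD.basicOpen g
  have hx₁ : j (i z) ∈ X.basicOpen g :=
    (mem_basicOpen_iff_notMem_primeIdealOf hD _ hxD g).mpr hg
  haveI := hD.isLocalization_basicOpen g
  obtain ⟨gs, hP, hgen⟩ := H Γ(X, X.basicOpen g)
  obtain ⟨hclD₁, hkerD₁, -⟩ := restrictData j hD hD₁ (X.basicOpen_le g) hclD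
  obtain ⟨hclD₁', hkerD₁', -⟩ := restrictData (i ≫ j) hD hD₁ (X.basicOpen_le g) hclD'
  have hkerD₁'' : RingHom.ker ((i ≫ j).app (X.basicOpen g)).hom =
      Ideal.ofList (fs.map (algebraMap Γ(X, D) Γ(X, X.basicOpen g)) ++ gs) := by
    rw [hkerD₁']
    exact hgen
  have hzero : ∀ r ∈ fs.map (algebraMap Γ(X, D) Γ(X, X.basicOpen g)) ++ gs,
      j (i z) ∉ X.basicOpen r := by
    intro r hr
    apply notMem_basicOpen_of_mem_ker (i ≫ j) (X.basicOpen g) z r
    rw [hkerD₁'']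
    exact Ideal.subset_span hr
  obtain ⟨g', hx₂, hwr⟩ := Groth.Agent.H8.QuasiRegSch.exists_basicOpen_isWeaklyRegular_of_quasi
    ⟨X.basicOpen g, hD₁⟩ (j (i z)) hx₁ _ hP hzero
  have hD₂ : IsAffineOpen (X.basicOpen g') := hD₁.basicOpen g'
  obtain ⟨hclD₂, hkerD₂, -⟩ := restrictData j hD₁ hD₂ (X.basicOpen_le g') hclD₁
  rw [List.map_append, RingTheory.Sequence.isWeaklyRegular_append_iff] at hwr
  have hkerfin : RingHom.ker (j.app (X.basicOpen g')).hom = Ideal.ofList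
      ((fs.map (algebraMap Γ(X, D) Γ(X, X.basicOpen g))).map
        (X.presheaf.map (homOfLE (X.basicOpen_le g')).op).hom) := by
    rw [hkerD₂, hkerD₁, hkerD, Ideal.map_ofList, Ideal.map_ofList]
    rfl
  refine ⟨⟨X.basicOpen g', hD₂⟩, hx₂, hclD₂, _, ⟨hwr.1, ?_⟩, hkerfin⟩
  rw [← hkerfin]
  intro htop
  have h1 := ker_le_primeIdealOf j hD₂ (i z) hx₂
  have h3 : RingHom.ker (j.app (X.basicOpen g')).hom • (⊤ : Ideal Γ(X, X.basicOpen g')) =
      RingHom.ker (j.app (X.basicOpen g')).hom := by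
    rw [smul_eq_mul, Ideal.mul_top]
  have h4 : (⊤ : Ideal Γ(X, X.basicOpen g')) = RingHom.ker (j.app (X.basicOpen g')).hom :=
    htop.trans h3
  rw [← h4] at h1
  exact (hD₂.primeIdealOf ⟨j (i z), hx₂⟩).isPrime.ne_top (top_le_iff.mp h1)

end Groth.Agent.Lib.Helper51.SplitConormalNoeth
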