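import Mathlib
import Groth.Prelude.Def_Omega4
import Groth.Agent.Lib.Helper51.SplitConormalNoeth
import Groth.Agent.Lib.Helper51.OmegaUniv.SplittingRestrict
import Groth.Agent.Lib.Helper51.OmegaUniv.RestrictRetract
import Groth.Agent.Lib.Helper51.OmegaUniv.ConormalH1
import Groth.Agent.Lib.Helper51.OmegaUniv.ExactCover
import Groth.Agent.Lib.Helper10.RegImmKinds
import Groth.Agent.Lib.Helper10.KoszulRegImmComp

/-!
# Pairs of immersions into a locally Noetherian scheme: regularity and the conormal sequence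
-/

set_option autoImplicit false
set_option linter.style.haveILetI false
universe u

namespace Groth.Agent.Lib.Helper51.ConormalPairNoeth

open AlgebraicGeometry CategoryTheory CategoryTheory.Limits
open Groth.Agent.Lib.Helper10.RegDescent Groth.Agent.Lib.Helper10.RegImmDescent
  Groth.Agent.Lib.Helper10.RegImmBaseChange Groth.Agent.Lib.Helper51.RegQuot
  Groth.Agent.Lib.Helper51.OmegaUniv
  Groth.Agent.Lib.Helper51.SplitConormalReg Groth.Agent.Lib.Helper51.SplitConormalLocal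
  Groth.Agent.Lib.Helper51.SplitConormalNoeth
  Groth.Agent.Lib.Helper10.RegDescentQuasi Groth.Agent.Lib.Helper10.RegImmKinds

variable {Z Y X : Scheme.{u}} (i : Z ⟶ Y) (j : Y ⟶ X) [IsImmersion i] [IsImmersion j]
  [QuasiCompact i] [QuasiCompact j]
  (a : (Scheme.Modules.pullback i).obj (Omega.conormal j) ⟶ Omega.conormal (i ≫ j))
  (ha : OmegaSh.IsConormalMap (i ≫ j) j (𝟙 X) i a)
  (b : (Scheme.Modules.pullback (𝟙 Z)).obj (Omega.conormal (i ≫ j)) ⟶ Omega.conormal i)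
  (hb : OmegaSh.IsConormalMap i (i ≫ j) j (𝟙 Z) b)

theorem regular_to_h1 {Z X : Scheme.{u}} (f : Z ⟶ X) (z : Z)
    (h : RegImm.IsRegularImmersionAt RegImm.Kind.regular f z) :
    RegImm.IsRegularImmersionAt RegImm.Kind.h1 f z :=
  isRegularImmersionAt_mono (fun R _ rs h => seq_koszul_h1 R rs h) f z
    (isRegularImmersionAt_mono (fun R _ rs h => seq_regular_koszul R rs h) f z h)

theorem regular_to_koszul {Z X : Scheme.{u}} (f : Z ⟶ X) (z : Z)
    (h : RegImm.IsRegularImmersionAt RegImm.Kind.regular f z) :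
    RegImm.IsRegularImmersionAt RegImm.Kind.koszul f z :=
  isRegularImmersionAt_mono (fun R _ rs h => seq_regular_koszul R rs h) f z h

theorem koszul_to_quasi {Z X : Scheme.{u}} (f : Z ⟶ X) (z : Z)
    (h : RegImm.IsRegularImmersionAt RegImm.Kind.koszul f z) :
    RegImm.IsRegularImmersionAt RegImm.Kind.quasi f z :=
  isRegularImmersionAt_mono (fun R _ rs h => seq_h1_quasi R rs h) f z
    (isRegularImmersionAt_mono (fun R _ rs h => seq_koszul_h1 R rs h) f z h)

omit [IsImmersion i] [QuasiCompact i] [QuasiCompact j] in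
/-- composition, pointwise, on a locally Noetherian scheme. -/
theorem regular_comp [IsLocallyNoetherian X] (z : Z)
    (hi : RegImm.IsRegularImmersionAt RegImm.Kind.regular i z)
    (hj : RegImm.IsRegularImmersionAt RegImm.Kind.regular j (i z)) :
    RegImm.IsRegularImmersionAt RegImm.Kind.regular (i ≫ j) z := by
  obtain ⟨U₁, hU₁, hcl₁, fs, hfs, hker₁⟩ := regular_to_koszul j (i z) hj
  obtain ⟨V, hV, hcl₂, gs, hgs, hker₂⟩ := regular_to_koszul i z hi
  obtain ⟨U, hU, hcl, rs, -, hrs, hker⟩ :=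
    Groth.Agent.Lib.Helper10.KoszulRegImmComp.comp_at j i z U₁ hU₁ hcl₁ fs hfs hker₁ V hV hcl₂
      gs hgs hker₂
  exact Groth.Agent.H8.QuasiRegSch.isRegularImmersionAt_regular_of_quasi (i ≫ j) z
    (koszul_to_quasi (i ≫ j) z ⟨U, hU, hcl, rs, hrs, hker⟩)

include ha hb in
/-- if `i` is `H₁`-regular at `z`, the conormal sequence is split short exact near `z`. -/
theorem exists_splitting_of_h1 (z : Z) (hi : RegImm.IsRegularImmersionAt RegImm.Kind.h1 i z) :
    ∃ U : Z.Opens, z ∈ U ∧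
      ∀ w : (Scheme.Modules.restrictFunctor U.ι).map a ≫ (Scheme.Modules.restrictFunctor U.ι).map
          ((Scheme.Modules.pullbackId Z).inv.app (Omega.conormal (i ≫ j)) ≫ b) = 0,
        Nonempty (ShortComplex.mk ((Scheme.Modules.restrictFunctor U.ι).map a)
          ((Scheme.Modules.restrictFunctor U.ι).map
            ((Scheme.Modules.pullbackId Z).inv.app (Omega.conormal (i ≫ j)) ≫ b)) w).Splitting := by
  have hqf : (Omega.conormal j).IsQuasicoherent :=
    Groth.Agent.Lib.Helper16.FlatPull.isQuasicoherent_pullback j (ClSub.idealMod j.ker)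
  have hq₁ : ((Scheme.Modules.pullback i).obj (Omega.conormal j)).IsQuasicoherent :=
    Groth.Agent.Lib.Helper16.FlatPull.isQuasicoherent_pullback i (Omega.conormal j)
  have hq₂ : (Omega.conormal (i ≫ j)).IsQuasicoherent :=
    Groth.Agent.Lib.Helper16.FlatPull.isQuasicoherent_pullback (i ≫ j)
      (ClSub.idealMod (i ≫ j).ker)
  have hq₂' : ((𝟭 Z.Modules).obj (Omega.conormal (i ≫ j))).IsQuasicoherent := hq₂
  have hq₃ : (Omega.conormal i).IsQuasicoherent :=
    Groth.Agent.Lib.Helper16.FlatPull.isQuasicoherent_pullback i (ClSub.idealMod i.ker)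
  obtain ⟨V, hV, hzV, hU, hAB, hW, hAC, c, g, hg, hspan⟩ := exists_triple_h1_chart j i z hi
  obtain ⟨hs, he⟩ := conormal_triple_chart j i ha hb hV hU hAB hW hAC
  have hinj := conormalMap₁_app_injective_chart j i ha hV hU hAB hW hAC g hg hspan
  have hBC : Function.Surjective (i.app (j ⁻¹ᵁ V)).hom := by
    have h1 : ((i ≫ j).app V).hom = (i.app (j ⁻¹ᵁ V)).hom.comp (j.app V).hom := by
      rw [Scheme.Hom.comp_app]
      rfl
    rw [h1] at hAC
    exact Function.Surjective.of_comp hAC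
  obtain ⟨e⟩ := conormal_sections_free_of_isH1Regular i hU hW hBC g hg hspan
  haveI : Module.Free Γ(Z, i ⁻¹ᵁ (j ⁻¹ᵁ V)) Γ(Omega.conormal i, i ⁻¹ᵁ (j ⁻¹ᵁ V)) :=
    Module.Free.of_equiv e.symm
  obtain ⟨s, hs'⟩ := Module.projective_lifting_property
    (Groth.Agent.Lib.Helper45.appₗ
      ((Scheme.Modules.pullbackId Z).inv.app (Omega.conormal (i ≫ j)) ≫ b) (i ⁻¹ᵁ (j ⁻¹ᵁ V)))
    LinearMap.id hs
  refine ⟨i ⁻¹ᵁ (j ⁻¹ᵁ V), hzV, fun w => ?_⟩
  exact nonempty_splitting_restrict a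
    ((Scheme.Modules.pullbackId Z).inv.app (Omega.conormal (i ≫ j)) ≫ b) hW hinj he s
    (fun q => LinearMap.congr_fun hs' q) w

include ha in
/-- chart data for the two core lemmas from a retraction of `a` near `z`. -/
theorem exists_core_data [IsLocallyNoetherian X] (z : Z)
    (hq : RegImm.IsRegularImmersionAt RegImm.Kind.quasi (i ≫ j) z) (U : Z.Opens) (hzU : z ∈ U)
    (r : (Scheme.Modules.restrictFunctor U.ι).obj (Omega.conormal (i ≫ j)) ⟶
      (Scheme.Modules.restrictFunctor U.ι).obj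
        ((Scheme.Modules.pullback i).obj (Omega.conormal j)))
    (hr : (Scheme.Modules.restrictFunctor U.ι).map a ≫ r = 𝟙 _) :
    RegImm.IsRegularImmersionAt RegImm.Kind.quasi i z ∧
      RegImm.IsRegularImmersionAt RegImm.Kind.regular j (i z) := by
  obtain ⟨U₂, hzU₂, hcl₂, rs, hrs, hker⟩ := hq
  have hemb : Topology.IsEmbedding (i ≫ j) := (i ≫ j).isEmbedding
  obtain ⟨O, hO⟩ : ∃ O : X.Opens, (i ≫ j) ⁻¹ᵁ O = U := by
    obtain ⟨O, hOo, hOe⟩ := hemb.isInducing.isOpen_iff.mp U.2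
    exact ⟨⟨O, hOo⟩, TopologicalSpace.Opens.ext hOe⟩
  have hxO : j (i z) ∈ O := by
    have h1 : z ∈ (i ≫ j) ⁻¹ᵁ O := by
      rw [hO]
      exact hzU
    exact h1
  have hx₁ : j (i z) ∈ j.coborderRange := subset_coborder ⟨i z, rfl⟩
  have hmem : j (i z) ∈ U₂.1 ⊓ j.coborderRange ⊓ O := ⟨⟨hzU₂, hx₁⟩, hxO⟩
  obtain ⟨_, ⟨D₀, hD₀, rfl⟩, hxD₀, hle₀⟩ := X.isBasis_affineOpens.exists_subset_of_mem_open
    hmem (U₂.1 ⊓ j.coborderRange ⊓ O).2
  have hcl₀ : IsClosedImmersion (j ∣_ D₀) :=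
    isClosedImmersion_restrict_of_le_coborder j D₀ (fun y hy => (hle₀ hy).1.2)
  obtain ⟨hcl₀', hloc⟩ := isLoc_ker_of_le (K := quasiKind) (i ≫ j) U₂ hcl₂ rs hrs hker hD₀
    (fun y hy => (hle₀ hy).1.1)
  have hret : ∀ D : X.Opens, D ≤ D₀ →
      ∃ r : Γ(Omega.conormal (i ≫ j), i ⁻¹ᵁ (j ⁻¹ᵁ D)) →ₗ[Γ(Z, i ⁻¹ᵁ (j ⁻¹ᵁ D))]
        Γ((Scheme.Modules.pullback i).obj (Omega.conormal j), i ⁻¹ᵁ (j ⁻¹ᵁ D)),
        ∀ m, r (a.app (i ⁻¹ᵁ (j ⁻¹ᵁ D)) m) = m := by
    intro D hD
    apply exists_linear_retraction_of_restrict a U r hr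
    rw [← hO]
    intro y hy
    exact (hle₀ (hD hy)).2
  have hN₀ : IsNoetherianRing Γ(X, D₀) :=
    IsLocallyNoetherian.component_noetherian (⟨D₀, hD₀⟩ : X.affineOpens)
  have hfg : (RingHom.ker (j.app D₀).hom).FG := IsNoetherian.noetherian _
  exact ⟨hasDataAt_of_retraction_core quotStep_quasiKind i j a ha z D₀ hD₀ hxD₀ hcl₀ hcl₀' hfg
      hret hloc,
    isRegularImmersionAt_of_retraction_core i j a ha z D₀ hD₀ hxD₀ hcl₀ hcl₀' hret hloc⟩

end Groth.Agent.Lib.Helper51.ConormalPairNoeth
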