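import Mathlib.Topology.NoetherianSpace
import Mathlib.Topology.Sober
import Mathlib.Data.Finsupp.Encodable
import Mathlib.Data.Set.Card

/-!
# Countable dense subsets in Noetherian spaces with a height function (helper51)
-/

set_option autoImplicit false
open TopologicalSpace Set

namespace Groth.Agent.Lib.Helper51.CountableDense

variable {X : Type*} [TopologicalSpace X]

/-- The maximal points (generic points of irreducible components) of a set. -/
def G (C : Set X) : Set X := {x | x ∈ C ∧ ∀ y ∈ C, y ⤳ x → y = x}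

theorem G_finite [NoetherianSpace X] [QuasiSober X] {C : Set X} (hC : IsClosed C) :
    (G C).Finite := by
  obtain ⟨S, hSfin, hSclosed, hSirr, hCeq⟩ :=
    NoetherianSpace.exists_finite_set_isClosed_irreducible hC
  have hmaps : ∀ x ∈ G C, closure {x} ∈ S := by
    intro x hx
    have hxC : x ∈ C := hx.1
    rw [hCeq] at hxC
    obtain ⟨W, hWS, hxW⟩ := hxC
    obtain ⟨w, hw⟩ := QuasiSober.sober (hSirr W hWS) (hSclosed W hWS)
    have hwW : w ∈ W := hw.mem
    have hwC : w ∈ C := by
      rw [hCeq]
      exact ⟨W, hWS, hwW⟩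
    have hwx : w ⤳ x := hw.specializes hxW
    have : w = x := hx.2 w hwC hwx
    subst this
    rw [hw.def]
    exact hWS
  refine Set.Finite.of_finite_image (hSfin.subset (Set.image_subset_iff.2 hmaps)) ?_
  intro x hx x' hx' h
  have h1 : x' ⤳ x := by
    rw [specializes_iff_closure_subset]
    exact h.le
  exact (hx.2 x' hx'.1 h1).symm

variable (c : X → ℕ) (hc : ∀ x y : X, x ⤳ y → x ≠ y → c x < c y)

include hc in
theorem exists_mem_G_specializes {C : Set X} {y : X} (hy : y ∈ C) : ∃ x ∈ G C, x ⤳ y := by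
  obtain ⟨x, hx, hmin⟩ := (measure c).wf.has_min {x | x ∈ C ∧ x ⤳ y} ⟨y, hy, specializes_rfl⟩
  refine ⟨x, ⟨hx.1, fun z hz hzx ↦ ?_⟩, hx.2⟩
  by_contra hne
  exact hmin z ⟨hz, hzx.trans hx.2⟩ (hc z x hzx hne)

/-- The invariant: number of maximal points of each height. -/
noncomputable def cnt (C : Set X) (k : ℕ) : ℕ := {x | x ∈ G C ∧ c x = k}.ncard

theorem cnt_support_finite [NoetherianSpace X] [QuasiSober X] {C : Set X} (hC : IsClosed C) :
    (Function.support (cnt c C)).Finite := by
  refine ((G_finite hC).image c).subset ?_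
  intro k hk
  rw [Function.mem_support, cnt] at hk
  obtain ⟨x, hx⟩ := Set.nonempty_of_ncard_ne_zero hk
  exact ⟨x, hx.1, hx.2⟩

include hc in
theorem cnt_lt [NoetherianSpace X] [QuasiSober X] {C C' : Set X} (hC : IsClosed C)
    (hC' : IsClosed C') (hsub : C ⊆ C') (hne : C ≠ C') :
    ∃ k, (∀ j < k, cnt c C j = cnt c C' j) ∧ cnt c C k < cnt c C' k := by
  -- a maximal point of `C'` not maximal in `C`
  have hD' : ∃ x, x ∈ G C' ∧ x ∉ G C := by
    by_contra hcon
    push Not at hcon
    apply hne
    refine hsub.antisymm fun y hy ↦ ?_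
    obtain ⟨x, hx, hxy⟩ := exists_mem_G_specializes c hc hy
    exact hxy.mem_closed hC (hcon x hx).1
  obtain ⟨x₀, hx₀, hmin⟩ := (measure c).wf.has_min {x | x ∈ G C' ∧ x ∉ G C} hD'
  have hmin' : ∀ z, z ∈ G C' → z ∉ G C → c x₀ ≤ c z := fun z h1 h2 ↦
    not_lt.1 (hmin z ⟨h1, h2⟩)
  have claim1 : ∀ x, x ∈ G C → x ∉ G C' → c x₀ < c x := by
    intro x hx hx'
    obtain ⟨x', hxG', hx'x⟩ := exists_mem_G_specializes c hc (hsub hx.1)
    have hne' : x' ≠ x := fun h ↦ hx' (h ▸ hxG')
    have hx'G : x' ∉ G C := fun h ↦ hne' (hx.2 x' h.1 hx'x)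
    exact (hmin' x' hxG' hx'G).trans_lt (hc x' x hx'x hne')
  refine ⟨c x₀, fun j hj ↦ ?_, ?_⟩
  · rw [cnt, cnt]
    congr 1
    ext x
    constructor
    · rintro ⟨h1, h2⟩
      refine ⟨?_, h2⟩
      by_contra h3
      have := claim1 x h1 h3
      omega
    · rintro ⟨h1, h2⟩
      refine ⟨?_, h2⟩
      by_contra h3
      have := hmin' x h1 h3
      omega
  · rw [cnt, cnt]
    refine Set.ncard_lt_ncard ⟨?_, ?_⟩ ((G_finite hC').subset fun x hx ↦ hx.1)
    · rintro x ⟨h1, h2⟩
      refine ⟨?_, h2⟩
      by_contra h3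
      have := claim1 x h1 h3
      omega
    · intro hsub'
      exact hx₀.2 (hsub' ⟨hx₀.1, rfl⟩).1

include hc in
/-- In a quasi-sober Noetherian space with a function to `ℕ` strictly increasing along strict
specializations, every dense subset contains a countable dense subset. -/
theorem exists_countable_dense [NoetherianSpace X] [QuasiSober X] (T : Set X) (hd : Dense T) :
    ∃ E : Set X, E ⊆ T ∧ E.Countable ∧ Dense E := by
  classical
  -- the invariant as a finitely supported function
  let n : {C : Set X // IsClosed C} → (ℕ →₀ ℕ) := fun C ↦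
    Finsupp.ofSupportFinite (cnt c C.1) (cnt_support_finite c C.2)
  have hn : ∀ (C : {C : Set X // IsClosed C}) k, n C k = cnt c C.1 k := fun C k ↦ rfl
  -- the countable set of values on closures of countable subsets of `T`
  let V : Set (ℕ →₀ ℕ) := {v | ∃ E : Set X, E ⊆ T ∧ E.Countable ∧ n ⟨closure E, isClosed_closure⟩ = v}
  have hV : V.Countable := Set.to_countable V
  choose! Ev hEvT hEvc hEvn using fun v (hv : v ∈ V) ↦ hv
  let Estar : Set X := ⋃ v ∈ V, Ev v
  have hEstarT : Estar ⊆ T := Set.iUnion₂_subset fun v hv ↦ hEvT v hv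
  have hEstarc : Estar.Countable := hV.biUnion fun v hv ↦ hEvc v hv
  refine ⟨Estar, hEstarT, hEstarc, ?_⟩
  by_contra hnd
  have hex : ∃ t ∈ T, t ∉ closure Estar := by
    by_contra hcon
    push Not at hcon
    apply hnd
    intro x
    have : closure T ⊆ closure Estar := closure_minimal hcon isClosed_closure
    exact this (hd x)
  obtain ⟨t, htT, htE⟩ := hex
  let E' : Set X := insert t Estar
  have hE'T : E' ⊆ T := Set.insert_subset htT hEstarT
  have hE'c : E'.Countable := hEstarc.insert t
  let v := n ⟨closure E', isClosed_closure⟩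
  have hv : v ∈ V := ⟨E', hE'T, hE'c, rfl⟩
  have h1 : closure Estar ⊆ closure E' := closure_mono (Set.subset_insert t Estar)
  have h1ne : closure Estar ≠ closure E' := fun h ↦
    htE (h ▸ subset_closure (Set.mem_insert t Estar))
  obtain ⟨k, hk1, hk2⟩ := cnt_lt c hc isClosed_closure isClosed_closure h1 h1ne
  have h2 : closure (Ev v) ⊆ closure Estar :=
    closure_mono (Set.subset_biUnion_of_mem (u := fun v ↦ Ev v) hv)
  have h3 : ∀ j, cnt c (closure (Ev v)) j = cnt c (closure E') j := by
    intro j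
    have := hEvn v hv
    rw [← hn ⟨closure (Ev v), isClosed_closure⟩ j, this]
    rfl
  by_cases h2ne : closure (Ev v) = closure Estar
  · rw [← h2ne, h3 k] at hk2
    exact lt_irrefl _ hk2
  · obtain ⟨k', hk'1, hk'2⟩ := cnt_lt c hc isClosed_closure isClosed_closure h2 h2ne
    simp only [h3] at hk'1 hk'2
    rcases lt_trichotomy k k' with h | h | h
    · have := hk'1 k h
      omega
    · subst h
      omega
    · have := hk1 k' h
      omega

end Groth.Agent.Lib.Helper51.CountableDense
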