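import Groth.Agent.Lib.Helper51.CountableDense
import Mathlib.AlgebraicGeometry.Noetherian
import Mathlib.RingTheory.Ideal.KrullsHeightTheorem

/-!
# Noetherian schemes: dense subsets contain countable dense subsets (helper51)
-/

set_option autoImplicit false
open TopologicalSpace Set AlgebraicGeometry CategoryTheory

namespace Groth.Agent.Lib.Helper51.CountableDense

universe u

/-- Every dense subset contains a countable dense subset. -/
def CD (X : Type*) [TopologicalSpace X] : Prop :=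
  ∀ T : Set X, Dense T → ∃ E : Set X, E ⊆ T ∧ E.Countable ∧ Dense E

theorem cd_primeSpectrum (R : Type*) [CommRing R] [IsNoetherianRing R] : CD (PrimeSpectrum R) := by
  intro T hd
  refine exists_countable_dense (fun p : PrimeSpectrum R ↦ p.asIdeal.height.toNat)
    (fun x y hxy hne ↦ ?_) T hd
  have hle : x.asIdeal ≤ y.asIdeal :=
    (PrimeSpectrum.asIdeal_le_asIdeal x y).2 ((PrimeSpectrum.le_iff_specializes x y).2 hxy)
  have hlt : x.asIdeal < y.asIdeal := lt_of_le_of_ne hle fun h ↦ hne (PrimeSpectrum.ext h)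
  have h1 := Ideal.height_strict_mono_of_isPrime hlt
  have hx : x.asIdeal.height ≠ ⊤ := Ideal.height_ne_top_of_isPrime
  have hy : y.asIdeal.height ≠ ⊤ := Ideal.height_ne_top_of_isPrime
  lift x.asIdeal.height to ℕ using hx with a
  lift y.asIdeal.height to ℕ using hy with b
  simpa using h1

theorem cd_of_cover {X : Type*} [TopologicalSpace X] {ι : Type*} [Countable ι]
    (Y : ι → Type*) [∀ i, TopologicalSpace (Y i)] (f : ∀ i, Y i → X)
    (hcont : ∀ i, Continuous (f i)) (hopen : ∀ i, IsOpenMap (f i))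
    (hcov : ∀ x, ∃ i y, f i y = x) (hY : ∀ i, CD (Y i)) : CD X := by
  intro T hd
  choose E hET hEc hEd using fun i ↦ hY i (f i ⁻¹' T) (hd.preimage (hopen i))
  refine ⟨⋃ i, f i '' E i, Set.iUnion_subset fun i ↦ Set.image_subset_iff.2 (hET i),
    Set.countable_iUnion fun i ↦ (hEc i).image _, fun x ↦ ?_⟩
  obtain ⟨i, y, rfl⟩ := hcov x
  have h1 : f i y ∈ closure (f i '' E i) :=
    image_closure_subset_closure_image (hcont i) ⟨y, hEd i y, rfl⟩
  exact closure_mono (Set.subset_iUnion (fun i ↦ f i '' E i) i) h1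

theorem cd_scheme (S : Scheme.{u}) [IsNoetherian S] : CD S := by
  let 𝒰 := S.affineOpenCover
  obtain ⟨t, ht⟩ := CompactSpace.elim_nhds_subcover (fun x : S ↦ Set.range (𝒰.f (𝒰.idx x)))
    fun x ↦ (IsOpenImmersion.isOpen_range (𝒰.f (𝒰.idx x))).mem_nhds (𝒰.covers x)
  refine cd_of_cover (ι := t) (fun i ↦ PrimeSpectrum (𝒰.X (𝒰.idx i.1)))
    (fun i ↦ (𝒰.f (𝒰.idx i.1)))
    (fun i ↦ (𝒰.f (𝒰.idx i.1)).continuous)
    (fun i ↦ (𝒰.f (𝒰.idx i.1)).isOpenEmbedding.isOpenMap) ?_ ?_
  · intro x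
    have : x ∈ (⊤ : Set S) := trivial
    rw [← ht, Set.mem_iUnion₂] at this
    obtain ⟨i, hi, y, hy⟩ := this
    exact ⟨⟨i, hi⟩, y, hy⟩
  · intro i
    have : IsLocallyNoetherian (Spec (𝒰.X (𝒰.idx i.1))) :=
      isLocallyNoetherian_of_isOpenImmersion (𝒰.f (𝒰.idx i.1))
    have : IsNoetherianRing (𝒰.X (𝒰.idx i.1)) := isLocallyNoetherian_Spec.1 this
    exact cd_primeSpectrum _

end Groth.Agent.Lib.Helper51.CountableDense
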