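import Groth.Prelude.Def_MoreMor
import Mathlib.AlgebraicGeometry.IdealSheaf.Functorial
import Mathlib.AlgebraicGeometry.Morphisms.ClosedImmersion
import Mathlib.AlgebraicGeometry.Morphisms.Affine
import Mathlib.AlgebraicGeometry.Morphisms.SurjectiveOnStalks

/-!
# Base change of first order thickenings (helper51)

Main results:
* `ker_mul_ker_eq_bot_of_isPullback` : if `i` is a closed immersion whose kernel ideal sheaf has
  square zero, then so has every base change of `i`.
* `isThickening_of_isPullback`, `isFirstOrderThickening_of_isPullback` : thickenings and first order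
  thickenings are stable under base change.
-/

set_option autoImplicit false
universe u

namespace Groth.Agent.Lib.Helper51

open AlgebraicGeometry CategoryTheory Limits

/-- Ring level: in a pushout square of commutative rings, if one leg is surjective with
square-zero kernel, then the opposite leg has square-zero kernel. -/
lemma ker_mul_ker_eq_bot_of_isPushout {A B C D : CommRingCat.{u}} {φ : A ⟶ B} {π : A ⟶ C}
    {β : B ⟶ D} {γ : C ⟶ D} (h : IsPushout φ π β γ) (hπ : Function.Surjective π.hom)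
    (hI : RingHom.ker π.hom * RingHom.ker π.hom = ⊥) :
    RingHom.ker β.hom * RingHom.ker β.hom = ⊥ := by
  set I := RingHom.ker π.hom with hIdef
  set J : Ideal B := I.map φ.hom with hJ
  -- the map `C → B ⧸ J`
  have hle : RingHom.ker π.hom ≤ RingHom.ker ((Ideal.Quotient.mk J).comp φ.hom) := by
    intro a ha
    rw [RingHom.mem_ker, RingHom.comp_apply, Ideal.Quotient.eq_zero_iff_mem]
    exact Ideal.mem_map_of_mem _ ha
  let ψ : C →+* B ⧸ J := RingHom.liftOfSurjective π.hom hπ ⟨_, hle⟩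
  have hψ : ψ.comp π.hom = (Ideal.Quotient.mk J).comp φ.hom :=
    RingHom.liftOfRightInverse_comp _ _ _ _
  have hcomm : φ ≫ CommRingCat.ofHom (Ideal.Quotient.mk J) = π ≫ CommRingCat.ofHom ψ := by
    ext x
    exact (congr($hψ x)).symm
  have hβ : β ≫ h.desc _ _ hcomm = CommRingCat.ofHom (Ideal.Quotient.mk J) := h.inl_desc _ _ _
  have hker : RingHom.ker β.hom ≤ J := by
    intro b hb
    have : (β ≫ h.desc _ _ hcomm).hom b = 0 := by
      rw [CommRingCat.hom_comp, RingHom.comp_apply, (RingHom.mem_ker).mp hb, map_zero]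
    rw [hβ] at this
    exact Ideal.Quotient.eq_zero_iff_mem.mp this
  refine le_bot_iff.mp ((Ideal.mul_mono hker hker).trans ?_)
  rw [hJ, ← Ideal.map_mul, hI, Ideal.map_bot]

/-- Square-zero kernel is inherited by the restriction to an open of the target. -/
lemma ker_mul_ker_eq_bot_of_isPullback_of_isOpenImmersion {X Y U V : Scheme.{u}}
    (f : X ⟶ Y) (f' : U ⟶ V) (iU : U ⟶ X) (iV : V ⟶ Y) [IsOpenImmersion iV]
    [QuasiCompact f] (H : IsPullback f' iU iV f) (h : f.ker * f.ker = ⊥) :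
    f'.ker * f'.ker = ⊥ := by
  refine le_bot_iff.mp fun W ↦ ?_
  rw [Scheme.IdealSheafData.ideal_mul, Pi.mul_apply,
    Scheme.ker_ideal_of_isPullback_of_isOpenImmersion f f' iU iV H W,
    Ideal.mul_le]
  intro a ha b hb
  have hab : (iV.appIso W).inv.hom (a * b) ∈
      (f.ker * f.ker).ideal ⟨iV ''ᵁ W, W.2.image_of_isOpenImmersion _⟩ := by
    rw [map_mul, Scheme.IdealSheafData.ideal_mul, Pi.mul_apply]
    exact Ideal.mul_mem_mul ha hb
  rw [h] at hab
  have hinj : Function.Injective (iV.appIso W).inv.hom :=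
    (ConcreteCategory.bijective_of_isIso (iV.appIso W).inv).1
  change a * b = 0
  exact hinj (by simpa using hab)

/-- Affine case of `ker_mul_ker_eq_bot_of_isPullback`. -/
lemma ker_mul_ker_eq_bot_of_isPullback_of_isAffine {Q P Z Z' : Scheme.{u}}
    {j : Q ⟶ P} {q : Q ⟶ Z} {p : P ⟶ Z'} {i : Z ⟶ Z'} [IsAffine P] [IsAffine Z']
    [IsClosedImmersion i] (H : IsPullback j q p i) (h : i.ker * i.ker = ⊥) :
    j.ker * j.ker = ⊥ := by
  obtain ⟨hZ, hsurj⟩ := IsClosedImmersion.isAffine_surjective_of_isAffine i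
  have hpo : IsPushout p.appTop i.appTop j.appTop q.appTop := isPushout_appTop_of_isPullback H
  have hi : RingHom.ker i.appTop.hom * RingHom.ker i.appTop.hom = ⊥ := by
    have := congr(($h).ideal ⟨⊤, isAffineOpen_top Z'⟩)
    rwa [Scheme.IdealSheafData.ideal_mul, Pi.mul_apply, Scheme.Hom.ker_apply] at this
  have hj := ker_mul_ker_eq_bot_of_isPushout hpo hsurj hi
  have : QuasiCompact j := MorphismProperty.of_isPullback H.flip inferInstance
  refine le_bot_iff.mp (Scheme.IdealSheafData.le_of_isAffine ?_)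
  rw [Scheme.IdealSheafData.ideal_mul, Pi.mul_apply, Scheme.Hom.ker_apply]
  exact hj.le

/-- If `i` is a closed immersion whose kernel ideal sheaf has square zero, then the kernel of any
base change of `i` has square zero. -/
lemma ker_mul_ker_eq_bot_of_isPullback {Q P Z Z' : Scheme.{u}}
    {j : Q ⟶ P} {q : Q ⟶ Z} {p : P ⟶ Z'} {i : Z ⟶ Z'}
    [IsClosedImmersion i] (H : IsPullback j q p i) (h : i.ker * i.ker = ⊥) :
    j.ker * j.ker = ⊥ := by
  have : IsClosedImmersion j := MorphismProperty.of_isPullback H.flip inferInstance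
  let ι := {WV : P.affineOpens × Z'.affineOpens // WV.1.1 ≤ p ⁻¹ᵁ WV.2.1}
  have key : ∀ k : ι, (j ∣_ k.1.1.1).ker * (j ∣_ k.1.1.1).ker = ⊥ := by
    rintro ⟨⟨W, V⟩, hWV⟩
    dsimp only at hWV ⊢
    have : IsAffine W.1.toScheme := W.2
    have : IsAffine V.1.toScheme := V.2
    have hV : (i ∣_ V.1).ker * (i ∣_ V.1).ker = ⊥ :=
      ker_mul_ker_eq_bot_of_isPullback_of_isOpenImmersion i (i ∣_ V.1) (i ⁻¹ᵁ V.1).ι V.1.ι
        (isPullback_morphismRestrict i V.1) h
    have hle : j ⁻¹ᵁ W.1 ≤ q ⁻¹ᵁ (i ⁻¹ᵁ V.1) := by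
      intro x hx
      have hx' : p (j x) ∈ V.1 := hWV hx
      have e : p (j x) = i (q x) := by
        rw [← Scheme.Hom.comp_apply, ← Scheme.Hom.comp_apply, H.w]
      rw [e] at hx'
      exact hx'
    let r : W.1.toScheme ⟶ V.1.toScheme := p.resLE V.1 W.1 hWV
    let t : (j ⁻¹ᵁ W.1).toScheme ⟶ (i ⁻¹ᵁ V.1).toScheme := q.resLE _ _ hle
    have hbig : IsPullback (t ≫ (i ⁻¹ᵁ V.1).ι) (j ∣_ W.1) i (r ≫ V.1.ι) := by
      have := (isPullback_morphismRestrict j W.1).flip.paste_horiz H.flip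
      simpa only [t, r, Scheme.Hom.resLE_comp_ι] using this
    have hcomm : t ≫ (i ∣_ V.1) = (j ∣_ W.1) ≫ r := by
      rw [← cancel_mono V.1.ι]
      simp only [t, r, Category.assoc, morphismRestrict_ι, Scheme.Hom.resLE_comp_ι,
        Scheme.Hom.resLE_comp_ι_assoc, morphismRestrict_ι_assoc, H.w]
    have hpb : IsPullback (j ∣_ W.1) t r (i ∣_ V.1) :=
      (IsPullback.of_right hbig hcomm (isPullback_morphismRestrict i V.1).flip).flip
    exact ker_mul_ker_eq_bot_of_isPullback_of_isAffine hpb hV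
  refine le_bot_iff.mp (Scheme.IdealSheafData.le_of_iSup_eq_top
    (fun k : ι ↦ (⟨k.1.1.1.ι ''ᵁ ⊤,
      (isAffineOpen_top _).image_of_isOpenImmersion k.1.1.1.ι⟩ : P.affineOpens)) ?_ ?_)
  · refine top_le_iff.mp fun x _ ↦ ?_
    obtain ⟨_, ⟨V, hV, rfl⟩, hxV, -⟩ :=
      Z'.isBasis_affineOpens.exists_subset_of_mem_open (Set.mem_univ (p x)) isOpen_univ
    obtain ⟨_, ⟨W, hW, rfl⟩, hxW, hWV⟩ :=
      P.isBasis_affineOpens.exists_subset_of_mem_open (show x ∈ (p ⁻¹ᵁ V).1 from hxV)
        (p ⁻¹ᵁ V).isOpen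
    refine TopologicalSpace.Opens.mem_iSup.mpr ⟨⟨⟨⟨W, hW⟩, ⟨V, hV⟩⟩, hWV⟩, ?_⟩
    simpa using hxW
  · intro k
    have : IsAffine k.1.1.1.toScheme := k.1.1.2
    rw [Scheme.IdealSheafData.ideal_mul, Pi.mul_apply,
      ← Scheme.ker_morphismRestrict_ideal j k.1.1.1 ⟨⊤, isAffineOpen_top _⟩]
    have := congr(($(key k)).ideal ⟨⊤, isAffineOpen_top _⟩)
    rw [Scheme.IdealSheafData.ideal_mul, Pi.mul_apply] at this
    exact this.le

/-- Thickenings are stable under base change. -/
lemma isThickening_of_isPullback {Q P Z Z' : Scheme.{u}}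
    {j : Q ⟶ P} {q : Q ⟶ Z} {p : P ⟶ Z'} {i : Z ⟶ Z'} (H : IsPullback j q p i)
    (h : MoreMor.IsThickening i) : MoreMor.IsThickening j := by
  have := h.1
  have := h.2
  exact ⟨MorphismProperty.of_isPullback H.flip inferInstance,
    MorphismProperty.of_isPullback H.flip inferInstance⟩

/-- First order thickenings are stable under base change. -/
lemma isFirstOrderThickening_of_isPullback {Q P Z Z' : Scheme.{u}}
    {j : Q ⟶ P} {q : Q ⟶ Z} {p : P ⟶ Z'} {i : Z ⟶ Z'} (H : IsPullback j q p i)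
    (h : MoreMor.IsFirstOrderThickening i) : MoreMor.IsFirstOrderThickening j := by
  have := h.1.1
  exact ⟨isThickening_of_isPullback H h.1, ker_mul_ker_eq_bot_of_isPullback H h.2⟩

end Groth.Agent.Lib.Helper51
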