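import Groth.Prelude.Def_DescFam

/-!
# Descent data for schemes relative to families: functor-of-points toolkit (helper51)

Morphisms and isomorphisms of descent data are constructed from natural families of maps on
`T`-points; a functor between categories of descent data is *point-described* when the points of
its values are naturally the points of the argument over a composite point.  Two functors which
are point-described over the same base map are naturally isomorphic.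
-/

set_option autoImplicit false
set_option backward.isDefEq.respectTransparency false
set_option backward.isDefEq.respectTransparency.types false

universe w'' w' w u

open CategoryTheory CategoryTheory.Limits AlgebraicGeometry

namespace Groth.Agent.Lib.Helper51.DescFam

open Desc

section Over

variable {Y : Scheme.{u}}

/-- Naturality in the test scheme of a family of maps on points. -/
def IsNatLifts {V V' : Over Y}
    (m : ∀ ⦃T : Scheme.{u}⦄ (x : T ⟶ Y), Lifts V x → Lifts V' x) : Prop :=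
  ∀ ⦃T T' : Scheme.{u}⦄ (g : T' ⟶ T) (x : T ⟶ Y) (y : T' ⟶ Y) (_ : g ≫ x = y) (v : Lifts V x)
    (v' : Lifts V y), v'.1 = g ≫ v.1 → (m y v').1 = g ≫ (m x v).1

/-- The morphism over `Y` defined by a family of maps on points (its value at the universal
point). -/
def homOfLifts {V V' : Over Y}
    (m : ∀ ⦃T : Scheme.{u}⦄ (x : T ⟶ Y), Lifts V x → Lifts V' x) : V ⟶ V' :=
  Over.homMk (m V.hom ⟨𝟙 _, Category.id_comp _⟩).1 (m V.hom ⟨𝟙 _, Category.id_comp _⟩).2

theorem homOfLifts_spec {V V' : Over Y}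
    {m : ∀ ⦃T : Scheme.{u}⦄ (x : T ⟶ Y), Lifts V x → Lifts V' x} (hm : IsNatLifts m)
    {T : Scheme.{u}} (x : T ⟶ Y) (v : Lifts V x) :
    v.1 ≫ (homOfLifts m).left = (m x v).1 :=
  (hm v.1 V.hom x v.2 ⟨𝟙 _, Category.id_comp _⟩ v (Category.comp_id _).symm).symm

/-- Transport of a point along an equality of base points. -/
def liftsCongr (V : Over Y) {T : Scheme.{u}} {x y : T ⟶ Y} (h : x = y) : Lifts V x ≃ Lifts V y where
  toFun v := ⟨v.1, v.2.trans h⟩
  invFun v := ⟨v.1, v.2.trans h.symm⟩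
  left_inv _ := rfl
  right_inv _ := rfl

@[simp] theorem liftsCongr_val (V : Over Y) {T : Scheme.{u}} {x y : T ⟶ Y} (h : x = y)
    (v : Lifts V x) : (liftsCongr V h v).1 = v.1 := rfl

@[simp] theorem liftsCongr_symm_val (V : Over Y) {T : Scheme.{u}} {x y : T ⟶ Y} (h : x = y)
    (v : Lifts V y) : ((liftsCongr V h).symm v).1 = v.1 := rfl

end Over

section Fam

variable {S : Scheme.{u}} {ι : Type w} {X : ι → Scheme.{u}} {f : ∀ i, X i ⟶ S}

theorem push_val {D D' : SchDDFam f} (a : D ⟶ D') {T : Scheme.{u}} {i : ι} {x : T ⟶ X i}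
    (v : Lifts (D.obj i) x) : (SchDDFam.Hom.push a v).1 = v.1 ≫ (a.hom i).left := rfl

theorem push_id {D : SchDDFam f} {T : Scheme.{u}} {i : ι} {x : T ⟶ X i}
    (v : Lifts (D.obj i) x) : SchDDFam.Hom.push (𝟙 D) v = v :=
  Subtype.ext (by rw [push_val]; simp)

theorem push_comp {D D' D'' : SchDDFam f} (a : D ⟶ D') (b : D' ⟶ D'') {T : Scheme.{u}} {i : ι}
    {x : T ⟶ X i} (v : Lifts (D.obj i) x) :
    SchDDFam.Hom.push (a ≫ b) v = SchDDFam.Hom.push b (SchDDFam.Hom.push a v) :=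
  Subtype.ext (by simp [push_val])

/-- Compatibility of a morphism of descent data with the gluing bijections, on points. -/
theorem comm_push {D D' : SchDDFam f} (a : D ⟶ D') {T : Scheme.{u}} {i j : ι} (x₀ : T ⟶ X i)
    (x₁ : T ⟶ X j) (h : x₀ ≫ f i = x₁ ≫ f j) (v : Lifts (D.obj i) x₀) :
    D'.φ x₀ x₁ h (SchDDFam.Hom.push a v) = SchDDFam.Hom.push a (D.φ x₀ x₁ h v) :=
  Subtype.ext (a.comm x₀ x₁ h v (SchDDFam.Hom.push a v) rfl)

/-- Naturality of the gluing bijections with the base points given up to equality. -/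
theorem φ_nat (D : SchDDFam f) {T T' : Scheme.{u}} (g : T' ⟶ T) {i j : ι} (x₀ : T ⟶ X i)
    (x₁ : T ⟶ X j) (h : x₀ ≫ f i = x₁ ≫ f j) (y₀ : T' ⟶ X i) (y₁ : T' ⟶ X j) (h₀ : g ≫ x₀ = y₀)
    (h₁ : g ≫ x₁ = y₁) (h' : y₀ ≫ f i = y₁ ≫ f j) (v : Lifts (D.obj i) x₀)
    (v' : Lifts (D.obj i) y₀) (hv : v'.1 = g ≫ v.1) :
    (D.φ y₀ y₁ h' v').1 = g ≫ (D.φ x₀ x₁ h v).1 :=
  D.φ_natural g x₀ x₁ h y₀ y₁ h₀ h₁ h' v v' hv

/-- The gluing bijection between equal base points is the transport. -/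
theorem φ_of_eq (D : SchDDFam f) {T : Scheme.{u}} {i : ι} (x₀ x₁ : T ⟶ X i) (hx : x₀ = x₁)
    (h : x₀ ≫ f i = x₁ ≫ f i) (v : Lifts (D.obj i) x₀) :
    D.φ x₀ x₁ h v = liftsCongr (D.obj i) hx v := by
  subst hx
  exact D.φ_self x₀ v

/-- Two morphisms of descent data which agree on points are equal. -/
theorem hom_ext_push {D D' : SchDDFam f} {a b : D ⟶ D'}
    (h : ∀ (i : ι) (v : Lifts (D.obj i) (D.obj i).hom),
      SchDDFam.Hom.push a v = SchDDFam.Hom.push b v) : a = b := by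
  apply SchDDFam.hom_ext
  funext i
  apply Over.OverMorphism.ext
  have := congrArg Subtype.val (h i ⟨𝟙 _, Category.id_comp _⟩)
  simpa [push_val] using this

/-- A morphism of descent data from natural maps on points compatible with the gluing
bijections. -/
def homMkLifts (D D' : SchDDFam f)
    (m : ∀ (i : ι) ⦃T : Scheme.{u}⦄ (x : T ⟶ X i), Lifts (D.obj i) x → Lifts (D'.obj i) x)
    (hm : ∀ i, IsNatLifts (m i))
    (hφ : ∀ ⦃T : Scheme.{u}⦄ ⦃i j : ι⦄ (x₀ : T ⟶ X i) (x₁ : T ⟶ X j)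
      (h : x₀ ≫ f i = x₁ ≫ f j) (v : Lifts (D.obj i) x₀),
      D'.φ x₀ x₁ h (m i x₀ v) = m j x₁ (D.φ x₀ x₁ h v)) : D ⟶ D' :=
  ⟨fun i => homOfLifts (m i), fun T i j x₀ x₁ h v w hw => by
    have hw' : w = m i x₀ v := Subtype.ext (hw.trans (homOfLifts_spec (hm i) x₀ v))
    rw [hw', hφ, homOfLifts_spec (hm j)]⟩

theorem homMkLifts_push (D D' : SchDDFam f)
    (m : ∀ (i : ι) ⦃T : Scheme.{u}⦄ (x : T ⟶ X i), Lifts (D.obj i) x → Lifts (D'.obj i) x)
    (hm : ∀ i, IsNatLifts (m i))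
    (hφ : ∀ ⦃T : Scheme.{u}⦄ ⦃i j : ι⦄ (x₀ : T ⟶ X i) (x₁ : T ⟶ X j)
      (h : x₀ ≫ f i = x₁ ≫ f j) (v : Lifts (D.obj i) x₀),
      D'.φ x₀ x₁ h (m i x₀ v) = m j x₁ (D.φ x₀ x₁ h v))
    {T : Scheme.{u}} {i : ι} {x : T ⟶ X i} (v : Lifts (D.obj i) x) :
    SchDDFam.Hom.push (homMkLifts D D' m hm hφ) v = m i x v :=
  Subtype.ext (homOfLifts_spec (hm i) x v)

/-- An isomorphism of descent data from natural bijections on points compatible with the gluing
bijections. -/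
def isoMkLifts (D D' : SchDDFam f)
    (e : ∀ (i : ι) ⦃T : Scheme.{u}⦄ (x : T ⟶ X i), Lifts (D.obj i) x ≃ Lifts (D'.obj i) x)
    (he : ∀ i, IsNatLifts (fun T x v => e i x v))
    (hφ : ∀ ⦃T : Scheme.{u}⦄ ⦃i j : ι⦄ (x₀ : T ⟶ X i) (x₁ : T ⟶ X j)
      (h : x₀ ≫ f i = x₁ ≫ f j) (v : Lifts (D.obj i) x₀),
      D'.φ x₀ x₁ h (e i x₀ v) = e j x₁ (D.φ x₀ x₁ h v)) : D ≅ D' where
  hom := homMkLifts D D' (fun i T x v => e i x v) he hφ
  inv := homMkLifts D' D (fun i T x v => (e i x).symm v)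
    (fun i T T' g x y hy v v' hv => by
      change ((e i y).symm v').1 = g ≫ ((e i x).symm v).1
      have hw : (g ≫ ((e i x).symm v).1) ≫ (D.obj i).hom = y := by
        rw [Category.assoc, ((e i x).symm v).2, hy]
      have h0 : (e i y ⟨g ≫ ((e i x).symm v).1, hw⟩).1 = g ≫ (e i x ((e i x).symm v)).1 :=
        he i g x y hy ((e i x).symm v) ⟨g ≫ ((e i x).symm v).1, hw⟩ rfl
      rw [Equiv.apply_symm_apply, ← hv] at h0
      have h1 : v' = e i y ⟨g ≫ ((e i x).symm v).1, hw⟩ := Subtype.ext h0.symm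
      rw [h1, Equiv.symm_apply_apply])
    (fun T i j x₀ x₁ h v => by
      apply (e j x₁).injective
      rw [← hφ, Equiv.apply_symm_apply, Equiv.apply_symm_apply])
  hom_inv_id := by
    apply hom_ext_push
    intro i v
    rw [push_comp, homMkLifts_push, homMkLifts_push, Equiv.symm_apply_apply, push_id]
  inv_hom_id := by
    apply hom_ext_push
    intro i v
    rw [push_comp, homMkLifts_push, homMkLifts_push, Equiv.apply_symm_apply, push_id]

theorem isoMkLifts_hom_push (D D' : SchDDFam f)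
    (e : ∀ (i : ι) ⦃T : Scheme.{u}⦄ (x : T ⟶ X i), Lifts (D.obj i) x ≃ Lifts (D'.obj i) x)
    (he : ∀ i, IsNatLifts (fun T x v => e i x v))
    (hφ : ∀ ⦃T : Scheme.{u}⦄ ⦃i j : ι⦄ (x₀ : T ⟶ X i) (x₁ : T ⟶ X j)
      (h : x₀ ≫ f i = x₁ ≫ f j) (v : Lifts (D.obj i) x₀),
      D'.φ x₀ x₁ h (e i x₀ v) = e j x₁ (D.φ x₀ x₁ h v))
    {T : Scheme.{u}} {i : ι} {x : T ⟶ X i} (v : Lifts (D.obj i) x) :
    SchDDFam.Hom.push (isoMkLifts D D' e he hφ).hom v = e i x v :=
  homMkLifts_push D D' _ he hφ v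

end Fam

section Congr

variable {S : Scheme.{u}} {ι : Type w} {X : ι → Scheme.{u}} {f : ∀ i, X i ⟶ S}

/-- The gluing bijections only depend on the base points up to equality. -/
theorem φ_congr (D : SchDDFam f) {T : Scheme.{u}} {i j : ι} {x₀ y₀ : T ⟶ X i} {x₁ y₁ : T ⟶ X j}
    (h₀ : x₀ = y₀) (h₁ : x₁ = y₁) (h : x₀ ≫ f i = x₁ ≫ f j) (h' : y₀ ≫ f i = y₁ ≫ f j)
    (v : Lifts (D.obj i) x₀) :
    D.φ y₀ y₁ h' (liftsCongr (D.obj i) h₀ v) = liftsCongr (D.obj j) h₁ (D.φ x₀ x₁ h v) := by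
  subst h₀ h₁
  rfl

end Congr

section PointDesc

variable {S : Scheme.{u}} {ι : Type w} {X : ι → Scheme.{u}} {f : ∀ i, X i ⟶ S}
  {S' : Scheme.{u}} {ι' : Type w'} {X' : ι' → Scheme.{u}} {f' : ∀ j, X' j ⟶ S'}

/-- A functor `Φ` between categories of descent data is point-described by the morphism of
families `(γ, p, r')` when the points of `(Φ D).obj k` over `x` are naturally the points of
`D.obj (γ k)` over `x ≫ r' k`, compatibly with the gluing bijections and with morphisms. -/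
structure PointDesc (Φ : SchDDFam f ⥤ SchDDFam f') (p : S' ⟶ S) (γ : ι' → ι)
    (r' : ∀ k, X' k ⟶ X (γ k)) where
  w : ∀ k, r' k ≫ f (γ k) = f' k ≫ p
  θ : ∀ (D : SchDDFam f) (k : ι') ⦃T : Scheme.{u}⦄ (x : T ⟶ X' k),
    Lifts ((Φ.obj D).obj k) x ≃ Lifts (D.obj (γ k)) (x ≫ r' k)
  nat : ∀ (D : SchDDFam f) (k : ι') ⦃T T' : Scheme.{u}⦄ (g : T' ⟶ T) (x : T ⟶ X' k)
    (y : T' ⟶ X' k) (_ : g ≫ x = y) (v : Lifts ((Φ.obj D).obj k) x)
    (v' : Lifts ((Φ.obj D).obj k) y), v'.1 = g ≫ v.1 → (θ D k y v').1 = g ≫ (θ D k x v).1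
  compat : ∀ (D : SchDDFam f) ⦃T : Scheme.{u}⦄ ⦃k l : ι'⦄ (x₀ : T ⟶ X' k) (x₁ : T ⟶ X' l)
    (h : x₀ ≫ f' k = x₁ ≫ f' l) (h' : (x₀ ≫ r' k) ≫ f (γ k) = (x₁ ≫ r' l) ≫ f (γ l))
    (v : Lifts ((Φ.obj D).obj k) x₀),
    θ D l x₁ ((Φ.obj D).φ x₀ x₁ h v) = D.φ (x₀ ≫ r' k) (x₁ ≫ r' l) h' (θ D k x₀ v)
  map : ∀ {D D' : SchDDFam f} (a : D ⟶ D') (k : ι') ⦃T : Scheme.{u}⦄ (x : T ⟶ X' k)
    (v : Lifts ((Φ.obj D).obj k) x),
    θ D' k x (SchDDFam.Hom.push (Φ.map a) v) = SchDDFam.Hom.push a (θ D k x v)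

namespace PointDesc

variable {Φ Ψ : SchDDFam f ⥤ SchDDFam f'} {p : S' ⟶ S} {γ δ : ι' → ι}
  {r' : ∀ k, X' k ⟶ X (γ k)} {s' : ∀ k, X' k ⟶ X (δ k)}

theorem base_eq (P : PointDesc Φ p γ r') {T : Scheme.{u}} {k l : ι'} (x₀ : T ⟶ X' k)
    (x₁ : T ⟶ X' l) (h : x₀ ≫ f' k = x₁ ≫ f' l) :
    (x₀ ≫ r' k) ≫ f (γ k) = (x₁ ≫ r' l) ≫ f (γ l) := by
  rw [Category.assoc, P.w, ← Category.assoc, h, Category.assoc, ← P.w, Category.assoc]

theorem base_eq₂ (P : PointDesc Φ p γ r') (Q : PointDesc Ψ p δ s') {T : Scheme.{u}} {k : ι'}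
    (x : T ⟶ X' k) : (x ≫ r' k) ≫ f (γ k) = (x ≫ s' k) ≫ f (δ k) := by
  rw [Category.assoc, P.w, Category.assoc, Q.w]

/-- Naturality of the inverse of the point description. -/
theorem nat_symm (P : PointDesc Φ p γ r') (D : SchDDFam f) (k : ι') ⦃T T' : Scheme.{u}⦄
    (g : T' ⟶ T) (x : T ⟶ X' k) (y : T' ⟶ X' k) (hy : g ≫ x = y)
    (u : Lifts (D.obj (γ k)) (x ≫ r' k)) (u' : Lifts (D.obj (γ k)) (y ≫ r' k))
    (hu : u'.1 = g ≫ u.1) : ((P.θ D k y).symm u').1 = g ≫ ((P.θ D k x).symm u).1 := by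
  have hw : (g ≫ ((P.θ D k x).symm u).1) ≫ ((Φ.obj D).obj k).hom = y := by
    rw [Category.assoc, ((P.θ D k x).symm u).2, hy]
  have h0 := P.nat D k g x y hy ((P.θ D k x).symm u) ⟨g ≫ ((P.θ D k x).symm u).1, hw⟩ rfl
  rw [Equiv.apply_symm_apply, ← hu] at h0
  have h1 : u' = P.θ D k y ⟨g ≫ ((P.θ D k x).symm u).1, hw⟩ := Subtype.ext h0.symm
  rw [h1, Equiv.symm_apply_apply]

/-- The bijection on points between the values of two functors point-described over the same base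
map. -/
def compEquiv (P : PointDesc Φ p γ r') (Q : PointDesc Ψ p δ s') (D : SchDDFam f) (k : ι')
    ⦃T : Scheme.{u}⦄ (x : T ⟶ X' k) : Lifts ((Φ.obj D).obj k) x ≃ Lifts ((Ψ.obj D).obj k) x :=
  (P.θ D k x).trans ((D.φ (x ≫ r' k) (x ≫ s' k) (P.base_eq₂ Q x)).trans (Q.θ D k x).symm)

theorem compEquiv_apply (P : PointDesc Φ p γ r') (Q : PointDesc Ψ p δ s') (D : SchDDFam f)
    (k : ι') ⦃T : Scheme.{u}⦄ (x : T ⟶ X' k) (v : Lifts ((Φ.obj D).obj k) x) :
    P.compEquiv Q D k x v =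
      (Q.θ D k x).symm (D.φ (x ≫ r' k) (x ≫ s' k) (P.base_eq₂ Q x) (P.θ D k x v)) := rfl

/-- The isomorphism between the values of two functors point-described over the same base map. -/
def appIso (P : PointDesc Φ p γ r') (Q : PointDesc Ψ p δ s') (D : SchDDFam f) :
    Φ.obj D ≅ Ψ.obj D :=
  isoMkLifts (Φ.obj D) (Ψ.obj D) (fun k T x => P.compEquiv Q D k x)
    (fun k T T' g x y hy v v' hv => by
      change (P.compEquiv Q D k y v').1 = g ≫ (P.compEquiv Q D k x v).1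
      rw [compEquiv_apply, compEquiv_apply]
      refine Q.nat_symm D k g x y hy _ _ ?_
      refine φ_nat D g _ _ _ _ _ (by rw [← hy, Category.assoc]) (by rw [← hy, Category.assoc]) _
        _ _ ?_
      exact P.nat D k g x y hy v v' hv)
    (fun T k l x₀ x₁ h v => by
      apply (Q.θ D l x₁).injective
      rw [Q.compat D x₀ x₁ h (Q.base_eq x₀ x₁ h), compEquiv_apply, compEquiv_apply,
        Equiv.apply_symm_apply, Equiv.apply_symm_apply, D.φ_comp,
        P.compat D x₀ x₁ h (P.base_eq x₀ x₁ h), D.φ_comp])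

theorem appIso_hom_push (P : PointDesc Φ p γ r') (Q : PointDesc Ψ p δ s') (D : SchDDFam f)
    {T : Scheme.{u}} {k : ι'} {x : T ⟶ X' k} (v : Lifts ((Φ.obj D).obj k) x) :
    SchDDFam.Hom.push (P.appIso Q D).hom v = P.compEquiv Q D k x v :=
  isoMkLifts_hom_push _ _ _ _ _ v

/-- Two functors which are point-described over the same base map are naturally isomorphic. -/
def natIso (P : PointDesc Φ p γ r') (Q : PointDesc Ψ p δ s') : Φ ≅ Ψ :=
  NatIso.ofComponents (fun D => P.appIso Q D) (by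
    intro D D' a
    apply hom_ext_push
    intro k v
    rw [push_comp, push_comp, appIso_hom_push, appIso_hom_push, compEquiv_apply, compEquiv_apply,
      P.map, comm_push]
    apply (Q.θ D' k _).injective
    rw [Equiv.apply_symm_apply, Q.map, Equiv.apply_symm_apply])

end PointDesc

end PointDesc

section Instances

variable {S : Scheme.{u}} {ι : Type w} {X : ι → Scheme.{u}} {f : ∀ i, X i ⟶ S}
  {S' : Scheme.{u}} {ι' : Type w'} {X' : ι' → Scheme.{u}} {f' : ∀ j, X' j ⟶ S'}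
  {S'' : Scheme.{u}} {ι'' : Type w''} {X'' : ι'' → Scheme.{u}} {f'' : ∀ j, X'' j ⟶ S''}

/-- The pullback functor of descent data is point-described by the morphism of families it is
defined by. -/
noncomputable def PointDesc.pull {α : ι' → ι} {p : S' ⟶ S} {p' : ∀ j, X' j ⟶ X (α j)}
    (w : ∀ j, p' j ≫ f (α j) = f' j ≫ p) : PointDesc (pullDDFam w) p α p' where
  w := w
  θ D k T x := liftsPullbackEquiv (D.obj (α k)) (p' k) x
  nat D k T T' g x y hy v v' hv := by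
    simp only [liftsPullbackEquiv, Equiv.coe_fn_mk]
    rw [hv, Category.assoc]
  compat D T k l x₀ x₁ h h' v := by
    change liftsPullbackEquiv (D.obj (α l)) (p' l) x₁
      ((liftsPullbackEquiv (D.obj (α l)) (p' l) x₁).symm _) = _
    rw [Equiv.apply_symm_apply]
    rfl
  map {D D'} a k T x v := by
    apply Subtype.ext
    simp [liftsPullbackEquiv, pullDDFam, push_val]

/-- The identity functor is point-described by the identity morphism of families. -/
def PointDesc.id : PointDesc (𝟭 (SchDDFam f)) (𝟙 S) (fun i => i) (fun i => 𝟙 (X i)) where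
  w k := by simp
  θ D k T x := liftsCongr (D.obj k) (Category.comp_id x).symm
  nat D k T T' g x y hy v v' hv := hv
  compat D T k l x₀ x₁ h h' v :=
    (φ_congr D (Category.comp_id x₀).symm (Category.comp_id x₁).symm h h' v).symm
  map {D D'} a k T x v := rfl

/-- A composite of point-described functors is point-described by the composite morphism of
families. -/
def PointDesc.comp {Φ : SchDDFam f ⥤ SchDDFam f'} {Ψ : SchDDFam f' ⥤ SchDDFam f''}
    {p : S' ⟶ S} {q : S'' ⟶ S'} {γ : ι' → ι} {δ : ι'' → ι'} {r' : ∀ k, X' k ⟶ X (γ k)}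
    {s' : ∀ k, X'' k ⟶ X' (δ k)} (P : PointDesc Φ p γ r') (Q : PointDesc Ψ q δ s') :
    PointDesc (Φ ⋙ Ψ) (q ≫ p) (fun k => γ (δ k)) (fun k => s' k ≫ r' (δ k)) where
  w k := by rw [Category.assoc, P.w, ← Category.assoc, Q.w, Category.assoc]
  θ D k T x := (Q.θ (Φ.obj D) k x).trans ((P.θ D (δ k) (x ≫ s' k)).trans
    (liftsCongr (D.obj (γ (δ k))) (Category.assoc _ _ _)))
  nat D k T T' g x y hy v v' hv := by
    simp only [Equiv.trans_apply, liftsCongr_val]
    refine P.nat D (δ k) g (x ≫ s' k) (y ≫ s' k) (by rw [← hy, Category.assoc]) _ _ ?_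
    exact Q.nat (Φ.obj D) k g x y hy v v' hv
  compat D T k l x₀ x₁ h h' v := by
    simp only [Equiv.trans_apply, Functor.comp_obj]
    rw [Q.compat (Φ.obj D) x₀ x₁ h (Q.base_eq x₀ x₁ h),
      P.compat D (x₀ ≫ s' k) (x₁ ≫ s' l) (Q.base_eq x₀ x₁ h)
        (P.base_eq _ _ (Q.base_eq x₀ x₁ h))]
    exact (φ_congr D (Category.assoc _ _ _) (Category.assoc _ _ _) _ h' _).symm
  map {D D'} a k T x v := by
    have h1 := Q.map (Φ.map a) k x v
    have h2 := P.map a (δ k) (x ≫ s' k) (Q.θ (Φ.obj D) k x v)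
    apply Subtype.ext
    change (P.θ D' (δ k) (x ≫ s' k)
      (Q.θ (Φ.obj D') k x (SchDDFam.Hom.push (Ψ.map (Φ.map a)) v))).1 = _
    rw [h1]
    exact congrArg Subtype.val h2

/-- Change of the base map of a point description along an equality. -/
def PointDesc.ofEq {Φ : SchDDFam f ⥤ SchDDFam f'} {p p₂ : S' ⟶ S} {γ : ι' → ι}
    {r' : ∀ k, X' k ⟶ X (γ k)} (P : PointDesc Φ p γ r') (hp : p = p₂) : PointDesc Φ p₂ γ r' := by
  subst hp
  exact P

end Instances

end Groth.Agent.Lib.Helper51.DescFam
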