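import Groth.Agent.Lib.Helper51.DescFam
import Groth.Agent.Lib.Helper26.DDFamFF

/-!
# Pullback of descent data is fully faithful when points lift locally (helper51)

For a morphism of families `(α, g)` from `fU : U i ⟶ S` to `fV : V j ⟶ S` over the identity of
`S`, if every point of every `V j` has, fpqc locally, the same image in `S` as a point of some
`U i`, then the pullback functor on descent data for schemes is full and faithful.
-/

set_option autoImplicit false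
set_option backward.isDefEq.respectTransparency false
set_option backward.isDefEq.respectTransparency.types false

universe u

open CategoryTheory CategoryTheory.Limits AlgebraicGeometry

namespace Groth.Agent.Lib.Helper51.DescFam

open Desc

/-- Morphisms out of `T` are determined on an fpqc covering family. -/
lemma hom_ext_of_cover {T : Scheme.{u}} {A : Type u} {C : A → Scheme.{u}} (c : ∀ a, C a ⟶ T)
    (hc : Presieve.ofArrows C c ∈ Scheme.fpqcPrecoverage T) {Z : Scheme.{u}} (s t : T ⟶ Z)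
    (h : ∀ a, c a ≫ s = c a ≫ t) : s = t := by
  obtain ⟨g₀, -, huniq⟩ := Groth.Agent.Lib.Helper26.DDFamFF.existsUnique_glue c hc Z
    (fun a => c a ≫ s) (by
      intro a a' W gi gj hg
      rw [← Category.assoc, ← Category.assoc, hg])
  rw [huniq s (fun a => rfl), huniq t (fun a => (h a).symm)]

/-- The base change of an fpqc covering family along a morphism. -/
lemma pullback_cover_mem {T T' : Scheme.{u}} {A : Type u} {C : A → Scheme.{u}} (c : ∀ a, C a ⟶ T)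
    (hc : Presieve.ofArrows C c ∈ Scheme.fpqcPrecoverage T) (k : T' ⟶ T) :
    Presieve.ofArrows (fun a => pullback k (c a)) (fun a => pullback.fst k (c a)) ∈
      Scheme.fpqcPrecoverage T' :=
  Precoverage.mem_coverings_of_isPullback c hc k _ (fun a => pullback.snd k (c a))
    (fun a => IsPullback.of_hasPullback k (c a))

section

variable {S : Scheme.{u}} {ι κ : Type u} {U : ι → Scheme.{u}} {V : κ → Scheme.{u}}
  {fU : ∀ i, U i ⟶ S} {fV : ∀ j, V j ⟶ S} {α : ι → κ} {g : ∀ i, U i ⟶ V (α i)}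
  (w : ∀ i, g i ≫ fV (α i) = fU i ≫ 𝟙 S)

/-- Every point of every `V j` has, fpqc locally, the same image in `S` as a point of some
`U i`. -/
def LocLift (fV : ∀ j, V j ⟶ S) (g : ∀ i, U i ⟶ V (α i)) : Prop :=
  ∀ (j : κ) ⦃T : Scheme.{u}⦄ (y : T ⟶ V j), ∃ (A : Type u) (C : A → Scheme.{u})
    (c : ∀ a, C a ⟶ T), Presieve.ofArrows C c ∈ Scheme.fpqcPrecoverage T ∧
      ∀ a, ∃ (i : ι) (x : C a ⟶ U i), (x ≫ g i) ≫ fV (α i) = (c a ≫ y) ≫ fV j

variable {D D' : SchDDFam fV}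

include w in
theorem fU_eq {T : Scheme.{u}} {i i' : ι} (x₀ : T ⟶ U i) (x₁ : T ⟶ U i')
    (h' : (x₀ ≫ g i) ≫ fV (α i) = (x₁ ≫ g i') ≫ fV (α i')) : x₀ ≫ fU i = x₁ ≫ fU i' := by
  have e : ∀ (i : ι) (x : T ⟶ U i), (x ≫ g i) ≫ fV (α i) = x ≫ fU i := by
    intro i x
    rw [Category.assoc, w, Category.comp_id]
  rw [← e, ← e, h']

/-- The action of a morphism `b` between pulled back descent data on the points over
`x ≫ g i`. -/
noncomputable def loc (b : (pullDDFam w).obj D ⟶ (pullDDFam w).obj D') (i : ι) {T : Scheme.{u}}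
    (x : T ⟶ U i) (d : Lifts (D.obj (α i)) (x ≫ g i)) : Lifts (D'.obj (α i)) (x ≫ g i) :=
  (PointDesc.pull w).θ D' i x
    (SchDDFam.Hom.push b (((PointDesc.pull w).θ D i x).symm d))

theorem loc_nat (b : (pullDDFam w).obj D ⟶ (pullDDFam w).obj D') (i : ι) {T T' : Scheme.{u}}
    (k : T' ⟶ T) (x : T ⟶ U i) (x' : T' ⟶ U i) (hx : k ≫ x = x')
    (d : Lifts (D.obj (α i)) (x ≫ g i)) (d' : Lifts (D.obj (α i)) (x' ≫ g i))
    (hd : d'.1 = k ≫ d.1) : (loc w b i x' d').1 = k ≫ (loc w b i x d).1 := by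
  refine (PointDesc.pull w).nat D' i k x x' hx _ _ ?_
  rw [push_val, push_val, ← Category.assoc]
  congr 1
  exact (PointDesc.pull w).nat_symm D i k x x' hx d d' hd

theorem loc_φ (b : (pullDDFam w).obj D ⟶ (pullDDFam w).obj D') {T : Scheme.{u}} {i i' : ι}
    (x₀ : T ⟶ U i) (x₁ : T ⟶ U i')
    (h' : (x₀ ≫ g i) ≫ fV (α i) = (x₁ ≫ g i') ≫ fV (α i'))
    (d : Lifts (D.obj (α i)) (x₀ ≫ g i)) :
    D'.φ (x₀ ≫ g i) (x₁ ≫ g i') h' (loc w b i x₀ d) =
      loc w b i' x₁ (D.φ (x₀ ≫ g i) (x₁ ≫ g i') h' d) := by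
  have h := fU_eq w x₀ x₁ h'
  have e1 := (PointDesc.pull w).compat D' x₀ x₁ h h'
    (SchDDFam.Hom.push b (((PointDesc.pull w).θ D i x₀).symm d))
  have e2 := (PointDesc.pull w).compat D x₀ x₁ h h' (((PointDesc.pull w).θ D i x₀).symm d)
  rw [Equiv.apply_symm_apply] at e2
  rw [comm_push] at e1
  unfold loc
  rw [← e1, ← e2, Equiv.symm_apply_apply]

/-- The value at a point `d` over `y` forced by `b`, computed through a point `x` of `U i` with
the same image in `S` as `y`. -/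
noncomputable def piece (b : (pullDDFam w).obj D ⟶ (pullDDFam w).obj D') (i : ι) {T : Scheme.{u}}
    (x : T ⟶ U i) {j : κ} (y : T ⟶ V j) (hS : (x ≫ g i) ≫ fV (α i) = y ≫ fV j)
    (d : Lifts (D.obj j) y) : Lifts (D'.obj j) y :=
  D'.φ (x ≫ g i) y hS (loc w b i x (D.φ y (x ≫ g i) hS.symm d))

theorem piece_indep (b : (pullDDFam w).obj D ⟶ (pullDDFam w).obj D') {T : Scheme.{u}} {i₁ i₂ : ι}
    (x₁ : T ⟶ U i₁) (x₂ : T ⟶ U i₂) {j : κ} (y : T ⟶ V j)
    (hS₁ : (x₁ ≫ g i₁) ≫ fV (α i₁) = y ≫ fV j) (hS₂ : (x₂ ≫ g i₂) ≫ fV (α i₂) = y ≫ fV j)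
    (d : Lifts (D.obj j) y) : piece w b i₁ x₁ y hS₁ d = piece w b i₂ x₂ y hS₂ d := by
  unfold piece
  have h12 : (x₁ ≫ g i₁) ≫ fV (α i₁) = (x₂ ≫ g i₂) ≫ fV (α i₂) := hS₁.trans hS₂.symm
  have e1 : D.φ y (x₂ ≫ g i₂) hS₂.symm d =
      D.φ (x₁ ≫ g i₁) (x₂ ≫ g i₂) h12 (D.φ y (x₁ ≫ g i₁) hS₁.symm d) := by
    rw [D.φ_comp]
  rw [e1, ← loc_φ w b x₁ x₂ h12, D'.φ_comp]

theorem piece_nat (b : (pullDDFam w).obj D ⟶ (pullDDFam w).obj D') (i : ι) {T T' : Scheme.{u}}
    (k : T' ⟶ T) (x : T ⟶ U i) (x' : T' ⟶ U i) (hx : k ≫ x = x') {j : κ} (y : T ⟶ V j)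
    (y' : T' ⟶ V j) (hy : k ≫ y = y') (hS : (x ≫ g i) ≫ fV (α i) = y ≫ fV j)
    (hS' : (x' ≫ g i) ≫ fV (α i) = y' ≫ fV j) (d : Lifts (D.obj j) y) (d' : Lifts (D.obj j) y')
    (hd : d'.1 = k ≫ d.1) : (piece w b i x' y' hS' d').1 = k ≫ (piece w b i x y hS d).1 := by
  unfold piece
  have hxg : k ≫ x ≫ g i = x' ≫ g i := by rw [← hx, Category.assoc]
  refine φ_nat D' k _ _ hS _ _ hxg hy hS' _ _ ?_
  refine loc_nat w b i k x x' hx _ _ ?_
  exact φ_nat D k _ _ hS.symm _ _ hy hxg hS'.symm d d' hd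

theorem piece_self (b : (pullDDFam w).obj D ⟶ (pullDDFam w).obj D') (i : ι) {T : Scheme.{u}}
    (x : T ⟶ U i) (d : Lifts (D.obj (α i)) (x ≫ g i)) :
    piece w b i x (x ≫ g i) rfl d = loc w b i x d := by
  unfold piece
  rw [D.φ_self, D'.φ_self]

theorem piece_φ (b : (pullDDFam w).obj D ⟶ (pullDDFam w).obj D') (i : ι) {T : Scheme.{u}}
    (x : T ⟶ U i) {j₀ j₁ : κ} (y₀ : T ⟶ V j₀) (y₁ : T ⟶ V j₁) (h : y₀ ≫ fV j₀ = y₁ ≫ fV j₁)
    (hS₀ : (x ≫ g i) ≫ fV (α i) = y₀ ≫ fV j₀) (hS₁ : (x ≫ g i) ≫ fV (α i) = y₁ ≫ fV j₁)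
    (d : Lifts (D.obj j₀) y₀) :
    D'.φ y₀ y₁ h (piece w b i x y₀ hS₀ d) = piece w b i x y₁ hS₁ (D.φ y₀ y₁ h d) := by
  unfold piece
  rw [D'.φ_comp, D.φ_comp]


/-- Restriction of a point along `k`. -/
def restr (E : SchDDFam fV) {j : κ} {T T' : Scheme.{u}} (k : T' ⟶ T) {y : T ⟶ V j}
    (d : Lifts (E.obj j) y) : Lifts (E.obj j) (k ≫ y) :=
  ⟨k ≫ d.1, by rw [Category.assoc, d.2]⟩

theorem restr_val (E : SchDDFam fV) {j : κ} {T T' : Scheme.{u}} (k : T' ⟶ T) {y : T ⟶ V j}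
    (d : Lifts (E.obj j) y) : (restr E k d).1 = k ≫ d.1 := rfl

theorem piece_congr (b : (pullDDFam w).obj D ⟶ (pullDDFam w).obj D') (i : ι) {T : Scheme.{u}}
    (x : T ⟶ U i) {j : κ} (y y₂ : T ⟶ V j) (hy : y = y₂)
    (hS : (x ≫ g i) ≫ fV (α i) = y ≫ fV j) (hS₂ : (x ≫ g i) ≫ fV (α i) = y₂ ≫ fV j)
    (d : Lifts (D.obj j) y) (d₂ : Lifts (D.obj j) y₂) (hd : d.1 = d₂.1) :
    (piece w b i x y hS d).1 = (piece w b i x y₂ hS₂ d₂).1 := by
  subst hy
  have e : d = d₂ := Subtype.ext hd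
  subst e
  rfl

/-- `e` is the value at `d` of the morphism glued from `b`: on every test scheme over which `y`
has the same image in `S` as a point of some `U i`, it is given by `piece`. -/
def IsGlue (b : (pullDDFam w).obj D ⟶ (pullDDFam w).obj D') {j : κ} {T : Scheme.{u}}
    (y : T ⟶ V j) (d : Lifts (D.obj j) y) (e : Lifts (D'.obj j) y) : Prop :=
  ∀ ⦃T' : Scheme.{u}⦄ (k : T' ⟶ T) (i : ι) (x : T' ⟶ U i)
    (hS : (x ≫ g i) ≫ fV (α i) = (k ≫ y) ≫ fV j),
    k ≫ e.1 = (piece w b i x (k ≫ y) hS (restr D k d)).1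

theorem isGlue_unique (hL : LocLift fV g) (b : (pullDDFam w).obj D ⟶ (pullDDFam w).obj D')
    {j : κ} {T : Scheme.{u}} (y : T ⟶ V j) (d : Lifts (D.obj j) y) (e e₂ : Lifts (D'.obj j) y)
    (he : IsGlue w b y d e) (he₂ : IsGlue w b y d e₂) : e = e₂ := by
  obtain ⟨A, C, c, hc, hx⟩ := hL j y
  apply Subtype.ext
  refine hom_ext_of_cover c hc _ _ (fun a => ?_)
  obtain ⟨i, x, hS⟩ := hx a
  rw [he (c a) i x hS, he₂ (c a) i x hS]

/-- A point which is given by `piece` on a covering family is a glued value. -/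
theorem isGlue_of_cover (b : (pullDDFam w).obj D ⟶ (pullDDFam w).obj D')
    {j : κ} {T : Scheme.{u}} (y : T ⟶ V j) (d : Lifts (D.obj j) y) (e : Lifts (D'.obj j) y)
    {A : Type u} {C : A → Scheme.{u}} (c : ∀ a, C a ⟶ T)
    (hc : Presieve.ofArrows C c ∈ Scheme.fpqcPrecoverage T) (i : A → ι) (x : ∀ a, C a ⟶ U (i a))
    (hS : ∀ a, (x a ≫ g (i a)) ≫ fV (α (i a)) = (c a ≫ y) ≫ fV j)
    (he : ∀ a, c a ≫ e.1 = (piece w b (i a) (x a) (c a ≫ y) (hS a) (restr D (c a) d)).1) :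
    IsGlue w b y d e := by
  intro T' k i' x' hS'
  refine hom_ext_of_cover (fun a => pullback.fst k (c a)) (pullback_cover_mem c hc k) _ _
    (fun a => ?_)
  -- the common base point and the common point of `D`
  have hy₁ : pullback.snd k (c a) ≫ (c a ≫ y) = (pullback.fst k (c a) ≫ k) ≫ y := by
    rw [← Category.assoc, ← pullback.condition]
  have hy₂ : pullback.fst k (c a) ≫ (k ≫ y) = (pullback.fst k (c a) ≫ k) ≫ y :=
    (Category.assoc _ _ _).symm
  have hS₁ : ((pullback.snd k (c a) ≫ x a) ≫ g (i a)) ≫ fV (α (i a)) =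
      ((pullback.fst k (c a) ≫ k) ≫ y) ≫ fV j := by
    rw [← hy₁, Category.assoc, Category.assoc, Category.assoc, ← Category.assoc (x a), hS a]
  have hS₂ : ((pullback.fst k (c a) ≫ x') ≫ g i') ≫ fV (α i') =
      ((pullback.fst k (c a) ≫ k) ≫ y) ≫ fV j := by
    rw [← hy₂, Category.assoc, Category.assoc, Category.assoc, ← Category.assoc x', hS']
  have e₁ := piece_nat w b (i a) (pullback.snd k (c a)) (x a) (pullback.snd k (c a) ≫ x a) rfl
    (c a ≫ y) ((pullback.fst k (c a) ≫ k) ≫ y) hy₁ (hS a) hS₁ (restr D (c a) d)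
    (restr D (pullback.fst k (c a) ≫ k) d) (by
      rw [restr_val, restr_val, pullback.condition, Category.assoc])
  have e₂ := piece_nat w b i' (pullback.fst k (c a)) x' (pullback.fst k (c a) ≫ x') rfl
    (k ≫ y) ((pullback.fst k (c a) ≫ k) ≫ y) hy₂ hS' hS₂ (restr D k d)
    (restr D (pullback.fst k (c a) ≫ k) d) (by
      rw [restr_val, restr_val, Category.assoc])
  have e₃ : (pullback.fst k (c a) ≫ k) ≫ e.1 = pullback.snd k (c a) ≫
      (piece w b (i a) (x a) (c a ≫ y) (hS a) (restr D (c a) d)).1 := by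
    rw [pullback.condition, Category.assoc, he a]
  rw [← e₂, ← Category.assoc]
  refine e₃.trans (e₁.symm.trans ?_)
  exact congrArg Subtype.val (piece_indep w b _ _ _ hS₁ hS₂ _)

theorem exists_isGlue (hL : LocLift fV g) (b : (pullDDFam w).obj D ⟶ (pullDDFam w).obj D')
    {j : κ} {T : Scheme.{u}} (y : T ⟶ V j) (d : Lifts (D.obj j) y) :
    ∃ e : Lifts (D'.obj j) y, IsGlue w b y d e := by
  obtain ⟨A, C, c, hc, hx⟩ := hL j y
  choose i x hS using hx
  obtain ⟨e₀, he₀, -⟩ := Groth.Agent.Lib.Helper26.DDFamFF.existsUnique_glue c hc (D'.obj j).left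
    (fun a => (piece w b (i a) (x a) (c a ≫ y) (hS a) (restr D (c a) d)).1) (by
      intro a a₂ W ga ga₂ hg
      have hy₁ : ga ≫ (c a ≫ y) = (ga ≫ c a) ≫ y := (Category.assoc _ _ _).symm
      have hy₂ : ga₂ ≫ (c a₂ ≫ y) = (ga ≫ c a) ≫ y := by
        rw [hg, Category.assoc]
      have hS₁ : ((ga ≫ x a) ≫ g (i a)) ≫ fV (α (i a)) = ((ga ≫ c a) ≫ y) ≫ fV j := by
        rw [← hy₁, Category.assoc, Category.assoc, Category.assoc, ← Category.assoc (x a), hS a]
      have hS₂ : ((ga₂ ≫ x a₂) ≫ g (i a₂)) ≫ fV (α (i a₂)) = ((ga ≫ c a) ≫ y) ≫ fV j := by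
        rw [← hy₂, Category.assoc, Category.assoc, Category.assoc, ← Category.assoc (x a₂),
          hS a₂]
      have e₁ := piece_nat w b (i a) ga (x a) (ga ≫ x a) rfl (c a ≫ y) ((ga ≫ c a) ≫ y) hy₁
        (hS a) hS₁ (restr D (c a) d) (restr D (ga ≫ c a) d) (by
          rw [restr_val, restr_val, Category.assoc])
      have e₂ := piece_nat w b (i a₂) ga₂ (x a₂) (ga₂ ≫ x a₂) rfl (c a₂ ≫ y) ((ga ≫ c a) ≫ y)
        hy₂ (hS a₂) hS₂ (restr D (c a₂) d) (restr D (ga ≫ c a) d) (by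
          rw [restr_val, restr_val, hg, Category.assoc])
      rw [← e₁, ← e₂]
      exact congrArg Subtype.val (piece_indep w b _ _ _ hS₁ hS₂ _))
  have he₀' : e₀ ≫ (D'.obj j).hom = y := by
    refine hom_ext_of_cover c hc _ _ (fun a => ?_)
    rw [← Category.assoc, he₀ a]
    exact (piece w b (i a) (x a) (c a ≫ y) (hS a) (restr D (c a) d)).2
  exact ⟨⟨e₀, he₀'⟩, isGlue_of_cover w b y d ⟨e₀, he₀'⟩ c hc i x hS he₀⟩

/-- The value at `d` of the morphism glued from `b`. -/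
noncomputable def glueMap (hL : LocLift fV g) (b : (pullDDFam w).obj D ⟶ (pullDDFam w).obj D')
    (j : κ) ⦃T : Scheme.{u}⦄ (y : T ⟶ V j) (d : Lifts (D.obj j) y) : Lifts (D'.obj j) y :=
  (exists_isGlue w hL b y d).choose

theorem glueMap_spec (hL : LocLift fV g) (b : (pullDDFam w).obj D ⟶ (pullDDFam w).obj D')
    (j : κ) {T : Scheme.{u}} (y : T ⟶ V j) (d : Lifts (D.obj j) y) :
    IsGlue w b y d (glueMap w hL b j y d) :=
  (exists_isGlue w hL b y d).choose_spec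

theorem glueMap_nat (hL : LocLift fV g) (b : (pullDDFam w).obj D ⟶ (pullDDFam w).obj D')
    (j : κ) : IsNatLifts (fun T y d => glueMap w hL b j y d) := by
  intro T T' k y y' hy d d' hd
  subst hy
  have hd' : d' = restr D k d := Subtype.ext hd
  subst hd'
  have hk : (k ≫ (glueMap w hL b j y d).1) ≫ (D'.obj j).hom = k ≫ y := by
    rw [Category.assoc, (glueMap w hL b j y d).2]
  have key : IsGlue w b (k ≫ y) (restr D k d) ⟨k ≫ (glueMap w hL b j y d).1, hk⟩ := by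
    intro T'' k' i x hS
    have hS' : (x ≫ g i) ≫ fV (α i) = ((k' ≫ k) ≫ y) ≫ fV j := by
      rw [hS, Category.assoc k' k y]
    have h1 := glueMap_spec w hL b j y d (k' ≫ k) i x hS'
    change k' ≫ k ≫ (glueMap w hL b j y d).1 = _
    rw [← Category.assoc, h1]
    exact piece_congr w b i x _ _ (Category.assoc _ _ _) hS' hS _ _
      (by rw [restr_val, restr_val, restr_val, Category.assoc])
  exact congrArg Subtype.val
    (isGlue_unique w hL b (k ≫ y) (restr D k d) _ _ (glueMap_spec w hL b j (k ≫ y) _) key)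

theorem glueMap_φ (hL : LocLift fV g) (b : (pullDDFam w).obj D ⟶ (pullDDFam w).obj D')
    {T : Scheme.{u}} {j₀ j₁ : κ} (y₀ : T ⟶ V j₀) (y₁ : T ⟶ V j₁) (h : y₀ ≫ fV j₀ = y₁ ≫ fV j₁)
    (d : Lifts (D.obj j₀) y₀) :
    D'.φ y₀ y₁ h (glueMap w hL b j₀ y₀ d) = glueMap w hL b j₁ y₁ (D.φ y₀ y₁ h d) := by
  refine isGlue_unique w hL b y₁ (D.φ y₀ y₁ h d) _ _ ?_ (glueMap_spec w hL b j₁ y₁ _)
  intro T' k i x hS
  have hk : (k ≫ y₀) ≫ fV j₀ = (k ≫ y₁) ≫ fV j₁ := by
    rw [Category.assoc, h, Category.assoc]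
  have hS₀ : (x ≫ g i) ≫ fV (α i) = (k ≫ y₀) ≫ fV j₀ := hS.trans hk.symm
  have e₁ : restr D' k (glueMap w hL b j₀ y₀ d) =
      piece w b i x (k ≫ y₀) hS₀ (restr D k d) :=
    Subtype.ext (glueMap_spec w hL b j₀ y₀ d k i x hS₀)
  have e₂ : D.φ (k ≫ y₀) (k ≫ y₁) hk (restr D k d) = restr D k (D.φ y₀ y₁ h d) :=
    Subtype.ext (φ_nat D k y₀ y₁ h _ _ rfl rfl hk d (restr D k d) rfl)
  have e₃ : (D'.φ (k ≫ y₀) (k ≫ y₁) hk (restr D' k (glueMap w hL b j₀ y₀ d))).1 =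
      k ≫ (D'.φ y₀ y₁ h (glueMap w hL b j₀ y₀ d)).1 :=
    φ_nat D' k y₀ y₁ h _ _ rfl rfl hk _ _ rfl
  rw [← e₃, e₁, piece_φ w b i x (k ≫ y₀) (k ≫ y₁) hk hS₀ hS, e₂]

theorem glueMap_eq_loc (hL : LocLift fV g) (b : (pullDDFam w).obj D ⟶ (pullDDFam w).obj D')
    (i : ι) {T : Scheme.{u}} (x : T ⟶ U i) (d : Lifts (D.obj (α i)) (x ≫ g i)) :
    glueMap w hL b (α i) (x ≫ g i) d = loc w b i x d := by
  apply Subtype.ext
  have hS : (x ≫ g i) ≫ fV (α i) = (𝟙 T ≫ x ≫ g i) ≫ fV (α i) := by rw [Category.id_comp]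
  have h1 := glueMap_spec w hL b (α i) (x ≫ g i) d (𝟙 T) i x hS
  rw [Category.id_comp] at h1
  rw [h1, ← piece_self w b i x d]
  exact piece_congr w b i x _ _ (Category.id_comp _) hS rfl _ _
    (by rw [restr_val, Category.id_comp])

include w in
theorem full_of_locLift (hL : LocLift fV g) : (pullDDFam w).Full := by
  refine ⟨fun {D D'} b => ?_⟩
  refine ⟨homMkLifts D D' (fun j T y d => glueMap w hL b j y d) (fun j => glueMap_nat w hL b j)
    (fun T j₀ j₁ y₀ y₁ h d => glueMap_φ w hL b y₀ y₁ h d), ?_⟩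
  apply hom_ext_push
  intro i v
  apply ((PointDesc.pull w).θ D' i _).injective
  rw [(PointDesc.pull w).map, homMkLifts_push, glueMap_eq_loc]
  unfold loc
  rw [Equiv.symm_apply_apply]

include w in
theorem faithful_of_locLift (hL : LocLift fV g) : (pullDDFam w).Faithful := by
  refine ⟨fun {D D'} m n hmn => ?_⟩
  apply hom_ext_push
  intro j v
  obtain ⟨A, C, c, hc, hx⟩ := hL j (D.obj j).hom
  apply Subtype.ext
  refine hom_ext_of_cover c hc _ _ (fun a => ?_)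
  obtain ⟨i, x, hS⟩ := hx a
  have key : ∀ d₂ : Lifts (D.obj (α i)) (x ≫ g i),
      SchDDFam.Hom.push m d₂ = SchDDFam.Hom.push n d₂ := by
    intro d₂
    have e1 := (PointDesc.pull w).map m i x (((PointDesc.pull w).θ D i x).symm d₂)
    have e2 := (PointDesc.pull w).map n i x (((PointDesc.pull w).θ D i x).symm d₂)
    rw [Equiv.apply_symm_apply] at e1 e2
    rw [← e1, ← e2, hmn]
  have hd : D.φ (x ≫ g i) (c a ≫ (D.obj j).hom) hS
      (D.φ (c a ≫ (D.obj j).hom) (x ≫ g i) hS.symm (restr D (c a) v)) = restr D (c a) v := by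
    rw [D.φ_comp, D.φ_self]
  have e3 : SchDDFam.Hom.push m (restr D (c a) v) = SchDDFam.Hom.push n (restr D (c a) v) := by
    rw [← hd, ← comm_push m, ← comm_push n, key]
  have e4 := congrArg Subtype.val e3
  rw [push_val, push_val, restr_val, Category.assoc, Category.assoc] at e4
  rw [push_val, push_val]
  exact e4


include w in
/-- If the `U i` form an fpqc covering family of `S`, then points lift locally. -/
theorem locLift_of_cover (hU : Presieve.ofArrows U fU ∈ Scheme.fpqcPrecoverage S) :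
    LocLift fV g := by
  intro j T y
  refine ⟨ι, fun i => pullback (fU i) (y ≫ fV j), fun i => pullback.snd (fU i) (y ≫ fV j),
    Groth.Agent.Lib.Helper26.DDFamFF.snd_mem fU hU (Over.mk (y ≫ fV j)), fun i => ?_⟩
  refine ⟨i, pullback.fst (fU i) (y ≫ fV j), ?_⟩
  rw [Category.assoc, w, Category.comp_id, pullback.condition, Category.assoc]

/-- If, for each `j`, the `g i` with `α i = j` form an fpqc covering family of `V j`, then points
lift locally. -/
theorem locLift_of_refinement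
    (hcov : ∀ j, Presieve.ofArrows (fun i : {i // α i = j} => U i.1)
      (fun i => g i.1 ≫ eqToHom (congrArg V i.2)) ∈ Scheme.fpqcPrecoverage (V j)) :
    LocLift fV g := by
  intro j T y
  refine ⟨{i // α i = j}, _, _, pullback_cover_mem _ (hcov j) y, ?_⟩
  rintro ⟨i, rfl⟩
  refine ⟨i, pullback.snd y (g i ≫ eqToHom rfl), ?_⟩
  have h := pullback.condition (f := y) (g := g i ≫ eqToHom rfl)
  have h2 : pullback.snd y (g i ≫ eqToHom rfl) ≫ g i =
      pullback.fst y (g i ≫ eqToHom rfl) ≫ y := by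
    rw [h, eqToHom_refl, Category.comp_id]
  exact congrArg (· ≫ fV (α i)) h2

end

end Groth.Agent.Lib.Helper51.DescFam
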