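import Groth.Agent.Lib.Helper51.DescFamFF
import Groth.Agent.Lib.Helper51.AlgSpBasic

/-!
# The sheaf of sections of a descent datum (helper51)

For a descent datum `E` for schemes relative to a family `fU i : U i ⟶ S` and a scheme `t : T ⟶ S`
over `S`, a section of `E` over `T` is a family of points of the `E.obj i` over all the points of
`U i ×_S T`, natural and compatible with the gluing bijections (equivalently, a morphism of
descent data from the canonical descent datum of `T` to `E`).  Sections form an fppf sheaf on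
schemes over any `Y ⟶ S`; the points of `E.obj i` over `x : T ⟶ U i` are the sections of `E` over
`x ≫ fU i`.
-/

set_option autoImplicit false
set_option backward.isDefEq.respectTransparency false
set_option backward.isDefEq.respectTransparency.types false

universe u

open CategoryTheory CategoryTheory.Limits AlgebraicGeometry Opposite

namespace Groth.Agent.Lib.Helper51.DescSec

open Desc Groth.Agent.Lib.Helper51.DescFam

variable {S : Scheme.{u}} {ι : Type u} {U : ι → Scheme.{u}} {fU : ∀ i, U i ⟶ S}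

/-- A section over `t : T ⟶ S` of the descent datum `E`. -/
structure Sec (E : SchDDFam fU) {T : Scheme.{u}} (t : T ⟶ S) : Type (u + 1) where
  /-- the point of `E.obj i` over `x` attached to a point `(x, k)` of `U i ×_S T` -/
  val : ∀ (i : ι) ⦃Z : Scheme.{u}⦄ (x : Z ⟶ U i) (k : Z ⟶ T), x ≫ fU i = k ≫ t →
    Lifts (E.obj i) x
  nat : ∀ (i : ι) ⦃Z Z' : Scheme.{u}⦄ (m : Z' ⟶ Z) (x : Z ⟶ U i) (k : Z ⟶ T)
    (h : x ≫ fU i = k ≫ t) (x' : Z' ⟶ U i) (k' : Z' ⟶ T) (h' : x' ≫ fU i = k' ≫ t),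
    m ≫ x = x' → m ≫ k = k' → (val i x' k' h').1 = m ≫ (val i x k h).1
  compat : ∀ ⦃i i' : ι⦄ ⦃Z : Scheme.{u}⦄ (x₀ : Z ⟶ U i) (x₁ : Z ⟶ U i') (k : Z ⟶ T)
    (h₀ : x₀ ≫ fU i = k ≫ t) (h₁ : x₁ ≫ fU i' = k ≫ t),
    E.φ x₀ x₁ (h₀.trans h₁.symm) (val i x₀ k h₀) = val i' x₁ k h₁

namespace Sec

variable {E : SchDDFam fU} {T : Scheme.{u}} {t : T ⟶ S}

theorem ext' {a b : Sec E t}
    (h : ∀ (i : ι) ⦃Z : Scheme.{u}⦄ (x : Z ⟶ U i) (k : Z ⟶ T) (hk : x ≫ fU i = k ≫ t),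
      (a.val i x k hk).1 = (b.val i x k hk).1) : a = b := by
  cases a
  cases b
  congr
  funext i Z x k hk
  exact Subtype.ext (h i x k hk)

theorem val_congr (a : Sec E t) (i : ι) {Z : Scheme.{u}} {x x' : Z ⟶ U i} {k k' : Z ⟶ T}
    (hx : x = x') (hk : k = k') (h : x ≫ fU i = k ≫ t) (h' : x' ≫ fU i = k' ≫ t) :
    (a.val i x k h).1 = (a.val i x' k' h').1 := by
  subst hx hk
  rfl

/-- Restriction of a section along `r : T' ⟶ T`. -/
def res (a : Sec E t) {T' : Scheme.{u}} (r : T' ⟶ T) (t' : T' ⟶ S) (ht : r ≫ t = t') :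
    Sec E t' where
  val i Z x k h := a.val i x (k ≫ r) (by rw [h, ← ht, Category.assoc])
  nat i Z Z' m x k h x' k' h' hx hk :=
    a.nat i m x (k ≫ r) _ x' (k' ≫ r) _ hx (by rw [← hk, Category.assoc])
  compat i i' Z x₀ x₁ k h₀ h₁ := a.compat x₀ x₁ (k ≫ r) _ _

theorem res_val (a : Sec E t) {T' : Scheme.{u}} (r : T' ⟶ T) (t' : T' ⟶ S) (ht : r ≫ t = t')
    (i : ι) {Z : Scheme.{u}} (x : Z ⟶ U i) (k : Z ⟶ T') (h : x ≫ fU i = k ≫ t') :
    (a.res r t' ht).val i x k h = a.val i x (k ≫ r) (by rw [h, ← ht, Category.assoc]) := rfl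

/-- Transport of a section along an equality of structure morphisms. -/
def cast (a : Sec E t) {t' : T ⟶ S} (ht : t = t') : Sec E t' where
  val i Z x k h := a.val i x k (by rw [h, ht])
  nat i Z Z' m x k h x' k' h' hx hk := a.nat i m x k _ x' k' _ hx hk
  compat i i' Z x₀ x₁ k h₀ h₁ := a.compat x₀ x₁ k _ _

theorem cast_val (a : Sec E t) {t' : T ⟶ S} (ht : t = t')
    (i : ι) {Z : Scheme.{u}} (x : Z ⟶ U i) (k : Z ⟶ T) (h : x ≫ fU i = k ≫ t') :
    (a.cast ht).val i x k h = a.val i x k (by rw [h, ht]) := rfl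

theorem cast_cast (a : Sec E t) {t' t'' : T ⟶ S} (ht : t = t') (ht' : t' = t'') :
    (a.cast ht).cast ht' = a.cast (ht.trans ht') := rfl

theorem cast_rfl (a : Sec E t) : a.cast rfl = a := rfl

theorem res_cast (a : Sec E t) {t₁ : T ⟶ S} (ht : t = t₁) {T' : Scheme.{u}} (r : T' ⟶ T)
    (t' : T' ⟶ S) (ht' : r ≫ t₁ = t') :
    (a.cast ht).res r t' ht' = a.res r t' (by rw [ht, ht']) := rfl

theorem cast_res (a : Sec E t) {T' : Scheme.{u}} (r : T' ⟶ T) (t' t'' : T' ⟶ S)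
    (ht : r ≫ t = t') (ht' : t' = t'') :
    (a.res r t' ht).cast ht' = a.res r t'' (ht.trans ht') := rfl

theorem res_res (a : Sec E t) {T' T'' : Scheme.{u}} (r : T' ⟶ T) (t' : T' ⟶ S)
    (ht : r ≫ t = t') (r' : T'' ⟶ T') (t'' : T'' ⟶ S) (ht' : r' ≫ t' = t'') :
    (a.res r t' ht).res r' t'' ht' =
      a.res (r' ≫ r) t'' (by rw [Category.assoc, ht, ht']) := by
  apply ext'
  intro i Z x k hk
  exact a.val_congr i rfl (Category.assoc _ _ _).symm _ _

theorem res_id (a : Sec E t) : a.res (𝟙 T) t (Category.id_comp t) = a := by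
  apply ext'
  intro i Z x k hk
  exact a.val_congr i rfl (Category.comp_id _) _ _

theorem res_congr (a : Sec E t) {T' : Scheme.{u}} {r r' : T' ⟶ T} (hr : r = r') (t' : T' ⟶ S)
    (ht : r ≫ t = t') : a.res r t' ht = a.res r' t' (by rw [← hr, ht]) := by
  subst hr
  rfl

end Sec

/-- The section attached to a point of `E.obj i₀`. -/
def ofLift (E : SchDDFam fU) {i₀ : ι} {T : Scheme.{u}} (x₀ : T ⟶ U i₀)
    (e : Lifts (E.obj i₀) x₀) : Sec E (x₀ ≫ fU i₀) where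
  val i Z x k h := E.φ (k ≫ x₀) x (by rw [Category.assoc, ← h]) (restr E k e)
  nat i Z Z' m x k h x' k' h' hx hk := by
    refine φ_nat E m (k ≫ x₀) x _ (k' ≫ x₀) x' (by rw [← hk, Category.assoc]) hx _ _ _ ?_
    rw [restr_val, restr_val, ← hk, Category.assoc]
  compat i i' Z x₀' x₁ k h₀ h₁ := by rw [E.φ_comp]

/-- The point of `E.obj i₀` over `x₀` attached to a section over `x₀ ≫ fU i₀`. -/
def toLift (E : SchDDFam fU) {i₀ : ι} {T : Scheme.{u}} (x₀ : T ⟶ U i₀)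
    (a : Sec E (x₀ ≫ fU i₀)) : Lifts (E.obj i₀) x₀ :=
  a.val i₀ x₀ (𝟙 T) (Category.id_comp _).symm

theorem toLift_ofLift (E : SchDDFam fU) {i₀ : ι} {T : Scheme.{u}} (x₀ : T ⟶ U i₀)
    (e : Lifts (E.obj i₀) x₀) : toLift E x₀ (ofLift E x₀ e) = e := by
  apply Subtype.ext
  change (E.φ (𝟙 T ≫ x₀) x₀ _ (restr E (𝟙 T) e)).1 = e.1
  rw [φ_of_eq E (𝟙 T ≫ x₀) x₀ (Category.id_comp _)]
  rw [liftsCongr_val, restr_val, Category.id_comp]

theorem ofLift_toLift (E : SchDDFam fU) {i₀ : ι} {T : Scheme.{u}} (x₀ : T ⟶ U i₀)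
    (a : Sec E (x₀ ≫ fU i₀)) : ofLift E x₀ (toLift E x₀ a) = a := by
  apply Sec.ext'
  intro i Z x k hk
  have h0 : (k ≫ x₀) ≫ fU i₀ = k ≫ x₀ ≫ fU i₀ := Category.assoc _ _ _
  have h1 : restr E k (toLift E x₀ a) = a.val i₀ (k ≫ x₀) k h0 :=
    Subtype.ext (a.nat i₀ k x₀ (𝟙 T) _ (k ≫ x₀) k h0 rfl (Category.comp_id k)).symm
  change (E.φ (k ≫ x₀) x _ (restr E k (toLift E x₀ a))).1 = _
  rw [h1, a.compat (k ≫ x₀) x k h0 hk]

/-- The points of `E.obj i₀` over `x₀` are the sections of `E` over `x₀ ≫ fU i₀`. -/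
def secEquiv (E : SchDDFam fU) {i₀ : ι} {T : Scheme.{u}} (x₀ : T ⟶ U i₀) :
    Lifts (E.obj i₀) x₀ ≃ Sec E (x₀ ≫ fU i₀) where
  toFun := ofLift E x₀
  invFun := toLift E x₀
  left_inv := toLift_ofLift E x₀
  right_inv := ofLift_toLift E x₀

theorem ofLift_res (E : SchDDFam fU) {i₀ : ι} {T T' : Scheme.{u}} (r : T' ⟶ T) (x₀ : T ⟶ U i₀)
    (e : Lifts (E.obj i₀) x₀) :
    (ofLift E x₀ e).res r ((r ≫ x₀) ≫ fU i₀) (Category.assoc _ _ _).symm =
      ofLift E (r ≫ x₀) (restr E r e) := by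
  apply Sec.ext'
  intro i Z x k hk
  change (E.φ ((k ≫ r) ≫ x₀) x _ (restr E (k ≫ r) e)).1 =
    (E.φ (k ≫ r ≫ x₀) x _ (restr E k (restr E r e))).1
  have h1 := φ_congr E (Category.assoc k r x₀) (rfl : x = x)
    (by simp only [Category.assoc] at hk ⊢; exact hk.symm)
    (by simp only [Category.assoc] at hk ⊢; exact hk.symm) (restr E (k ≫ r) e)
  have h2 : liftsCongr (E.obj i₀) (Category.assoc k r x₀) (restr E (k ≫ r) e) =
      restr E k (restr E r e) := Subtype.ext (by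
    rw [liftsCongr_val, restr_val, restr_val, restr_val, Category.assoc])
  rw [h2] at h1
  rw [h1]
  rfl

end Groth.Agent.Lib.Helper51.DescSec
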