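import Groth.Agent.Lib.Helper51.DescSecZar
import Mathlib.AlgebraicGeometry.Sites.Fpqc

/-!
# Pullback of descent data along a Zariski refinement is an equivalence (helper51)
-/

set_option autoImplicit false
set_option backward.isDefEq.respectTransparency false
set_option backward.isDefEq.respectTransparency.types false

universe u

open CategoryTheory CategoryTheory.Limits AlgebraicGeometry Opposite

namespace Groth.Agent.Lib.Helper51.DescSec

open Desc Groth.Agent.Lib.Helper51.DescFam Groth.Agent.Lib.Helper51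

variable {S : Scheme.{u}} {ι κ : Type u} {U : ι → Scheme.{u}} {V : κ → Scheme.{u}}
  {fU : ∀ i, U i ⟶ S} {fV : ∀ j, V j ⟶ S} {α : ι → κ} {g : ∀ i, U i ⟶ V (α i)}
  (w : ∀ i, g i ≫ fV (α i) = fU i ≫ 𝟙 S)

include w in
theorem nonempty_secRep_of_zariski_refinement
    (hcov : ∀ j, Presieve.ofArrows (fun i : {i // α i = j} => U i.1)
      (fun i => g i.1 ≫ eqToHom (congrArg V i.2)) ∈ Scheme.zariskiPrecoverage (V j))
    (E : SchDDFam fU) : Nonempty (SecRep E fV) := by
  have H : ∀ j, ∃ (D : Over (V j))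
      (θ : ∀ ⦃T : Scheme.{u}⦄ (y : T ⟶ V j), Lifts D y ≃ Sec E (y ≫ fV j)),
      ∀ ⦃T T' : Scheme.{u}⦄ (k : T' ⟶ T) (y : T ⟶ V j) (y' : T' ⟶ V j) (hy : k ≫ y = y')
        (d : Lifts D y) (d' : Lifts D y'), d'.1 = k ≫ d.1 →
        θ y' d' = (θ y d).res k (y' ≫ fV j) (by rw [← hy, Category.assoc]) := by
    intro j
    have hc := (Scheme.ofArrows_mem_precoverage_iff (P := @IsOpenImmersion)).1 (hcov j)
    haveI : ∀ a : {i // α i = j}, IsOpenImmersion (g a.1 ≫ eqToHom (congrArg V a.2)) := hc.2
    exact exists_rep_of_zariski_cover E (fV j) (fun a : {i // α i = j} => a.1)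
      (fun a => g a.1 ≫ eqToHom (congrArg V a.2)) (by
        rintro ⟨i, rfl⟩
        rw [eqToHom_refl, Category.comp_id, w, Category.comp_id]) hc.1
  choose D θ hθ using H
  exact ⟨⟨D, θ, hθ⟩⟩

include w in
/-- Pullback of descent data along a Zariski refinement of families is an equivalence. -/
theorem isEquivalence_of_zariski_refinement
    (hcov : ∀ j, Presieve.ofArrows (fun i : {i // α i = j} => U i.1)
      (fun i => g i.1 ≫ eqToHom (congrArg V i.2)) ∈ Scheme.zariskiPrecoverage (V j)) :
    (pullDDFam w).IsEquivalence := by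
  have hcov' : ∀ j, Presieve.ofArrows (fun i : {i // α i = j} => U i.1)
      (fun i => g i.1 ≫ eqToHom (congrArg V i.2)) ∈ Scheme.fpqcPrecoverage (V j) :=
    fun j => Scheme.zariskiPrecoverage_le_fpqcPrecoverage _ (hcov j)
  have hL := locLift_of_refinement (fV := fV) (g := g) hcov'
  haveI := full_of_locLift w hL
  haveI := faithful_of_locLift w hL
  haveI := essSurj_of_secRep w (fun E => nonempty_secRep_of_zariski_refinement w hcov E)
  exact { }

end Groth.Agent.Lib.Helper51.DescSec
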