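import Groth.Agent.Lib.Helper51.DescSecSheaf

/-!
# Descent data from representing data for the sheaf of sections (helper51)

If, for a family `fV j : V j ⟶ S`, the base changes to the `V j` of the sheaf of sections of a
descent datum `E` (relative to another family) are representable, the representing schemes carry
a descent datum relative to `fV`, whose gluing bijections are transports of sections.  Its
pullback along any morphism of families is the descent datum attached to representing data over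
the source family; `E` itself is attached to the representing data `E.obj`.
-/

set_option autoImplicit false
set_option backward.isDefEq.respectTransparency false
set_option backward.isDefEq.respectTransparency.types false

universe u

open CategoryTheory CategoryTheory.Limits AlgebraicGeometry Opposite

namespace Groth.Agent.Lib.Helper51.DescSec

open Desc Groth.Agent.Lib.Helper51.DescFam

variable {S : Scheme.{u}} {ι : Type u} {U : ι → Scheme.{u}} {fU : ∀ i, U i ⟶ S}

/-- Transport of sections along an equality of structure morphisms, as a bijection. -/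
def castEquiv (E : SchDDFam fU) {T : Scheme.{u}} {t t' : T ⟶ S} (h : t = t') :
    Sec E t ≃ Sec E t' where
  toFun a := a.cast h
  invFun a := a.cast h.symm
  left_inv _ := rfl
  right_inv _ := rfl

/-- Representing data for the sections of `E` over the members of the family `fV`. -/
structure SecRep (E : SchDDFam fU) {κ : Type u} {V : κ → Scheme.{u}} (fV : ∀ j, V j ⟶ S) where
  /-- the representing scheme over `V j` -/
  obj : ∀ j, Over (V j)
  /-- its points over `y` are the sections of `E` over `y ≫ fV j` -/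
  θ : ∀ (j : κ) ⦃T : Scheme.{u}⦄ (y : T ⟶ V j), Lifts (obj j) y ≃ Sec E (y ≫ fV j)
  nat : ∀ (j : κ) ⦃T T' : Scheme.{u}⦄ (k : T' ⟶ T) (y : T ⟶ V j) (y' : T' ⟶ V j)
    (hy : k ≫ y = y') (d : Lifts (obj j) y) (d' : Lifts (obj j) y'), d'.1 = k ≫ d.1 →
    θ j y' d' = (θ j y d).res k (y' ≫ fV j) (by rw [← hy, Category.assoc])

namespace SecRep

variable {E : SchDDFam fU} {κ : Type u} {V : κ → Scheme.{u}} {fV : ∀ j, V j ⟶ S}

theorem nat_symm (ρ : SecRep E fV) (j : κ) ⦃T T' : Scheme.{u}⦄ (k : T' ⟶ T) (y : T ⟶ V j)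
    (y' : T' ⟶ V j) (hy : k ≫ y = y') (a : Sec E (y ≫ fV j)) (a' : Sec E (y' ≫ fV j))
    (ha : a' = a.res k (y' ≫ fV j) (by rw [← hy, Category.assoc])) :
    ((ρ.θ j y').symm a').1 = k ≫ ((ρ.θ j y).symm a).1 := by
  have hw : (k ≫ ((ρ.θ j y).symm a).1) ≫ (ρ.obj j).hom = y' := by
    rw [Category.assoc, ((ρ.θ j y).symm a).2, hy]
  have h0 := ρ.nat j k y y' hy ((ρ.θ j y).symm a) ⟨k ≫ ((ρ.θ j y).symm a).1, hw⟩ rfl
  rw [Equiv.apply_symm_apply, ← ha] at h0
  rw [← h0, Equiv.symm_apply_apply]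

/-- The descent datum relative to `fV` carried by representing data. -/
def toDD (ρ : SecRep E fV) : SchDDFam fV where
  obj := ρ.obj
  φ T j₀ j₁ y₀ y₁ h := (ρ.θ j₀ y₀).trans ((castEquiv E h).trans (ρ.θ j₁ y₁).symm)
  φ_natural T T' g j₀ j₁ y₀ y₁ h y₀' y₁' hy₀ hy₁ h' v v' hv := by
    have h1 := ρ.nat j₀ g y₀ y₀' hy₀ v v' hv
    refine ρ.nat_symm j₁ g y₁ y₁' hy₁ ((ρ.θ j₀ y₀ v).cast h) _ ?_
    change (ρ.θ j₀ y₀' v').cast h' = _
    rw [h1]
    rfl
  φ_self T j x v := by
    change (ρ.θ j x).symm ((ρ.θ j x v).cast rfl) = v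
    rw [Sec.cast_rfl, Equiv.symm_apply_apply]
  φ_comp T j₀ j₁ j₂ x₀ x₁ x₂ h₀₁ h₁₂ v := by
    change (ρ.θ j₂ x₂).symm ((ρ.θ j₁ x₁ ((ρ.θ j₁ x₁).symm ((ρ.θ j₀ x₀ v).cast h₀₁))).cast h₁₂) =
      (ρ.θ j₂ x₂).symm ((ρ.θ j₀ x₀ v).cast (h₀₁.trans h₁₂))
    rw [Equiv.apply_symm_apply]
    rfl

theorem toDD_φ (ρ : SecRep E fV) {T : Scheme.{u}} {j₀ j₁ : κ} (y₀ : T ⟶ V j₀) (y₁ : T ⟶ V j₁)
    (h : y₀ ≫ fV j₀ = y₁ ≫ fV j₁) (v : Lifts (ρ.obj j₀) y₀) :
    ρ.toDD.φ y₀ y₁ h v = (ρ.θ j₁ y₁).symm ((ρ.θ j₀ y₀ v).cast h) := rfl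

end SecRep

/-- The schemes of `E` represent the sections of `E` over the members of its family. -/
def SecRep.self (E : SchDDFam fU) : SecRep E fU where
  obj := E.obj
  θ i T x := secEquiv E x
  nat i T T' k x x' hx d d' hd := by
    subst hx
    have hd' : d' = restr E k d := Subtype.ext hd
    subst hd'
    exact (ofLift_res E k x d).symm

/-- `E` is the descent datum carried by its own schemes. -/
noncomputable def selfIso (E : SchDDFam fU) : (SecRep.self E).toDD ≅ E :=
  isoMkLifts (SecRep.self E).toDD E (fun i T x => Equiv.refl _)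
    (fun i T T' g x y hy v v' hv => hv)
    (fun T i j x₀ x₁ h v => by
      change E.φ x₀ x₁ h v = toLift E x₁ ((ofLift E x₀ v).cast h)
      apply Subtype.ext
      change _ = (E.φ (𝟙 T ≫ x₀) x₁ _ (restr E (𝟙 T) v)).1
      have h1 := φ_congr E (Category.id_comp x₀) (rfl : x₁ = x₁)
        (by rw [Category.id_comp]; exact h) h (restr E (𝟙 T) v)
      have h2 : liftsCongr (E.obj i) (Category.id_comp x₀) (restr E (𝟙 T) v) = v :=
        Subtype.ext (by rw [liftsCongr_val, restr_val, Category.id_comp])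
      rw [h2] at h1
      rw [h1]
      rfl)

section Pull

variable {E : SchDDFam fU} {κ : Type u} {V : κ → Scheme.{u}} {fV : ∀ j, V j ⟶ S}
  {ι' : Type u} {U' : ι' → Scheme.{u}} {fU' : ∀ i, U' i ⟶ S} {α : ι' → κ}
  {g : ∀ i, U' i ⟶ V (α i)} (w : ∀ i, g i ≫ fV (α i) = fU' i ≫ 𝟙 S)

include w in
theorem pull_base_eq (i : ι') {T : Scheme.{u}} (x : T ⟶ U' i) :
    (x ≫ g i) ≫ fV (α i) = x ≫ fU' i := by
  rw [Category.assoc, w, Category.comp_id]

/-- The bijection on points between the pullback of the descent datum carried by `ρ` and the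
descent datum carried by `ρ'`. -/
noncomputable def pullEquiv (ρ : SecRep E fV) (ρ' : SecRep E fU') (i : ι') ⦃T : Scheme.{u}⦄
    (x : T ⟶ U' i) :
    Lifts (((pullDDFam w).obj ρ.toDD).obj i) x ≃ Lifts (ρ'.toDD.obj i) x :=
  ((PointDesc.pull w).θ ρ.toDD i x).trans ((ρ.θ (α i) (x ≫ g i)).trans
    ((castEquiv E (pull_base_eq w i x)).trans (ρ'.θ i x).symm))

theorem pullEquiv_apply (ρ : SecRep E fV) (ρ' : SecRep E fU') (i : ι') ⦃T : Scheme.{u}⦄
    (x : T ⟶ U' i) (v : Lifts (((pullDDFam w).obj ρ.toDD).obj i) x) :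
    pullEquiv w ρ ρ' i x v = (ρ'.θ i x).symm
      ((ρ.θ (α i) (x ≫ g i) ((PointDesc.pull w).θ ρ.toDD i x v)).cast (pull_base_eq w i x)) :=
  rfl

/-- The pullback of the descent datum carried by representing data over `fV` is the descent
datum carried by representing data over the source family. -/
noncomputable def pullIso (ρ : SecRep E fV) (ρ' : SecRep E fU') :
    (pullDDFam w).obj ρ.toDD ≅ ρ'.toDD :=
  isoMkLifts ((pullDDFam w).obj ρ.toDD) ρ'.toDD (pullEquiv w ρ ρ')
    (fun i T T' k x y hy v v' hv => by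
      change (pullEquiv w ρ ρ' i y v').1 = k ≫ (pullEquiv w ρ ρ' i x v).1
      rw [pullEquiv_apply, pullEquiv_apply]
      have h1 := (PointDesc.pull w).nat ρ.toDD i k x y hy v v' hv
      have hy' : k ≫ x ≫ g i = y ≫ g i := by rw [← hy, Category.assoc]
      have h2 := ρ.nat (α i) k (x ≫ g i) (y ≫ g i) hy' _ _ h1
      refine ρ'.nat_symm i k x y hy _ _ ?_
      rw [h2]
      rfl)
    (fun T i j x₀ x₁ h v => by
      rw [pullEquiv_apply, pullEquiv_apply, SecRep.toDD_φ, Equiv.apply_symm_apply]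
      have h' : (x₀ ≫ g i) ≫ fV (α i) = (x₁ ≫ g j) ≫ fV (α j) := by
        rw [pull_base_eq w, pull_base_eq w, h]
      rw [(PointDesc.pull w).compat ρ.toDD x₀ x₁ h h' v, SecRep.toDD_φ, Equiv.apply_symm_apply]
      rfl)

include w in
/-- If the sections of every descent datum relative to the source family are representable over
the members of the target family, the pullback functor is essentially surjective. -/
theorem essSurj_of_secRep (H : ∀ E : SchDDFam fU', Nonempty (SecRep E fV)) :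
    (pullDDFam w).EssSurj := by
  refine ⟨fun E => ?_⟩
  obtain ⟨ρ⟩ := H E
  exact ⟨ρ.toDD, ⟨pullIso w ρ (SecRep.self E) ≪≫ selfIso E⟩⟩

end Pull

end Groth.Agent.Lib.Helper51.DescSec
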