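import Groth.Agent.Lib.Helper51.DescSec

/-!
# Sections of a descent datum form an fppf sheaf (helper51)

Gluing of sections of a descent datum along a covering sieve of a subcanonical topology, and the
resulting sheaf `secSp E f` on schemes over `Y` for `f : Y ⟶ S`.
-/

set_option autoImplicit false
set_option backward.isDefEq.respectTransparency false
set_option backward.isDefEq.respectTransparency.types false

universe u

open CategoryTheory CategoryTheory.Limits AlgebraicGeometry Opposite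

namespace Groth.Agent.Lib.Helper51.DescSec

open Desc Groth.Agent.Lib.Helper51.DescFam

variable {S : Scheme.{u}} {ι : Type u} {U : ι → Scheme.{u}} {fU : ∀ i, U i ⟶ S}

section Glue

variable {E : SchDDFam fU} {T : Scheme.{u}} {t : T ⟶ S}
  (R₀ : Sieve T)
  (xs : ∀ ⦃Z : Scheme.{u}⦄ (n : Z ⟶ T), R₀ n → Sec E (n ≫ t))

theorem xs_val_congr {Z : Scheme.{u}} {n n' : Z ⟶ T} (e : n = n') (hn : R₀ n) (hn' : R₀ n')
    (i : ι) {Z₁ : Scheme.{u}} {x x' : Z₁ ⟶ U i} {k k' : Z₁ ⟶ Z} (hx : x = x') (hk : k = k')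
    (h : x ≫ fU i = k ≫ n ≫ t) (h' : x' ≫ fU i = k' ≫ n' ≫ t) :
    ((xs n hn).val i x k h).1 = ((xs n' hn').val i x' k' h').1 := by
  subst e hx hk
  rfl

/-- The local value of the glued section. -/
def loc (i : ι) {Z : Scheme.{u}} (x₀ : Z ⟶ U i) (k : Z ⟶ T) (h : x₀ ≫ fU i = k ≫ t)
    {Z' : Scheme.{u}} (m : Z' ⟶ Z) (hm : R₀ (m ≫ k)) : Lifts (E.obj i) (m ≫ x₀) :=
  (xs (m ≫ k) hm).val i (m ≫ x₀) (𝟙 Z') (by
    rw [Category.id_comp, Category.assoc, h, Category.assoc])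

variable (hxs : ∀ ⦃Z Z' : Scheme.{u}⦄ (m : Z' ⟶ Z) (n : Z ⟶ T) (hn : R₀ n),
    xs (m ≫ n) (R₀.downward_closed hn m) =
      (xs n hn).res m ((m ≫ n) ≫ t) (Category.assoc _ _ _).symm)

include hxs in
theorem loc_nat (i : ι) {Z : Scheme.{u}} (x₀ : Z ⟶ U i) (k : Z ⟶ T) (h : x₀ ≫ fU i = k ≫ t)
    {Z' Z'' : Scheme.{u}} (m : Z' ⟶ Z) (hm : R₀ (m ≫ k)) (m' : Z'' ⟶ Z')
    (hm' : R₀ ((m' ≫ m) ≫ k)) :
    (loc R₀ xs i x₀ k h (m' ≫ m) hm').1 = m' ≫ (loc R₀ xs i x₀ k h m hm).1 := by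
  unfold loc
  have h1 : R₀ (m' ≫ m ≫ k) := R₀.downward_closed hm m'
  have e1 := xs_val_congr R₀ xs (Category.assoc m' m k) hm' h1 i
    (rfl : (m' ≫ m) ≫ x₀ = (m' ≫ m) ≫ x₀) (rfl : 𝟙 Z'' = 𝟙 Z'')
    (by simp only [Category.assoc, Category.id_comp, h])
    (by simp only [Category.assoc, Category.id_comp, h])
  rw [e1]
  have e2 : ((xs (m' ≫ m ≫ k) h1).val i ((m' ≫ m) ≫ x₀) (𝟙 Z'') (by
      simp only [Category.assoc, Category.id_comp, h])).1 =
      (((xs (m ≫ k) hm).res m' ((m' ≫ m ≫ k) ≫ t) (Category.assoc _ _ _).symm).val i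
        ((m' ≫ m) ≫ x₀) (𝟙 Z'') (by
          simp only [Category.assoc, Category.id_comp, h])).1 := by
    rw [hxs m' (m ≫ k) hm]
  rw [e2, Sec.res_val]
  exact (xs (m ≫ k) hm).nat i m' (m ≫ x₀) (𝟙 Z') _ ((m' ≫ m) ≫ x₀) (𝟙 Z'' ≫ m') _
    (Category.assoc _ _ _).symm (by rw [Category.comp_id, Category.id_comp])

/-- `e` is the value at `(x₀, k)` of the section glued from `xs`. -/
def IsGlueAt (i : ι) {Z : Scheme.{u}} (x₀ : Z ⟶ U i) (k : Z ⟶ T) (h : x₀ ≫ fU i = k ≫ t)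
    (e : Lifts (E.obj i) x₀) : Prop :=
  ∀ ⦃Z' : Scheme.{u}⦄ (m : Z' ⟶ Z) (hm : R₀ (m ≫ k)), m ≫ e.1 = (loc R₀ xs i x₀ k h m hm).1

variable (K : GrothendieckTopology Scheme.{u}) [K.Subcanonical] (hR₀ : R₀ ∈ K T)

include hR₀ in
theorem isGlueAt_unique (i : ι) {Z : Scheme.{u}} (x₀ : Z ⟶ U i) (k : Z ⟶ T)
    (h : x₀ ≫ fU i = k ≫ t) (e e' : Lifts (E.obj i) x₀) (he : IsGlueAt R₀ xs i x₀ k h e)
    (he' : IsGlueAt R₀ xs i x₀ k h e') : e = e' := by
  apply Subtype.ext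
  have hsh : Presieve.IsSheaf K (yoneda.obj (E.obj i).left) :=
    GrothendieckTopology.Subcanonical.isSheaf_of_isRepresentable _
  refine (hsh _ (K.pullback_stable k hR₀)).isSeparatedFor.ext (fun Z' m hm => ?_)
  change m ≫ e.1 = m ≫ e'.1
  rw [he m hm, he' m hm]

include hxs hR₀ in
theorem exists_isGlueAt (i : ι) {Z : Scheme.{u}} (x₀ : Z ⟶ U i) (k : Z ⟶ T)
    (h : x₀ ≫ fU i = k ≫ t) : ∃ e : Lifts (E.obj i) x₀, IsGlueAt R₀ xs i x₀ k h e := by
  have hsh : Presieve.IsSheaf K (yoneda.obj (E.obj i).left) :=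
    GrothendieckTopology.Subcanonical.isSheaf_of_isRepresentable _
  have hshU : Presieve.IsSheaf K (yoneda.obj (U i)) :=
    GrothendieckTopology.Subcanonical.isSheaf_of_isRepresentable _
  have hcov := K.pullback_stable k hR₀
  let fam : Presieve.FamilyOfElements (yoneda.obj (E.obj i).left) (R₀.pullback k).arrows :=
    fun Z' m hm => (loc R₀ xs i x₀ k h m hm).1
  have hfam : fam.Compatible := by
    rw [Presieve.compatible_iff_sieveCompatible]
    intro Z' Z'' m m' hm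
    exact loc_nat R₀ xs hxs i x₀ k h m hm m' _
  obtain ⟨e, he, -⟩ := hsh _ hcov fam hfam
  have he2 : e ≫ (E.obj i).hom = x₀ := by
    refine (hshU _ hcov).isSeparatedFor.ext (fun Z' m hm => ?_)
    change m ≫ e ≫ (E.obj i).hom = m ≫ x₀
    have h1 : m ≫ e = (loc R₀ xs i x₀ k h m hm).1 := he m hm
    rw [← Category.assoc, h1]
    exact (loc R₀ xs i x₀ k h m hm).2
  exact ⟨⟨e, he2⟩, fun Z' m hm => he m hm⟩

/-- The value of the glued section. -/
noncomputable def glueVal (i : ι) {Z : Scheme.{u}} (x₀ : Z ⟶ U i) (k : Z ⟶ T)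
    (h : x₀ ≫ fU i = k ≫ t) : Lifts (E.obj i) x₀ :=
  (exists_isGlueAt R₀ xs hxs K hR₀ i x₀ k h).choose

theorem glueVal_spec (i : ι) {Z : Scheme.{u}} (x₀ : Z ⟶ U i) (k : Z ⟶ T)
    (h : x₀ ≫ fU i = k ≫ t) : IsGlueAt R₀ xs i x₀ k h (glueVal R₀ xs hxs K hR₀ i x₀ k h) :=
  (exists_isGlueAt R₀ xs hxs K hR₀ i x₀ k h).choose_spec

/-- The section glued from a compatible family of sections on a covering sieve. -/
noncomputable def glueSec : Sec E t where
  val i Z x k h := glueVal R₀ xs hxs K hR₀ i x k h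
  nat i Z Z' m₀ x k h x' k' h' hx hk := by
    subst hx hk
    have hw : (m₀ ≫ (glueVal R₀ xs hxs K hR₀ i x k h).1) ≫ (E.obj i).hom = m₀ ≫ x := by
      rw [Category.assoc, (glueVal R₀ xs hxs K hR₀ i x k h).2]
    have key : IsGlueAt R₀ xs i (m₀ ≫ x) (m₀ ≫ k) h'
        ⟨m₀ ≫ (glueVal R₀ xs hxs K hR₀ i x k h).1, hw⟩ := by
      intro Z'' m hm
      have hm' : R₀ ((m ≫ m₀) ≫ k) := by rwa [Category.assoc]
      change m ≫ m₀ ≫ (glueVal R₀ xs hxs K hR₀ i x k h).1 = _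
      rw [← Category.assoc, glueVal_spec R₀ xs hxs K hR₀ i x k h (m ≫ m₀) hm']
      unfold loc
      exact xs_val_congr R₀ xs (Category.assoc _ _ _) hm' hm i (Category.assoc _ _ _) rfl _ _
    exact congrArg Subtype.val (isGlueAt_unique R₀ xs K hR₀ i (m₀ ≫ x) (m₀ ≫ k) h' _ _
      (glueVal_spec R₀ xs hxs K hR₀ i (m₀ ≫ x) (m₀ ≫ k) h') key)
  compat i i' Z x₀ x₁ k h₀ h₁ := by
    refine isGlueAt_unique R₀ xs K hR₀ i' x₁ k h₁ _ _ ?_
      (glueVal_spec R₀ xs hxs K hR₀ i' x₁ k h₁)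
    intro Z' m hm
    have hm01 : (m ≫ x₀) ≫ fU i = (m ≫ x₁) ≫ fU i' := by
      rw [Category.assoc, Category.assoc, h₀, h₁]
    have e1 : restr E m (glueVal R₀ xs hxs K hR₀ i x₀ k h₀) = loc R₀ xs i x₀ k h₀ m hm :=
      Subtype.ext (glueVal_spec R₀ xs hxs K hR₀ i x₀ k h₀ m hm)
    have e2 : (E.φ (m ≫ x₀) (m ≫ x₁) hm01 (restr E m (glueVal R₀ xs hxs K hR₀ i x₀ k h₀))).1 =
        m ≫ (E.φ x₀ x₁ (h₀.trans h₁.symm) (glueVal R₀ xs hxs K hR₀ i x₀ k h₀)).1 :=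
      φ_nat E m x₀ x₁ _ _ _ rfl rfl hm01 _ _ rfl
    rw [← e2, e1]
    unfold loc
    rw [(xs (m ≫ k) hm).compat (m ≫ x₀) (m ≫ x₁) (𝟙 Z') _ _]

theorem glueSec_res {Z₀ : Scheme.{u}} (n : Z₀ ⟶ T) (hn : R₀ n) :
    (glueSec R₀ xs hxs K hR₀).res n (n ≫ t) rfl = xs n hn := by
  apply Sec.ext'
  intro i Z x k hk
  change (glueVal R₀ xs hxs K hR₀ i x (k ≫ n) _).1 = _
  have hkn : x ≫ fU i = (k ≫ n) ≫ t := by rw [hk, Category.assoc]
  have h1 : R₀ (𝟙 Z ≫ k ≫ n) := by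
    rw [Category.id_comp]
    exact R₀.downward_closed hn k
  have h2 : R₀ (k ≫ n) := R₀.downward_closed hn k
  have e0 := glueVal_spec R₀ xs hxs K hR₀ i x (k ≫ n) hkn (𝟙 Z) h1
  rw [Category.id_comp] at e0
  rw [e0]
  unfold loc
  have e1 := xs_val_congr R₀ xs (Category.id_comp (k ≫ n)) h1 h2 i
    (Category.id_comp x) (rfl : 𝟙 Z = 𝟙 Z)
    (by simp only [Category.assoc, Category.id_comp, hk])
    (by simp only [Category.assoc, Category.id_comp, hk])
  rw [e1]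
  have e2 : ((xs (k ≫ n) h2).val i x (𝟙 Z) (by
      simp only [Category.assoc, Category.id_comp, hk])).1 =
      (((xs n hn).res k ((k ≫ n) ≫ t) (Category.assoc _ _ _).symm).val i x (𝟙 Z) (by
        simp only [Category.assoc, Category.id_comp, hk])).1 := by
    rw [hxs k n hn]
  rw [e2, Sec.res_val]
  exact (xs n hn).val_congr i rfl (Category.id_comp k) _ _

include hR₀ in
theorem glueSec_unique (a' : Sec E t)
    (ha' : ∀ ⦃Z₀ : Scheme.{u}⦄ (n : Z₀ ⟶ T) (hn : R₀ n), a'.res n (n ≫ t) rfl = xs n hn) :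
    a' = glueSec R₀ xs hxs K hR₀ := by
  apply Sec.ext'
  intro i Z x k hk
  refine congrArg Subtype.val (isGlueAt_unique R₀ xs K hR₀ i x k hk _ _ ?_
    (glueVal_spec R₀ xs hxs K hR₀ i x k hk))
  intro Z' m hm
  unfold loc
  have hmk : (m ≫ x) ≫ fU i = (m ≫ k) ≫ t := by
    rw [Category.assoc, hk, Category.assoc]
  have e1 := a'.nat i m x k hk (m ≫ x) (m ≫ k) hmk rfl rfl
  rw [← e1]
  have e2 : ((xs (m ≫ k) hm).val i (m ≫ x) (𝟙 Z') (by
      simp only [Category.assoc, Category.id_comp, hk])).1 =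
      ((a'.res (m ≫ k) ((m ≫ k) ≫ t) rfl).val i (m ≫ x) (𝟙 Z') (by
        simp only [Category.assoc, Category.id_comp, hk])).1 := by
    rw [ha' (m ≫ k) hm]
  rw [e2, Sec.res_val]
  exact a'.val_congr i rfl (Category.id_comp _).symm _ _

end Glue

section Sheaf

variable (E : SchDDFam fU) {Y : Scheme.{u}} (f : Y ⟶ S)

/-- The presheaf of sections of `E` on schemes over `Y`. -/
def secOver : (Over Y)ᵒᵖ ⥤ Type (u + 1) where
  obj T := Sec E (T.unop.hom ≫ f)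
  map {T T'} r := TypeCat.ofHom (fun a => a.res r.unop.left (T'.unop.hom ≫ f)
    (by rw [← Category.assoc, Over.w]))
  map_id T := by
    ext a
    exact a.res_id
  map_comp {T₁ T₂ T₃} r r' := by
    ext a
    have h1 : r.unop.left ≫ T₁.unop.hom ≫ f = T₂.unop.hom ≫ f := by
      rw [← Category.assoc, Over.w]
    have h2 : r'.unop.left ≫ T₂.unop.hom ≫ f = T₃.unop.hom ≫ f := by
      rw [← Category.assoc, Over.w]
    exact (Sec.res_res a r.unop.left _ h1 r'.unop.left _ h2).symm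

theorem secOver_map_apply {T T' : Over Y} (r : T' ⟶ T) (a : Sec E (T.hom ≫ f)) :
    (secOver E f).map r.op a =
      a.res r.left (T'.hom ≫ f) (by rw [← Category.assoc, Over.w]) := rfl

theorem isSheaf_secOver : Presheaf.IsSheaf (AlgSp.J Y) (secOver E f) := by
  rw [isSheaf_iff_isSheaf_of_type]
  intro T R hR x hx
  have hxs := hx.to_sieveCompatible
  rw [AlgSp.J_eq, GrothendieckTopology.mem_over_iff] at hR
  have hxeq : ∀ ⦃T' : Over Y⦄ (r r' : T' ⟶ T) (hr : R r) (hr' : R r'), r = r' →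
      x r hr = x r' hr' := by
    intro T' r r' hr hr' e
    subst e
    rfl
  -- the family in terms of schemes
  let xo : ∀ ⦃Z : Scheme.{u}⦄ (n : Z ⟶ T.left),
      R (Over.homMk n rfl : Over.mk (n ≫ T.hom) ⟶ T) → Sec E ((n ≫ T.hom) ≫ f) :=
    fun Z n hn => x (Over.homMk n rfl : Over.mk (n ≫ T.hom) ⟶ T) hn
  let xs : ∀ ⦃Z : Scheme.{u}⦄ (n : Z ⟶ T.left), Sieve.overEquiv T R n →
      Sec E (n ≫ T.hom ≫ f) := fun Z n hn =>
    (xo n ((Sieve.overEquiv_iff _ _).1 hn)).cast (Category.assoc n T.hom f)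
  have hxo : ∀ ⦃Z Z' : Scheme.{u}⦄ (m : Z' ⟶ Z) (n : Z ⟶ T.left)
      (hn : R (Over.homMk n rfl : Over.mk (n ≫ T.hom) ⟶ T))
      (hmn : R (Over.homMk (m ≫ n) rfl : Over.mk ((m ≫ n) ≫ T.hom) ⟶ T)),
      xo (m ≫ n) hmn = (xo n hn).res m (((m ≫ n) ≫ T.hom) ≫ f) (by
        simp only [Category.assoc]) := by
    intro Z Z' m n hn hmn
    let g : Over.mk ((m ≫ n) ≫ T.hom) ⟶ Over.mk (n ≫ T.hom) :=
      Over.homMk m (Category.assoc _ _ _).symm
    have hg : g ≫ (Over.homMk n rfl : Over.mk (n ≫ T.hom) ⟶ T) = Over.homMk (m ≫ n) rfl := by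
      apply Over.OverMorphism.ext
      rfl
    exact (hxeq _ _ (R.downward_closed hn g) hmn hg).symm.trans
      (hxs (Over.homMk n rfl : Over.mk (n ≫ T.hom) ⟶ T) g hn)
  have hxs' : ∀ ⦃Z Z' : Scheme.{u}⦄ (m : Z' ⟶ Z) (n : Z ⟶ T.left)
      (hn : Sieve.overEquiv T R n),
      xs (m ≫ n) ((Sieve.overEquiv T R).downward_closed hn m) =
        (xs n hn).res m ((m ≫ n) ≫ T.hom ≫ f) (Category.assoc _ _ _).symm := by
    intro Z Z' m n hn
    have h1 := hxo m n ((Sieve.overEquiv_iff _ _).1 hn)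
      ((Sieve.overEquiv_iff _ _).1 ((Sieve.overEquiv T R).downward_closed hn m))
    exact congrArg (fun a => Sec.cast a (Category.assoc (m ≫ n) T.hom f)) h1
  refine ⟨glueSec (Sieve.overEquiv T R) xs hxs' Scheme.fppfTopology hR, ?_, ?_⟩
  · intro T' r hr
    let j : Over.mk (r.left ≫ T.hom) ⟶ T' := Over.homMk (𝟙 _) (by
      rw [Category.id_comp]
      exact (Over.w r).symm)
    have hj : j ≫ r = (Over.homMk r.left rfl : Over.mk (r.left ≫ T.hom) ⟶ T) := by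
      apply Over.OverMorphism.ext
      exact Category.id_comp _
    have hn' : R (Over.homMk r.left rfl : Over.mk (r.left ≫ T.hom) ⟶ T) := by
      rw [← hj]
      exact R.downward_closed hr j
    have hn : Sieve.overEquiv T R r.left := (Sieve.overEquiv_iff _ _).2 hn'
    have h1 := glueSec_res (Sieve.overEquiv T R) xs hxs' Scheme.fppfTopology hR r.left hn
    have h2 : xo r.left hn' = (secOver E f).map j.op (x r hr) :=
      (hxeq _ _ (R.downward_closed hr j) hn' hj).symm.trans (hxs r j hr)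
    have c : r.left ≫ T.hom ≫ f = T'.hom ≫ f := by rw [← Category.assoc, Over.w]
    have h3 := congrArg (fun a => Sec.cast a c) h1
    have h4 := congrArg (fun a => Sec.cast (Sec.cast a (Category.assoc r.left T.hom f)) c) h2
    exact h3.trans (h4.trans (Sec.res_id _))
  · intro a' ha'
    refine glueSec_unique (Sieve.overEquiv T R) xs hxs' Scheme.fppfTopology hR a' ?_
    intro Z₀ n hn
    have hn' := (Sieve.overEquiv_iff _ _).1 hn
    have h1 : (secOver E f).map (Over.homMk n rfl : Over.mk (n ≫ T.hom) ⟶ T).op a' = xo n hn' :=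
      ha' (Over.homMk n rfl : Over.mk (n ≫ T.hom) ⟶ T) hn'
    exact congrArg (fun a => Sec.cast a (Category.assoc n T.hom f)) h1

/-- The sheaf of sections of `E` on schemes over `Y`. -/
noncomputable def secSp : AlgSp.Sp Y := ⟨secOver E f, isSheaf_secOver E f⟩

end Sheaf

end Groth.Agent.Lib.Helper51.DescSec
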