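import Groth.Agent.Lib.Helper51.DescSecRep
import Groth.Agent.Lib.Helper51.SpPullbackPts
import Groth.Agent.H53.ZarGlue

/-!
# Representability of the sheaf of sections over a Zariski covered base (helper51)

If `Y ⟶ S` is covered by open subschemes which are members `U i` of the family of a descent datum
`E`, the sheaf of sections of `E` on schemes over `Y` is covered by the open subfunctors
`E.obj i`, hence is representable by a scheme over `Y`.
-/

set_option autoImplicit false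
set_option backward.isDefEq.respectTransparency false
set_option backward.isDefEq.respectTransparency.types false

universe u

open CategoryTheory CategoryTheory.Limits AlgebraicGeometry Opposite

namespace Groth.Agent.Lib.Helper51.DescSec

open Desc Groth.Agent.Lib.Helper51.DescFam Groth.Agent.Lib.Helper51

variable {S : Scheme.{u}} {ι : Type u} {U : ι → Scheme.{u}} {fU : ∀ i, U i ⟶ S}
  (E : SchDDFam fU) {Y : Scheme.{u}} (f : Y ⟶ S)

theorem ofLift_val_eq_res {T : Scheme.{u}} {t : T ⟶ S} (a : Sec E t) (i : ι) {W : Scheme.{u}}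
    (n : W ⟶ T) (x₀ : W ⟶ U i) (h₀ : x₀ ≫ fU i = n ≫ t) :
    ofLift E x₀ (a.val i x₀ n h₀) = a.res n (x₀ ≫ fU i) h₀.symm := by
  have h1 := ofLift_toLift E x₀ (a.res n (x₀ ≫ fU i) h₀.symm)
  have h2 : toLift E x₀ (a.res n (x₀ ≫ fU i) h₀.symm) = a.val i x₀ n h₀ :=
    Subtype.ext (a.val_congr i rfl (Category.id_comp n) _ _)
  rw [h2] at h1
  exact h1

section RepEquiv

variable {Y' : Scheme.{u}} {G : AlgSp.Sp Y'} {D : Over Y'} (e : (AlgSp.yon Y').obj D ≅ G)

/-- The points of a scheme representing a sheaf are the sections of the sheaf. -/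
noncomputable def repEquiv ⦃T : Scheme.{u}⦄ (y : T ⟶ Y') :
    Lifts D y ≃ G.obj.obj (op (Over.mk y)) where
  toFun d := yonEquiv ((AlgSp.yon Y').map (Over.homMk d.1 d.2 : Over.mk y ⟶ D) ≫ e.hom)
  invFun s :=
    ⟨((AlgSp.yon Y').preimage ((yonEquiv (T := Over.mk y)).symm s ≫ e.inv)).left,
      Over.w ((AlgSp.yon Y').preimage ((yonEquiv (T := Over.mk y)).symm s ≫ e.inv))⟩
  left_inv d := by
    apply Subtype.ext
    simp only [Equiv.symm_apply_apply, Category.assoc, Iso.hom_inv_id, Category.comp_id,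
      Functor.preimage_map]
    rfl
  right_inv s := by
    have h1 : (Over.homMk
        ((AlgSp.yon Y').preimage ((yonEquiv (T := Over.mk y)).symm s ≫ e.inv)).left
        (Over.w _) : Over.mk y ⟶ D) =
        (AlgSp.yon Y').preimage ((yonEquiv (T := Over.mk y)).symm s ≫ e.inv) := by
      apply Over.OverMorphism.ext
      rfl
    simp only [h1, Functor.map_preimage, Category.assoc, Iso.inv_hom_id, Category.comp_id,
      Equiv.apply_symm_apply]

theorem repEquiv_nat ⦃T T' : Scheme.{u}⦄ (k : T' ⟶ T) (y : T ⟶ Y') (d : Lifts D y)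
    (d' : Lifts D (k ≫ y)) (hd : d'.1 = k ≫ d.1) :
    repEquiv e (k ≫ y) d' =
      G.obj.map (Over.homMk k rfl : Over.mk (k ≫ y) ⟶ Over.mk y).op (repEquiv e y d) := by
  change yonEquiv ((AlgSp.yon Y').map (Over.homMk d'.1 d'.2 : Over.mk (k ≫ y) ⟶ D) ≫ e.hom) =
    G.obj.map (Over.homMk k rfl : Over.mk (k ≫ y) ⟶ Over.mk y).op
      (yonEquiv ((AlgSp.yon Y').map (Over.homMk d.1 d.2 : Over.mk y ⟶ D) ≫ e.hom))
  have h1 : (Over.homMk d'.1 d'.2 : Over.mk (k ≫ y) ⟶ D) =
      (Over.homMk k rfl : Over.mk (k ≫ y) ⟶ Over.mk y) ≫ Over.homMk d.1 d.2 := by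
    apply Over.OverMorphism.ext
    exact hd
  rw [h1, Functor.map_comp, Category.assoc, ← yonEquiv_naturality]

end RepEquiv

section Chart

variable (i : ι) (g : U i ⟶ Y) (hg : g ≫ f = fU i)

/-- The scheme `E.obj i` as a scheme over `Y`. -/
abbrev chartObj : Over Y := Over.mk ((E.obj i).hom ≫ g)

include hg in
theorem chart_base_eq {T : Scheme.{u}} (x : T ⟶ U i) : x ≫ fU i = (x ≫ g) ≫ f := by
  rw [Category.assoc, hg]

/-- The universal section of `E` over `E.obj i`. -/
def chartSec : Sec E ((chartObj E i g).hom ≫ f) :=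
  (ofLift E (E.obj i).hom ⟨𝟙 _, Category.id_comp _⟩).cast (by
    change (E.obj i).hom ≫ fU i = ((E.obj i).hom ≫ g) ≫ f
    rw [Category.assoc, hg])

/-- The morphism from `E.obj i` to the sheaf of sections. -/
noncomputable def chartMap : (AlgSp.yon Y).obj (chartObj E i g) ⟶ secSp E f :=
  yonEquiv.symm (chartSec E f i g hg)

include hg in
theorem chart_hom_eq {T : Over Y} (ε : T ⟶ chartObj E i g) :
    (ε.left ≫ (E.obj i).hom) ≫ fU i = T.hom ≫ f := by
  have h1 : ε.left ≫ (E.obj i).hom ≫ g = T.hom := Over.w ε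
  rw [← h1, ← hg]
  simp only [Category.assoc]

theorem yonEquiv_map_chartMap {T : Over Y} (ε : T ⟶ chartObj E i g) :
    yonEquiv ((AlgSp.yon Y).map ε ≫ chartMap E f i g hg) =
      (ofLift E (ε.left ≫ (E.obj i).hom) ⟨ε.left, rfl⟩).cast (chart_hom_eq E f i g hg ε) := by
  rw [← yonEquiv_naturality, chartMap, Equiv.apply_symm_apply]
  have hε : ε.left ≫ (chartObj E i g).hom ≫ f = T.hom ≫ f := by
    rw [← Category.assoc, Over.w]
  change (chartSec E f i g hg).res ε.left (T.hom ≫ f) hε = _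
  let p₀ : Lifts (E.obj i) (E.obj i).hom := ⟨𝟙 (E.obj i).left, Category.id_comp _⟩
  let r₀ : T.left ⟶ (E.obj i).left := ε.left
  have h1 := ofLift_res E r₀ (E.obj i).hom p₀
  have h2 : restr E r₀ p₀ = ⟨r₀, rfl⟩ := Subtype.ext (Category.comp_id _)
  rw [h2] at h1
  rw [← h1]
  rfl

/-- The section attached to a point of `E.obj i` with values in a scheme over `Y`. -/
theorem yonEquiv_map_chartMap_of_val {T : Over Y} (a : Sec E (T.hom ≫ f)) {W : Over Y}
    (n : W ⟶ T) (x₀ : W.left ⟶ U i) (hx₀ : x₀ ≫ g = W.hom)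
    (ε : W ⟶ chartObj E i g)
    (hε : ε.left = (a.val i x₀ n.left (by
      rw [chart_base_eq f i g hg, hx₀, ← Over.w n, Category.assoc])).1) :
    yonEquiv ((AlgSp.yon Y).map ε ≫ chartMap E f i g hg) =
      a.res n.left (W.hom ≫ f) (by rw [← Category.assoc, Over.w]) := by
  have h₀ : x₀ ≫ fU i = n.left ≫ T.hom ≫ f := by
    rw [chart_base_eq f i g hg, hx₀, ← Over.w n, Category.assoc]
  rw [yonEquiv_map_chartMap]
  have hx : ε.left ≫ (E.obj i).hom = x₀ := by
    rw [hε]
    exact (a.val i x₀ n.left h₀).2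
  have h1 := ofLift_val_eq_res E a i n.left x₀ h₀
  apply Sec.ext'
  intro i' Z x k hk
  have h2 := congrArg (fun s : Sec E (x₀ ≫ fU i) => (s.val i' x k (by
    rw [hk, ← hx₀, Category.assoc, hg])).1) h1
  beta_reduce at h2
  rw [Sec.res_val] at h2
  rw [Sec.res_val, ← h2]
  change (E.φ (k ≫ ε.left ≫ (E.obj i).hom) x _ _).1 = (E.φ (k ≫ x₀) x _ _).1
  have hk1 : (k ≫ ε.left ≫ (E.obj i).hom) ≫ fU i = x ≫ fU i' := by
    rw [hx, hk, ← hx₀]
    simp only [Category.assoc, hg]
  have hk2 : (k ≫ x₀) ≫ fU i = x ≫ fU i' := by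
    rw [hk, ← hx₀]
    simp only [Category.assoc, hg]
  have h3 := φ_congr E (congrArg (k ≫ ·) hx) (rfl : x = x) hk1 hk2
    (restr E k (⟨ε.left, rfl⟩ : Lifts (E.obj i) (ε.left ≫ (E.obj i).hom)))
  have h4 : liftsCongr (E.obj i) (congrArg (k ≫ ·) hx)
      (restr E k (⟨ε.left, rfl⟩ : Lifts (E.obj i) (ε.left ≫ (E.obj i).hom))) =
      restr E k (a.val i x₀ n.left h₀) := Subtype.ext (by
    rw [liftsCongr_val, restr_val, restr_val, hε])
  rw [h4] at h3
  rw [h3]
  rfl

theorem repWith_chartMap [IsOpenImmersion g] :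
    AlgSp.RepWith @IsOpenImmersion (chartMap E f i g hg) := by
  apply MorphismProperty.relative.of_exists
  intro T ξ
  let a : Sec E (T.hom ≫ f) := yonEquiv ξ
  let W : Over Y := Over.mk (pullback.fst T.hom g ≫ T.hom)
  let snd : W ⟶ T := Over.homMk (pullback.fst T.hom g) rfl
  let x₀ : W.left ⟶ U i := pullback.snd T.hom g
  have hx₀ : x₀ ≫ g = W.hom := pullback.condition.symm
  have h₀ : x₀ ≫ fU i = snd.left ≫ T.hom ≫ f := by
    rw [chart_base_eq f i g hg, hx₀]
    exact Category.assoc _ _ _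
  let fstO : W ⟶ chartObj E i g := Over.homMk (a.val i x₀ snd.left h₀).1 (by
    change (a.val i x₀ snd.left h₀).1 ≫ (E.obj i).hom ≫ g = W.hom
    rw [← Category.assoc, (a.val i x₀ snd.left h₀).2, hx₀])
  have hsq : (AlgSp.yon Y).map fstO ≫ chartMap E f i g hg = (AlgSp.yon Y).map snd ≫ ξ := by
    apply yonEquiv.injective
    rw [yonEquiv_map_chartMap_of_val E f i g hg a snd x₀ hx₀ fstO rfl, ← yonEquiv_naturality]
    rfl
  refine ⟨W, (AlgSp.yon Y).map fstO, snd, ?_, ?_⟩
  · refine isPullback_yon_of_points _ _ _ _ hsq ?_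
    intro W' b c hbc
    have hx' : (b.left ≫ (E.obj i).hom) ≫ g = W'.hom := by
      rw [Category.assoc]
      exact Over.w b
    have hc : c.left ≫ T.hom = W'.hom := Over.w c
    have h' : (b.left ≫ (E.obj i).hom) ≫ fU i = c.left ≫ T.hom ≫ f := by
      rw [chart_base_eq f i g hg, hx', ← hc, Category.assoc]
    let dl : W'.left ⟶ pullback T.hom g :=
      pullback.lift c.left (b.left ≫ (E.obj i).hom) (by rw [hc, hx'])
    have hd1 : dl ≫ pullback.fst T.hom g = c.left := pullback.lift_fst _ _ _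
    have hd2 : dl ≫ x₀ = b.left ≫ (E.obj i).hom := pullback.lift_snd _ _ _
    let d : W' ⟶ W := Over.homMk dl (by
      change dl ≫ pullback.fst T.hom g ≫ T.hom = W'.hom
      rw [← Category.assoc, hd1, hc])
    have hb : b.left = (a.val i (b.left ≫ (E.obj i).hom) c.left h').1 := by
      have h5 := congrArg yonEquiv hbc
      rw [yonEquiv_map_chartMap, ← yonEquiv_naturality] at h5
      have hh : (b.left ≫ (E.obj i).hom) ≫ fU i = 𝟙 W'.left ≫ W'.hom ≫ f := by
        rw [Category.id_comp, h', ← Category.assoc, hc]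
      have h6 := congrArg (fun s : Sec E (W'.hom ≫ f) =>
        (s.val i (b.left ≫ (E.obj i).hom) (𝟙 W'.left) hh).1) h5
      beta_reduce at h6
      have h7 := congrArg Subtype.val (toLift_ofLift E (b.left ≫ (E.obj i).hom)
        (⟨b.left, rfl⟩ : Lifts (E.obj i) (b.left ≫ (E.obj i).hom)))
      refine h7.symm.trans (h6.trans ?_)
      change (a.val i (b.left ≫ (E.obj i).hom) (𝟙 W'.left ≫ c.left) _).1 = _
      exact a.val_congr i rfl (Category.id_comp _) _ _
    refine ⟨d, ⟨?_, ?_⟩, ?_⟩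
    · apply Over.OverMorphism.ext
      change dl ≫ (a.val i x₀ snd.left h₀).1 = b.left
      rw [hb]
      exact (a.nat i dl x₀ snd.left h₀ _ c.left h' hd2 hd1).symm
    · apply Over.OverMorphism.ext
      exact hd1
    · rintro d' ⟨-, hd'⟩
      apply Over.OverMorphism.ext
      have h8 : d'.left ≫ pullback.fst T.hom g = c.left := congrArg CommaMorphism.left hd'
      change d'.left = dl
      rw [← cancel_mono (pullback.fst T.hom g), h8, hd1]
  · change IsOpenImmersion (pullback.fst T.hom g)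
    infer_instance

end Chart

section Cover

variable {A : Type u} (ia : A → ι) (ga : ∀ a, U (ia a) ⟶ Y) (hga : ∀ a, ga a ≫ f = fU (ia a))
  [∀ a, IsOpenImmersion (ga a)] (hsurj : ∀ y : Y, ∃ a, y ∈ Set.range (ga a))

include hsurj in
theorem locallyLifts_chartMap :
    Groth.Agent.H53.ZarGlue.LocallyLifts (fun a => chartMap E f (ia a) (ga a) (hga a)) := by
  intro T ξ t
  obtain ⟨a, ha⟩ := hsurj (T.hom t)
  let U₀ : T.left.Opens := T.hom ⁻¹ᵁ (ga a).opensRange
  have ht : t ∈ U₀ := ha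
  have hrange : Set.range (U₀.ι ≫ T.hom) ⊆ Set.range (ga a) := by
    rintro _ ⟨z, rfl⟩
    exact z.2
  let x₀ : (U₀ : Scheme.{u}) ⟶ U (ia a) := IsOpenImmersion.lift (ga a) (U₀.ι ≫ T.hom) hrange
  have hx₀ : x₀ ≫ ga a = U₀.ι ≫ T.hom := IsOpenImmersion.lift_fac _ _ _
  let W : Over Y := Over.mk (U₀.ι ≫ T.hom)
  let n : W ⟶ T := Over.homMk U₀.ι rfl
  let s : Sec E (T.hom ≫ f) := yonEquiv ξ
  have h₀ : x₀ ≫ fU (ia a) = n.left ≫ T.hom ≫ f := by
    rw [chart_base_eq f (ia a) (ga a) (hga a), hx₀]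
    exact Category.assoc _ _ _
  let l : W ⟶ chartObj E (ia a) (ga a) := Over.homMk (s.val (ia a) x₀ n.left h₀).1 (by
    change (s.val (ia a) x₀ n.left h₀).1 ≫ (E.obj (ia a)).hom ≫ ga a = U₀.ι ≫ T.hom
    rw [← Category.assoc, (s.val (ia a) x₀ n.left h₀).2, hx₀])
  refine ⟨a, U₀, l, ht, ?_⟩
  apply yonEquiv.injective
  rw [yonEquiv_map_chartMap_of_val E f (ia a) (ga a) (hga a) s n x₀ hx₀ l rfl,
    ← yonEquiv_naturality]
  rfl

include hga hsurj in
/-- If `Y` is covered by open subschemes which are members of the family of `E`, the sections of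
`E` over schemes over `Y` are representable by a scheme over `Y`. -/
theorem exists_rep_of_zariski_cover :
    ∃ (D : Over Y) (θ : ∀ ⦃T : Scheme.{u}⦄ (y : T ⟶ Y), Lifts D y ≃ Sec E (y ≫ f)),
      ∀ ⦃T T' : Scheme.{u}⦄ (k : T' ⟶ T) (y : T ⟶ Y) (y' : T' ⟶ Y) (hy : k ≫ y = y')
        (d : Lifts D y) (d' : Lifts D y'), d'.1 = k ≫ d.1 →
        θ y' d' = (θ y d).res k (y' ≫ f) (by rw [← hy, Category.assoc]) := by
  obtain ⟨D, e, -⟩ := Groth.Agent.H53.ZarGlue.exists_iso_yon
    (fun a => repWith_chartMap E f (ia a) (ga a) (hga a))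
    (locallyLifts_chartMap E f ia ga hga hsurj)
  refine ⟨D, fun T y => repEquiv e y, ?_⟩
  intro T T' k y y' hy d d' hd
  subst hy
  exact repEquiv_nat e k y d d' hd

end Cover

end Groth.Agent.Lib.Helper51.DescSec
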