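import Mathlib.AlgebraicGeometry.Morphisms.Separated
import Mathlib.AlgebraicGeometry.Artinian
import Mathlib.AlgebraicGeometry.Limits
import Mathlib.RingTheory.KrullDimension.Zero

set_option autoImplicit false
universe u
open CategoryTheory AlgebraicGeometry CategoryTheory.Limits TopologicalSpace

namespace Groth.Agent.Lib.Helper51

section Ring

variable {A : Type*} [CommRing A]

/-- In a zero-dimensional ring, an element of a prime `p` is killed, up to nilpotents, by some
element outside `p`. -/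
theorem exists_notMem_mul_pow_eq_zero [Ring.KrullDimLE 0 A] (p : Ideal A) [p.IsPrime] {f : A}
    (hf : f ∈ p) : ∃ s ∉ p, ∃ n : ℕ, s * f ^ n = 0 := by
  by_contra hcon
  push Not at hcon
  have hdisj : Disjoint ((⊥ : Ideal A) : Set A) (p.primeCompl ⊔ Submonoid.powers f : Submonoid A) := by
    rw [Set.disjoint_left]
    intro x hx hx'
    have hx0 : x = 0 := by simpa using hx
    rw [SetLike.mem_coe, Submonoid.mem_sup] at hx'
    obtain ⟨s, hs, t, ⟨n, rfl⟩, hst⟩ := hx'
    exact hcon s hs n (by rw [hst, hx0])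
  obtain ⟨q, hq, -, hqS⟩ := Ideal.exists_le_prime_disjoint (⊥ : Ideal A) _ hdisj
  have hqp : q ≤ p := by
    intro x hx
    by_contra hxp
    exact Set.disjoint_left.mp hqS hx (Submonoid.mem_sup_left (show x ∈ p.primeCompl from hxp))
  have hfq : f ∉ q := fun hfq ↦
    Set.disjoint_left.mp hqS hfq (Submonoid.mem_sup_right (Submonoid.mem_powers f))
  have : q.IsMaximal := Ideal.isMaximal_of_isPrime q
  have hqeq : q = p := this.eq_of_le (Ideal.IsPrime.ne_top ‹_›) hqp
  exact hfq (hqeq ▸ hf)

/-- In a zero-dimensional ring, the vanishing locus of an element is open. -/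
theorem isOpen_zeroLocus_singleton [Ring.KrullDimLE 0 A] (f : A) :
    IsOpen (PrimeSpectrum.zeroLocus {f} : Set (PrimeSpectrum A)) := by
  rw [isOpen_iff_forall_mem_open]
  intro p hp
  have hfp : f ∈ p.asIdeal := by simpa using hp
  obtain ⟨s, hs, n, hsn⟩ := exists_notMem_mul_pow_eq_zero p.asIdeal hfp
  refine ⟨PrimeSpectrum.basicOpen s, ?_, (PrimeSpectrum.basicOpen s).2, hs⟩
  intro q hq
  have hsq : s ∉ q.asIdeal := hq
  have : s * f ^ n ∈ q.asIdeal := by rw [hsn]; exact zero_mem _
  have hfn : f ^ n ∈ q.asIdeal := (q.isPrime.mem_or_mem this).resolve_left hsq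
  have : f ∈ q.asIdeal := q.isPrime.mem_of_pow_mem n hfn
  simpa using this

theorem isClosed_basicOpen [Ring.KrullDimLE 0 A] (f : A) :
    IsClosed (PrimeSpectrum.basicOpen f : Set (PrimeSpectrum A)) := by
  rw [← isOpen_compl_iff, PrimeSpectrum.basicOpen_eq_zeroLocus_compl, compl_compl]
  exact isOpen_zeroLocus_singleton f

theorem t2Space_primeSpectrum [Ring.KrullDimLE 0 A] : T2Space (PrimeSpectrum A) := by
  refine ⟨fun p q hpq ↦ ?_⟩
  have : p.asIdeal.IsMaximal := Ideal.isMaximal_of_isPrime _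
  have hnle : ¬ p.asIdeal ≤ q.asIdeal := fun hle ↦
    hpq (PrimeSpectrum.ext (this.eq_of_le q.isPrime.ne_top hle))
  obtain ⟨f, hfp, hfq⟩ := Set.not_subset.mp hnle
  refine ⟨PrimeSpectrum.zeroLocus {f}, PrimeSpectrum.basicOpen f, isOpen_zeroLocus_singleton f,
    (PrimeSpectrum.basicOpen f).2, by simpa using hfp, hfq, ?_⟩
  rw [PrimeSpectrum.basicOpen_eq_zeroLocus_compl]
  exact disjoint_compl_right

end Ring

section Scheme

variable {X : Scheme.{u}}

theorem krullDimLE_zero_of_isAffineOpen (h : topologicalKrullDim X ≤ 0)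
    {U : X.Opens} (hU : IsAffineOpen U) : Ring.KrullDimLE 0 Γ(X, U) := by
  rw [Ring.KrullDimLE, Order.krullDimLE_iff, ← ringKrullDim,
      Nat.cast_zero, ← PrimeSpectrum.topologicalKrullDim_eq_ringKrullDim Γ(X, U)]
  change topologicalKrullDim (Spec Γ(X, U)) ≤ 0
  rw [← IsHomeomorph.topologicalKrullDim_eq _ hU.isoSpec.hom.homeomorph.isHomeomorph]
  exact (topologicalKrullDim_subspace_le X U).trans h

/-- An affine open of a zero-dimensional scheme is Hausdorff. -/
theorem t2Space_of_isAffineOpen (h : topologicalKrullDim X ≤ 0)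
    {U : X.Opens} (hU : IsAffineOpen U) : T2Space ↥U := by
  have := krullDimLE_zero_of_isAffineOpen h hU
  have : T2Space (Spec Γ(X, U)) := t2Space_primeSpectrum (A := Γ(X, U))
  exact hU.isoSpec.hom.homeomorph.symm.t2Space

/-- In a zero-dimensional scheme, removing a compact subset from an affine open leaves an open set. -/
theorem isOpen_diff_of_isAffineOpen (h : topologicalKrullDim X ≤ 0)
    {V : X.Opens} (hV : IsAffineOpen V) (W : Set X) (hWV : W ⊆ V) (hW : IsCompact W) :
    IsOpen ((V : Set X) \ W) := by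
  have := t2Space_of_isAffineOpen h hV
  have hW' : IsCompact (Subtype.val ⁻¹' W : Set ↥V) := by
    rw [Subtype.isCompact_iff, Set.image_preimage_eq_inter_range]
    have : Set.range (Subtype.val : ↥V → X) = (V : Set X) := Subtype.range_coe
    rwa [this, Set.inter_eq_left.mpr hWV]
  have hcl : IsClosed (Subtype.val ⁻¹' W : Set ↥V) := hW'.isClosed
  have : (V : Set X) \ W = Subtype.val '' ((Subtype.val ⁻¹' W : Set ↥V)ᶜ) := by
    ext z
    constructor
    · rintro ⟨hzV, hzW⟩
      exact ⟨⟨z, hzV⟩, hzW, rfl⟩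
    · rintro ⟨⟨z', hz'V⟩, hz'W, rfl⟩
      exact ⟨hz'V, hz'W⟩
  rw [this]
  exact V.2.isOpenEmbedding_subtypeVal.isOpenMap _ hcl.isOpen_compl

/-- A quasi-separated scheme of dimension `≤ 0` is Hausdorff. -/
theorem t2Space_of_quasiSeparatedSpace_of_dim_le_zero [QuasiSeparatedSpace X]
    (h : topologicalKrullDim X ≤ 0) : T2Space X := by
  refine ⟨fun x y hxy ↦ ?_⟩
  obtain ⟨_, ⟨U, hU, rfl⟩, hxU, -⟩ :=
    (X.isBasis_affineOpens).exists_subset_of_mem_open (Set.mem_univ x) isOpen_univ
  obtain ⟨_, ⟨V, hV, rfl⟩, hyV, -⟩ :=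
    (X.isBasis_affineOpens).exists_subset_of_mem_open (Set.mem_univ y) isOpen_univ
  by_cases hyU : y ∈ U
  · have := t2Space_of_isAffineOpen h hU
    have hne : (⟨x, hxU⟩ : ↥U) ≠ ⟨y, hyU⟩ := fun e ↦ hxy (congrArg Subtype.val e)
    obtain ⟨u, v, hu, hv, hxu, hyv, huv⟩ := t2_separation hne
    refine ⟨Subtype.val '' u, Subtype.val '' v,
      U.2.isOpenEmbedding_subtypeVal.isOpenMap _ hu, U.2.isOpenEmbedding_subtypeVal.isOpenMap _ hv,
      ⟨_, hxu, rfl⟩, ⟨_, hyv, rfl⟩, ?_⟩
    exact (Set.disjoint_image_iff Subtype.val_injective).mpr huv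
  · have hcomp : IsCompact ((U : Set X) ∩ (V : Set X)) :=
      QuasiSeparatedSpace.inter_isCompact _ _ U.2 hU.isCompact V.2 hV.isCompact
    have hopen := isOpen_diff_of_isAffineOpen h hV _ Set.inter_subset_right hcomp
    refine ⟨U, (V : Set X) \ ((U : Set X) ∩ (V : Set X)), U.2, hopen, hxU,
      ⟨hyV, fun hc ↦ hyU hc.1⟩, ?_⟩
    rw [Set.disjoint_left]
    rintro z hzU ⟨hzV, hz⟩
    exact hz ⟨hzU, hzV⟩

section T2Sep

open Scheme Pullback

variable {Y : Scheme.{u}} (f : X ⟶ Y)
variable (𝒰 : Y.OpenCover) (𝒱 : ∀ i, (pullback f (𝒰.f i)).OpenCover)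

set_option backward.defeqAttrib.useBackward true in
set_option backward.isDefEq.respectTransparency false in
/-- Points of `X ×[Y] X` with equal projections lie in the diagonal part of the diagonal cover. -/
theorem mem_diagonalCoverDiagonalRange_of_fst_eq_snd (x : ↑(pullback f f))
    (H : pullback.fst f f x = pullback.snd f f x) :
    x ∈ diagonalCoverDiagonalRange f 𝒰 𝒱 := by
  simp only [diagonalCoverDiagonalRange, openCoverOfBase_I₀, openCoverOfBase_X,
    openCoverOfLeftRight_I₀, Opens.iSup_mk, Opens.carrier_eq_coe, Hom.coe_opensRange, Opens.mem_mk,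
    Set.mem_iUnion, Set.mem_range, Sigma.exists]
  let i := 𝒰.idx (f (pullback.fst f f x))
  obtain ⟨y : 𝒰.X i, hy : 𝒰.f i y = f _⟩ :=
    𝒰.covers (f (pullback.fst f f x))
  obtain ⟨z, hz₁, hz₂⟩ := exists_preimage_pullback _ _ hy.symm
  let j := (𝒱 i).idx z
  obtain ⟨w : (𝒱 i).X j, hy : (𝒱 i).f j w = z⟩ := (𝒱 i).covers z
  refine ⟨i, j, ?_⟩
  simp_rw [diagonalCover_map]
  change x ∈ Set.range _
  simp only [diagonalCover, openCoverOfBase_I₀,
    Precoverage.ZeroHypercover.pullback₁_toPreZeroHypercover, PreZeroHypercover.pullback₁_X,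
    Precoverage.ZeroHypercover.bind_toPreZeroHypercover, openCoverOfBase_X,
    PreZeroHypercover.bind_X, openCoverOfLeftRight_I₀, openCoverOfLeftRight_X]
  rw [range_map]
  simp [← H, ← hz₁, ← hy]

/-- A morphism whose source is Hausdorff is separated. -/
theorem isSeparated_of_t2Space_source [T2Space X] : IsSeparated f := by
  constructor
  let 𝒰 := Y.affineCover
  let 𝒱 (i) := (pullback f (𝒰.f i)).affineCover
  have hW2 := isClosedImmersion_diagonal_restrict_diagonalCoverDiagonalRange f 𝒰 𝒱
  have hW1 := range_diagonal_subset_diagonalCoverDiagonalRange f 𝒰 𝒱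
  set W := diagonalCoverDiagonalRange f 𝒰 𝒱 with hWdef
  apply IsClosedImmersion.of_isPreimmersion
  -- the locus where the two projections agree is closed
  have hD : IsClosed {z : ↑(pullback f f) | pullback.fst f f z = pullback.snd f f z} :=
    isClosed_eq (pullback.fst f f).continuous (pullback.snd f f).continuous
  have hDW : {z : ↑(pullback f f) | pullback.fst f f z = pullback.snd f f z} ⊆ (W : Set _) :=
    fun z hz ↦ mem_diagonalCoverDiagonalRange_of_fst_eq_snd f 𝒰 𝒱 z hz
  have hΔD : Set.range (pullback.diagonal f) ⊆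
      {z : ↑(pullback f f) | pullback.fst f f z = pullback.snd f f z} := by
    rintro _ ⟨x, rfl⟩
    show pullback.fst f f (pullback.diagonal f x) = pullback.snd f f (pullback.diagonal f x)
    rw [← Scheme.Hom.comp_apply, ← Scheme.Hom.comp_apply, pullback.diagonal_fst,
      pullback.diagonal_snd]
  -- closedness of the range of the restricted diagonal
  have hcl : IsClosed (Set.range (pullback.diagonal f ∣_ W)) := (pullback.diagonal f ∣_ W).isClosedEmbedding.isClosed_range
  have hrange : Set.range (pullback.diagonal f ∣_ W) =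
      (Subtype.val ⁻¹' Set.range (pullback.diagonal f) : Set ↥W) := by
    ext ⟨z, hz⟩
    constructor
    · rintro ⟨a, ha⟩
      refine ⟨a.1, ?_⟩
      have := morphismRestrict_base_coe (pullback.diagonal f) W a
      rw [ha] at this
      exact this.symm
    · rintro ⟨a, ha⟩
      have haW : a ∈ (pullback.diagonal f) ⁻¹ᵁ W := by
        show pullback.diagonal f a ∈ W
        rw [ha]; exact hz
      refine ⟨⟨a, haW⟩, Subtype.ext ?_⟩
      exact (morphismRestrict_base_coe (pullback.diagonal f) W ⟨a, haW⟩).trans ha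
  rw [hrange] at hcl
  rw [← closure_subset_iff_isClosed]
  intro z hz
  have hzD : z ∈ {z : ↑(pullback f f) | pullback.fst f f z = pullback.snd f f z} :=
    closure_minimal hΔD hD hz
  have hzW : z ∈ W := hDW hzD
  have : (⟨z, hzW⟩ : ↥W) ∈ closure (Subtype.val ⁻¹' Set.range (pullback.diagonal f) : Set ↥W) := by
    rw [closure_subtype, Set.image_preimage_eq_inter_range]
    have : Set.range (Subtype.val : ↥W → _) = (W : Set _) := Subtype.range_coe
    rw [this, Set.inter_eq_left.mpr hW1]
    exact hz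
  exact hcl.closure_subset this

theorem isSeparated_of_t2Space (X : Scheme.{u}) [T2Space X] : X.IsSeparated :=
  ⟨isSeparated_of_t2Space_source _⟩

end T2Sep

/-- A closed-and-open subset of an affine open is an affine open. -/
theorem isAffineOpen_of_isClosed_of_le {V : X.Opens} (hV : IsAffineOpen V) (C : X.Opens)
    (hCV : C ≤ V) (hC : IsClosed (C : Set X)) : IsAffineOpen C := by
  have hclopen : IsClopen (hV.fromSpec ⁻¹' (C : Set X) : Set ↥(Spec Γ(X, V))) :=
    ⟨hC.preimage hV.fromSpec.continuous, C.2.preimage hV.fromSpec.continuous⟩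
  obtain ⟨e, -, hCe⟩ := PrimeSpectrum.isClopen_iff.mp
    (show IsClopen (hV.fromSpec ⁻¹' (C : Set X) : Set (PrimeSpectrum Γ(X, V))) from hclopen)
  have hCeq : C = X.basicOpen e := by
    rw [← hV.fromSpec_image_basicOpen]
    apply Opens.ext
    change (C : Set X) = hV.fromSpec '' (PrimeSpectrum.basicOpen e : Set (PrimeSpectrum Γ(X, V)))
    rw [← hCe]
    change (C : Set X) = hV.fromSpec '' (hV.fromSpec ⁻¹' (C : Set X) : Set ↥(Spec Γ(X, V)))
    rw [Set.image_preimage_eq_inter_range, hV.range_fromSpec]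
    exact (Set.inter_eq_left.mpr hCV).symm
  rw [hCeq]
  exact hV.basicOpen e

/-- In a Hausdorff scheme every quasi-compact open is affine. -/
theorem isAffineOpen_of_isCompact_of_t2Space [T2Space X] (U : X.Opens)
    (hU : IsCompact (U : Set X)) : IsAffineOpen U := by
  refine compact_open_induction_on (P := fun U ↦ IsAffineOpen U) U hU (isAffineOpen_bot X) ?_
  · intro S hS V ih
    have hSclosed : IsClosed (S : Set X) := hS.isClosed
    have hVclosed : IsClosed ((V : X.Opens) : Set X) := V.2.isCompact.isClosed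
    let C : X.Opens := ⟨((V : X.Opens) : Set X) \ (S : Set X), V.1.2.sdiff hSclosed⟩
    have hCV : C ≤ (V : X.Opens) := fun x hx ↦ hx.1
    have hCclosed : IsClosed (C : Set X) := hVclosed.sdiff S.2
    have hCaff : IsAffineOpen C := isAffineOpen_of_isClosed_of_le V.2 C hCV hCclosed
    have hdisj : Disjoint S C := by
      rw [← TopologicalSpace.Opens.coe_disjoint]
      exact Set.disjoint_sdiff_right
    have : S ⊔ (V : X.Opens) = S ⊔ C := by
      apply Opens.ext
      show (S : Set X) ∪ ((V : X.Opens) : Set X) = (S : Set X) ∪ (((V : X.Opens) : Set X) \ (S : Set X))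
      rw [Set.union_sdiff_self]
    rw [this]
    exact ih.sup_of_disjoint hCaff hdisj

end Scheme

end Groth.Agent.Lib.Helper51
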