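import Mathlib.AlgebraicGeometry.Morphisms.UniversallyOpen
import Mathlib.AlgebraicGeometry.PullbackCarrier

set_option autoImplicit false
universe u
open CategoryTheory AlgebraicGeometry CategoryTheory.Limits

namespace Groth.Agent.Lib.Helper51

/-- Dominance is preserved by base change along an open map. -/
theorem isDominant_pullback_snd_of_isOpenMap {X Y Y' : Scheme.{u}} (f : X ⟶ Y) (g : Y' ⟶ Y)
    (hg : IsOpenMap g) [IsDominant f] : IsDominant (pullback.snd f g) := by
  refine ⟨?_⟩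
  rw [DenseRange, Scheme.Pullback.range_snd, dense_iff_inter_open]
  intro V hV hVne
  have hopen : IsOpen (g '' V) := hg V hV
  have hne : (g '' V).Nonempty := hVne.image _
  obtain ⟨y, hy1, hy2⟩ := (dense_iff_inter_open.mp f.denseRange) _ hopen hne
  obtain ⟨v, hv, rfl⟩ := hy1
  exact ⟨v, hv, hy2⟩

/-- Dominance descends along jointly surjective families of base changes. -/
theorem isDominant_of_pullback_snd_of_jointly_surjective {ι : Type*} {X Y : Scheme.{u}}
    {Y' : ι → Scheme.{u}} (f : X ⟶ Y) (g : ∀ i, Y' i ⟶ Y)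
    (hsurj : ∀ y : Y, ∃ i, y ∈ Set.range (g i))
    (h : ∀ i, IsDominant (pullback.snd f (g i))) : IsDominant f := by
  refine ⟨?_⟩
  rw [DenseRange, dense_iff_inter_open]
  intro V hV ⟨y, hy⟩
  obtain ⟨i, y', rfl⟩ := hsurj y
  have hd := (h i).denseRange
  rw [DenseRange, Scheme.Pullback.range_snd, dense_iff_inter_open] at hd
  obtain ⟨z, hz1, hz2⟩ := hd ((g i) ⁻¹' V) (hV.preimage (g i).continuous) ⟨y', hy⟩
  exact ⟨_, hz1, hz2⟩

theorem isDominant_iff_pullback_snd_of_isOpenMap_of_surjective {X Y Y' : Scheme.{u}} (f : X ⟶ Y)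
    (g : Y' ⟶ Y) (hg : IsOpenMap g) (hs : Function.Surjective g) :
    IsDominant f ↔ IsDominant (pullback.snd f g) :=
  ⟨fun _ ↦ isDominant_pullback_snd_of_isOpenMap f g hg, fun h ↦
    isDominant_of_pullback_snd_of_jointly_surjective (ι := Unit) f (fun _ ↦ g)
      (fun y ↦ ⟨(), hs y⟩) (fun _ ↦ h)⟩

end Groth.Agent.Lib.Helper51
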