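import Groth.Agent.Lib.Helper51.SheafGlue
import Groth.Prelude.Def_AlgSpSub
import Groth.Agent.H52.Points

/-!
# Elementary distinguished squares are cocartesian (helper51)
-/

set_option autoImplicit false
universe u
open CategoryTheory CategoryTheory.Limits Opposite AlgebraicGeometry AlgSp

namespace Groth.Agent.Lib.Helper51

variable {S : Scheme.{u}}

/-- A sieve containing two flat, locally finitely presented, jointly surjective morphisms is a
covering sieve of the fppf topology. -/
lemma mem_J_of_fppf_pair {T E₁ E₂ : Over S} (c₁ : E₁ ⟶ T) (c₂ : E₂ ⟶ T)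
    [Flat c₁.left] [LocallyOfFinitePresentation c₁.left] [Flat c₂.left]
    [LocallyOfFinitePresentation c₂.left]
    (hsurj : ∀ t : ↥T.left, t ∈ Set.range c₁.left ∨ t ∈ Set.range c₂.left) (R : Sieve T)
    (h1 : R c₁) (h2 : R c₂) : R ∈ J S T := by
  refine mem_J_of_fppf_family (fun b : Bool => bif b then E₁ else E₂)
    (fun b => Bool.rec (motive := fun b => (bif b then E₁ else E₂) ⟶ T) c₂ c₁ b) ?_ ?_ ?_ R ?_
  · rintro (_ | _)
    · exact inferInstanceAs (Flat c₂.left)
    · exact inferInstanceAs (Flat c₁.left)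
  · rintro (_ | _)
    · exact inferInstanceAs (LocallyOfFinitePresentation c₂.left)
    · exact inferInstanceAs (LocallyOfFinitePresentation c₁.left)
  · intro t
    rcases hsurj t with h | h
    · exact ⟨true, h⟩
    · exact ⟨false, h⟩
  · rintro (_ | _)
    · exact h2
    · exact h1

/-- If the point of `W` defined by `t ∈ T` and `w : h_T ⟶ W` is the image of a point of `F`, then
over some field `Ω` there is an `Ω`-point of `T` over `t` whose image in `W` lifts to `F`. -/
theorem exists_field_lift_of_points_eq {F W : Sp S} (g : F ⟶ W) {T : Over S}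
    (w : (yon S).obj T ⟶ W) (t : ↥T.left) (x : Points F)
    (h : Points.map g x = Points.ofPt w t) :
    ∃ (Ω : Type u) (_ : Field Ω) (str : Spec (CommRingCat.of Ω) ⟶ S) (tΩ : Over.mk str ⟶ T)
      (ξ : (yon S).obj (Over.mk str) ⟶ F),
      tΩ.left (IsLocalRing.closedPoint Ω) = t ∧ ξ ≫ g = (yon S).map tΩ ≫ w := by
  rw [Points.ofPt_eq_map_ofScheme] at h
  obtain ⟨p, hp1, hp2⟩ := H52.exists_point_of_isPullback (IsPullback.of_hasPullback g w) x
    (Points.ofScheme T t) h
  induction p using Points.ind with | h q =>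
  obtain ⟨tΩ, htΩ⟩ := (yon S).map_surjective (H52.fieldPtToHom q ≫ pullback.snd g w)
  refine ⟨q.K, q.field, q.str, tΩ, H52.fieldPtToHom q ≫ pullback.fst g w, ?_, ?_⟩
  · have key := congrArg (Points.toScheme T) hp2
    rw [Points.toScheme_ofScheme, Points.map_mk, Points.toScheme_mk] at key
    have hval : (q.map (pullback.snd g w)).val = ⟨tΩ⟩ := by
      have h1 : H52.fieldPtToHom (q.map (pullback.snd g w)) = (yon S).map tΩ := by
        rw [H52.fieldPtToHom_map, htΩ]
      have h3 : yonEquiv ((yon S).map tΩ) = ⟨tΩ⟩ :=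
        GrothendieckTopology.uliftYonedaEquiv_uliftYoneda_map _ _
      have h4 : (q.map (pullback.snd g w)).val =
          yonEquiv (H52.fieldPtToHom (q.map (pullback.snd g w))) :=
        (Equiv.apply_symm_apply _ _).symm
      exact h4.trans ((congrArg yonEquiv h1).trans h3)
    rw [hval] at key
    exact key
  · rw [Category.assoc, pullback.condition, ← Category.assoc, htΩ]

/-- An `Ω`-point of `T` whose image in `W` lifts to `F` lies in the image of the base change of
the representable morphism `g : F ⟶ W`. -/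
theorem mem_range_snd_of_field_lift {F W : Sp S} {g : F ⟶ W} (hg : Representable g) {T : Over S}
    (w : (yon S).obj T ⟶ W) {Ω : Type u} [Field Ω] {str : Spec (CommRingCat.of Ω) ⟶ S}
    (tΩ : Over.mk str ⟶ T) (ξ : (yon S).obj (Over.mk str) ⟶ F)
    (h : ξ ≫ g = (yon S).map tΩ ≫ w) :
    tΩ.left (IsLocalRing.closedPoint Ω) ∈ Set.range (hg.snd w).left := by
  obtain ⟨l, hl⟩ := (yon S).map_surjective ((hg.isPullback w).lift ξ ((yon S).map tΩ) h)
  have hl2 : l ≫ hg.snd w = tΩ := by
    apply (yon S).map_injective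
    rw [Functor.map_comp, hl, (hg.isPullback w).lift_snd]
  refine ⟨l.left (IsLocalRing.closedPoint Ω), ?_⟩
  rw [← hl2]
  rfl

/-- A point of `T` whose image in `W` comes from a point of `F` lies in the image of the base
change of the representable morphism `g : F ⟶ W`. -/
theorem mem_range_snd_of_points_eq {F W : Sp S} {g : F ⟶ W} (hg : Representable g) {T : Over S}
    (w : (yon S).obj T ⟶ W) (t : ↥T.left) (x : Points F)
    (h : Points.map g x = Points.ofPt w t) : t ∈ Set.range (hg.snd w).left := by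
  obtain ⟨Ω, _, str, tΩ, ξ, h1, h2⟩ := exists_field_lift_of_points_eq g w t x h
  rw [← h1]
  exact mem_range_snd_of_field_lift hg w tΩ ξ h2

section

variable {U V W : Sp S} (j : U ⟶ W) (f : V ⟶ W)

/-- In an elementary distinguished square every point of `W` lifts fppf locally to `U` or `V`. -/
theorem liftSieve_mem_J_of_isElemDistSq (hV : IsAlgSpace V) (hsq : IsElemDistSq j f)
    {T : Over S} (w : (yon S).obj T ⟶ W) : liftSieve j f w ∈ J S T := by
  obtain ⟨hj, hf, Tc, P', i, p₁, p₂, ⟨-, hi, -⟩, hpb, hiso⟩ := hsq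
  obtain ⟨V', ψ, hψe, hψs⟩ := hV.atlas
  have hψf : RepWith @Etale (ψ ≫ f) := hf ψ hψe
  have hoi : IsOpenImmersion (hj.rep.snd w).left := hj.property_snd w
  have het : Etale (hψf.rep.snd w).left := hψf.property_snd w
  refine mem_J_of_fppf_pair (hj.rep.snd w) (hψf.rep.snd w) (fun t => ?_) _ ?_ ?_
  · by_cases ht : t ∈ Set.range (hj.rep.snd w).left
    · exact Or.inl ht
    · right
      have hnot : Points.ofPt w t ∉ Set.range (Points.map j) := fun ⟨y, hy⟩ =>
        ht (mem_range_snd_of_points_eq hj.rep w t y hy)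
      have hmem : Points.ofPt w t ∈ Set.range (Points.map i) := by
        rw [hi]
        exact hnot
      obtain ⟨τ, hτ⟩ := hmem
      have hπ : Points.map p₁ (Points.map (inv p₁) τ) = τ := by
        rw [← Points.map_comp, IsIso.inv_hom_id, Points.map_id]
      obtain ⟨y', hy'⟩ := H52.surjective_points_of_repWith_surjective ψ hψs
        (Points.map p₂ (Points.map (inv p₁) τ))
      have hy : Points.map (ψ ≫ f) y' = Points.ofPt w t := by
        rw [Points.map_comp, hy', ← Points.map_comp, ← hpb.w, Points.map_comp, hπ, hτ]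
      exact mem_range_snd_of_points_eq hψf.rep w t y' hy
  · exact Or.inl ⟨hj.rep.fst w, hj.rep.w w⟩
  · exact Or.inr ⟨hψf.rep.fst w ≫ ψ, by rw [Category.assoc]; exact hψf.rep.w w⟩

/-- In an elementary distinguished square with unramified `f` (open diagonal), two points of `V`
with the same image in `W` are fppf locally equal or over `U`. -/
theorem eqOrLiftSieve_mem_J_of_isElemDistSq (hsq : IsElemDistSq j f)
    (hΔ : RepWith @IsOpenImmersion (pullback.diagonal f))
    {T : Over S} (v₁ v₂ : (yon S).obj T ⟶ V) (h : v₁ ≫ f = v₂ ≫ f) :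
    eqOrLiftSieve j f v₁ v₂ ∈ J S T := by
  obtain ⟨hj, hf, Tc, P', i, p₁, p₂, ⟨-, hi, -⟩, hpb, hiso⟩ := hsq
  let ζ : (yon S).obj T ⟶ pullback f f := pullback.lift v₁ v₂ h
  have hζ1 : ζ ≫ pullback.fst f f = v₁ := pullback.lift_fst _ _ _
  have hζ2 : ζ ≫ pullback.snd f f = v₂ := pullback.lift_snd _ _ _
  have hoi₁ : IsOpenImmersion (hΔ.rep.snd ζ).left := hΔ.property_snd ζ
  have hoi₂ : IsOpenImmersion (hj.rep.snd (v₁ ≫ f)).left := hj.property_snd _
  refine mem_J_of_fppf_pair (hΔ.rep.snd ζ) (hj.rep.snd (v₁ ≫ f)) (fun t => ?_) _ ?_ ?_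
  · by_cases ht : t ∈ Set.range (hj.rep.snd (v₁ ≫ f)).left
    · exact Or.inr ht
    · left
      have hnot : Points.ofPt (v₁ ≫ f) t ∉ Set.range (Points.map j) := fun ⟨y, hy⟩ =>
        ht (mem_range_snd_of_points_eq hj.rep _ t y hy)
      have hmem : Points.ofPt (v₁ ≫ f) t ∈ Set.range (Points.map i) := by
        rw [hi]
        exact hnot
      obtain ⟨τ, hτ⟩ := hmem
      obtain ⟨Ω, _, str, tΩ, ξ, h1, h2⟩ := exists_field_lift_of_points_eq i (v₁ ≫ f) t τ hτ
      have e1 : ξ ≫ i = ((yon S).map tΩ ≫ v₁) ≫ f := by rw [h2, Category.assoc]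
      have e2 : ξ ≫ i = ((yon S).map tΩ ≫ v₂) ≫ f := by rw [h2, Category.assoc, h]
      have hπ : hpb.lift ξ _ e1 = hpb.lift ξ _ e2 := by
        rw [← cancel_mono p₁, hpb.lift_fst, hpb.lift_fst]
      have hv : (yon S).map tΩ ≫ v₁ = (yon S).map tΩ ≫ v₂ := by
        rw [← hpb.lift_snd ξ _ e1, hπ, hpb.lift_snd]
      have hζ : ((yon S).map tΩ ≫ v₁) ≫ pullback.diagonal f = (yon S).map tΩ ≫ ζ := by
        apply pullback.hom_ext
        · rw [Category.assoc, pullback.diagonal_fst, Category.comp_id, Category.assoc, hζ1]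
        · rw [Category.assoc, pullback.diagonal_snd, Category.comp_id, Category.assoc, hζ2, hv]
      rw [← h1]
      exact mem_range_snd_of_field_lift hΔ.rep ζ tΩ _ hζ
  · left
    have hw := hΔ.rep.w ζ
    have h1 := congrArg (· ≫ pullback.fst f f) hw
    have h2 := congrArg (· ≫ pullback.snd f f) hw
    simp only [Category.assoc, pullback.diagonal_fst, pullback.diagonal_snd, Category.comp_id,
      hζ1, hζ2] at h1 h2
    rw [← h1, ← h2]
  · right
    exact ⟨hj.rep.fst _, hj.rep.w _⟩

/-- An elementary distinguished square of sheaves whose etale part has an algebraic space as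
source and an open diagonal is cocartesian. -/
theorem isPushout_of_isElemDistSq_sp (hV : IsAlgSpace V) (hsq : IsElemDistSq j f)
    (hΔ : RepWith @IsOpenImmersion (pullback.diagonal f)) {P : Sp S} (p : P ⟶ U) (q : P ⟶ V)
    (hP : IsPullback p q j f) : IsPushout p q j f := by
  have hmono : Mono j := H52.mono_of_repWith j @IsOpenImmersion
    (fun _ _ g hg => by have := hg; infer_instance) hsq.1
  exact isPushout_of_liftSieve_mem j f p q hP
    (fun T w => liftSieve_mem_J_of_isElemDistSq j f hV hsq w)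
    (fun T v₁ v₂ h => eqOrLiftSieve_mem_J_of_isElemDistSq j f hsq hΔ v₁ v₂ h)

end

end Groth.Agent.Lib.Helper51
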