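import Groth.Prelude.Def_AlgSpMor5
import Groth.Agent.Lib.Helper51.AlgSpBasic
import Mathlib.AlgebraicGeometry.Sites.Etale

/-!
# Properties etale local on the target: one surjective etale chart suffices (helper51)
-/

set_option autoImplicit false
universe u
open CategoryTheory CategoryTheory.Limits AlgebraicGeometry Opposite AlgSp

namespace Groth.Agent.Lib.Helper51

section Scheme

variable (P : MorphismProperty Scheme.{u}) [P.IsLocalAtTarget Scheme.etalePrecoverage]

/-- auxiliary two-element family `{g, 𝟙}` -/
def famObj (Y U : Scheme.{u}) : Bool → Scheme.{u}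
  | true => U
  | false => Y

/-- auxiliary two-element family `{g, 𝟙}` -/
def famMap {Y U : Scheme.{u}} (g : U ⟶ Y) : (b : Bool) → (famObj Y U b ⟶ Y)
  | true => g
  | false => 𝟙 Y

include P in
/-- A property etale local on the target is stable under etale base change. -/
lemma of_etale_base_change {X Y U X' : Scheme.{u}} {f : X ⟶ Y} {g : U ⟶ Y} [Etale g]
    {fst : X' ⟶ X} {snd : X' ⟶ U} (sq : IsPullback fst snd f g) (hf : P f) : P snd := by
  have hR : Presieve.ofArrows (famObj Y U) (famMap g) ∈ Scheme.etalePrecoverage Y := by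
    rw [Scheme.etalePrecoverage, Scheme.ofArrows_mem_precoverage_iff]
    refine ⟨fun x => ⟨false, x, rfl⟩, fun b => ?_⟩
    cases b
    · exact (inferInstance : Etale (𝟙 Y))
    · exact (inferInstance : Etale g)
  have hg : Presieve.ofArrows (famObj Y U) (famMap g) g := Presieve.ofArrows.mk true
  have : HasPullback f g := sq.hasPullback
  have h := MorphismProperty.IsLocalAtTarget.pullbackSnd hR hg hf
  rw [← sq.isoPullback_hom_snd]
  exact (P.cancel_left_of_respectsIso _ _).2 h

include P in
/-- A property etale local on the target descends along a surjective etale morphism. -/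
lemma of_etale_surjective_descent {X Y U X' : Scheme.{u}} {f : X ⟶ Y} {g : U ⟶ Y} [Etale g]
    [Surjective g] {fst : X' ⟶ X} {snd : X' ⟶ U} (sq : IsPullback fst snd f g) (h : P snd) :
    P f := by
  have hR : Presieve.singleton g ∈ Scheme.etalePrecoverage Y := by
    rw [Scheme.etalePrecoverage, Scheme.singleton_mem_precoverage_iff]
    exact ⟨g.surjective, inferInstance⟩
  refine MorphismProperty.IsLocalAtTarget.of_forall_pullbackSnd hR ?_
  rintro U' g' _ ⟨⟩
  rw [← sq.isoPullback_inv_snd]
  exact (P.cancel_left_of_respectsIso _ _).2 h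

end Scheme

variable {S : Scheme.{u}}

/-- One surjective etale chart suffices for `RepLocT P`. -/
theorem repLocT_of_surjective_etale_chart (P : MorphismProperty Scheme.{u})
    [P.IsLocalAtTarget Scheme.etalePrecoverage] {X Y : Sp S} (f : X ⟶ Y) (hf : Representable f)
    {V W : Over S} (b : (yon S).obj V ⟶ Y) (hb1 : RepWith @Etale b) (hb2 : RepWith @Surjective b)
    (fst : (yon S).obj W ⟶ X) (snd : W ⟶ V) (sq : IsPullback fst ((yon S).map snd) f b)
    (hP : P snd.left) : RepLocT P f := by
  refine ⟨hf, fun V' W' b' fst' snd' hb' sq' => ?_⟩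
  have hrepb := hb1.rep
  have sqT := hrepb.isPullback b'
  obtain ⟨pV, hpV⟩ := (yon S).map_surjective (hrepb.fst b')
  rw [← hpV] at sqT
  have he1 : Etale (hrepb.snd b').left := hb1.property_snd b'
  have hs1 : Surjective (hrepb.snd b').left := hb2.2 b' _ _ (hrepb.isPullback b')
  have he2 : Etale pV.left := hb'.2 b _ _ sqT.flip
  -- the two fibre products over `T`
  have sq1 := IsPullback.of_hasPullback snd pV
  have sq2 := IsPullback.of_hasPullback snd' (hrepb.snd b')
  have hP1 : P (pullback.snd snd pV).left :=
    @of_etale_base_change P _ _ _ _ _ _ _ he2 _ _ (sq1.map (Over.forget S)) hP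
  have big1 : IsPullback ((yon S).map (pullback.fst snd pV) ≫ fst)
      ((yon S).map (pullback.snd snd pV)) f ((yon S).map pV ≫ b) :=
    (sq1.map (yon S)).paste_horiz sq
  have big2 : IsPullback ((yon S).map (pullback.fst snd' (hrepb.snd b')) ≫ fst')
      ((yon S).map (pullback.snd snd' (hrepb.snd b'))) f
      ((yon S).map (hrepb.snd b') ≫ b') :=
    (sq2.map (yon S)).paste_horiz sq'
  rw [← sqT.w] at big2
  let e := big2.isoIsPullback _ _ big1
  have he : e.hom ≫ (yon S).map (pullback.snd snd pV) =
      (yon S).map (pullback.snd snd' (hrepb.snd b')) := big2.isoIsPullback_hom_snd _ _ big1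
  let ε := (yon S).preimageIso e
  have hε : ε.hom ≫ pullback.snd snd pV = pullback.snd snd' (hrepb.snd b') := by
    apply (yon S).map_injective
    rw [Functor.map_comp, Functor.preimageIso_hom, Functor.map_preimage, he]
  have hP2 : P (pullback.snd snd' (hrepb.snd b')).left := by
    rw [← hε, Over.comp_left]
    have : IsIso ε.hom.left := inferInstanceAs (IsIso ((Over.forget S).map ε.hom))
    exact (P.cancel_left_of_respectsIso ε.hom.left _).2 hP1
  exact @of_etale_surjective_descent P _ _ _ _ _ _ _ he1 hs1 _ _ (sq2.map (Over.forget S)) hP2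

end Groth.Agent.Lib.Helper51
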