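import Mathlib

/-!
# Equal extension classes give a morphism of extensions (helper51)
-/

set_option autoImplicit false
set_option linter.style.haveILetI false
universe w v u
open CategoryTheory Limits Abelian

namespace Groth.Agent.Lib.Helper51.Ribbon

variable {A : Type u} [Category.{v} A] [Abelian A] [HasExt.{w} A]

/-- If the class of `0 → L → E → Q → 0` pushed out along `α : L ⟶ L'` is the class of
`0 → L' → E' → Q → 0`, there is a morphism of extensions inducing `α` and the identity of `Q`. -/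
theorem exists_middle_of_extClass_comp_eq {L L' E E' Q : A} {φ : L ⟶ E} {c : E ⟶ Q}
    {φ' : L' ⟶ E'} {c' : E' ⟶ Q} (hw : φ ≫ c = 0) (hS : (ShortComplex.mk φ c hw).ShortExact)
    (hw' : φ' ≫ c' = 0) (hS' : (ShortComplex.mk φ' c' hw').ShortExact) (α : L ⟶ L')
    (h : hS.extClass.comp (Ext.mk₀ α) (add_zero 1) = hS'.extClass) :
    ∃ β : E ⟶ E', φ ≫ β = α ≫ φ' ∧ β ≫ c' = c := by
  haveI : Mono (ShortComplex.mk φ' c' hw').f := hS'.mono_f
  -- step 1: some `β₀` over the identity of `Q`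
  have h1 : (Ext.mk₀ c).comp hS'.extClass (zero_add 1) = 0 := by
    rw [← h]
    exact hS.comp_extClass_assoc (Ext.mk₀ α) (add_zero 1)
  obtain ⟨x₂, hx₂⟩ := Ext.covariant_sequence_exact₃ E hS' (Ext.mk₀ c) (zero_add 1) h1
  obtain ⟨β₀, rfl⟩ := (Ext.mk₀_bijective _ _).2 x₂
  have hβ₀ : β₀ ≫ c' = c := by
    apply (Ext.mk₀_bijective _ _).1
    rw [← Ext.mk₀_comp_mk₀]
    exact hx₂
  -- step 2: the induced map on kernels
  let γ : L ⟶ L' := hS'.exact.lift (φ ≫ β₀) (by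
    change (φ ≫ β₀) ≫ c' = 0
    rw [Category.assoc, hβ₀, hw])
  have hγ : γ ≫ φ' = φ ≫ β₀ := hS'.exact.lift_f _ _
  let F : ShortComplex.mk φ c hw ⟶ ShortComplex.mk φ' c' hw' :=
    { τ₁ := γ
      τ₂ := β₀
      τ₃ := 𝟙 Q
      comm₁₂ := hγ
      comm₂₃ := by
        change β₀ ≫ c' = c ≫ 𝟙 _
        rw [Category.comp_id]
        exact hβ₀ }
  have key := ShortComplex.ShortExact.extClass_naturality hS hS' F
  rw [Ext.mk₀_id_comp] at key
  have key' : hS.extClass.comp (Ext.mk₀ γ) (add_zero 1) = hS'.extClass := key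
  -- step 3: correct by a map `E ⟶ L'`
  have h3 : hS.extClass.comp (Ext.mk₀ (γ - α)) (add_zero 1) = 0 := by
    rw [sub_eq_add_neg, Ext.mk₀_add, Ext.mk₀_neg, Ext.comp_add, Ext.comp_neg, key', h, add_neg_cancel]
  obtain ⟨y₂, hy₂⟩ := Ext.contravariant_sequence_exact₁ hS L' (Ext.mk₀ (γ - α)) (add_zero 1) h3
  obtain ⟨δ, rfl⟩ := (Ext.mk₀_bijective _ _).2 y₂
  have hδ : φ ≫ δ = γ - α := by
    apply (Ext.mk₀_bijective _ _).1
    rw [← Ext.mk₀_comp_mk₀]
    exact hy₂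
  refine ⟨β₀ - δ ≫ φ', ?_, ?_⟩
  · rw [Preadditive.comp_sub, ← Category.assoc, hδ, Preadditive.sub_comp, hγ]
    abel
  · rw [Preadditive.sub_comp, Category.assoc, hw', comp_zero, sub_zero, hβ₀]

end Groth.Agent.Lib.Helper51.Ribbon
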