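import Mathlib
import Groth.Agent.H46.ExtPowBaseChange
import Groth.Agent.Lib.Helper71.ExtPowFibre

/-!
# Exterior powers of finite projective modules: projectivity, vanishing above the rank,
and the top exterior power is invertible (`R ≃ End`) (helper51)
-/

set_option autoImplicit false
set_option linter.style.haveILetI false
set_option linter.unusedSectionVars false

universe u

open TensorProduct

namespace Groth.Agent.Lib.Helper51.ExtPowRank

variable {R : Type u} [CommRing R] {M : Type u} [AddCommGroup M] [Module R M]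

/-- Exterior powers of a projective module are projective. -/
theorem projective_exteriorPower [Module.Projective R M] (n : ℕ) :
    Module.Projective R (⋀[R]^n M) := by
  obtain ⟨s, hs⟩ := Module.projective_def'.mp ‹Module.Projective R M›
  exact Module.Projective.of_split (exteriorPower.map n s)
    (exteriorPower.map n (Finsupp.linearCombination R id))
    (by rw [← exteriorPower.map_comp, hs, exteriorPower.map_id])

/-- The `m`-th exterior power of a finite flat module all of whose local ranks are `< m` is zero. -/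
theorem subsingleton_exteriorPower_of_rankAtStalk_lt [Module.Finite R M] [Module.Flat R M] (m : ℕ)
    (h : ∀ p : PrimeSpectrum R, Module.rankAtStalk M p < m) : Subsingleton (⋀[R]^m M) := by
  have hann : (⋀[R]^m M).annihilator = ⊤ := by
    by_contra hne
    obtain ⟨𝔪, h𝔪, hle⟩ := Ideal.exists_le_maximal _ hne
    haveI := h𝔪.isPrime
    refine Groth.Agent.Lib.Helper71.ExtPowFibre.annihilator_extPow_not_le 𝔪 m ?_ hle
    have := Ideal.finrank_fiber_eq_rankAtStalk (M := M) 𝔪
    change Module.finrank 𝔪.ResidueField (𝔪.ResidueField ⊗[R] M) = _ at this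
    rw [this]
    exact h ⟨𝔪, _⟩
  refine ⟨fun x y => ?_⟩
  have h1 : (1 : R) ∈ (⋀[R]^m M).annihilator := by rw [hann]; trivial
  have hz : ∀ z : ⋀[R]^m M, z = 0 := by
    intro z
    have := (Submodule.mem_annihilator.mp h1) z.1 z.2
    rw [one_smul] at this
    exact Subtype.ext this
  rw [hz x, hz y]

section End

variable {P : Type u} [AddCommGroup P] [Module R P]

/-- For a module over a ring `A` (localization of `R`) isomorphic to `A`, `A → End_R` is bijective. -/
theorem lsmul_bijective_of_equiv (S : Submonoid R) (A : Type u) [CommRing A] [Algebra R A]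
    [IsLocalization S A] (Q : Type u) [AddCommGroup Q] [Module R Q] [Module A Q]
    [IsScalarTower R A Q] (e : Q ≃ₗ[A] A)
    (Ψ : A →ₗ[R] (Q →ₗ[R] Q)) (hΨ : ∀ (x : A) (y : Q), Ψ x y = x • y) :
    Function.Bijective Ψ := by
  have hgen : ∀ z : Q, z = e z • e.symm 1 := by
    intro z
    apply e.injective
    rw [map_smul, e.apply_symm_apply, smul_eq_mul, mul_one]
  constructor
  · rw [injective_iff_map_eq_zero]
    intro x hx
    have h1 : x • e.symm 1 = 0 := by rw [← hΨ, hx]; rfl
    have h2 := congrArg e h1
    rwa [map_smul, e.apply_symm_apply, smul_eq_mul, mul_one, map_zero] at h2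
  · intro h
    let h' : Q →ₗ[A] Q := LinearMap.extendScalarsOfIsLocalization S A h
    have hh' : ∀ y, h' y = h y := fun y => rfl
    refine ⟨e (h (e.symm 1)), ?_⟩
    ext y
    rw [hΨ]
    conv_rhs => rw [hgen y, ← hh', map_smul, hh', hgen (h (e.symm 1))]
    rw [smul_smul, mul_comm, ← smul_smul, ← hgen y]

/-- If `P` is finitely presented and each localization of `P` at a maximal ideal is isomorphic to
the local ring, then `R → End_R(P)` is bijective. -/
theorem lsmul_bijective [Module.FinitePresentation R P]
    (h : ∀ (𝔪 : Ideal R) [𝔪.IsMaximal], Nonempty (LocalizedModule 𝔪.primeCompl P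
      ≃ₗ[Localization.AtPrime 𝔪] Localization.AtPrime 𝔪)) :
    Function.Bijective (LinearMap.lsmul R P) := by
  refine bijective_of_isLocalized_maximal (fun 𝔪 _ => Localization.AtPrime 𝔪)
    (fun 𝔪 _ => Algebra.linearMap R (Localization.AtPrime 𝔪))
    (fun 𝔪 _ => LocalizedModule 𝔪.primeCompl P →ₗ[R] LocalizedModule 𝔪.primeCompl P)
    (fun 𝔪 _ => IsLocalizedModule.map 𝔪.primeCompl (LocalizedModule.mkLinearMap 𝔪.primeCompl P)
      (LocalizedModule.mkLinearMap 𝔪.primeCompl P))
    (LinearMap.lsmul R P) ?_
  intro 𝔪 _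
  obtain ⟨e⟩ := h 𝔪
  refine lsmul_bijective_of_equiv 𝔪.primeCompl (Localization.AtPrime 𝔪)
    (LocalizedModule 𝔪.primeCompl P) e _ ?_
  let Ψ : Localization.AtPrime 𝔪 →ₗ[R]
      (LocalizedModule 𝔪.primeCompl P →ₗ[R] LocalizedModule 𝔪.primeCompl P) :=
    { toFun := fun x => (LinearMap.lsmul (Localization.AtPrime 𝔪)
        (LocalizedModule 𝔪.primeCompl P) x).restrictScalars R
      map_add' := by intro a b; ext y; simp
      map_smul' := by intro a b; ext y; simp }
  have hΨ : ∀ x y, Ψ x y = x • y := fun x y => rfl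
  have key : IsLocalizedModule.map 𝔪.primeCompl (Algebra.linearMap R (Localization.AtPrime 𝔪))
      (IsLocalizedModule.map 𝔪.primeCompl (LocalizedModule.mkLinearMap 𝔪.primeCompl P)
        (LocalizedModule.mkLinearMap 𝔪.primeCompl P)) (LinearMap.lsmul R P) = Ψ := by
    apply IsLocalizedModule.linearMap_ext 𝔪.primeCompl (Algebra.linearMap R (Localization.AtPrime 𝔪))
      (IsLocalizedModule.map 𝔪.primeCompl (LocalizedModule.mkLinearMap 𝔪.primeCompl P)
        (LocalizedModule.mkLinearMap 𝔪.primeCompl P))
    refine LinearMap.ext fun r => ?_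
    apply IsLocalizedModule.linearMap_ext 𝔪.primeCompl (LocalizedModule.mkLinearMap 𝔪.primeCompl P)
      (LocalizedModule.mkLinearMap 𝔪.primeCompl P)
    refine LinearMap.ext fun p => ?_
    simp only [LinearMap.coe_comp, Function.comp_apply, IsLocalizedModule.map_apply, hΨ]
    simp
  intro x y
  rw [key, hΨ]

end End

section Top

open Groth.Agent.H46.ExtBC

/-- The localization at a maximal ideal of the top exterior power of a finite projective module of
constant rank `n` is free of rank one. -/
theorem nonempty_localizedModule_exteriorPower_equiv [Module.Finite R M] [Module.Projective R M]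
    (n : ℕ) (hn : ∀ p : PrimeSpectrum R, Module.rankAtStalk M p = n) (𝔪 : Ideal R) [𝔪.IsMaximal] :
    Nonempty (LocalizedModule 𝔪.primeCompl (⋀[R]^n M) ≃ₗ[Localization.AtPrime 𝔪]
      Localization.AtPrime 𝔪) := by
  let A := Localization.AtPrime 𝔪
  let fN := LocalizedModule.mkLinearMap 𝔪.primeCompl M
  have hfN : IsBaseChange A fN := IsLocalizedModule.isBaseChange 𝔪.primeCompl A fN
  let e1 : LocalizedModule 𝔪.primeCompl (⋀[R]^n M) ≃ₗ[A] A ⊗[R] (⋀[R]^n M) :=
    LocalizedModule.equivTensorProduct 𝔪.primeCompl _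
  let e2 : A ⊗[R] (⋀[R]^n M) ≃ₗ[A] ⋀[A]^n (LocalizedModule 𝔪.primeCompl M) :=
    LinearEquiv.ofBijective (bcMap R A fN n) (bcMap_bijective hfN n)
  haveI : Module.Free A (LocalizedModule 𝔪.primeCompl M) := Module.free_of_flat_of_isLocalRing
  have hfr : Module.finrank A (⋀[A]^n (LocalizedModule 𝔪.primeCompl M)) = 1 := by
    rw [exteriorPower.finrank_eq]
    have : Module.finrank A (LocalizedModule 𝔪.primeCompl M) = n :=
      hn ⟨𝔪, inferInstance⟩
    rw [this, Nat.choose_self]
  obtain ⟨e3⟩ := FiniteDimensional.nonempty_linearEquiv_of_finrank_eq (R := A)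
    (M := ⋀[A]^n (LocalizedModule 𝔪.primeCompl M)) (M' := A) (by rw [hfr, Module.finrank_self])
  exact ⟨e1 ≪≫ₗ e2 ≪≫ₗ e3⟩

/-- For a finite projective module `M` of constant rank `n`, `R → End_R(⋀ⁿ M)` is bijective. -/
theorem lsmul_exteriorPower_bijective [Module.Finite R M] [Module.Projective R M]
    (n : ℕ) (hn : ∀ p : PrimeSpectrum R, Module.rankAtStalk M p = n) :
    Function.Bijective (LinearMap.lsmul R (⋀[R]^n M)) := by
  haveI := projective_exteriorPower (R := R) (M := M) n
  haveI : Module.FinitePresentation R (⋀[R]^n M) := Module.finitePresentation_of_projective _ _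
  exact lsmul_bijective (fun 𝔪 _ => nonempty_localizedModule_exteriorPower_equiv n hn 𝔪)

end Top

end Groth.Agent.Lib.Helper51.ExtPowRank
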