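import Mathlib

/-!
# Ring-level lemmas on `H¹` of the naive cotangent complex (helper51)

* `injective_map_ofComp`, `injective_h1Cotangent_map`: if `S` is formally smooth over `R`, then
  `H¹(L_{T/R}) → H¹(L_{T/S})` is injective.
* `nonempty_h1_equiv`: for a pushout `A'' = A ⊗[R] A'` with `A'` formally smooth over `R` and
  `A → A'' → B` with `Ω[B/A] = 0`: `H¹(L_{B/A''}) ≃ H¹(L_{B/A}) × (B ⊗[A'] Ω[A'/R])`.
* `nonempty_prod_equiv`: independence of the virtual rank of the factorisation.
-/

set_option autoImplicit false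
set_option linter.style.haveILetI false
universe u
open Algebra TensorProduct KaehlerDifferential

namespace Groth.Agent.Lib.Helper51.VirtDim

section gen

universe w₁ w₂ u₁ u₂ u₃

variable {R : Type u₁} {S : Type u₂} [CommRing R] [CommRing S] [Algebra R S]
variable {T : Type u₃} [CommRing T] [Algebra R T] [Algebra S T] [IsScalarTower R S T]
variable {ι : Type w₁} {σ : Type w₂}
variable (Q : Generators S T ι) (P : Generators R S σ)

set_option backward.isDefEq.respectTransparency.types false in
open LinearMap Generators in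
theorem injective_map_ofComp [FormallySmooth R S] :
    Function.Injective (Extension.H1Cotangent.map (Q.ofComp P).toExtensionHom) := by
  haveI : FormallySmooth R P.toExtension.Ring :=
    inferInstanceAs (FormallySmooth R (MvPolynomial σ R))
  obtain ⟨l, hl⟩ :=
    (Extension.formallySmooth_iff_split_injection P.toExtension).mp inferInstance
  rw [injective_iff_map_eq_zero]
  rintro ⟨x, x_in⟩ hx
  replace hx : Extension.Cotangent.map (Q.ofComp P).toExtensionHom x = 0 := by
    simpa [← Extension.h1Cotangentι_injective.eq_iff] using hx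
  rw [← mem_ker, (Generators.Cotangent.exact Q P).linearMap_ker_eq] at hx
  rcases hx with ⟨z, rfl⟩
  rw [mem_ker, ← comp_apply, ← Generators.H1Cotangent.map_comp_cotangentComplex_baseChange,
    comp_apply, ← mem_ker, ker_eq_bot.mpr (Generators.CotangentSpace.map_toComp_injective Q P),
    Submodule.mem_bot] at x_in
  have hz : z = 0 := by
    have h := congrArg (l.baseChange T) x_in
    rw [map_zero, ← LinearMap.comp_apply, ← LinearMap.baseChange_comp, hl,
      LinearMap.baseChange_id] at h
    exact h
  subst hz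
  ext
  simp

open Generators in
theorem injective_h1Cotangent_map [FormallySmooth R S] :
    Function.Injective (Algebra.H1Cotangent.map R S T T) := by
  let Q := Generators.self S T
  let P := Generators.self R S
  let W := Generators.self R T
  have h := injective_map_ofComp Q P
  have hcomp : (Extension.H1Cotangent.map (Generators.defaultHom W Q).toExtensionHom).restrictScalars T ∘ₗ
      (Extension.H1Cotangent.map (Generators.defaultHom (Q.comp P) W).toExtensionHom) =
      Extension.H1Cotangent.map (Q.ofComp P).toExtensionHom := by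
    rw [← Extension.H1Cotangent.map_comp,
      Extension.H1Cotangent.map_eq _ (Q.ofComp P).toExtensionHom]
  have hbij : Function.Bijective
      (Extension.H1Cotangent.map (Generators.defaultHom (Q.comp P) W).toExtensionHom) :=
    (Generators.H1Cotangent.equiv (Q.comp P) W).bijective
  have h' : Function.Injective
      (⇑(Extension.H1Cotangent.map (Generators.defaultHom W Q).toExtensionHom) ∘
        ⇑(Extension.H1Cotangent.map (Generators.defaultHom (Q.comp P) W).toExtensionHom)) := by
    have : ⇑(Extension.H1Cotangent.map (Generators.defaultHom W Q).toExtensionHom) ∘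
        ⇑(Extension.H1Cotangent.map (Generators.defaultHom (Q.comp P) W).toExtensionHom) =
        ⇑(Extension.H1Cotangent.map (Q.ofComp P).toExtensionHom) := by
      funext x
      exact LinearMap.congr_fun hcomp x
    rw [this]
    exact h
  exact (Function.Injective.of_comp_iff' _ hbij).mp h'

end gen

section pushout

variable {R A A' A'' B : Type u} [CommRing R] [CommRing A] [CommRing A'] [CommRing A'']
  [CommRing B] [Algebra R A] [Algebra R A'] [Algebra R A''] [Algebra A A''] [Algebra A' A'']
  [IsScalarTower R A A''] [IsScalarTower R A' A''] [Algebra.IsPushout R A A' A'']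
  [Algebra A'' B] [Algebra A B] [Algebra A' B] [IsScalarTower A A'' B] [IsScalarTower A' A'' B]

/-- `H¹(L_{B/A''}) ≃ H¹(L_{B/A}) × (B ⊗[A'] Ω[A'/R])` for `A'' = A ⊗[R] A'`, `A'` formally smooth
over `R` and `Ω[B/A] = 0`. -/
theorem nonempty_h1_equiv [FormallySmooth R A'] [Subsingleton Ω[B⁄A]] :
    Nonempty (Algebra.H1Cotangent A'' B ≃ₗ[B] Algebra.H1Cotangent A B × (B ⊗[A'] Ω[A'⁄R])) := by
  haveI : FormallySmooth A A'' :=
    FormallySmooth.of_equiv (Algebra.IsPushout.equiv R A A' A'')
  have hinj := injective_h1Cotangent_map (R := A) (S := A'') (T := B)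
  have hex1 := Algebra.H1Cotangent.exact_map_δ A A'' B
  have hex2 := Algebra.H1Cotangent.exact_δ_mapBaseChange A A'' B
  have hsurj : Function.Surjective (Algebra.H1Cotangent.δ A A'' B) := by
    intro y
    exact (hex2 y).mp (Subsingleton.elim _ _)
  obtain ⟨σ, hσ⟩ := Module.projective_lifting_property (Algebra.H1Cotangent.δ A A'' B)
    LinearMap.id hsurj
  let e₁ : Algebra.H1Cotangent A'' B ≃ₗ[B] Algebra.H1Cotangent A B × (B ⊗[A''] Ω[A''⁄A]) :=
    (hex1.splitSurjectiveEquiv hinj ⟨σ, hσ⟩).1
  let e₂ : (B ⊗[A''] Ω[A''⁄A]) ≃ₗ[B] B ⊗[A''] (A'' ⊗[A'] Ω[A'⁄R]) :=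
    TensorProduct.AlgebraTensorModule.congr (LinearEquiv.refl B B)
      (KaehlerDifferential.tensorKaehlerEquiv R A A' A'').symm
  let e₃ : (B ⊗[A''] (A'' ⊗[A'] Ω[A'⁄R])) ≃ₗ[B] B ⊗[A'] Ω[A'⁄R] :=
    TensorProduct.AlgebraTensorModule.cancelBaseChange A' A'' B B Ω[A'⁄R]
  exact ⟨e₁ ≪≫ₗ (LinearEquiv.refl B _).prodCongr (e₂ ≪≫ₗ e₃)⟩

end pushout

section main

variable {R A A' B : Type u} [CommRing R] [CommRing A] [CommRing A'] [CommRing B]
  [Algebra R A] [Algebra R A'] [Algebra R B] [Algebra A B] [Algebra A' B]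
  [IsScalarTower R A B] [IsScalarTower R A' B]

attribute [local instance] Algebra.TensorProduct.rightAlgebra in
/-- **Independence of the factorisation**: if `R → A → B` and `R → A' → B` are two factorisations
of `R → B` with `A`, `A'` formally smooth over `R` and `Ω[B/A] = 0 = Ω[B/A']`, then
`H¹(L_{B/A}) × (B ⊗ Ω[A'/R]) ≃ H¹(L_{B/A'}) × (B ⊗ Ω[A/R])`. -/
theorem nonempty_prod_equiv [FormallySmooth R A] [FormallySmooth R A']
    [Subsingleton Ω[B⁄A]] [Subsingleton Ω[B⁄A']] :
    Nonempty ((Algebra.H1Cotangent A B × (B ⊗[A'] Ω[A'⁄R])) ≃ₗ[B]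
      (Algebra.H1Cotangent A' B × (B ⊗[A] Ω[A⁄R]))) := by
  let φ : A ⊗[R] A' →ₐ[R] B :=
    Algebra.TensorProduct.productMap (IsScalarTower.toAlgHom R A B) (IsScalarTower.toAlgHom R A' B)
  letI : Algebra (A ⊗[R] A') B := φ.toRingHom.toAlgebra
  haveI t1 : IsScalarTower A (A ⊗[R] A') B := IsScalarTower.of_algebraMap_eq (fun a => by
    change algebraMap A B a = φ (a ⊗ₜ 1)
    rw [Algebra.TensorProduct.productMap_apply_tmul, map_one, mul_one]
    rfl)
  haveI t2 : IsScalarTower A' (A ⊗[R] A') B := IsScalarTower.of_algebraMap_eq (fun a => by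
    change algebraMap A' B a = φ (1 ⊗ₜ a)
    rw [Algebra.TensorProduct.productMap_apply_tmul, map_one, one_mul]
    rfl)
  haveI p1 : Algebra.IsPushout R A A' (A ⊗[R] A') := TensorProduct.isPushout
  haveI p2 : Algebra.IsPushout R A' A (A ⊗[R] A') := p1.symm
  obtain ⟨e⟩ := nonempty_h1_equiv (R := R) (A := A) (A' := A') (A'' := A ⊗[R] A') (B := B)
  obtain ⟨e'⟩ := nonempty_h1_equiv (R := R) (A := A') (A' := A) (A'' := A ⊗[R] A') (B := B)
  exact ⟨e.symm ≪≫ₗ e'⟩

end main

end Groth.Agent.Lib.Helper51.VirtDim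

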