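import Mathlib
import Groth.Agent.Lib.Helper51.VirtDimAlg
import Groth.Agent.Lib.Helper10.LciJacobian
import Groth.Agent.Lib.Helper10.KoszulComp
import Groth.Agent.Lib.Helper10.KoszulFlat
import Groth.Agent.Lib.Helper10.KoszulH1
import Groth.Agent.Lib.Helper10.LciTrans
import Groth.Prelude.Def_LCI2

/-!
# Additivity of the virtual relative dimension: ring-level core (helper51)
-/

set_option autoImplicit false
set_option linter.style.haveILetI false
set_option linter.unusedSectionVars false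
universe u
open Algebra TensorProduct KaehlerDifferential

namespace Groth.Agent.Lib.Helper51.VirtDimComp

section R1

variable {A C : Type u} [CommRing A] [CommRing C] [Algebra A C]

open Groth.Agent.Lib.Helper89.JacCrit Groth.Agent.Lib.Helper10.LciJacobian in
/-- For a surjection `A → C` whose kernel is generated by an `H_1`-regular sequence of length `c`,
`H¹(L_{C/A})` is free of rank `c`. -/
theorem nonempty_h1Cotangent_equiv_of_isH1Regular
    (hsurj : Function.Surjective (algebraMap A C)) {c : ℕ} (rs : Fin c → A)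
    (hrs : Ideal.span (Set.range rs) = RingHom.ker (algebraMap A C))
    (hH1 : CAlgX.IsH1Regular rs) :
    Nonempty (Algebra.H1Cotangent A C ≃ₗ[C] (Fin c → C)) := by
  let P : Extension.{u} A C := ext (A := A) (B := A) hsurj
  haveI : Algebra.FormallySmooth A P.Ring := inferInstanceAs (Algebra.FormallySmooth A A)
  haveI : Algebra.FormallySmooth A (Generators.self A C).toExtension.Ring :=
    inferInstanceAs (Algebra.FormallySmooth A (MvPolynomial C A))
  let e1 := Extension.H1Cotangent.equivOfFormallySmooth (Generators.self A C).toExtension P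
  have hsub : Subsingleton P.CotangentSpace := by
    have h1 : Subsingleton (Ω[P.Ring⁄A]) := inferInstanceAs (Subsingleton (Ω[A⁄A]))
    refine ⟨fun x y => ?_⟩
    have hz : ∀ z : P.CotangentSpace, z = 0 := by
      intro z
      induction z using TensorProduct.induction_on with
      | zero => rfl
      | tmul b w => rw [Subsingleton.elim w 0, tmul_zero]
      | add z₁ z₂ h₁ h₂ => rw [h₁, h₂, add_zero]
    rw [hz x, hz y]
  have hbij2 : Function.Bijective P.h1Cotangentι := by
    refine ⟨Extension.h1Cotangentι_injective, fun x => ⟨⟨x, ?_⟩, rfl⟩⟩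
    change P.cotangentComplex x = 0
    exact Subsingleton.elim _ _
  let e2 : P.H1Cotangent ≃ₗ[C] P.Cotangent := LinearEquiv.ofBijective P.h1Cotangentι hbij2
  let b : Module.Basis (Fin c) C P.Cotangent :=
    Module.Basis.mk (linearIndependent_tgen (A := A) hsurj rs hrs hH1)
      (span_tgen (A := A) hsurj rs hrs).ge
  exact ⟨e1 ≪≫ₗ e2 ≪≫ₗ b.equivFun⟩

end R1

section G1

variable {R P A' B : Type u} [CommRing R] [CommRing P] [CommRing A'] [CommRing B]
  [Algebra R P] [Algebra R A'] [Algebra R B] [Algebra P B] [Algebra A' B]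
  [IsScalarTower R P B] [IsScalarTower R A' B]

open Groth.Agent.Lib.Helper10.KoszulH1 Groth.Agent.Lib.Helper10.KoszulMinGen in
/-- Comparison of a Koszul presentation `R → P ↠ B` (with `P` formally smooth over `R`,
`B ⊗ Ω[P/R]` free of rank `N`, kernel generated by a Koszul-regular sequence `L`) with any other
factorisation `R → A' → B` (`A'` formally smooth, `Ω[B/A'] = 0`, `H¹` free of rank `b`,
`B ⊗ Ω[A'/R]` free of rank `a`): `b + N = |L| + a`. -/
theorem rank_eq_of_koszul [Nontrivial B] [FormallySmooth R P] [FormallySmooth R A']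
    [Subsingleton Ω[B⁄A']]
    (hsurj : Function.Surjective (algebraMap P B)) (L : List P)
    (hL : RingHom.ker (algebraMap P B) = Ideal.ofList L) (hLK : LCI.IsKoszulRegularSeq P L)
    {N a b : ℕ} (eP : (B ⊗[P] Ω[P⁄R]) ≃ₗ[B] (Fin N → B))
    (e1 : Algebra.H1Cotangent A' B ≃ₗ[B] (Fin b → B))
    (e2 : (B ⊗[A'] Ω[A'⁄R]) ≃ₗ[B] (Fin a → B)) :
    b + N = L.length + a := by
  haveI : Subsingleton Ω[B⁄P] := KaehlerDifferential.subsingleton_of_surjective P B hsurj
  obtain ⟨E0⟩ := nonempty_h1Cotangent_equiv_of_isH1Regular (A := P) (C := B) hsurj L.get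
    ((span_range_get L).trans hL.symm) (isH1Regular_of_isKoszulRegularSeq L hLK)
  obtain ⟨E⟩ := Groth.Agent.Lib.Helper51.VirtDim.nonempty_prod_equiv (R := R) (A := P) (A' := A')
    (B := B)
  let F : ((Fin L.length → B) × (Fin a → B)) ≃ₗ[B] ((Fin b → B) × (Fin N → B)) :=
    (E0.symm.prodCongr e2.symm) ≪≫ₗ E ≪≫ₗ (e1.prodCongr eP)
  have hF := F.finrank_eq
  rw [Module.finrank_prod, Module.finrank_prod, Module.finrank_fin_fun, Module.finrank_fin_fun,
    Module.finrank_fin_fun, Module.finrank_fin_fun] at hF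
  omega

end G1

section K

variable {R A T C : Type u} [CommRing R] [CommRing A] [CommRing T] [CommRing C]
  [Algebra R A] [Algebra R T] [Algebra A T] [IsScalarTower R A T]
  [Algebra T C] [Algebra A C] [IsScalarTower A T C]

/-- For `R → A → T` with `T` formally smooth over `A` and any `T`-algebra `C`:
`C ⊗ Ω[T/R] ≃ (C ⊗ Ω[A/R]) × (C ⊗ Ω[T/A])`. -/
theorem nonempty_tensor_kaehler_equiv_prod [FormallySmooth A T] :
    Nonempty ((C ⊗[T] Ω[T⁄R]) ≃ₗ[C] ((C ⊗[A] Ω[A⁄R]) × (C ⊗[T] Ω[T⁄A]))) := by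
  have hinj : Function.Injective (KaehlerDifferential.mapBaseChange R A T) := by
    rw [injective_iff_map_eq_zero]
    intro x hx
    obtain ⟨y, rfl⟩ := (Algebra.H1Cotangent.exact_δ_mapBaseChange R A T x).mp hx
    rw [Subsingleton.elim y 0, map_zero]
  have hex := KaehlerDifferential.exact_mapBaseChange_map R A T
  have hsurj : Function.Surjective (KaehlerDifferential.map R A T T) :=
    KaehlerDifferential.map_surjective R A T
  obtain ⟨σ, hσ⟩ := Module.projective_lifting_property (KaehlerDifferential.map R A T T)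
    LinearMap.id hsurj
  let e₁ : Ω[T⁄R] ≃ₗ[T] (T ⊗[A] Ω[A⁄R]) × Ω[T⁄A] :=
    (hex.splitSurjectiveEquiv hinj ⟨σ, hσ⟩).1
  let e₂ : (C ⊗[T] Ω[T⁄R]) ≃ₗ[C] C ⊗[T] ((T ⊗[A] Ω[A⁄R]) × Ω[T⁄A]) :=
    TensorProduct.AlgebraTensorModule.congr (LinearEquiv.refl C C) e₁
  let e₃ : (C ⊗[T] ((T ⊗[A] Ω[A⁄R]) × Ω[T⁄A])) ≃ₗ[C]
      (C ⊗[T] (T ⊗[A] Ω[A⁄R])) × (C ⊗[T] Ω[T⁄A]) :=
    TensorProduct.prodRight T C C _ _
  let e₄ : (C ⊗[T] (T ⊗[A] Ω[A⁄R])) ≃ₗ[C] C ⊗[A] Ω[A⁄R] :=
    TensorProduct.AlgebraTensorModule.cancelBaseChange A T C C Ω[A⁄R]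
  exact ⟨e₂ ≪≫ₗ e₃ ≪≫ₗ e₄.prodCongr (LinearEquiv.refl C _)⟩

end K

section OmegaLoc

variable {k T C : Type u} [CommRing k] [CommRing T] [CommRing C] {n : ℕ}
  (g : MvPolynomial (Fin n) k) [Algebra (MvPolynomial (Fin n) k) T] [IsLocalization.Away g T]
  [Algebra k T] [IsScalarTower k (MvPolynomial (Fin n) k) T]
  [Algebra T C] [Algebra (MvPolynomial (Fin n) k) C] [IsScalarTower (MvPolynomial (Fin n) k) T C]

include g in
/-- For a localization `T` of `k[x_1..x_n]` at one element and a `T`-algebra `C`,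
`C ⊗ Ω[T/k]` is free of rank `n`. -/
theorem nonempty_tensor_kaehler_away_equiv :
    Nonempty ((C ⊗[T] Ω[T⁄k]) ≃ₗ[C] (Fin n → C)) := by
  haveI : Algebra.FormallyEtale (MvPolynomial (Fin n) k) T :=
    Algebra.FormallyEtale.of_isLocalization (Submonoid.powers g)
  let e₁ : (T ⊗[MvPolynomial (Fin n) k] Ω[MvPolynomial (Fin n) k⁄k]) ≃ₗ[T] Ω[T⁄k] :=
    KaehlerDifferential.tensorKaehlerEquivOfFormallyEtale k (MvPolynomial (Fin n) k) T
  let e₂ : (C ⊗[T] Ω[T⁄k]) ≃ₗ[C]
      C ⊗[T] (T ⊗[MvPolynomial (Fin n) k] Ω[MvPolynomial (Fin n) k⁄k]) :=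
    TensorProduct.AlgebraTensorModule.congr (LinearEquiv.refl C C) e₁.symm
  let e₃ : (C ⊗[T] (T ⊗[MvPolynomial (Fin n) k] Ω[MvPolynomial (Fin n) k⁄k])) ≃ₗ[C]
      C ⊗[MvPolynomial (Fin n) k] Ω[MvPolynomial (Fin n) k⁄k] :=
    TensorProduct.AlgebraTensorModule.cancelBaseChange (MvPolynomial (Fin n) k) T C C _
  let b : Module.Basis (Fin n) C (C ⊗[MvPolynomial (Fin n) k] Ω[MvPolynomial (Fin n) k⁄k]) :=
    (KaehlerDifferential.mvPolynomialBasis k (Fin n)).baseChange C
  exact ⟨e₂ ≪≫ₗ e₃ ≪≫ₗ b.equivFun⟩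

end OmegaLoc

section CoreBase

open Groth.Agent.Lib.Helper10.LciTrans

variable {S B B' : Type u} [CommRing S] [CommRing B] [CommRing B']
  [Algebra S B] [Algebra B B'] [Algebra S B'] [IsScalarTower S B B']
  {n : ℕ} (φ : MvPolynomial (Fin n) S →+* B) (hφC : ∀ s, φ (MvPolynomial.C s) = algebraMap S B s)
  (hφ : Function.Surjective φ)

include hφC hφ in
/-- The virtual rank of `S → B'` computed from a (localized) Koszul presentation
`S[x_1..x_n]_g ↠ B' = B_{φ g}`. -/
theorem rank_eq_over_base [Nontrivial B'] (g : MvPolynomial (Fin n) S)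
    [IsLocalization.Away (φ g) B'] (l : List (Localization.Away g))
    (hl : LCI.IsKoszulRegularSeq (Localization.Away g) l)
    (hker : (RingHom.ker φ).map (algebraMap (MvPolynomial (Fin n) S) (Localization.Away g)) =
      Ideal.ofList l)
    {A' : Type u} [CommRing A'] [Algebra S A'] [Algebra A' B'] [IsScalarTower S A' B']
    [FormallySmooth S A'] [Subsingleton Ω[B'⁄A']] {a b : ℕ}
    (e1 : Algebra.H1Cotangent A' B' ≃ₗ[B'] (Fin b → B'))
    (e2 : (B' ⊗[A'] Ω[A'⁄S]) ≃ₗ[B'] (Fin a → B')) :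
    b + n = l.length + a := by
  obtain ⟨ψ, hψ⟩ : ∃ ψ : Localization.Away g →+* B',
      ψ = IsLocalization.Away.map (Localization.Away g) B' φ g := ⟨_, rfl⟩
  have hsq : ψ.comp (algebraMap (MvPolynomial (Fin n) S) (Localization.Away g)) =
      (algebraMap B B').comp φ := by
    rw [hψ]
    exact IsLocalization.map_comp _
  have hψsurj := locSq_surjective φ g _ rfl ψ hsq hφ
  have hψker := locSq_ker φ g _ rfl ψ hsq
  letI : Algebra (Localization.Away g) B' := ψ.toAlgebra
  letI : Algebra (MvPolynomial (Fin n) S) B' := ((algebraMap B B').comp φ).toAlgebra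
  haveI : IsScalarTower (MvPolynomial (Fin n) S) (Localization.Away g) B' :=
    IsScalarTower.of_algebraMap_eq' hsq.symm
  haveI : IsScalarTower S (Localization.Away g) B' := IsScalarTower.of_algebraMap_eq (fun s => by
    change algebraMap S B' s = ψ (algebraMap S (Localization.Away g) s)
    rw [IsScalarTower.algebraMap_apply S (MvPolynomial (Fin n) S) (Localization.Away g)]
    have := RingHom.congr_fun hsq (algebraMap S (MvPolynomial (Fin n) S) s)
    rw [RingHom.comp_apply, RingHom.comp_apply] at this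
    rw [this, MvPolynomial.algebraMap_eq, hφC, ← IsScalarTower.algebraMap_apply])
  haveI : Algebra.FormallyEtale (MvPolynomial (Fin n) S) (Localization.Away g) :=
    Algebra.FormallyEtale.of_isLocalization (Submonoid.powers g)
  haveI : FormallySmooth S (Localization.Away g) :=
    FormallySmooth.comp S (MvPolynomial (Fin n) S) (Localization.Away g)
  obtain ⟨eP⟩ := nonempty_tensor_kaehler_away_equiv (k := S) (T := Localization.Away g)
    (C := B') g
  exact rank_eq_of_koszul (R := S) (P := Localization.Away g) (A' := A') (B := B') hψsurj l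
    (hψker.trans hker) hl eP e1 e2

end CoreBase

section CoreLift

open Groth.Agent.Lib.Helper10.LciTrans Groth.Agent.Lib.Helper10.KoszulComp
  Groth.Agent.Lib.Helper10.KoszulFlat

variable {R A S B B' : Type u} [CommRing R] [CommRing A] [CommRing S] [CommRing B] [CommRing B']
  [Algebra R A] [Algebra A S] [Algebra R S] [IsScalarTower R A S]
  [Algebra S B] [Algebra B B'] [Algebra S B'] [IsScalarTower S B B']
  [Algebra R B'] [IsScalarTower R S B']
  {n : ℕ} (φ : MvPolynomial (Fin n) S →+* B) (hφC : ∀ s, φ (MvPolynomial.C s) = algebraMap S B s)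
  (hφ : Function.Surjective φ)
  (hAS : Function.Surjective (algebraMap A S)) (js : List A)
  (hjs : RingHom.ker (algebraMap A S) = Ideal.ofList js) (hjsK : LCI.IsKoszulRegularSeq A js)

include hφC hφ hAS hjs hjsK in
/-- The virtual rank of `R → B'` computed from the lift of a (localized) Koszul presentation of
`B'` over `S = A/(js)` to `A[x_1..x_n]_G`. -/
theorem rank_eq_over_lift [Nontrivial B'] [FormallySmooth R A]
    (μ : MvPolynomial (Fin n) A →+* MvPolynomial (Fin n) S)
    (hμ : μ = MvPolynomial.map (algebraMap A S)) (G : MvPolynomial (Fin n) A)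
    [IsLocalization.Away (φ (μ G)) B']
    (l : List (Localization.Away (μ G)))
    (hl : LCI.IsKoszulRegularSeq (Localization.Away (μ G)) l)
    (hker : (RingHom.ker φ).map (algebraMap (MvPolynomial (Fin n) S)
      (Localization.Away (μ G))) = Ideal.ofList l)
    {ag : ℕ} (Eg : (S ⊗[A] Ω[A⁄R]) ≃ₗ[S] (Fin ag → S))
    {A' : Type u} [CommRing A'] [Algebra R A'] [Algebra A' B'] [IsScalarTower R A' B']
    [FormallySmooth R A'] [Subsingleton Ω[B'⁄A']] {a b : ℕ}
    (e1 : Algebra.H1Cotangent A' B' ≃ₗ[B'] (Fin b → B'))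
    (e2 : (B' ⊗[A'] Ω[A'⁄R]) ≃ₗ[B'] (Fin a → B')) :
    b + (ag + n) = (l.length + js.length) + a := by
  have hμsurj : Function.Surjective μ := by
    rw [hμ]
    exact MvPolynomial.map_surjective _ hAS
  have hμC : ∀ a : A, μ (MvPolynomial.C a) = MvPolynomial.C (algebraMap A S a) := by
    intro a
    rw [hμ]
    exact MvPolynomial.map_C _ _
  have hμker : RingHom.ker μ = Ideal.map MvPolynomial.C (Ideal.ofList js) := by
    rw [hμ, MvPolynomial.ker_map, hjs]
  -- the maps
  obtain ⟨ψ, hψ⟩ : ∃ ψ : Localization.Away (μ G) →+* B',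
      ψ = IsLocalization.Away.map (Localization.Away (μ G)) B' φ (μ G) := ⟨_, rfl⟩
  have hsq1 : ψ.comp (algebraMap (MvPolynomial (Fin n) S) (Localization.Away (μ G))) =
      (algebraMap B B').comp φ := by
    rw [hψ]
    exact IsLocalization.map_comp _
  have hψsurj := locSq_surjective φ (μ G) _ rfl ψ hsq1 hφ
  have hψker := locSq_ker φ (μ G) _ rfl ψ hsq1
  obtain ⟨ν, hν⟩ : ∃ ν : Localization.Away G →+* Localization.Away (μ G),
      ν = IsLocalization.Away.map (Localization.Away G) (Localization.Away (μ G)) μ G := ⟨_, rfl⟩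
  have hsq2 : ν.comp (algebraMap (MvPolynomial (Fin n) A) (Localization.Away G)) =
      (algebraMap (MvPolynomial (Fin n) S) (Localization.Away (μ G))).comp μ := by
    rw [hν]
    exact IsLocalization.map_comp _
  have hνsurj := locSq_surjective μ G _ rfl ν hsq2 hμsurj
  have hνker := locSq_ker μ G _ rfl ν hsq2
  -- the kernel of `ν`
  obtain ⟨js', hjs'⟩ : ∃ js' : List (Localization.Away G),
      js' = js.map (algebraMap A (Localization.Away G)) := ⟨_, rfl⟩
  have hkerν : RingHom.ker ν = Ideal.ofList js' := by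
    rw [hνker, hμker, Ideal.map_map, hjs', ← Ideal.map_ofList]
    rfl
  have hflat : (algebraMap A (Localization.Away G)).Flat := by
    rw [RingHom.flat_algebraMap_iff]
    haveI : Module.Flat (MvPolynomial (Fin n) A) (Localization.Away G) :=
      IsLocalization.flat _ (Submonoid.powers G)
    exact Module.Flat.trans A (MvPolynomial (Fin n) A) (Localization.Away G)
  have hjs'K : LCI.IsKoszulRegularSeq (Localization.Away G) js' := by
    rw [hjs']
    exact isKoszulRegularSeq_map _ hflat js hjsK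
  obtain ⟨l', hl'⟩ := exists_map_eq ν hνsurj l
  have hLK : LCI.IsKoszulRegularSeq (Localization.Away G) (l' ++ js') :=
    isKoszulRegularSeq_append ν hνsurj js' l' hkerν hjs'K (by rw [hl']; exact hl)
  have hΨsurj : Function.Surjective (ψ.comp ν) := hψsurj.comp hνsurj
  have hΨker : RingHom.ker (ψ.comp ν) = Ideal.ofList (l' ++ js') := by
    rw [← RingHom.comap_ker, hψker, hker, ← hl']
    exact comap_ofList_map ν hνsurj js' l' hkerν
  -- algebra structures
  letI : Algebra (Localization.Away G) B' := (ψ.comp ν).toAlgebra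
  letI : Algebra A B' := ((algebraMap S B').comp (algebraMap A S)).toAlgebra
  haveI tASB : IsScalarTower A S B' := IsScalarTower.of_algebraMap_eq' rfl
  letI : Algebra (MvPolynomial (Fin n) A) B' :=
    ((ψ.comp ν).comp (algebraMap (MvPolynomial (Fin n) A) (Localization.Away G))).toAlgebra
  haveI tPQB : IsScalarTower (MvPolynomial (Fin n) A) (Localization.Away G) B' :=
    IsScalarTower.of_algebraMap_eq' rfl
  have hcompat : ∀ a : A, (ψ.comp ν) (algebraMap A (Localization.Away G) a) =
      algebraMap S B' (algebraMap A S a) := by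
    intro a
    rw [IsScalarTower.algebraMap_apply A (MvPolynomial (Fin n) A) (Localization.Away G),
      RingHom.comp_apply]
    have h1 := RingHom.congr_fun hsq2 (algebraMap A (MvPolynomial (Fin n) A) a)
    rw [RingHom.comp_apply, RingHom.comp_apply] at h1
    rw [h1, MvPolynomial.algebraMap_eq, hμC]
    have h2 := RingHom.congr_fun hsq1 (MvPolynomial.C (algebraMap A S a))
    rw [RingHom.comp_apply, RingHom.comp_apply] at h2
    rw [h2, hφC, ← IsScalarTower.algebraMap_apply]
  haveI tAQB : IsScalarTower A (Localization.Away G) B' :=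
    IsScalarTower.of_algebraMap_eq (fun a => (hcompat a).symm)
  haveI tRAQ : IsScalarTower R A (Localization.Away G) := IsScalarTower.of_algebraMap_eq (fun r => by
    rw [IsScalarTower.algebraMap_apply R (MvPolynomial (Fin n) A) (Localization.Away G),
      IsScalarTower.algebraMap_apply A (MvPolynomial (Fin n) A) (Localization.Away G),
      ← IsScalarTower.algebraMap_apply R A (MvPolynomial (Fin n) A)])
  haveI tRQB : IsScalarTower R (Localization.Away G) B' := IsScalarTower.of_algebraMap_eq (fun r => by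
    change algebraMap R B' r = (ψ.comp ν) (algebraMap R (Localization.Away G) r)
    rw [IsScalarTower.algebraMap_apply R A (Localization.Away G), hcompat,
      ← IsScalarTower.algebraMap_apply R A S, ← IsScalarTower.algebraMap_apply R S B'])
  -- smoothness
  haveI : Algebra.FormallyEtale (MvPolynomial (Fin n) A) (Localization.Away G) :=
    Algebra.FormallyEtale.of_isLocalization (Submonoid.powers G)
  haveI : FormallySmooth A (Localization.Away G) :=
    FormallySmooth.comp A (MvPolynomial (Fin n) A) (Localization.Away G)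
  haveI : FormallySmooth R (Localization.Away G) := FormallySmooth.comp R A (Localization.Away G)
  -- differentials
  obtain ⟨eK⟩ := nonempty_tensor_kaehler_equiv_prod (R := R) (A := A) (T := Localization.Away G)
    (C := B')
  obtain ⟨eΩ⟩ := nonempty_tensor_kaehler_away_equiv (k := A) (T := Localization.Away G)
    (C := B') G
  let e₁ : (B' ⊗[A] Ω[A⁄R]) ≃ₗ[B'] B' ⊗[S] (S ⊗[A] Ω[A⁄R]) :=
    (TensorProduct.AlgebraTensorModule.cancelBaseChange A S B' B' Ω[A⁄R]).symm
  let e₂ : (B' ⊗[S] (S ⊗[A] Ω[A⁄R])) ≃ₗ[B'] B' ⊗[S] (Fin ag → S) :=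
    TensorProduct.AlgebraTensorModule.congr (LinearEquiv.refl B' B') Eg
  let e₃ : (B' ⊗[S] (Fin ag → S)) ≃ₗ[B'] (Fin ag → B') :=
    TensorProduct.piScalarRight S B' B' (Fin ag)
  let e₄ : ((Fin ag → B') × (Fin n → B')) ≃ₗ[B'] (Fin (ag + n) → B') :=
    (LinearEquiv.sumArrowLequivProdArrow (Fin ag) (Fin n) B' B').symm ≪≫ₗ
      LinearEquiv.funCongrLeft B' B' finSumFinEquiv.symm
  let eP : (B' ⊗[Localization.Away G] Ω[Localization.Away G⁄R]) ≃ₗ[B'] (Fin (ag + n) → B') :=
    eK ≪≫ₗ ((e₁ ≪≫ₗ e₂ ≪≫ₗ e₃).prodCongr eΩ) ≪≫ₗ e₄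
  have key := rank_eq_of_koszul (R := R) (P := Localization.Away G) (A' := A') (B := B')
    hΨsurj (l' ++ js') hΨker hLK eP e1 e2
  rw [List.length_append, hjs', List.length_map, ← hl', List.length_map] at *
  exact key

end CoreLift

section Final

variable {R A S B : Type u} [CommRing R] [CommRing A] [CommRing S] [CommRing B]
  [Algebra R A] [Algebra A S] [Algebra R S] [IsScalarTower R A S] [Algebra S B]

/-- a local Koszul presentation of a local complete intersection algebra near a prime. -/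
theorem exists_presentation_of_isLCI (h : LCI.IsLCI S B) (q : PrimeSpectrum B) :
    ∃ (n : ℕ) (φ : MvPolynomial (Fin n) S →+* B), (∀ s, φ (MvPolynomial.C s) = algebraMap S B s) ∧
      Function.Surjective φ ∧ ∃ g : MvPolynomial (Fin n) S, φ g ∉ q.asIdeal ∧
        ∃ l : List (Localization.Away g), LCI.IsKoszulRegularSeq (Localization.Away g) l ∧
          (RingHom.ker φ).map (algebraMap (MvPolynomial (Fin n) S) (Localization.Away g)) =
            Ideal.ofList l := by
  obtain ⟨-, n, f, hf, hI⟩ := h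
  have hle : RingHom.ker f.toRingHom ≤ (q.comap f.toRingHom).asIdeal := by
    intro x hx
    change f.toRingHom x ∈ q.asIdeal
    rw [RingHom.mem_ker.mp hx]
    exact q.asIdeal.zero_mem
  obtain ⟨g, hg, l, hl, hIl⟩ := hI (q.comap f.toRingHom) hle
  exact ⟨n, f.toRingHom, f.commutes, hf, g, hg, l, hl, hIl⟩

/-- **Additivity of the virtual relative dimension, ring level.** -/
theorem virtDim_comp_ring [FormallySmooth R A]
    (hAS : Function.Surjective (algebraMap A S)) (js : List A)
    (hjs : RingHom.ker (algebraMap A S) = Ideal.ofList js) (hjsK : LCI.IsKoszulRegularSeq A js)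
    (hlci : LCI.IsLCI S B) (q : PrimeSpectrum B) {ag bg : ℕ}
    (Eg1 : Algebra.H1Cotangent A S ≃ₗ[S] (Fin bg → S))
    (Eg2 : (S ⊗[A] Ω[A⁄R]) ≃ₗ[S] (Fin ag → S)) :
    ∃ h : B, h ∉ q.asIdeal ∧ ∀ (B' : Type u) [CommRing B'] [Algebra B B'] [Algebra S B']
      [IsScalarTower S B B'] [Algebra R B'] [IsScalarTower R S B'] [Nontrivial B']
      [IsLocalization.Away h B']
      (Af : Type u) [CommRing Af] [Algebra S Af] [Algebra Af B'] [IsScalarTower S Af B']
      [FormallySmooth S Af] [Subsingleton Ω[B'⁄Af]]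
      (Ah : Type u) [CommRing Ah] [Algebra R Ah] [Algebra Ah B'] [IsScalarTower R Ah B']
      [FormallySmooth R Ah] [Subsingleton Ω[B'⁄Ah]] (af bf ah bh : ℕ)
      (_ : Algebra.H1Cotangent Af B' ≃ₗ[B'] (Fin bf → B'))
      (_ : (B' ⊗[Af] Ω[Af⁄S]) ≃ₗ[B'] (Fin af → B'))
      (_ : Algebra.H1Cotangent Ah B' ≃ₗ[B'] (Fin bh → B'))
      (_ : (B' ⊗[Ah] Ω[Ah⁄R]) ≃ₗ[B'] (Fin ah → B')),
      (ah : ℤ) - bh = ((af : ℤ) - bf) + ((ag : ℤ) - bg) := by
  obtain ⟨n, φ, hφC, hφ, g, hg, l, hl, hker⟩ := exists_presentation_of_isLCI hlci q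
  obtain ⟨μ, hμ⟩ : ∃ μ : MvPolynomial (Fin n) A →+* MvPolynomial (Fin n) S,
      μ = MvPolynomial.map (algebraMap A S) := ⟨_, rfl⟩
  have hμsurj : Function.Surjective μ := by
    rw [hμ]
    exact MvPolynomial.map_surjective _ hAS
  obtain ⟨G, rfl⟩ := hμsurj g
  refine ⟨φ (μ G), hg, ?_⟩
  intro B' _ _ _ _ _ _ _ _ Af _ _ _ _ _ _ Ah _ _ _ _ _ _ af bf ah bh Ef1 Ef2 Eh1 Eh2
  have h1 := rank_eq_over_base φ hφC hφ (μ G) l hl hker Ef1 Ef2
  have h2 := rank_eq_over_lift φ hφC hφ hAS js hjs hjsK μ hμ G l hl hker Eg2 Eh1 Eh2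
  haveI : Nontrivial S := (algebraMap S B').domain_nontrivial
  obtain ⟨E0⟩ := nonempty_h1Cotangent_equiv_of_isH1Regular (A := A) (C := S) hAS js.get
    ((Groth.Agent.Lib.Helper10.KoszulMinGen.span_range_get js).trans hjs.symm)
    (Groth.Agent.Lib.Helper10.KoszulH1.isH1Regular_of_isKoszulRegularSeq js hjsK)
  have h3 := (Eg1.symm ≪≫ₗ E0).finrank_eq
  rw [Module.finrank_fin_fun, Module.finrank_fin_fun] at h3
  omega

end Final

end Groth.Agent.Lib.Helper51.VirtDimComp
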