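import Mathlib
import Groth.Agent.Lib.Helper51.ExtPowRank
import Groth.Agent.Lib.Helper51.VirtDimComp
import Groth.Agent.Lib.Helper59.H1RegOfRegular
import Groth.Agent.Lib.Helper28.ExtReg
import Groth.Agent.S13315

/-!
# `Ext^p_A(Ω^{n-p}_{(A/J)/k}, Ω^n_{A/k}) ≅ A/J` for a smooth quotient by a regular sequence (helper51)
-/

set_option autoImplicit false
set_option linter.style.haveILetI false
set_option linter.unusedSectionVars false

universe u

open TensorProduct CategoryTheory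

namespace Groth.Agent.Lib.Helper51.ExtTopForms

section Conormal

variable {k A C : Type u} [CommRing k] [CommRing A] [CommRing C] [Algebra k A] [Algebra k C]
  [Algebra A C] [IsScalarTower k A C]

/-- For `k → A ↠ C` with `C` formally smooth over `k` and kernel generated by a weakly regular
sequence `xs`: `C ⊗_A Ω_{A/k} ≃ C^p × Ω_{C/k}`. -/
theorem nonempty_tensor_kaehler_equiv [Algebra.FormallySmooth k C]
    (hsurj : Function.Surjective (algebraMap A C)) (xs : List A)
    (hreg : RingTheory.Sequence.IsWeaklyRegular A xs)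
    (hker : Ideal.ofList xs = RingHom.ker (algebraMap A C)) :
    Nonempty ((C ⊗[A] Ω[A⁄k]) ≃ₗ[C] (Ω[C⁄k] × (Fin xs.length → C))) := by
  have hex1 := Algebra.H1Cotangent.exact_map_δ k A C
  have hex2 := Algebra.H1Cotangent.exact_δ_mapBaseChange k A C
  have hinj : Function.Injective (Algebra.H1Cotangent.δ k A C) := by
    rw [injective_iff_map_eq_zero]
    intro x hx
    obtain ⟨y, rfl⟩ := (hex1 x).mp hx
    rw [Subsingleton.elim y 0, map_zero]
  have hs : Function.Surjective (KaehlerDifferential.mapBaseChange k A C) :=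
    KaehlerDifferential.mapBaseChange_surjective k A C hsurj
  obtain ⟨σ, hσ⟩ := Module.projective_lifting_property (KaehlerDifferential.mapBaseChange k A C)
    LinearMap.id hs
  let e₁ : (C ⊗[A] Ω[A⁄k]) ≃ₗ[C] Algebra.H1Cotangent A C × Ω[C⁄k] :=
    (hex2.splitSurjectiveEquiv hinj ⟨σ, hσ⟩).1
  have hH1 := Groth.Agent.Lib.Helper59.H1RegOfRegular.isH1Regular_of_isWeaklyRegular xs hreg
  have hrs : Ideal.span (Set.range (fun i : Fin xs.length => xs[i.val])) =
      RingHom.ker (algebraMap A C) := by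
    rw [← hker, Ideal.ofList]
    congr 1
    ext x
    simp only [Set.mem_range, Set.mem_ofPred_eq]
    constructor
    · rintro ⟨i, rfl⟩; exact List.getElem_mem _
    · intro hx
      obtain ⟨i, hi, rfl⟩ := List.getElem_of_mem hx
      exact ⟨⟨i, hi⟩, rfl⟩
  obtain ⟨e₂⟩ := Groth.Agent.Lib.Helper51.VirtDimComp.nonempty_h1Cotangent_equiv_of_isH1Regular
    hsurj (fun i : Fin xs.length => xs[i.val]) hrs hH1
  exact ⟨e₁ ≪≫ₗ (e₂.prodCongr (LinearEquiv.refl C _)) ≪≫ₗ LinearEquiv.prodComm C _ _⟩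

end Conormal

section Det

open Groth.Agent.Lib.Helper51.ExtPowRank

variable {S : Type u} [CommRing S] {N : Type u} [AddCommGroup N] [Module S N]

theorem rankAtStalk_prod_pi [Module.Finite S N] [Module.Projective S N] (r : ℕ)
    (hr : ∀ q : PrimeSpectrum S, Module.rankAtStalk N q = r) (j : ℕ) (q : PrimeSpectrum S) :
    Module.rankAtStalk (N × (Fin j → S)) q = r + j := by
  haveI : Nontrivial S := q.nontrivial
  rw [Module.rankAtStalk_prod, Pi.add_apply, hr, Module.rankAtStalk_eq_finrank_of_free]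
  simp

/-- For `N` finite projective of constant rank `r`: `⋀^r N ≃ ⋀^{r+j} (N × S^j)`. -/
theorem nonempty_exteriorPower_equiv_prod_pi [Module.Finite S N] [Module.Projective S N] (r : ℕ)
    (hr : ∀ q : PrimeSpectrum S, Module.rankAtStalk N q = r) (j : ℕ) :
    Nonempty (↥(⋀[S]^r N) ≃ₗ[S] ↥(⋀[S]^(r + j) (N × (Fin j → S)))) := by
  induction j with
  | zero =>
    exact ⟨Groth.Agent.S13315.extPowCongr
      (LinearEquiv.prodUnique (R := S) (M := N) (M₂ := Fin 0 → S)).symm r⟩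
  | succ j ih =>
    obtain ⟨e⟩ := ih
    have hsub : Subsingleton ↥(⋀[S]^(r + j + 1) (N × (Fin j → S))) := by
      apply subsingleton_exteriorPower_of_rankAtStalk_lt
      intro q
      rw [rankAtStalk_prod_pi r hr j q]
      omega
    obtain ⟨g⟩ := Groth.Agent.S13315.nonempty_equiv_prod (S := S) (M := N × (Fin j → S))
      (k := r + j) hsub
    let e' : ((N × (Fin j → S)) × S) ≃ₗ[S] (N × (Fin (j + 1) → S)) :=
      (LinearEquiv.prodAssoc S N (Fin j → S) S) ≪≫ₗ
        LinearEquiv.prodCongr (LinearEquiv.refl S N)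
          (LinearEquiv.prodComm S (Fin j → S) S ≪≫ₗ
            Fin.consLinearEquiv S (fun _ : Fin (j + 1) => S))
    exact ⟨e ≪≫ₗ g ≪≫ₗ Groth.Agent.S13315.extPowCongr e' (r + j + 1)⟩

end Det

section Main

open Groth.Agent.Lib.Helper51.ExtPowRank Groth.Agent.H46.ExtBC Groth.Agent.Lib.Helper28
  RingTheory.Sequence Abelian

variable (k : Type u) [Field k] (A : Type u) [CommRing A] [Algebra k A] [Algebra.FiniteType k A]
  [Algebra.Smooth k A]

theorem main (n : ℕ) (hn : ∀ q : PrimeSpectrum A, Module.rankAtStalk (Ω[A⁄k]) q = n) (xs : List A)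
    (hreg : RingTheory.Sequence.IsWeaklyRegular A xs) (J : Ideal A) (hJ : Ideal.ofList xs = J)
    [Algebra.Smooth k (A ⧸ J)] (m : ℕ) (hm : n = m + xs.length) :
    Nonempty (Abelian.Ext (ModuleCat.of A ↥((⋀[A ⧸ J]^m (Ω[(A ⧸ J)⁄k])).restrictScalars A))
      (ModuleCat.of A ↥(⋀[A]^n (Ω[A⁄k]))) xs.length ≃ₗ[A] (A ⧸ J)) := by
  subst hJ
  subst hm
  let C := A ⧸ Ideal.ofList xs
  let P := ↥(⋀[A]^(m + xs.length) (Ω[A⁄k]))
  haveI : Algebra.FiniteType k C := inferInstance
  haveI : Module.Finite A Ω[A⁄k] := inferInstance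
  haveI : Module.Projective A Ω[A⁄k] := inferInstance
  haveI : Module.Finite C Ω[C⁄k] := inferInstance
  haveI : Module.Projective C Ω[C⁄k] := inferInstance
  haveI hPproj : Module.Projective A P := projective_exteriorPower (m + xs.length)
  -- the conormal sequence
  have hsurj : Function.Surjective (algebraMap A C) := Ideal.Quotient.mk_surjective
  have hker : Ideal.ofList xs = RingHom.ker (algebraMap A C) := Ideal.mk_ker.symm
  obtain ⟨eb⟩ := nonempty_tensor_kaehler_equiv (k := k) hsurj xs hreg hker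
  -- the rank of `Ω_{C/k}`
  have hrC : ∀ q : PrimeSpectrum C, Module.rankAtStalk (Ω[C⁄k]) q = m := by
    intro q
    haveI : Nontrivial C := q.nontrivial
    have h1 : Module.rankAtStalk (C ⊗[A] Ω[A⁄k]) q = m + xs.length := by
      rw [Module.rankAtStalk_baseChange, hn]
    have h2 := congrFun (Module.rankAtStalk_eq_of_equiv eb) q
    rw [h1, Module.rankAtStalk_prod, Pi.add_apply,
      Module.rankAtStalk_eq_finrank_of_free (M := Fin xs.length → C)] at h2
    simp at h2
    omega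
  obtain ⟨ed⟩ := nonempty_exteriorPower_equiv_prod_pi m hrC xs.length
  -- base change of the exterior power
  let f : Ω[A⁄k] →ₗ[A] C ⊗[A] Ω[A⁄k] := TensorProduct.mk A C Ω[A⁄k] 1
  have hf : IsBaseChange C f := TensorProduct.isBaseChange A Ω[A⁄k] C
  let ea : C ⊗[A] P ≃ₗ[C] ↥(⋀[C]^(m + xs.length) (C ⊗[A] Ω[A⁄k])) :=
    LinearEquiv.ofBijective (bcMap A C f (m + xs.length)) (bcMap_bijective hf (m + xs.length))
  let eC : ↥(⋀[C]^m (Ω[C⁄k])) ≃ₗ[C] C ⊗[A] P :=
    ed ≪≫ₗ (Groth.Agent.S13315.extPowCongr eb (m + xs.length)).symm ≪≫ₗ ea.symm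
  let e1 : ↥((⋀[C]^m (Ω[C⁄k])).restrictScalars A) ≃ₗ[A] ↥(⋀[C]^m (Ω[C⁄k])) :=
    (Submodule.restrictScalarsEquiv A C _ (⋀[C]^m (Ω[C⁄k]))).restrictScalars A
  let e2 : C ⊗[A] P ≃ₗ[A] P ⧸ (Ideal.ofList xs • ⊤ : Submodule A P) :=
    TensorProduct.quotTensorEquivQuotSMul P (Ideal.ofList xs)
  let eM : ↥((⋀[C]^m (Ω[C⁄k])).restrictScalars A) ≃ₗ[A]
      (P ⧸ (Ideal.ofList xs • ⊤ : Submodule A P)) :=
    e1 ≪≫ₗ eC.restrictScalars A ≪≫ₗ e2
  -- regularity on `P`
  have hregP : IsWeaklyRegular P xs :=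
    (LinearEquiv.isWeaklyRegular_congr (TensorProduct.rid A P) xs).mp
      (hreg.isWeaklyRegular_lTensor (M₂ := P))
  have hvan : ∀ i, 0 < i → Subsingleton (Ext (ModuleCat.of A P) (ModuleCat.of A P) i) := by
    intro i hi
    obtain ⟨j, rfl⟩ : ∃ j, i = j + 1 := ⟨i - 1, by omega⟩
    haveI : Projective (ModuleCat.of A P) := (IsProjective.iff_projective _).mp hPproj
    exact subsingleton_of_forall_eq 0 (fun e => Ext.eq_zero_of_projective e)
  obtain ⟨-, h2⟩ := ext_quot_regular (ModuleCat.of A P) xs P 0 hregP hvan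
  obtain ⟨eg⟩ := h2 xs.length (by simp)
  let eh0 : Ext (ModuleCat.of A P) (ModuleCat.of A P) 0 ≃ₗ[A] A :=
    Ext.linearEquiv₀ ≪≫ₗ ModuleCat.homLinearEquiv ≪≫ₗ
      (LinearEquiv.ofBijective (LinearMap.lsmul A P)
        (lsmul_exteriorPower_bijective (m + xs.length) hn)).symm
  let eh : (Ext (ModuleCat.of A P) (ModuleCat.of A P) 0 ⧸
      (Ideal.ofList xs • ⊤ : Submodule A (Ext (ModuleCat.of A P) (ModuleCat.of A P) 0))) ≃ₗ[A]
      (A ⧸ Ideal.ofList xs) :=
    quotSMulTopCongr (Ideal.ofList xs) eh0 ≪≫ₗ Submodule.quotEquivOfEq _ _ (by simp)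
  exact ⟨(extCongrLeft eM.toModuleIso (ModuleCat.of A P) xs.length).symm ≪≫ₗ eg ≪≫ₗ eh⟩

end Main

end Groth.Agent.Lib.Helper51.ExtTopForms
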