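import Mathlib

/-!
# Extending a linear map on an ideal along a flat algebra
-/

set_option autoImplicit false
set_option linter.style.haveILetI false

namespace Groth.Agent.Lib.Helper51.UnivThickRing

open TensorProduct

/-- For a flat `A'`-algebra `Pt`, an ideal `I` of `A'` and an `A'`-linear map `ν : I → M` into a
`Pt`-module, there is a `Pt`-linear map `I·Pt → M` extending `ν`. -/
theorem exists_linear_extension_of_flat {A' Pt : Type*} [CommRing A'] [CommRing Pt] [Algebra A' Pt]
    [Module.Flat A' Pt] (I : Ideal A') {M : Type*} [AddCommGroup M] [Module Pt M] [Module A' M]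
    [IsScalarTower A' Pt M] (ν : I →ₗ[A'] M) :
    ∃ νt : ↥(I.map (algebraMap A' Pt)) →ₗ[Pt] M,
      ∀ x : I, νt ⟨algebraMap A' Pt x, Ideal.mem_map_of_mem _ x.2⟩ = ν x := by
  let Φ : Pt ⊗[A'] I →ₗ[Pt] Pt :=
    LinearMap.liftBaseChange Pt ((Algebra.linearMap A' Pt).comp I.subtype)
  have hΦ : ∀ (p : Pt) (x : I), Φ (p ⊗ₜ x) = p * algebraMap A' Pt x := by
    intro p x
    change LinearMap.liftBaseChange Pt ((Algebra.linearMap A' Pt).comp I.subtype) (p ⊗ₜ x) = _
    rw [LinearMap.liftBaseChange_tmul]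
    rfl
  have hinj : Function.Injective Φ := by
    have h1 : Function.Injective (I.subtype.lTensor Pt) :=
      Module.Flat.lTensor_preserves_injective_linearMap I.subtype Subtype.val_injective
    have h2 : ∀ τ, Φ τ = TensorProduct.rid A' Pt (I.subtype.lTensor Pt τ) := by
      intro τ
      induction τ using TensorProduct.induction_on with
      | zero => simp
      | tmul p x =>
        rw [hΦ, LinearMap.lTensor_tmul, TensorProduct.rid_tmul, Algebra.smul_def, mul_comm]
        rfl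
      | add a b ha hb => rw [map_add, map_add, map_add, ha, hb]
    intro τ τ' h
    rw [h2, h2] at h
    exact h1 ((TensorProduct.rid A' Pt).injective h)
  have hmem : ∀ τ, Φ τ ∈ I.map (algebraMap A' Pt) := by
    intro τ
    induction τ using TensorProduct.induction_on with
    | zero => rw [map_zero]; exact Ideal.zero_mem _
    | tmul p x =>
      rw [hΦ]
      exact Ideal.mul_mem_left _ _ (Ideal.mem_map_of_mem _ x.2)
    | add a b ha hb => rw [map_add]; exact Ideal.add_mem _ ha hb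
  have hsurj : ∀ e ∈ I.map (algebraMap A' Pt), ∃ τ, Φ τ = e := by
    intro e he
    refine Submodule.span_induction ?_ ?_ ?_ ?_ he
    · rintro _ ⟨x, hx, rfl⟩
      exact ⟨1 ⊗ₜ ⟨x, hx⟩, by rw [hΦ, one_mul]⟩
    · exact ⟨0, map_zero _⟩
    · rintro _ _ _ _ ⟨τ, rfl⟩ ⟨τ', rfl⟩
      exact ⟨τ + τ', map_add _ _ _⟩
    · rintro p _ _ ⟨τ, rfl⟩
      exact ⟨p • τ, map_smul _ _ _⟩
  let Φ' : Pt ⊗[A'] I →ₗ[Pt] ↥(I.map (algebraMap A' Pt)) := Φ.codRestrict _ hmem
  have hΦ'bij : Function.Bijective Φ' := by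
    constructor
    · intro τ τ' h
      exact hinj (congrArg Subtype.val h)
    · rintro ⟨e, he⟩
      obtain ⟨τ, hτ⟩ := hsurj e he
      exact ⟨τ, Subtype.ext hτ⟩
  let eq := LinearEquiv.ofBijective Φ' hΦ'bij
  refine ⟨(LinearMap.liftBaseChange Pt ν).comp eq.symm.toLinearMap, fun x => ?_⟩
  have : eq.symm ⟨algebraMap A' Pt x, Ideal.mem_map_of_mem _ x.2⟩ = (1 : Pt) ⊗ₜ[A'] x := by
    rw [LinearEquiv.symm_apply_eq]
    apply Subtype.ext
    change _ = Φ ((1 : Pt) ⊗ₜ[A'] x)
    rw [hΦ, one_mul]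
  rw [LinearMap.comp_apply, LinearEquiv.coe_coe, this, LinearMap.liftBaseChange_tmul, one_smul]

end Groth.Agent.Lib.Helper51.UnivThickRing
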