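import Groth.Prelude.Def_AlgSpGpd
import Groth.Agent.Lib.Helper51.AlgSpBasic
import Mathlib.CategoryTheory.Monoidal.Cartesian.Grp

set_option autoImplicit false
universe u
open CategoryTheory CategoryTheory.Limits AlgebraicGeometry Opposite AlgSp
open MonoidalCategory CartesianMonoidalCategory MonObj

namespace Groth.Agent.Lib.Helper51

variable {S : Scheme.{u}} {B : Sp S} {G X : Over B} [GrpObj G] (a : GAction G X)

/-- The action on `T`-points. -/
noncomputable def gsmul {T : Over B} (g : T ⟶ G) (x : T ⟶ X) : T ⟶ X := lift g x ≫ a.act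

lemma one_gsmul {T : Over B} (x : T ⟶ X) : gsmul a (1 : T ⟶ G) x = x := by
  unfold gsmul
  have h := congrArg (fun k => lift (toUnit T) x ≫ k) a.one_act
  simp only [← Category.assoc, lift_whiskerRight, lift_leftUnitor_hom] at h
  rw [Hom.one_def]
  exact h

lemma mul_gsmul {T : Over B} (g h : T ⟶ G) (x : T ⟶ X) :
    gsmul a (g * h) x = gsmul a g (gsmul a h x) := by
  unfold gsmul
  have h' := congrArg (fun k => lift (lift g h) x ≫ k) a.mul_act
  simp only [← Category.assoc, lift_whiskerRight, lift_lift_associator_hom, lift_whiskerLeft] at h'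
  rw [Hom.mul_def]
  exact h'

/-- Free action ⇒ the shear map `(g, x) ↦ (g x, x)` is a monomorphism (of sheaves). -/
theorem mono_shear_of_isFree (ha : a.IsFree) : Mono (lift a.act (snd G X)).left := by
  apply mono_of_forall_yon
  intro T p q hpq
  have hβq : q ≫ (G ⊗ X).hom = p ≫ (G ⊗ X).hom := by
    rw [← Over.w (lift a.act (snd G X)), ← Category.assoc, ← Category.assoc, hpq]
  let p' : Over.mk (p ≫ (G ⊗ X).hom) ⟶ G ⊗ X := Over.homMk p rfl
  let q' : Over.mk (p ≫ (G ⊗ X).hom) ⟶ G ⊗ X := Over.homMk q hβq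
  have hpq' : p' ≫ lift a.act (snd G X) = q' ≫ lift a.act (snd G X) := by
    apply Over.OverMorphism.ext
    exact hpq
  suffices p' = q' from congrArg CommaMorphism.left this
  have hx : p' ≫ snd G X = q' ≫ snd G X := by
    have := congrArg (· ≫ snd X X) hpq'
    simpa only [Category.assoc, lift_snd] using this
  have hact : p' ≫ a.act = q' ≫ a.act := by
    have := congrArg (· ≫ fst X X) hpq'
    simpa only [Category.assoc, lift_fst] using this
  have hp : p' = lift (p' ≫ fst G X) (p' ≫ snd G X) := by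
    apply CartesianMonoidalCategory.hom_ext <;> simp
  have hq : q' = lift (q' ≫ fst G X) (p' ≫ snd G X) := by
    apply CartesianMonoidalCategory.hom_ext
    · simp
    · simp [hx]
  have h1 : gsmul a (p' ≫ fst G X) (p' ≫ snd G X) = gsmul a (q' ≫ fst G X) (p' ≫ snd G X) := by
    unfold gsmul
    rw [← hp, ← hq]
    exact hact
  have h2 : gsmul a ((p' ≫ fst G X)⁻¹ * (q' ≫ fst G X)) (p' ≫ snd G X) = p' ≫ snd G X := by
    rw [mul_gsmul, ← h1, ← mul_gsmul, inv_mul_cancel, one_gsmul]
  have h3 : (p' ≫ fst G X)⁻¹ * (q' ≫ fst G X) = 1 := ha _ _ _ h2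
  have h4 : p' ≫ fst G X = q' ≫ fst G X := by
    have := congrArg ((p' ≫ fst G X) * ·) h3
    simpa using this.symm
  rw [hp, hq, h4]

end Groth.Agent.Lib.Helper51
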