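import Groth.Agent.Lib.Helper50.StalkBC
import Groth.Agent.Lib.Helper54.Reduced
import Groth.Agent.Lib.Helper54.GenericPt
import Groth.Prelude.Def_FDesc

/-!
# Geometric reducedness at a point is etale local (helper51)
-/

set_option autoImplicit false
universe u

namespace Groth.Agent.Lib.Helper51

open CategoryTheory Limits AlgebraicGeometry

/-- Reducedness of a local ring ascends along etale morphisms. -/
theorem isReduced_stalk_of_etale {V U : Scheme.{u}} (h : V ⟶ U) [Etale h] (v : V)
    (hred : _root_.IsReduced (U.presheaf.stalk (h v))) :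
    _root_.IsReduced (V.presheaf.stalk v) := by
  have hfl : Flat (U.fromSpecStalk (h v)) := Groth.Agent.Lib.Helper54.flat_fromSpecStalk U (h v)
  have hZ : IsReduced (Spec (U.presheaf.stalk (h v))) := inferInstance
  have hP : IsReduced (pullback h (U.fromSpecStalk (h v))) :=
    Groth.Agent.Lib.Helper54.isReduced_of_etale_scheme (pullback.snd h (U.fromSpecStalk (h v)))
  obtain ⟨z, hz1, -⟩ := Scheme.Pullback.exists_preimage_pullback (f := h)
    (g := U.fromSpecStalk (h v)) v (IsLocalRing.closedPoint _)
    (Scheme.fromSpecStalk_closedPoint).symm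
  have hb := Groth.Agent.Lib.Helper50.stalkMap_bijective_of_flat_of_isPreimmersion
    (pullback.fst h (U.fromSpecStalk (h v))) z
  have key : _root_.IsReduced (V.presheaf.stalk ((pullback.fst h (U.fromSpecStalk (h v))) z)) :=
    isReduced_of_injective ((pullback.fst h (U.fromSpecStalk (h v))).stalkMap z).hom hb.injective
  rwa [hz1] at key

/-- Reducedness of a local ring descends along flat morphisms. -/
theorem isReduced_stalk_of_flat {V U : Scheme.{u}} (h : V ⟶ U) [Flat h] (v : V)
    (hred : _root_.IsReduced (V.presheaf.stalk v)) :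
    _root_.IsReduced (U.presheaf.stalk (h v)) := by
  algebraize [(h.stalkMap v).hom]
  have : Module.FaithfullyFlat (U.presheaf.stalk (h v)) (V.presheaf.stalk v) :=
    @Module.FaithfullyFlat.of_flat_of_isLocalHom _ _ _ _ _ _ _
      (Flat.stalkMap h v) (h.toLRSHom.prop v)
  exact isReduced_of_injective (algebraMap (U.presheaf.stalk (h v)) (V.presheaf.stalk v))
    (FaithfulSMul.algebraMap_injective _ _)

section

variable {k : Type u} [Field k]

/-- `Spec K ⟶ Spec k`. -/
noncomputable abbrev specι (k K : Type u) [Field k] [Field K] [Algebra k K] :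
    Spec (CommRingCat.of K) ⟶ Spec (CommRingCat.of k) :=
  Spec.map (CommRingCat.ofHom (algebraMap k K))

/-- The base change of a morphism of `k`-schemes to a field extension. -/
noncomputable def bcMap {V U : Over (Spec (CommRingCat.of k))} (g : V ⟶ U) (K : Type u) [Field K]
    [Algebra k K] : pullback V.hom (specι k K) ⟶ pullback U.hom (specι k K) :=
  pullback.map V.hom (specι k K) U.hom (specι k K) g.left (𝟙 _) (𝟙 _)
    (by rw [Category.comp_id, Over.w]) (by rw [Category.comp_id, Category.id_comp])

lemma bcMap_fst {V U : Over (Spec (CommRingCat.of k))} (g : V ⟶ U) (K : Type u) [Field K]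
    [Algebra k K] : bcMap g K ≫ pullback.fst U.hom (specι k K) =
      pullback.fst V.hom (specι k K) ≫ g.left :=
  pullback.lift_fst _ _ _

lemma bcMap_snd {V U : Over (Spec (CommRingCat.of k))} (g : V ⟶ U) (K : Type u) [Field K]
    [Algebra k K] : bcMap g K ≫ pullback.snd U.hom (specι k K) =
      pullback.snd V.hom (specι k K) :=
  (pullback.lift_snd _ _ _).trans (Category.comp_id _)

lemma isPullback_bcMap {V U : Over (Spec (CommRingCat.of k))} (g : V ⟶ U) (K : Type u) [Field K]
    [Algebra k K] :
    IsPullback (bcMap g K) (pullback.fst V.hom (specι k K)) (pullback.fst U.hom (specι k K))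
      g.left := by
  have e2 : g.left ≫ U.hom = V.hom := Over.w g
  have big : IsPullback (bcMap g K ≫ pullback.snd U.hom (specι k K))
      (pullback.fst V.hom (specι k K)) (specι k K) (g.left ≫ U.hom) :=
    IsPullback.of_iso (IsPullback.of_hasPullback V.hom (specι k K)).flip
      (Iso.refl _) (Iso.refl _) (Iso.refl _) (Iso.refl _)
      (by rw [Iso.refl_hom, Iso.refl_hom, Category.comp_id, Category.id_comp, bcMap_snd])
      (by rw [Iso.refl_hom, Iso.refl_hom, Category.comp_id, Category.id_comp])
      (by rw [Iso.refl_hom, Iso.refl_hom, Category.comp_id, Category.id_comp])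
      (by rw [Iso.refl_hom, Iso.refl_hom, Category.comp_id, Category.id_comp, e2])
  exact IsPullback.of_right big (bcMap_fst g K) (IsPullback.of_hasPullback U.hom (specι k K)).flip

/-- Geometric reducedness at a point is invariant under etale morphisms. -/
theorem isGeomReducedAt_iff_of_etale {V U : Over (Spec (CommRingCat.of k))} (g : V ⟶ U)
    [Etale g.left] (v : ↥V.left) :
    FBase.IsGeomReducedAt V.hom v ↔ FBase.IsGeomReducedAt U.hom (g.left v) := by
  constructor
  · intro hV K _ _ u' hu'
    change _root_.IsReduced ((pullback U.hom (specι k K)).presheaf.stalk u')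
    change pullback.fst U.hom (specι k K) u' = g.left v at hu'
    have sq := isPullback_bcMap g K
    have hfl : Etale (bcMap g K) :=
      MorphismProperty.of_isPullback (P := @Etale) sq.flip inferInstance
    obtain ⟨z, hz1, hz2⟩ := Scheme.Pullback.exists_preimage_pullback
      (f := pullback.fst U.hom (specι k K)) (g := g.left) u' v hu'
    have h1 : bcMap g K (sq.isoPullback.inv z) = u' := by
      rw [← Scheme.Hom.comp_apply, sq.isoPullback_inv_fst, hz1]
    have h2 : pullback.fst V.hom (specι k K) (sq.isoPullback.inv z) = v := by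
      rw [← Scheme.Hom.comp_apply, sq.isoPullback_inv_snd, hz2]
    have h3 := isReduced_stalk_of_flat (bcMap g K) _ (hV K _ h2)
    rwa [h1] at h3
  · intro hU K _ _ v' hv'
    change _root_.IsReduced ((pullback V.hom (specι k K)).presheaf.stalk v')
    change pullback.fst V.hom (specι k K) v' = v at hv'
    have sq := isPullback_bcMap g K
    have hfl : Etale (bcMap g K) :=
      MorphismProperty.of_isPullback (P := @Etale) sq.flip inferInstance
    refine isReduced_stalk_of_etale (bcMap g K) v' (hU K _ ?_)
    change (bcMap g K ≫ pullback.fst U.hom (specι k K)) v' = g.left v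
    rw [bcMap_fst, Scheme.Hom.comp_apply, hv']

end

end Groth.Agent.Lib.Helper51
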