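import Groth.Agent.Lib.Helper51.GeomReducedEtale
import Groth.Agent.Lib.Helper54.Points
import Groth.Agent.H52.Points
import Groth.Agent.H53.SpBasic

/-!
# Geometric reducedness of algebraic spaces over a field at a point (helper51)
-/

set_option autoImplicit false
universe u

namespace Groth.Agent.Lib.Helper51

open CategoryTheory Limits AlgebraicGeometry AlgSp

variable {k : Type u} [Field k]

/-- Geometric reducedness at a point does not depend on the etale neighbourhood. -/
theorem isGeomReducedAt_iff_of_ofPt_eq {X : Sp (Spec (CommRingCat.of k))}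
    {U V : Over (Spec (CommRingCat.of k))}
    (a : (yon (Spec (CommRingCat.of k))).obj U ⟶ X) (b : (yon (Spec (CommRingCat.of k))).obj V ⟶ X)
    (ha : RepWith @Etale a) (hb : RepWith @Etale b) (u : ↥U.left) (v : ↥V.left)
    (h : Points.ofPt a u = Points.ofPt b v) :
    FBase.IsGeomReducedAt U.hom u ↔ FBase.IsGeomReducedAt V.hom v := by
  obtain ⟨W, snd, fst, sq⟩ := ha.1 b
  obtain ⟨fst', rfl⟩ := (yon (Spec (CommRingCat.of k))).map_surjective fst
  have hsnd : Etale snd.left := ha.2 b _ snd sq
  have hfst : Etale fst'.left := hb.2 a _ fst' sq.flip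
  have hx : Points.map a (Points.ofScheme U u) = Points.ofPt b v := by
    rw [← Points.ofPt_eq_map_ofScheme, h]
  obtain ⟨w, hw1, hw2⟩ := Groth.Agent.Lib.Helper54.exists_pt_of_isPullback_yon sq _ v hx
  have hw3 : fst'.left w = u := by
    have h1 := Groth.Agent.H53.ofPt_yon_map_comp fst' (𝟙 _) w
    rw [Category.comp_id] at h1
    rw [h1] at hw1
    exact (Points.schemeEquiv U).injective hw1
  rw [← hw3, ← hw2, ← isGeomReducedAt_iff_of_etale fst' w, ← isGeomReducedAt_iff_of_etale snd w]

/-- Every point of an algebraic space has an etale neighbourhood. -/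
theorem exists_etale_nbhd {S : Scheme.{u}} {X : Sp S} (hX : IsAlgSpace X) (x : Points X) :
    ∃ (U : Over S) (a : (yon S).obj U ⟶ X) (u : ↥U.left), RepWith @Etale a ∧ Points.ofPt a u = x := by
  obtain ⟨U, p, hpe, hps⟩ := hX.atlas
  obtain ⟨y, hy⟩ := Groth.Agent.H52.surjective_points_of_repWith_surjective p hps x
  obtain ⟨u, rfl⟩ := Groth.Agent.Lib.Helper54.exists_ofScheme_eq U y
  exact ⟨U, p, u, hpe, by rw [Points.ofPt_eq_map_ofScheme, hy]⟩

end Groth.Agent.Lib.Helper51
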