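import Groth.Prelude.Def_AlgSpGpd

/-!
# Restriction of groupoids in fppf sheaves: cartesian squares (helper51)
-/

set_option autoImplicit false
universe u
open CategoryTheory CategoryTheory.Limits AlgebraicGeometry Opposite AlgSp

namespace Groth.Agent.Lib.Helper51

variable {S : Scheme.{u}} {B : Sp S} {G G' : GroupoidSp B} (φ : GroupoidSp.Hom G' G)

/-- Lifting through a restriction: a `T`-point `ρ` of `R` whose target and source factor through
`U'` lifts uniquely to `R'`. -/
theorem exists_lift_of_isRestriction' (hφ : φ.IsRestriction) {T : Sp S} (a' b' : T ⟶ G'.U)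
    (ρ : T ⟶ G.R) (h1 : ρ ≫ G.t = a' ≫ φ.fU) (h2 : ρ ≫ G.s = b' ≫ φ.fU) :
    ∃ l : T ⟶ G'.R, l ≫ G'.t = a' ∧ l ≫ G'.s = b' ∧ l ≫ φ.fR = ρ := by
  have hB : a' ≫ G'.pU = b' ≫ G'.pU := by
    rw [← φ.fU_over, ← Category.assoc, ← Category.assoc, ← h1, ← h2, Category.assoc,
      Category.assoc, G.t_over, G.s_over]
  have hcond : ρ ≫ G.j = pullback.lift a' b' hB ≫ φ.prodMap := by
    apply pullback.hom_ext
    · rw [Category.assoc, G.j_fst, h1, Category.assoc]
      unfold GroupoidSp.Hom.prodMap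
      rw [pullback.lift_fst, pullback.lift_fst_assoc]
    · rw [Category.assoc, G.j_snd, h2, Category.assoc]
      unfold GroupoidSp.Hom.prodMap
      rw [pullback.lift_snd, pullback.lift_snd_assoc]
  refine ⟨IsPullback.lift hφ ρ (pullback.lift a' b' hB) hcond, ?_, ?_, IsPullback.lift_fst hφ _ _ _⟩
  · have := congrArg (· ≫ pullback.fst _ _) (IsPullback.lift_snd hφ ρ _ hcond)
    simpa only [Category.assoc, G'.j_fst, pullback.lift_fst] using this
  · have := congrArg (· ≫ pullback.snd _ _) (IsPullback.lift_snd hφ ρ _ hcond)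
    simpa only [Category.assoc, G'.j_snd, pullback.lift_snd] using this

/-- Points of a restriction are determined by their image in `R`, their source and target. -/
theorem hom_ext_of_isRestriction (hφ : φ.IsRestriction) {T : Sp S} (l l' : T ⟶ G'.R)
    (h1 : l ≫ G'.t = l' ≫ G'.t) (h2 : l ≫ G'.s = l' ≫ G'.s) (h3 : l ≫ φ.fR = l' ≫ φ.fR) :
    l = l' := by
  apply IsPullback.hom_ext hφ h3
  apply pullback.hom_ext
  · rw [Category.assoc, Category.assoc, G'.j_fst, h1]
  · rw [Category.assoc, Category.assoc, G'.j_snd, h2]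

/-- For a restriction `(U', R')` of `(U, R)` along `g : U' ⟶ U`, the map
`R' ⟶ R ×_{s, U, g} U'` is the base change of `g` along `R ×_{s, U, g} U' ⟶ R ⟶ U` (target). -/
theorem isPullback_restriction_t (hφ : φ.IsRestriction) :
    IsPullback G'.t (pullback.lift φ.fR G'.s φ.comm_s) φ.fU (pullback.fst G.s φ.fU ≫ G.t) := by
  have key : ∀ c : PullbackCone φ.fU (pullback.fst G.s φ.fU ≫ G.t), ∃ l : c.pt ⟶ G'.R,
      l ≫ G'.t = c.fst ∧ l ≫ G'.s = c.snd ≫ pullback.snd G.s φ.fU ∧
        l ≫ φ.fR = c.snd ≫ pullback.fst G.s φ.fU := by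
    intro c
    refine exists_lift_of_isRestriction' φ hφ c.fst (c.snd ≫ pullback.snd G.s φ.fU)
      (c.snd ≫ pullback.fst G.s φ.fU) ?_ ?_
    · rw [Category.assoc, c.condition]
    · rw [Category.assoc, pullback.condition, Category.assoc]
  choose l hl1 hl2 hl3 using key
  refine ⟨⟨?_⟩, ⟨PullbackCone.IsLimit.mk _ l hl1 (fun c => ?_) (fun c m hm1 hm2 => ?_)⟩⟩
  · rw [pullback.lift_fst_assoc, φ.comm_t]
  · apply pullback.hom_ext
    · rw [Category.assoc, pullback.lift_fst, hl3]
    · rw [Category.assoc, pullback.lift_snd, hl2]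
  · apply hom_ext_of_isRestriction φ hφ
    · rw [hm1, hl1]
    · rw [hl2, ← hm2, Category.assoc, pullback.lift_snd]
    · rw [hl3, ← hm2, Category.assoc, pullback.lift_fst]

/-- For a restriction `(U', R')` of `(U, R)` along `g : U' ⟶ U`, the map
`R' ⟶ R ×_{t, U, g} U'` is the base change of `g` along `R ×_{t, U, g} U' ⟶ R ⟶ U` (source). -/
theorem isPullback_restriction_s (hφ : φ.IsRestriction) :
    IsPullback G'.s (pullback.lift φ.fR G'.t φ.comm_t) φ.fU (pullback.fst G.t φ.fU ≫ G.s) := by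
  have key : ∀ c : PullbackCone φ.fU (pullback.fst G.t φ.fU ≫ G.s), ∃ l : c.pt ⟶ G'.R,
      l ≫ G'.t = c.snd ≫ pullback.snd G.t φ.fU ∧ l ≫ G'.s = c.fst ∧
        l ≫ φ.fR = c.snd ≫ pullback.fst G.t φ.fU := by
    intro c
    refine exists_lift_of_isRestriction' φ hφ (c.snd ≫ pullback.snd G.t φ.fU) c.fst
      (c.snd ≫ pullback.fst G.t φ.fU) ?_ ?_
    · rw [Category.assoc, pullback.condition, Category.assoc]
    · rw [Category.assoc, c.condition]
  choose l hl1 hl2 hl3 using key
  refine ⟨⟨?_⟩, ⟨PullbackCone.IsLimit.mk _ l hl2 (fun c => ?_) (fun c m hm1 hm2 => ?_)⟩⟩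
  · rw [pullback.lift_fst_assoc, φ.comm_s]
  · apply pullback.hom_ext
    · rw [Category.assoc, pullback.lift_fst, hl3]
    · rw [Category.assoc, pullback.lift_snd, hl1]
  · apply hom_ext_of_isRestriction φ hφ
    · rw [hl1, ← hm2, Category.assoc, pullback.lift_snd]
    · rw [hm1, hl2]
    · rw [hl3, ← hm2, Category.assoc, pullback.lift_fst]

end Groth.Agent.Lib.Helper51
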