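import Groth.Agent.Lib.Helper51.AlgClosedAut
import Groth.Agent.Lib.Helper51.GroupoidSpRestrict
import Groth.Agent.H52.Points

/-!
# Groupoids with `U = Spec k`: points of `R` after an algebraically closed field extension
(helper51)
-/

set_option autoImplicit false
universe u
open CategoryTheory CategoryTheory.Limits AlgebraicGeometry Opposite AlgSp

namespace Groth.Agent.Lib.Helper51

variable {S : Scheme.{u}} {B : Sp S}

theorem exists_algClosed_restrict_point (G : GroupoidSp B) (k : Type u) [Field k]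
    (σ : Spec (CommRingCat.of k) ⟶ S) (eU : G.U ≅ (yon S).obj (Over.mk σ)) (r : Points G.R) :
    ∃ (k' : Type u) (_ : Field k') (_ : Algebra k k'), IsAlgClosed k' ∧
      ∀ (G' : GroupoidSp B) (φ : GroupoidSp.Hom G' G), φ.IsRestriction →
        ∀ (eU' : G'.U ≅ (yon S).obj (Over.mk (Spec.map (CommRingCat.ofHom (algebraMap k k')) ≫ σ))),
          φ.fU = eU'.hom ≫ (yon S).map (Over.homMk (Spec.map (CommRingCat.ofHom (algebraMap k k'))) rfl :
            Over.mk (Spec.map (CommRingCat.ofHom (algebraMap k k')) ≫ σ) ⟶ Over.mk σ) ≫ eU.inv →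
          ∃ r' : G'.U ⟶ G'.R, (∀ x : Points G'.U, Points.map (r' ≫ φ.fR) x = r) ∧
            IsIso (r' ≫ G'.s) ∧ IsIso (r' ≫ G'.t) := by
  induction r using Points.ind with
  | h p =>
  -- the two embeddings `k → K`
  obtain ⟨aO, haO⟩ := (yon S).map_surjective (H52.fieldPtToHom p ≫ G.s ≫ eU.hom)
  obtain ⟨bO, hbO⟩ := (yon S).map_surjective (H52.fieldPtToHom p ≫ G.t ≫ eU.hom)
  have hs : H52.fieldPtToHom p ≫ G.s = (yon S).map aO ≫ eU.inv := by
    rw [haO, Category.assoc, Category.assoc, Iso.hom_inv_id, Category.comp_id]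
  have ht : H52.fieldPtToHom p ≫ G.t = (yon S).map bO ≫ eU.inv := by
    rw [hbO, Category.assoc, Category.assoc, Iso.hom_inv_id, Category.comp_id]
  obtain ⟨k', _, _, incl, τ, hτ⟩ := exists_algClosed_aut_of_two_embeddings
    (Spec.preimage aO.left).hom (Spec.preimage bO.left).hom
  let _ : Algebra k k' := (incl.comp (Spec.preimage aO.left).hom).toAlgebra
  refine ⟨k', inferInstance, inferInstance, inferInstance, ?_⟩
  intro G' φ hφres eU' hφ
  have halg : algebraMap k k' = incl.comp (Spec.preimage aO.left).hom := rfl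
  -- key equalities of morphisms of schemes
  have E1 : Spec.map (CommRingCat.ofHom (algebraMap k k')) =
      Spec.map (CommRingCat.ofHom incl) ≫ aO.left := by
    rw [halg]
    conv_rhs => rw [← Spec.map_preimage aO.left]
    rw [← Spec.map_comp]
    rfl
  have E2 : Spec.map (CommRingCat.ofHom (τ : k' →+* k')) ≫
      Spec.map (CommRingCat.ofHom (algebraMap k k')) =
      Spec.map (CommRingCat.ofHom incl) ≫ bO.left := by
    rw [halg]
    conv_rhs => rw [← Spec.map_preimage bO.left]
    rw [← Spec.map_comp, ← Spec.map_comp]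
    congr 1
    ext x
    exact RingHom.congr_fun hτ x
  have hpa : aO.left ≫ σ = p.str := Over.w aO
  have hpb : bO.left ≫ σ = p.str := Over.w bO
  have hm : Spec.map (CommRingCat.ofHom incl) ≫ p.str =
      Spec.map (CommRingCat.ofHom (algebraMap k k')) ≫ σ := by
    rw [← hpa, ← Category.assoc, ← E1]
  let m : Over.mk (Spec.map (CommRingCat.ofHom (algebraMap k k')) ≫ σ) ⟶ p.pt :=
    Over.homMk (Spec.map (CommRingCat.ofHom incl)) hm
  let gk : Over.mk (Spec.map (CommRingCat.ofHom (algebraMap k k')) ≫ σ) ⟶ Over.mk σ :=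
    Over.homMk (Spec.map (CommRingCat.ofHom (algebraMap k k'))) rfl
  have hma : m ≫ aO = gk := by
    ext1
    exact E1.symm
  have hτw : Spec.map (CommRingCat.ofHom (τ : k' →+* k')) ≫
      (Spec.map (CommRingCat.ofHom (algebraMap k k')) ≫ σ) =
      Spec.map (CommRingCat.ofHom (algebraMap k k')) ≫ σ := by
    rw [← Category.assoc, E2, Category.assoc, hpb, hm]
  let τO : Over.mk (Spec.map (CommRingCat.ofHom (algebraMap k k')) ≫ σ) ⟶
      Over.mk (Spec.map (CommRingCat.ofHom (algebraMap k k')) ≫ σ) :=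
    Over.homMk (Spec.map (CommRingCat.ofHom (τ : k' →+* k'))) hτw
  have hτg : τO ≫ gk = m ≫ bO := by
    ext1
    exact E2
  have hτiso : IsIso τO := by
    have h1 : IsIso (CommRingCat.ofHom (τ : k' →+* k')) :=
      (τ.toCommRingCatIso).isIso_hom
    have h2 : IsIso ((Over.forget S).map τO) := by
      change IsIso (Spec.map (CommRingCat.ofHom (τ : k' →+* k')))
      infer_instance
    exact isIso_of_reflects_iso τO (Over.forget S)
  -- the point of `R` over `k'`
  have h2 : (eU'.hom ≫ (yon S).map m ≫ H52.fieldPtToHom p) ≫ G.s = 𝟙 G'.U ≫ φ.fU := by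
    rw [Category.id_comp, Category.assoc, Category.assoc, hs, ← Category.assoc ((yon S).map m),
      ← Functor.map_comp, hma, hφ]
  have h1 : (eU'.hom ≫ (yon S).map m ≫ H52.fieldPtToHom p) ≫ G.t =
      (eU'.hom ≫ (yon S).map τO ≫ eU'.inv) ≫ φ.fU := by
    rw [Category.assoc, Category.assoc, ht, ← Category.assoc ((yon S).map m),
      ← Functor.map_comp, ← hτg, hφ, Functor.map_comp]
    simp only [Category.assoc, Iso.inv_hom_id_assoc]
    rfl
  obtain ⟨r', hr't, hr's, hr'R⟩ := exists_lift_of_isRestriction' φ hφres _ _ _ h1 h2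
  refine ⟨r', fun x => ?_, ?_, ?_⟩
  · rw [hr'R, H52.points_mk_eq_map_tautPt p, Points.map_comp, Points.map_comp]
    congr 1
    exact Subsingleton.elim _ _
  · rw [hr's]
    infer_instance
  · rw [hr't]
    infer_instance

end Groth.Agent.Lib.Helper51
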