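import Groth.Prelude.Def_AlgSpGpd

set_option autoImplicit false
universe u
open CategoryTheory CategoryTheory.Limits AlgebraicGeometry Opposite AlgSp

namespace Groth.Agent.Lib.Helper51

variable {S : Scheme.{u}} {B : Sp S} (G : GroupoidSp B)

/-- Composition of composable `T`-points of the arrows of a groupoid. -/
noncomputable def gcomp {T : Sp S} (α β : T ⟶ G.R) (h : α ≫ G.s = β ≫ G.t) : T ⟶ G.R :=
  pullback.lift α β h ≫ G.c

lemma gcomp_s {T : Sp S} (α β : T ⟶ G.R) (h : α ≫ G.s = β ≫ G.t) :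
    gcomp G α β h ≫ G.s = β ≫ G.s := G.comp_s α β h

lemma gcomp_t {T : Sp S} (α β : T ⟶ G.R) (h : α ≫ G.s = β ≫ G.t) :
    gcomp G α β h ≫ G.t = α ≫ G.t := G.comp_t α β h

lemma gcomp_assoc {T : Sp S} (α β γ : T ⟶ G.R) (h₁ : α ≫ G.s = β ≫ G.t) (h₂ : β ≫ G.s = γ ≫ G.t) :
    gcomp G (gcomp G α β h₁) γ ((gcomp_s G α β h₁).trans h₂) =
      gcomp G α (gcomp G β γ h₂) (h₁.trans (gcomp_t G β γ h₂).symm) := G.assoc α β γ h₁ h₂

lemma precomp_gcomp {T T' : Sp S} (f : T' ⟶ T) (α β : T ⟶ G.R) (h : α ≫ G.s = β ≫ G.t) :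
    f ≫ gcomp G α β h = gcomp G (f ≫ α) (f ≫ β) (by rw [Category.assoc, Category.assoc, h]) := by
  unfold gcomp
  rw [← Category.assoc]
  congr 1
  apply pullback.hom_ext
  · rw [Category.assoc, pullback.lift_fst, pullback.lift_fst]
  · rw [Category.assoc, pullback.lift_snd, pullback.lift_snd]

lemma gcomp_congr {T : Sp S} {α α' β β' : T ⟶ G.R} (hα : α = α') (hβ : β = β')
    (h : α ≫ G.s = β ≫ G.t) :
    gcomp G α β h = gcomp G α' β' (by rw [← hα, ← hβ]; exact h) := by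
  subst hα hβ
  rfl

lemma gcomp_inv {T : Sp S} (α : T ⟶ G.R) :
    gcomp G α (α ≫ G.i) (by rw [Category.assoc, G.i_t]) = α ≫ G.t ≫ G.e := G.comp_i α

lemma inv_gcomp {T : Sp S} (α : T ⟶ G.R) :
    gcomp G (α ≫ G.i) α (by rw [Category.assoc, G.i_s]) = α ≫ G.s ≫ G.e := G.i_comp α

lemma gcomp_id {T : Sp S} (α : T ⟶ G.R) :
    gcomp G α (α ≫ G.s ≫ G.e)
      (by rw [Category.assoc, Category.assoc, G.e_t, Category.comp_id]) = α := G.comp_e α

lemma id_gcomp {T : Sp S} (α : T ⟶ G.R) :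
    gcomp G (α ≫ G.t ≫ G.e) α
      (by rw [Category.assoc, Category.assoc, G.e_s, Category.comp_id]) = α := G.e_comp α

/-- Right translation by an arrow `δ : u' ⟶ u` on the fibres of the source map. -/
noncomputable def fibreTranslate {T : Sp S} (u u' : T ⟶ G.U) (δ : T ⟶ G.R) (hs : δ ≫ G.s = u')
    (ht : δ ≫ G.t = u) : pullback u G.s ⟶ pullback u' G.s :=
  pullback.lift (pullback.fst u G.s)
    (gcomp G (pullback.snd u G.s) (pullback.fst u G.s ≫ δ)
      (by rw [Category.assoc, ht, pullback.condition]))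
    (by rw [gcomp_s, Category.assoc, hs])

lemma fibreTranslate_fst {T : Sp S} (u u' : T ⟶ G.U) (δ : T ⟶ G.R) (hs : δ ≫ G.s = u')
    (ht : δ ≫ G.t = u) : fibreTranslate G u u' δ hs ht ≫ pullback.fst u' G.s = pullback.fst u G.s :=
  pullback.lift_fst _ _ _

lemma fibreTranslate_snd {T : Sp S} (u u' : T ⟶ G.U) (δ : T ⟶ G.R) (hs : δ ≫ G.s = u')
    (ht : δ ≫ G.t = u) : fibreTranslate G u u' δ hs ht ≫ pullback.snd u' G.s =
      gcomp G (pullback.snd u G.s) (pullback.fst u G.s ≫ δ)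
        (by rw [Category.assoc, ht, pullback.condition]) :=
  pullback.lift_snd _ _ _

lemma fibreTranslate_comp {T : Sp S} (u u' : T ⟶ G.U) (δ δ' : T ⟶ G.R) (hs : δ ≫ G.s = u')
    (ht : δ ≫ G.t = u) (hs' : δ' ≫ G.s = u) (ht' : δ' ≫ G.t = u')
    (hcomp : gcomp G δ δ' (hs.trans ht'.symm) = u ≫ G.e) :
    fibreTranslate G u u' δ hs ht ≫ fibreTranslate G u' u δ' hs' ht' = 𝟙 _ := by
  apply pullback.hom_ext
  · rw [Category.assoc, fibreTranslate_fst, fibreTranslate_fst, Category.id_comp]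
  · rw [Category.assoc, fibreTranslate_snd, precomp_gcomp, Category.id_comp]
    have e1 : fibreTranslate G u u' δ hs ht ≫ pullback.snd u' G.s =
        gcomp G (pullback.snd u G.s) (pullback.fst u G.s ≫ δ)
          (by rw [Category.assoc, ht, pullback.condition]) := fibreTranslate_snd G u u' δ hs ht
    have e2 : fibreTranslate G u u' δ hs ht ≫ pullback.fst u' G.s ≫ δ' =
        pullback.fst u G.s ≫ δ' := by
      rw [← Category.assoc, fibreTranslate_fst]
    have hA : pullback.snd u G.s ≫ G.s = (pullback.fst u G.s ≫ δ) ≫ G.t := by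
      rw [Category.assoc, ht, pullback.condition]
    have hB : (pullback.fst u G.s ≫ δ) ≫ G.s = (pullback.fst u G.s ≫ δ') ≫ G.t := by
      rw [Category.assoc, Category.assoc, hs, ht']
    have e3 := gcomp_assoc G (pullback.snd u G.s) (pullback.fst u G.s ≫ δ)
      (pullback.fst u G.s ≫ δ') hA hB
    have e4 : gcomp G (pullback.fst u G.s ≫ δ) (pullback.fst u G.s ≫ δ') hB =
        pullback.snd u G.s ≫ G.s ≫ G.e := by
      rw [← precomp_gcomp G (pullback.fst u G.s) δ δ' (hs.trans ht'.symm), hcomp,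
        ← Category.assoc, pullback.condition, Category.assoc]
    rw [gcomp_congr G e1 e2, e3, gcomp_congr G rfl e4, gcomp_id]

/-- The fibres of the source map over the two ends of an arrow are isomorphic. -/
theorem nonempty_iso_fibres_of_arrow {T : Sp S} (u u' : T ⟶ G.U) (δ : T ⟶ G.R)
    (hs : δ ≫ G.s = u') (ht : δ ≫ G.t = u) :
    Nonempty (Over.mk (pullback.fst u G.s) ≅ Over.mk (pullback.fst u' G.s)) := by
  have hs' : (δ ≫ G.i) ≫ G.s = u := by rw [Category.assoc, G.i_s, ht]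
  have ht' : (δ ≫ G.i) ≫ G.t = u' := by rw [Category.assoc, G.i_t, hs]
  have h1 := fibreTranslate_comp G u u' δ (δ ≫ G.i) hs ht hs' ht'
    (by rw [gcomp_inv, ← Category.assoc, ht])
  have h2 := fibreTranslate_comp G u' u (δ ≫ G.i) δ hs' ht' hs ht
    (by rw [inv_gcomp, ← Category.assoc, hs])
  exact ⟨Over.isoMk ⟨fibreTranslate G u u' δ hs ht, fibreTranslate G u' u (δ ≫ G.i) hs' ht', h1, h2⟩
    (fibreTranslate_fst G u u' δ hs ht)⟩

/-- Two arrows with the same target have isomorphic source fibres. -/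
theorem nonempty_iso_fibres_of_eq_target {T : Sp S} (r r' : T ⟶ G.R) (h : r ≫ G.t = r' ≫ G.t) :
    Nonempty (Over.mk (pullback.fst (r ≫ G.s) G.s) ≅ Over.mk (pullback.fst (r' ≫ G.s) G.s)) := by
  have hc : (r ≫ G.i) ≫ G.s = r' ≫ G.t := by rw [Category.assoc, G.i_s, h]
  refine nonempty_iso_fibres_of_arrow G (r ≫ G.s) (r' ≫ G.s) (gcomp G (r ≫ G.i) r' hc) ?_ ?_
  · rw [gcomp_s]
  · rw [gcomp_t, Category.assoc, G.i_t]

end Groth.Agent.Lib.Helper51
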