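import Groth.Agent.Lib.Helper51.GroupoidSpPts

/-!
# The stabilizer of a groupoid in sheaves: diagonal of `j` versus the unit section (helper51)
-/

set_option autoImplicit false
universe u v
open CategoryTheory CategoryTheory.Limits AlgebraicGeometry Opposite AlgSp

namespace Groth.Agent.Lib.Helper51

/-- A section of a morphism is a base change of its diagonal. -/
theorem isPullback_section_diagonal {C : Type u} [Category.{v} C] [HasPullbacks C] {X Y : C}
    (p : X ⟶ Y) (e : Y ⟶ X) (h : e ≫ p = 𝟙 Y) (hk : 𝟙 X ≫ p = (p ≫ e) ≫ p) :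
    IsPullback e e (pullback.lift (𝟙 X) (p ≫ e) hk) (pullback.diagonal p) := by
  have key : ∀ c : PullbackCone (pullback.lift (𝟙 X) (p ≫ e) hk) (pullback.diagonal p),
      c.fst = c.snd ∧ c.fst ≫ p ≫ e = c.snd := by
    intro c
    have h1 := congrArg (· ≫ pullback.fst p p) c.condition
    have h2 := congrArg (· ≫ pullback.snd p p) c.condition
    simp only [Category.assoc, pullback.lift_fst, pullback.lift_snd, pullback.diagonal_fst,
      pullback.diagonal_snd, Category.comp_id] at h1 h2
    exact ⟨h1, h2⟩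
  refine ⟨⟨?_⟩, ⟨PullbackCone.IsLimit.mk _ (fun c => c.fst ≫ p) (fun c => ?_) (fun c => ?_)
    (fun c m hm1 hm2 => ?_)⟩⟩
  · apply pullback.hom_ext
    · rw [Category.assoc, pullback.lift_fst, Category.assoc, pullback.diagonal_fst]
    · rw [Category.assoc, pullback.lift_snd, Category.assoc, pullback.diagonal_snd,
        ← Category.assoc, h, Category.id_comp, Category.comp_id]
  · rw [Category.assoc, (key c).2, ← (key c).1]
  · rw [Category.assoc, (key c).2]
  · rw [← hm1, Category.assoc, h, Category.comp_id]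

variable {S : Scheme.{u}} {B : Sp S} (G : GroupoidSp B)

/-- If `r⁻¹ ∘ r'` is an identity then `r' = r`. -/
lemma eq_of_inv_gcomp_eq_id {T : Sp S} (r r' : T ⟶ G.R) (ht : r ≫ G.t = r' ≫ G.t)
    (h : gcomp G (r ≫ G.i) r' (by rw [Category.assoc, G.i_s, ht]) = r ≫ G.s ≫ G.e) : r' = r := by
  have h0 : (r ≫ G.i) ≫ G.s = r' ≫ G.t := by rw [Category.assoc, G.i_s, ht]
  have h1 : r ≫ G.s = (r ≫ G.i) ≫ G.t := by rw [Category.assoc, G.i_t]
  have e1 := id_gcomp G r'
  have e2 : r' ≫ G.t ≫ G.e = gcomp G r (r ≫ G.i) h1 := by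
    rw [gcomp_inv, ← Category.assoc, ← ht, Category.assoc]
  rw [gcomp_congr G e2 rfl, gcomp_assoc G r (r ≫ G.i) r' h1 h0, gcomp_congr G rfl h, gcomp_id] at e1
  exact e1.symm

lemma j_condition_t : pullback.fst G.j G.j ≫ G.t = pullback.snd G.j G.j ≫ G.t := by
  rw [← G.j_fst, ← Category.assoc, pullback.condition, Category.assoc]

lemma j_condition_s : pullback.fst G.j G.j ≫ G.s = pullback.snd G.j G.j ≫ G.s := by
  rw [← G.j_snd, ← Category.assoc, pullback.condition, Category.assoc]

lemma diag_fst : G.diag ≫ pullback.fst G.pU G.pU = 𝟙 _ := pullback.lift_fst _ _ _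

lemma diag_snd : G.diag ≫ pullback.snd G.pU G.pU = 𝟙 _ := pullback.lift_snd _ _ _

/-- `(r, r') ↦ r⁻¹ ∘ r'` from `R ×_{U ×_B U} R` to the stabilizer. -/
noncomputable def stabDiff : pullback G.j G.j ⟶ G.stabilizer :=
  pullback.lift
    (gcomp G (pullback.fst G.j G.j ≫ G.i) (pullback.snd G.j G.j)
      (by rw [Category.assoc, G.i_s, j_condition_t]))
    (pullback.fst G.j G.j ≫ G.s)
    (by
      apply pullback.hom_ext
      · rw [Category.assoc, G.j_fst, gcomp_t, Category.assoc, G.i_t, Category.assoc, diag_fst,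
          Category.comp_id]
      · rw [Category.assoc, G.j_snd, gcomp_s, Category.assoc, diag_snd, Category.comp_id,
          j_condition_s])

lemma stabDiff_ι : stabDiff G ≫ G.stabilizerι =
    gcomp G (pullback.fst G.j G.j ≫ G.i) (pullback.snd G.j G.j)
      (by rw [Category.assoc, G.i_s, j_condition_t]) := pullback.lift_fst _ _ _

lemma stabDiff_toU : stabDiff G ≫ G.stabilizerToU = pullback.fst G.j G.j ≫ G.s :=
  pullback.lift_snd _ _ _

variable (eG : G.U ⟶ G.stabilizer) (heG : eG ≫ G.stabilizerι = G.e)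
include heG

lemma eG_toU : eG ≫ G.stabilizerToU = 𝟙 _ := by
  have h := congrArg (· ≫ pullback.fst G.pU G.pU)
    (pullback.condition (f := G.j) (g := G.diag))
  have h' := congrArg (eG ≫ ·) h
  simp only [Category.assoc] at h'
  change eG ≫ G.stabilizerι ≫ G.j ≫ pullback.fst G.pU G.pU =
    eG ≫ G.stabilizerToU ≫ G.diag ≫ pullback.fst G.pU G.pU at h'
  rw [G.j_fst, diag_fst, Category.comp_id, ← Category.assoc, heG, G.e_t] at h'
  exact h'.symm

/-- The diagonal of `j` is a base change of the unit section of the stabilizer. -/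
theorem isPullback_diagonal_j_unit :
    IsPullback (pullback.diagonal G.j) G.s (stabDiff G) eG := by
  have hU := eG_toU G eG heG
  have key : ∀ c : PullbackCone (stabDiff G) eG,
      c.fst ≫ pullback.snd G.j G.j = c.fst ≫ pullback.fst G.j G.j ∧
        (c.fst ≫ pullback.fst G.j G.j) ≫ G.s = c.snd := by
    intro c
    have h1 := congrArg (· ≫ G.stabilizerι) c.condition
    have h2 := congrArg (· ≫ G.stabilizerToU) c.condition
    simp only [Category.assoc] at h1 h2
    rw [stabDiff_ι, heG, precomp_gcomp] at h1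
    rw [stabDiff_toU, hU, Category.comp_id] at h2
    refine ⟨?_, by rw [Category.assoc]; exact h2⟩
    apply eq_of_inv_gcomp_eq_id G (c.fst ≫ pullback.fst G.j G.j) (c.fst ≫ pullback.snd G.j G.j)
      (by rw [Category.assoc, Category.assoc, j_condition_t])
    refine (gcomp_congr G (Category.assoc _ _ _) rfl _).trans (h1.trans ?_)
    rw [← h2]
    simp only [Category.assoc]
  refine ⟨⟨?_⟩, ⟨PullbackCone.IsLimit.mk _ (fun c => c.fst ≫ pullback.fst G.j G.j) (fun c => ?_)
    (fun c => (key c).2) (fun c m hm1 hm2 => ?_)⟩⟩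
  · apply pullback.hom_ext
    · change (pullback.diagonal G.j ≫ stabDiff G) ≫ G.stabilizerι = (G.s ≫ eG) ≫ G.stabilizerι
      rw [Category.assoc G.s, heG, Category.assoc, stabDiff_ι, precomp_gcomp]
      have e1 : pullback.diagonal G.j ≫ pullback.fst G.j G.j ≫ G.i = 𝟙 _ ≫ G.i := by
        rw [← Category.assoc, pullback.diagonal_fst]
      have e2 : pullback.diagonal G.j ≫ pullback.snd G.j G.j = 𝟙 _ := pullback.diagonal_snd _
      rw [gcomp_congr G e1 e2, inv_gcomp, Category.id_comp]
    · change (pullback.diagonal G.j ≫ stabDiff G) ≫ G.stabilizerToU =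
        (G.s ≫ eG) ≫ G.stabilizerToU
      rw [Category.assoc, stabDiff_toU, Category.assoc, hU, Category.comp_id, ← Category.assoc,
        pullback.diagonal_fst, Category.id_comp]
  · apply pullback.hom_ext
    · rw [Category.assoc, pullback.diagonal_fst, Category.comp_id]
    · rw [Category.assoc, pullback.diagonal_snd, Category.comp_id, (key c).1]
  · rw [← hm1, Category.assoc, pullback.diagonal_fst, Category.comp_id]

end Groth.Agent.Lib.Helper51
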