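import Groth.Agent.Lib.Helper51.GroupoidSpPts

/-!
# Left translation by a section of the source map of a groupoid (helper51)

For `a : U ⟶ R` with `s ∘ a = id`, the map `L_a : R ⟶ R`, `f ↦ a(t f) ∘ f`.  It is an
isomorphism as soon as `t ∘ a` is.
-/

set_option autoImplicit false
universe u
open CategoryTheory CategoryTheory.Limits AlgebraicGeometry Opposite AlgSp

namespace Groth.Agent.Lib.Helper51

variable {S : Scheme.{u}} {B : Sp S} (G : GroupoidSp B)

/-- Left translation by a section `a` of the source map. -/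
noncomputable def leftTransl (a : G.U ⟶ G.R) (ha : a ≫ G.s = 𝟙 G.U) : G.R ⟶ G.R :=
  gcomp G (G.t ≫ a) (𝟙 G.R) (by rw [Category.assoc, ha, Category.comp_id, Category.id_comp])

lemma leftTransl_congr {a a' : G.U ⟶ G.R} (h : a = a') (ha : a ≫ G.s = 𝟙 G.U) :
    leftTransl G a ha = leftTransl G a' (by rw [← h]; exact ha) := by
  subst h
  rfl

lemma leftTransl_t (a : G.U ⟶ G.R) (ha : a ≫ G.s = 𝟙 G.U) :
    leftTransl G a ha ≫ G.t = G.t ≫ a ≫ G.t := by
  unfold leftTransl
  rw [gcomp_t, Category.assoc]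

lemma leftTransl_e : leftTransl G G.e G.e_s = 𝟙 G.R := by
  unfold leftTransl
  exact (gcomp_congr G (Category.id_comp _).symm rfl _).trans (id_gcomp G (𝟙 G.R))

lemma leftTransl_comp (a b : G.U ⟶ G.R) (ha : a ≫ G.s = 𝟙 G.U) (hb : b ≫ G.s = 𝟙 G.U) :
    leftTransl G a ha ≫ leftTransl G b hb =
      leftTransl G (gcomp G ((a ≫ G.t) ≫ b) a (by rw [Category.assoc, hb, Category.comp_id]))
        (by rw [gcomp_s, ha]) := by
  have h1 : (G.t ≫ (a ≫ G.t) ≫ b) ≫ G.s = (G.t ≫ a) ≫ G.t := by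
    rw [Category.assoc, Category.assoc, hb, Category.comp_id, Category.assoc]
  have h2 : (G.t ≫ a) ≫ G.s = 𝟙 G.R ≫ G.t := by
    rw [Category.assoc, ha, Category.comp_id, Category.id_comp]
  -- left side
  have e1 : leftTransl G a ha ≫ leftTransl G b hb =
      gcomp G (G.t ≫ (a ≫ G.t) ≫ b) (gcomp G (G.t ≫ a) (𝟙 G.R) h2)
        (h1.trans (gcomp_t G _ _ h2).symm) := by
    have hb' : leftTransl G b hb = gcomp G (G.t ≫ b) (𝟙 G.R)
        (by rw [Category.assoc, hb, Category.comp_id, Category.id_comp]) := rfl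
    rw [hb', precomp_gcomp]
    refine gcomp_congr G ?_ ?_ _
    · rw [← Category.assoc, leftTransl_t, Category.assoc, Category.assoc]
    · rw [Category.comp_id]
      rfl
  rw [e1, ← gcomp_assoc G _ _ _ h1 h2]
  unfold leftTransl
  refine gcomp_congr G ?_ rfl _
  rw [precomp_gcomp]

/-- Left translation by `a` is an isomorphism when `t ∘ a` is, and it maps `e` to `a`. -/
theorem isIso_leftTransl (a : G.U ⟶ G.R) (ha : a ≫ G.s = 𝟙 G.U) [IsIso (a ≫ G.t)] :
    IsIso (leftTransl G a ha) ∧ G.e ≫ leftTransl G a ha = a := by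
  have ha' : (inv (a ≫ G.t) ≫ a ≫ G.i) ≫ G.s = 𝟙 G.U := by
    rw [Category.assoc, Category.assoc, G.i_s, IsIso.inv_hom_id]
  have ha't : (inv (a ≫ G.t) ≫ a ≫ G.i) ≫ G.t = inv (a ≫ G.t) := by
    rw [Category.assoc, Category.assoc, G.i_t, ha, Category.comp_id]
  refine ⟨⟨leftTransl G (inv (a ≫ G.t) ≫ a ≫ G.i) ha', ?_, ?_⟩, ?_⟩
  · rw [leftTransl_comp, ← leftTransl_e]
    refine leftTransl_congr G ?_ _
    have h3 : a ≫ G.s ≫ G.e = G.e := by rw [← Category.assoc, ha, Category.id_comp]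
    refine (gcomp_congr G ?_ rfl _).trans ((inv_gcomp G a).trans h3)
    rw [IsIso.hom_inv_id_assoc]
  · rw [leftTransl_comp, ← leftTransl_e]
    refine leftTransl_congr G ?_ _
    have h3 : (inv (a ≫ G.t) ≫ a) ≫ G.t ≫ G.e = G.e := by
      rw [Category.assoc, ← Category.assoc a, IsIso.inv_hom_id_assoc]
    refine (gcomp_congr G ?_ ?_ _).trans ((gcomp_inv G (inv (a ≫ G.t) ≫ a)).trans h3)
    · rw [ha't]
    · rw [Category.assoc]
  · unfold leftTransl
    rw [precomp_gcomp]
    have := gcomp_id G a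
    conv_rhs => rw [← this]
    refine gcomp_congr G ?_ ?_ _
    · rw [← Category.assoc, G.e_t, Category.id_comp]
    · rw [Category.comp_id, ← Category.assoc, ha, Category.id_comp]

end Groth.Agent.Lib.Helper51
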