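import Groth.Prelude.Def_AlgSpGpd
import Mathlib.CategoryTheory.Monoidal.Cartesian.Grp

/-!
# Diagonal versus unit section of a group object (helper51)

For a group object `G` of a cartesian monoidal category the diagonal `G ⟶ G ⊗ G` is a base change
of the unit `η : 𝟙_ ⟶ G`, and conversely.
-/

set_option autoImplicit false
universe u v
open CategoryTheory CategoryTheory.Limits
open MonoidalCategory CartesianMonoidalCategory MonObj

namespace Groth.Agent.Lib.Helper51

section General

variable {C : Type u} [Category.{v} C] [CartesianMonoidalCategory C] (G : C) [GrpObj G]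

/-- The diagonal of a group object is the base change of the unit along `(g, h) ↦ g⁻¹ h`. -/
theorem isPullback_diag_unit :
    IsPullback (lift (𝟙 G) (𝟙 G)) (toUnit G) ((fst G G)⁻¹ * snd G G) η[G] := by
  have key : ∀ c : PullbackCone ((fst G G)⁻¹ * snd G G) η[G], c.fst ≫ fst G G = c.fst ≫ snd G G := by
    intro c
    have h := c.condition
    rw [comp_mul, GrpObj.comp_inv, toUnit_unique c.snd (toUnit _), ← Hom.one_def] at h
    exact inv_mul_eq_one.1 h
  refine ⟨⟨?_⟩, ⟨PullbackCone.IsLimit.mk _ (fun c => c.fst ≫ fst G G) (fun c => ?_) (fun c => ?_)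
    (fun c m hm1 hm2 => ?_)⟩⟩
  · rw [comp_mul, GrpObj.comp_inv, lift_fst, lift_snd, inv_mul_cancel, Hom.one_def]
  · apply CartesianMonoidalCategory.hom_ext
    · rw [Category.assoc, lift_fst, Category.comp_id]
    · rw [Category.assoc, lift_snd, Category.comp_id, key c]
  · exact toUnit_unique _ _
  · rw [← hm1, Category.assoc, lift_fst, Category.comp_id]

/-- The unit of a group object is the base change of the diagonal along `g ↦ (g, 1)`. -/
theorem isPullback_unit_diag :
    IsPullback η[G] η[G] (lift (𝟙 G) (toUnit G ≫ η[G])) (lift (𝟙 G) (𝟙 G)) := by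
  have key : ∀ c : PullbackCone (lift (𝟙 G) (toUnit G ≫ η[G])) (lift (𝟙 G) (𝟙 G)),
      c.fst = toUnit _ ≫ η[G] ∧ c.snd = toUnit _ ≫ η[G] := by
    intro c
    have h1 := congrArg (· ≫ fst G G) c.condition
    have h2 := congrArg (· ≫ snd G G) c.condition
    simp only [Category.assoc, lift_fst, lift_snd, Category.comp_id] at h1 h2
    have h3 : c.snd = toUnit _ ≫ η[G] := by
      rw [← h2, ← Category.assoc, toUnit_unique (c.fst ≫ toUnit G) (toUnit _)]
    exact ⟨h1.trans h3, h3⟩
  refine ⟨⟨?_⟩, ⟨PullbackCone.IsLimit.mk _ (fun c => toUnit _) (fun c => ?_) (fun c => ?_)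
    (fun c m hm1 hm2 => ?_)⟩⟩
  · apply CartesianMonoidalCategory.hom_ext
    · rw [Category.assoc, lift_fst, Category.assoc, lift_fst]
    · rw [Category.assoc, lift_snd, Category.assoc, lift_snd, Category.comp_id,
        ← Category.assoc, toUnit_unique (η[G] ≫ toUnit G) (𝟙 _), Category.id_comp]
  · exact (key c).1.symm
  · exact (key c).2.symm
  · exact toUnit_unique _ _

end General

section Over

open AlgebraicGeometry AlgSp

variable {S : Scheme.{u}} {B : Sp S} (G : Over B) [GrpObj G]

/-- In sheaves: the relative diagonal of `G ⟶ B` is a base change of the unit section. -/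
theorem isPullback_diagonal_unit_left :
    IsPullback (pullback.diagonal G.hom) G.hom ((fst G G)⁻¹ * snd G G).left (η[G]).left := by
  have h := (isPullback_diag_unit G).map (Over.forget B)
  exact h

/-- In sheaves: the unit section of `G ⟶ B` is a base change of the relative diagonal. -/
theorem isPullback_unit_diagonal_left :
    IsPullback (η[G]).left (η[G]).left (lift (𝟙 G) (toUnit G ≫ η[G])).left
      (pullback.diagonal G.hom) := by
  have h := (isPullback_unit_diag G).map (Over.forget B)
  exact h

end Over

end Groth.Agent.Lib.Helper51
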