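import Groth.Prelude.Def_AlgSpGpd
import Mathlib.CategoryTheory.Monoidal.Cartesian.Grp

/-!
# The shear isomorphism of a group object, and multiplication as a base change (helper51)
-/

set_option autoImplicit false
universe u v
open CategoryTheory CategoryTheory.Limits
open MonoidalCategory CartesianMonoidalCategory MonObj

namespace Groth.Agent.Lib.Helper51

section General

variable {C : Type u} [Category.{v} C] [CartesianMonoidalCategory C] (G : C) [GrpObj G]

/-- The shear isomorphism `(g, h) ↦ (g h, h)` of `G ⊗ G`. -/
noncomputable def shearIso : G ⊗ G ≅ G ⊗ G where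
  hom := lift (fst G G * snd G G) (snd G G)
  inv := lift (fst G G * (snd G G)⁻¹) (snd G G)
  hom_inv_id := by
    apply CartesianMonoidalCategory.hom_ext
    · rw [Category.assoc, lift_fst, comp_mul, GrpObj.comp_inv, lift_fst, lift_snd,
        Category.id_comp, mul_inv_cancel_right]
    · rw [Category.assoc, lift_snd, lift_snd, Category.id_comp]
  inv_hom_id := by
    apply CartesianMonoidalCategory.hom_ext
    · rw [Category.assoc, lift_fst, comp_mul, lift_fst, lift_snd,
        Category.id_comp, inv_mul_cancel_right]
    · rw [Category.assoc, lift_snd, lift_snd, Category.id_comp]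

lemma shearIso_hom_fst : (shearIso G).hom ≫ fst G G = μ[G] := by
  unfold shearIso
  rw [lift_fst, mul_eq_mul]

lemma shearIso_hom_snd : (shearIso G).hom ≫ snd G G = snd G G := by
  unfold shearIso
  rw [lift_snd]

end General

section Over

open AlgebraicGeometry AlgSp

variable {S : Scheme.{u}} {B : Sp S} (G : Over B) [GrpObj G]

/-- The multiplication of a group object over `B` is a base change of its structure morphism. -/
theorem isPullback_mul_left : IsPullback (μ[G]).left (snd G G).left G.hom G.hom := by
  have h0 : IsPullback (fst G G).left (snd G G).left G.hom G.hom :=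
    IsPullback.of_hasPullback G.hom G.hom
  refine IsPullback.of_iso h0 ((Over.forget B).mapIso (shearIso G).symm) (Iso.refl _) (Iso.refl _)
    (Iso.refl _) ?_ ?_ (by simp) (by simp)
  · rw [Iso.refl_hom, Category.comp_id, ← shearIso_hom_fst]
    change (fst G G).left = ((shearIso G).inv ≫ (shearIso G).hom ≫ fst G G).left
    rw [Iso.inv_hom_id_assoc]
  · rw [Iso.refl_hom, Category.comp_id]
    change (snd G G).left = ((shearIso G).inv ≫ snd G G).left
    have : (shearIso G).inv ≫ snd G G = snd G G := by rw [Iso.inv_comp_eq, shearIso_hom_snd]
    rw [this]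

end Over

end Groth.Agent.Lib.Helper51
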