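import Mathlib.AlgebraicGeometry.Stalk
import Mathlib.AlgebraicGeometry.Properties
import Mathlib.Topology.Irreducible
import Mathlib.Topology.Sober

/-!
# Irreducible components of schemes whose local rings are domains (helper51)

* `irreducibleComponent_eq_of_isDomain_stalk`: if `𝒪_{X,x}` is a domain, then there is exactly one
  irreducible component of `X` through `x`.
* `isOpen_of_mem_irreducibleComponents_of_disjoint`: (pure topology) if distinct irreducible
  components are disjoint and every point has an open neighbourhood with finitely many irreducible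
  components, then irreducible components are open.
-/

set_option autoImplicit false
universe u

namespace Groth.Agent.Lib.Helper51

open AlgebraicGeometry CategoryTheory TopologicalSpace

/-- If the local ring of `X` at `x` is a domain, every irreducible component through `x` is the
closure of the image of the generic point of `Spec 𝒪_{X,x}`. -/
lemma irreducibleComponent_eq_closure_of_isDomain_stalk (X : Scheme.{u}) (x : X)
    [IsDomain (X.presheaf.stalk x)] {Z : Set X} (hZ : Z ∈ irreducibleComponents X) (hx : x ∈ Z) :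
    Z = closure {X.fromSpecStalk x (⊥ : PrimeSpectrum (X.presheaf.stalk x))} := by
  have hZc : IsClosed Z := isClosed_of_mem_irreducibleComponents Z hZ
  obtain ⟨η, hη⟩ := QuasiSober.sober hZ.1 hZc
  have hηx : η ⤳ x := by
    rw [specializes_iff_mem_closure, hη.def]
    exact hx
  have hmem : η ∈ Set.range (X.fromSpecStalk x) := by
    rw [Scheme.range_fromSpecStalk]
    exact hηx
  obtain ⟨𝔭, rfl⟩ := hmem
  have h1 : (⊥ : PrimeSpectrum (X.presheaf.stalk x)) ⤳ 𝔭 :=
    (PrimeSpectrum.le_iff_specializes _ _).mp bot_le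
  have h2 := h1.map (X.fromSpecStalk x).continuous
  have hsub : Z ⊆ closure {X.fromSpecStalk x (⊥ : PrimeSpectrum (X.presheaf.stalk x))} := by
    rw [← hη.def]
    exact closure_minimal (Set.singleton_subset_iff.mpr (specializes_iff_mem_closure.mp h2))
      isClosed_closure
  exact hsub.antisymm (hZ.2 isIrreducible_singleton.closure hsub)

/-- If the local ring of `X` at `x` is a domain, there is only one irreducible component of `X`
through `x`. -/
lemma irreducibleComponent_eq_of_isDomain_stalk (X : Scheme.{u}) (x : X)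
    [IsDomain (X.presheaf.stalk x)] {Z Z' : Set X} (hZ : Z ∈ irreducibleComponents X)
    (hZ' : Z' ∈ irreducibleComponents X) (hx : x ∈ Z) (hx' : x ∈ Z') : Z = Z' :=
  (irreducibleComponent_eq_closure_of_isDomain_stalk X x hZ hx).trans
    (irreducibleComponent_eq_closure_of_isDomain_stalk X x hZ' hx').symm

/-- Pure topology: if distinct irreducible components never meet and every point has an open
neighbourhood with finitely many irreducible components, then irreducible components are open. -/
lemma isOpen_of_mem_irreducibleComponents_of_disjoint {X : Type*} [TopologicalSpace X]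
    (hdisj : ∀ Z ∈ irreducibleComponents X, ∀ Z' ∈ irreducibleComponents X,
      (Z ∩ Z').Nonempty → Z = Z')
    (hfin : ∀ x : X, ∃ U : Opens X, x ∈ U ∧ (irreducibleComponents ↥U).Finite)
    {Z : Set X} (hZ : Z ∈ irreducibleComponents X) : IsOpen Z := by
  rw [isOpen_iff_mem_nhds]
  intro x hx
  obtain ⟨U, hxU, hUfin⟩ := hfin x
  have hemb : Topology.IsOpenEmbedding (Subtype.val : ↥U → X) := U.2.isOpenEmbedding_subtypeVal
  set T₀ : Set ↥U := Subtype.val ⁻¹' Z with hT₀
  have hT₀mem : T₀ ∈ irreducibleComponents ↥U :=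
    preimage_mem_irreducibleComponents hZ hemb ⟨x, hx, ⟨⟨x, hxU⟩, rfl⟩⟩
  set W' : Set ↥U := (⋃₀ (irreducibleComponents ↥U \ {T₀}))ᶜ with hW'
  have hW'open : IsOpen W' := by
    rw [hW', isOpen_compl_iff, Set.sUnion_eq_biUnion]
    exact hUfin.sdiff.isClosed_biUnion fun W hW ↦ isClosed_of_mem_irreducibleComponents W hW.1
  have hWZ : Subtype.val '' W' ⊆ Z := by
    rintro _ ⟨u, hu, rfl⟩
    have hu' : u ∈ ⋃₀ irreducibleComponents ↥U := by
      rw [sUnion_irreducibleComponents]; trivial
    obtain ⟨T, hT, huT⟩ := hu'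
    by_cases hTT : T = T₀
    · subst hTT
      exact huT
    · exact absurd (Set.mem_sUnion.mpr ⟨T, (⟨hT, hTT⟩ : T ∈ irreducibleComponents ↥U \ {T₀}), huT⟩) hu
  have hxW : (⟨x, hxU⟩ : ↥U) ∈ W' := by
    rintro ⟨T, ⟨hT, hTT⟩, hxT⟩
    apply hTT
    have hirr : IsIrreducible (closure (Subtype.val '' T)) :=
      (hT.1.image _ continuous_subtype_val.continuousOn).closure
    obtain ⟨Z₁, hZ₁, hsub⟩ := exists_mem_irreducibleComponents_subset_of_isIrreducible _ hirr
    have hxZ₁ : x ∈ Z₁ := hsub (subset_closure ⟨⟨x, hxU⟩, hxT, rfl⟩)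
    have hZZ₁ : Z = Z₁ := hdisj Z hZ Z₁ hZ₁ ⟨x, hx, hxZ₁⟩
    have hTsub : T ⊆ T₀ := by
      intro u hu
      rw [hT₀, Set.mem_preimage, hZZ₁]
      exact hsub (subset_closure ⟨u, hu, rfl⟩)
    exact hTsub.antisymm (hT.2 hT₀mem.1 hTsub)
  exact Filter.mem_of_superset
    ((hemb.isOpenMap _ hW'open).mem_nhds ⟨⟨x, hxU⟩, hxW, rfl⟩) hWZ

end Groth.Agent.Lib.Helper51
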