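import Mathlib
import Groth.Prelude.Def_LCI2
import Groth.Prelude.Def_CAlgX
import Groth.Agent.Lib.Helper10.LciTrans
import Groth.Agent.Lib.Helper10.KoszulH1

/-!
# Flat lifts of localized polynomial presentations of lci algebras
-/

set_option autoImplicit false
set_option linter.style.haveILetI false

namespace Groth.Agent.Lib.Helper51.UnivThickRing

universe u

open MvPolynomial

/-- Around a prime of an lci `A`-algebra `B₀ = A[X]/I`, the ideal `I` becomes generated by an
`H₁`-regular sequence after inverting some `G`, and `G` lifts along a surjection `A' → A`. -/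
theorem exists_lci_localized_presentation {A' A B₀ : Type u} [CommRing A'] [CommRing A]
    [CommRing B₀] [Algebra A B₀] (α : A' →+* A) (hα : Function.Surjective α)
    (h : LCI.IsLCI A B₀) (𝔮 : Ideal B₀) [𝔮.IsPrime] :
    ∃ (n : ℕ) (Gt : MvPolynomial (Fin n) A') (φ : MvPolynomial (Fin n) A →ₐ[A] B₀) (c : ℕ)
      (l : Fin c → Localization.Away (MvPolynomial.map α Gt)),
      Function.Surjective φ ∧ φ (MvPolynomial.map α Gt) ∉ 𝔮 ∧ CAlgX.IsH1Regular l ∧
        (RingHom.ker φ.toRingHom).map
          (algebraMap (MvPolynomial (Fin n) A) (Localization.Away (MvPolynomial.map α Gt))) =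
          Ideal.span (Set.range l) := by
  obtain ⟨-, n, φ, hφ, hK⟩ := h
  have hprime : (𝔮.comap φ.toRingHom).IsPrime := Ideal.comap_isPrime _ _
  have hle : RingHom.ker φ.toRingHom ≤ 𝔮.comap φ.toRingHom := by
    intro x hx
    rw [Ideal.mem_comap]
    have : φ.toRingHom x = 0 := hx
    rw [this]
    exact 𝔮.zero_mem
  obtain ⟨g, hg, l, hl, hspan⟩ := hK ⟨𝔮.comap φ.toRingHom, hprime⟩ hle
  obtain ⟨Gt, rfl⟩ := MvPolynomial.map_surjective α hα g
  refine ⟨n, Gt, φ, l.length, l.get, hφ, hg,
    Groth.Agent.Lib.Helper10.KoszulH1.isH1Regular_of_isKoszulRegularSeq l hl, ?_⟩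
  rw [hspan, Set.range_list_get]

open Groth.Agent.Lib.Helper10.LciTrans in
/-- The maps `A'[X]_{G̃} → A[X]_G → B` attached to a localized presentation, with their kernels. -/
theorem exists_flat_lift_maps {A' A B₀ B : Type u} [CommRing A'] [CommRing A] [CommRing B₀]
    [CommRing B] [Algebra A B₀] [Algebra B₀ B] [Algebra A B] [IsScalarTower A B₀ B]
    (α : A' →+* A) (hα : Function.Surjective α) {n : ℕ} (Gt : MvPolynomial (Fin n) A')
    (φ : MvPolynomial (Fin n) A →ₐ[A] B₀) (hφ : Function.Surjective φ)
    [IsLocalization.Away (φ.toRingHom (MvPolynomial.map α Gt)) B] :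
    ∃ (θ : Localization.Away Gt →+* Localization.Away (MvPolynomial.map α Gt))
      (ρ : Localization.Away (MvPolynomial.map α Gt) →+* B),
      Function.Surjective θ ∧
      RingHom.ker θ = (RingHom.ker α).map (algebraMap A' (Localization.Away Gt)) ∧
      Function.Surjective ρ ∧
      (∀ y : A', ρ (θ (algebraMap A' (Localization.Away Gt) y)) = algebraMap A B (α y)) ∧
      RingHom.ker ρ = (RingHom.ker φ.toRingHom).map
        (algebraMap (MvPolynomial (Fin n) A) (Localization.Away (MvPolynomial.map α Gt))) := by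
  let θ : Localization.Away Gt →+* Localization.Away (MvPolynomial.map α Gt) :=
    IsLocalization.Away.map (Localization.Away Gt) (Localization.Away (MvPolynomial.map α Gt))
      (MvPolynomial.map α) Gt
  have hsq₁ : θ.comp (algebraMap (MvPolynomial (Fin n) A') (Localization.Away Gt)) =
      (algebraMap (MvPolynomial (Fin n) A) (Localization.Away (MvPolynomial.map α Gt))).comp
        (MvPolynomial.map α) := IsLocalization.map_comp _
  let ρ : Localization.Away (MvPolynomial.map α Gt) →+* B :=
    IsLocalization.Away.map (Localization.Away (MvPolynomial.map α Gt)) B φ.toRingHom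
      (MvPolynomial.map α Gt)
  have hsq₂ : ρ.comp (algebraMap (MvPolynomial (Fin n) A)
      (Localization.Away (MvPolynomial.map α Gt))) = (algebraMap B₀ B).comp φ.toRingHom :=
    IsLocalization.map_comp _
  refine ⟨θ, ρ, ?_, ?_, ?_, ?_, ?_⟩
  · exact locSq_surjective (MvPolynomial.map α) Gt (MvPolynomial.map α Gt) rfl θ hsq₁
      (MvPolynomial.map_surjective α hα)
  · rw [locSq_ker (MvPolynomial.map α) Gt (MvPolynomial.map α Gt) rfl θ hsq₁,
      MvPolynomial.ker_map, Ideal.map_map]
    congr 1
  · exact locSq_surjective φ.toRingHom (MvPolynomial.map α Gt) (φ.toRingHom (MvPolynomial.map α Gt))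
      rfl ρ hsq₂ hφ
  · intro y
    have h1 : algebraMap A' (Localization.Away Gt) y =
        algebraMap (MvPolynomial (Fin n) A') (Localization.Away Gt) (C y) := by
      rw [IsScalarTower.algebraMap_apply A' (MvPolynomial (Fin n) A') (Localization.Away Gt)]
      rfl
    have h2 : θ (algebraMap (MvPolynomial (Fin n) A') (Localization.Away Gt) (C y)) =
        algebraMap (MvPolynomial (Fin n) A) (Localization.Away (MvPolynomial.map α Gt))
          (MvPolynomial.map α (C y)) := congr($hsq₁ (C y))
    have h3 : ρ (algebraMap (MvPolynomial (Fin n) A) (Localization.Away (MvPolynomial.map α Gt))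
        (C (α y))) = algebraMap B₀ B (φ.toRingHom (C (α y))) := congr($hsq₂ (C (α y)))
    rw [h1, h2, MvPolynomial.map_C, h3]
    have h4 : φ.toRingHom (C (α y)) = algebraMap A B₀ (α y) := φ.commutes (α y)
    rw [h4, ← IsScalarTower.algebraMap_apply]
  · exact locSq_ker φ.toRingHom (MvPolynomial.map α Gt) (φ.toRingHom (MvPolynomial.map α Gt))
      rfl ρ hsq₂

end Groth.Agent.Lib.Helper51.UnivThickRing
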