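import Groth.Agent.Lib.Helper7.UnivThick.Affine
import Groth.Agent.Lib.Helper48.ThickeningDer

/-!
# From scheme-level universal first order thickenings to ring-level ones

On affine charts, a scheme-level universal first order thickening `(i, h')` of `h : Z ⟶ X`
induces a ring-level universal first order thickening `Γ(Z', V') → Γ(Z, i⁻¹V')` over `Γ(X, U)`.
-/

set_option autoImplicit false
set_option linter.style.haveILetI false

namespace Groth.Agent.Lib.Helper51.UnivThickRing

open AlgebraicGeometry CategoryTheory Limits TopologicalSpace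
open Groth.Agent.Lib.Helper7 Groth.Agent.Lib.Helper7.UnivThick

universe u

/-- Converse of `ringUniv_of_isUnivThickeningRing`. -/
theorem isUnivThickeningRing_of_ringUniv (A B B' : Type u) [CommRing A] [CommRing B] [CommRing B']
    [Algebra A B] [Algebra A B'] [Algebra B' B] [IsScalarTower A B' B]
    (hsurj : Function.Surjective (algebraMap B' B))
    (hker : RingHom.ker (algebraMap B' B) ^ 2 = ⊥)
    (h : RingUniv (CommRingCat.ofHom (algebraMap A B)) (CommRingCat.ofHom (algebraMap A B'))
      (CommRingCat.ofHom (algebraMap B' B))) :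
    OmegaSh.IsUnivThickeningRing A B B' (IsScalarTower.toAlgHom A B' B) := by
  refine ⟨hsurj, hker, ?_⟩
  intro C _ _ I hI a
  have hθsurj : Function.Surjective (CommRingCat.ofHom (Ideal.Quotient.mk I)).hom :=
    Ideal.Quotient.mk_surjective
  have hθker : RingHom.ker (CommRingCat.ofHom (Ideal.Quotient.mk I)).hom ^ 2 = ⊥ := by
    change RingHom.ker (Ideal.Quotient.mk I) ^ 2 = ⊥
    rw [Ideal.mk_ker, hI]
  have comm : CommRingCat.ofHom (algebraMap A C) ≫ CommRingCat.ofHom (Ideal.Quotient.mk I) =
      CommRingCat.ofHom (algebraMap A B) ≫ CommRingCat.ofHom a.toRingHom := by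
    ext r
    exact (a.commutes r).symm
  obtain ⟨l, ⟨hl1, hl2⟩, hlu⟩ := h (CommRingCat.of C) (CommRingCat.of (C ⧸ I))
    (CommRingCat.ofHom (Ideal.Quotient.mk I)) hθsurj hθker
    (CommRingCat.ofHom a.toRingHom) (CommRingCat.ofHom (algebraMap A C)) comm
  let a' : B' →ₐ[A] C :=
    { toRingHom := l.hom
      commutes' := fun r => congr($(hl2).hom r) }
  refine ⟨a', ?_, ?_⟩
  · ext x
    exact congr($(hl1).hom x)
  · intro a'' ha''
    have : CommRingCat.ofHom a''.toRingHom = l := by
      apply hlu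
      constructor
      · ext x
        exact congr($ha'' x)
      · ext r
        exact a''.commutes r
    ext x
    exact congr($(this).hom x)

/-- On affine charts, a scheme-level universal first order thickening gives a ring-level one
(in `RingUniv` form). -/
theorem ringUniv_of_isUnivThickening {Z X Z' : Scheme.{u}} (h : Z ⟶ X) (i : Z ⟶ Z') (h' : Z' ⟶ X)
    (hu : OmegaSh.IsUnivThickening h i h') {U : X.Opens} (hU : IsAffineOpen U)
    {V' : Z'.Opens} (hV' : IsAffineOpen V') (hV'U : V' ≤ h' ⁻¹ᵁ U) :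
    RingUniv (h'.appLE U V' hV'U ≫ i.app V') (h'.appLE U V' hV'U) (i.app V') := by
  obtain ⟨hfot, hih, huniv⟩ := hu
  have hic : IsClosedImmersion i := hfot.1.1
  have hV : IsAffineOpen (i ⁻¹ᵁ V') := hV'.preimage i
  intro A C θ hθ hθk α β comm
  have hj : MoreMor.IsFirstOrderThickening (Spec.map θ) :=
    Groth.Agent.Lib.Helper51.isFirstOrderThickening_SpecMap θ hθ hθk
  have hjs : Surjective (Spec.map θ) := hj.1.2
  -- key compatibilities
  have e1 : Spec.map (i.app V') ≫ hV'.fromSpec = hV.fromSpec ≫ i := SpecMap_app_fromSpec i hV'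
  have e2 : Spec.map (h'.appLE U V' hV'U) ≫ hU.fromSpec = hV'.fromSpec ≫ h' :=
    IsAffineOpen.SpecMap_appLE_fromSpec h' hU hV' hV'U
  have w : Spec.map θ ≫ (Spec.map β ≫ hU.fromSpec) = (Spec.map α ≫ hV.fromSpec) ≫ h := by
    rw [← Spec.map_comp_assoc, comm, Spec.map_comp, Spec.map_comp, Category.assoc, Category.assoc,
      e2, ← Category.assoc (Spec.map (i.app V')), e1, Category.assoc, Category.assoc, hih]
  obtain ⟨a', ⟨ha1, ha2⟩, hau⟩ := huniv (Spec C) (Spec A) (Spec.map θ) (Spec.map β ≫ hU.fromSpec)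
    (Spec.map α ≫ hV.fromSpec) hj w
  have hrange : ∀ (a'' : Spec A ⟶ Z'), Spec.map θ ≫ a'' = (Spec.map α ≫ hV.fromSpec) ≫ i →
      Set.range a'' ⊆ (V' : Set Z') := by
    rintro a'' ha'' _ ⟨x, rfl⟩
    obtain ⟨y, rfl⟩ := (Spec.map θ).surjective x
    rw [← Scheme.Hom.comp_apply, ha'', Scheme.Hom.comp_apply, Scheme.Hom.comp_apply]
    have : hV.fromSpec (Spec.map α y) ∈ Set.range hV.fromSpec := ⟨_, rfl⟩
    rw [hV.range_fromSpec] at this
    exact this
  obtain ⟨l, hl⟩ := exists_SpecMap_comp_fromSpec hV' a' (hrange a' ha1)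
  refine ⟨l, ⟨?_, ?_⟩, ?_⟩
  · apply Spec.map_injective
    rw [← cancel_mono hV'.fromSpec, Spec.map_comp, Category.assoc, ← hl, ha1, Spec.map_comp,
      Category.assoc, Category.assoc, e1]
  · apply Spec.map_injective
    rw [← cancel_mono hU.fromSpec, Spec.map_comp, Category.assoc, e2, ← Category.assoc, ← hl, ha2]
  · rintro l₂ ⟨h1, h2⟩
    have : Spec.map l₂ ≫ hV'.fromSpec = a' := by
      apply hau
      constructor
      · rw [← Spec.map_comp_assoc, h1, Spec.map_comp, Category.assoc, e1, Category.assoc]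
      · rw [Category.assoc, ← e2, ← Spec.map_comp_assoc, h2]
    apply Spec.map_injective
    rw [← cancel_mono hV'.fromSpec, this, hl]

end Groth.Agent.Lib.Helper51.UnivThickRing
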