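import Groth.Agent.Lib.Helper51.UnivThickRing
import Groth.Agent.Lib.Helper51.FlatExt
import Groth.Agent.Lib.Helper10.KoszulH1
import Groth.Prelude.Def_CAlgX

/-!
# Transitivity of conormal modules of universal thickenings for lci maps (ring level)

`R → A → B` with universal first order thickenings `A' → A`, `B' → B` over `R`, `μ : A' → B'`.
If `B = P/(l)` with `l` an `H₁`-regular sequence and `P` admits a flat lift `Pt` over `A'`, then
`B ⊗_A ker (A' → A) → ker (B' → B)` has a retraction.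
-/

set_option autoImplicit false
set_option linter.style.haveILetI false

namespace Groth.Agent.Lib.Helper51.UnivThickRing

universe u

open TensorProduct

/-- Lifting Koszul relations: if `θ ∘ a` is in the span of the Koszul relations of `l`, then `a`
differs from a vector `a₀` with `∑ a₀ k * lt k = 0` by a vector with entries in `ker θ`. -/
theorem exists_koszul_lift {Pt P : Type*} [CommRing Pt] [CommRing P] (θ : Pt →+* P)
    (hθ : Function.Surjective θ) {c : ℕ} (l : Fin c → P) (lt : Fin c → Pt)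
    (hlt : ∀ k, θ (lt k) = l k) (v : Fin c → P)
    (hv : v ∈ Submodule.span P {v : Fin c → P | ∃ i j : Fin c,
      v = Pi.single i (l j) - Pi.single j (l i)}) :
    ∃ a₀ : Fin c → Pt, (∀ k, θ (a₀ k) = v k) ∧ ∑ k, a₀ k * lt k = 0 := by
  refine Submodule.span_induction ?_ ?_ ?_ ?_ hv
  · rintro _ ⟨i, j, rfl⟩
    refine ⟨Pi.single i (lt j) - Pi.single j (lt i), fun k => ?_, ?_⟩
    · rw [Pi.sub_apply, Pi.sub_apply, map_sub]
      congr 1
      · by_cases h : k = i
        · subst h; rw [Pi.single_eq_same, Pi.single_eq_same, hlt]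
        · rw [Pi.single_eq_of_ne h, Pi.single_eq_of_ne h, map_zero]
      · by_cases h : k = j
        · subst h; rw [Pi.single_eq_same, Pi.single_eq_same, hlt]
        · rw [Pi.single_eq_of_ne h, Pi.single_eq_of_ne h, map_zero]
    · simp only [Pi.sub_apply, sub_mul, Finset.sum_sub_distrib]
      rw [Finset.sum_eq_single i (fun k _ hk => by rw [Pi.single_eq_of_ne hk, zero_mul])
        (fun h => absurd (Finset.mem_univ i) h),
        Finset.sum_eq_single j (fun k _ hk => by rw [Pi.single_eq_of_ne hk, zero_mul])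
        (fun h => absurd (Finset.mem_univ j) h),
        Pi.single_eq_same, Pi.single_eq_same, mul_comm, sub_self]
  · exact ⟨0, fun k => by rw [Pi.zero_apply, Pi.zero_apply, map_zero], by simp⟩
  · rintro _ _ _ _ ⟨a, ha, hs⟩ ⟨a', ha', hs'⟩
    refine ⟨a + a', fun k => by rw [Pi.add_apply, Pi.add_apply, map_add, ha, ha'], ?_⟩
    simp only [Pi.add_apply, add_mul, Finset.sum_add_distrib]
    rw [hs, hs', add_zero]
  · rintro p _ _ ⟨a, ha, hs⟩
    obtain ⟨q, rfl⟩ := hθ p
    refine ⟨fun k => q * a k, fun k => by rw [Pi.smul_apply, smul_eq_mul, map_mul, ha], ?_⟩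
    simp only [mul_assoc]
    rw [← Finset.mul_sum, hs, mul_zero]

/-- The projection `Pj : J̃ → M` killing `J̃²` and the lifts of the `H₁`-regular generators. -/
theorem exists_projection_h1 {Pt P B M : Type*} [CommRing Pt] [CommRing P] [CommRing B]
    (θ : Pt →+* P) (hθ : Function.Surjective θ) (ρ : P →+* B)
    {c : ℕ} (l : Fin c → P) (hl : CAlgX.IsH1Regular l)
    (hρk : RingHom.ker ρ = Ideal.span (Set.range l))
    [AddCommGroup M] [Module B M] (νt : ↥(RingHom.ker θ) →+ M)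
    (hνt : ∀ (p : Pt) (e : ↥(RingHom.ker θ)), νt (p • e) = ρ (θ p) • νt e) :
    ∃ Pj : Pt → M,
      (∀ f ∈ RingHom.ker (ρ.comp θ), ∀ f' ∈ RingHom.ker (ρ.comp θ), Pj (f + f') = Pj f + Pj f') ∧
      (∀ (p : Pt), ∀ f ∈ RingHom.ker (ρ.comp θ), Pj (p * f) = ρ (θ p) • Pj f) ∧
      (∀ (e : Pt) (he : e ∈ RingHom.ker θ), Pj e = νt ⟨e, he⟩) ∧
      (∀ z ∈ RingHom.ker (ρ.comp θ) ^ 2, Pj z = 0) := by
  choose lt hlt using fun k => hθ (l k)
  have hlker : ∀ k, ρ (l k) = 0 := by
    intro k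
    have : l k ∈ RingHom.ker ρ := by
      rw [hρk]
      exact Ideal.subset_span ⟨k, rfl⟩
    exact this
  have hdecomp : ∀ f ∈ RingHom.ker (ρ.comp θ), ∃ (a : Fin c → Pt) (e : Pt),
      e ∈ RingHom.ker θ ∧ f = ∑ k, a k * lt k + e := by
    intro f hf
    have h1 : θ f ∈ Ideal.span (Set.range l) := by
      rw [← hρk]
      exact hf
    obtain ⟨ab, hab⟩ := (Ideal.mem_span_range_iff_exists_fun).mp h1
    choose a ha using fun k => hθ (ab k)
    refine ⟨a, f - ∑ k, a k * lt k, ?_, by ring⟩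
    rw [RingHom.mem_ker, map_sub, map_sum, ← hab, sub_eq_zero]
    exact Finset.sum_congr rfl fun k _ => by rw [map_mul, ha, hlt]
  have hkey : ∀ (a : Fin c → Pt) (h : ∑ k, a k * lt k ∈ RingHom.ker θ),
      νt ⟨∑ k, a k * lt k, h⟩ = 0 := by
    intro a h
    have h0 : ∑ k, θ (a k) * l k = 0 := by
      have : θ (∑ k, a k * lt k) = 0 := h
      rw [map_sum] at this
      rw [← this]
      exact Finset.sum_congr rfl fun k _ => by rw [map_mul, hlt]
    obtain ⟨a₀, ha₀, hs₀⟩ := exists_koszul_lift θ hθ l lt hlt _ (hl (fun k => θ (a k)) h0)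
    have hδ : ∀ k, a k - a₀ k ∈ RingHom.ker θ := fun k => by
      rw [RingHom.mem_ker, map_sub, ha₀, sub_self]
    have hsum : (⟨∑ k, a k * lt k, h⟩ : ↥(RingHom.ker θ)) =
        ∑ k, lt k • (⟨a k - a₀ k, hδ k⟩ : ↥(RingHom.ker θ)) := by
      apply Subtype.ext
      rw [AddSubmonoidClass.coe_finsetSum]
      change ∑ k, a k * lt k = ∑ k, lt k * (a k - a₀ k)
      have : ∑ k, lt k * (a k - a₀ k) = ∑ k, a k * lt k - ∑ k, a₀ k * lt k := by
        rw [← Finset.sum_sub_distrib]
        exact Finset.sum_congr rfl fun k _ => by ring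
      rw [this, hs₀, sub_zero]
    rw [hsum, map_sum]
    refine Finset.sum_eq_zero fun k _ => ?_
    rw [hνt, hlt, hlker, zero_smul]
  have huniq : ∀ (a a' : Fin c → Pt) (e e' : Pt) (he : e ∈ RingHom.ker θ)
      (he' : e' ∈ RingHom.ker θ), ∑ k, a k * lt k + e = ∑ k, a' k * lt k + e' →
      νt ⟨e, he⟩ = νt ⟨e', he'⟩ := by
    intro a a' e e' he he' h
    have h1 : ∑ k, (a' k - a k) * lt k = e - e' := by
      have : ∑ k, (a' k - a k) * lt k = ∑ k, a' k * lt k - ∑ k, a k * lt k := by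
        rw [← Finset.sum_sub_distrib]
        exact Finset.sum_congr rfl fun k _ => by ring
      rw [this]
      linear_combination -h
    have h2 : ∑ k, (a' k - a k) * lt k ∈ RingHom.ker θ := by
      rw [h1]
      exact Ideal.sub_mem _ he he'
    have h3 := hkey (fun k => a' k - a k) h2
    have h4 : (⟨∑ k, (a' k - a k) * lt k, h2⟩ : ↥(RingHom.ker θ)) = ⟨e, he⟩ - ⟨e', he'⟩ :=
      Subtype.ext h1
    rw [h4, map_sub, sub_eq_zero] at h3
    exact h3
  classical
  let Pj : Pt → M := fun f =>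
    if h : f ∈ RingHom.ker (ρ.comp θ) then
      νt ⟨(hdecomp f h).choose_spec.choose, (hdecomp f h).choose_spec.choose_spec.1⟩
    else 0
  have hPj : ∀ (f : Pt) (a : Fin c → Pt) (e : Pt) (he : e ∈ RingHom.ker θ),
      f ∈ RingHom.ker (ρ.comp θ) → f = ∑ k, a k * lt k + e → Pj f = νt ⟨e, he⟩ := by
    intro f a e he hf hfe
    change (if h : f ∈ RingHom.ker (ρ.comp θ) then _ else 0) = _
    rw [dif_pos hf]
    exact huniq _ _ _ _ _ _ ((hdecomp f hf).choose_spec.choose_spec.2.symm.trans hfe)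
  have hker_le : ∀ e ∈ RingHom.ker θ, e ∈ RingHom.ker (ρ.comp θ) := by
    intro e he
    rw [RingHom.mem_ker, RingHom.comp_apply, RingHom.mem_ker.mp he, map_zero]
  have hadd : ∀ f ∈ RingHom.ker (ρ.comp θ), ∀ f' ∈ RingHom.ker (ρ.comp θ),
      Pj (f + f') = Pj f + Pj f' := by
    intro f hf f' hf'
    obtain ⟨a, e, he, hfe⟩ := hdecomp f hf
    obtain ⟨a', e', he', hfe'⟩ := hdecomp f' hf'
    rw [hPj f a e he hf hfe, hPj f' a' e' he' hf' hfe',
      hPj (f + f') (fun k => a k + a' k) (e + e') (Ideal.add_mem _ he he')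
        (Ideal.add_mem _ hf hf') ?_]
    · exact map_add νt ⟨e, he⟩ ⟨e', he'⟩
    · rw [hfe, hfe']
      have : ∑ k, (a k + a' k) * lt k = ∑ k, a k * lt k + ∑ k, a' k * lt k := by
        rw [← Finset.sum_add_distrib]
        exact Finset.sum_congr rfl fun k _ => by ring
      rw [this]
      ring
  have hsmul : ∀ (p : Pt), ∀ f ∈ RingHom.ker (ρ.comp θ), Pj (p * f) = ρ (θ p) • Pj f := by
    intro p f hf
    obtain ⟨a, e, he, hfe⟩ := hdecomp f hf
    rw [hPj f a e he hf hfe, hPj (p * f) (fun k => p * a k) (p * e) (Ideal.mul_mem_left _ _ he)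
      (Ideal.mul_mem_left _ _ hf) ?_]
    · exact hνt p ⟨e, he⟩
    · rw [hfe, mul_add, Finset.mul_sum]
      congr 1
      exact Finset.sum_congr rfl fun k _ => by ring
  refine ⟨Pj, hadd, hsmul, ?_, ?_⟩
  · intro e he
    refine hPj e 0 e he (hker_le e he) ?_
    simp
  · intro z hz
    have : z ∈ RingHom.ker (ρ.comp θ) ∧ Pj z = 0 := by
      rw [pow_two] at hz
      refine Submodule.mul_induction_on hz ?_ ?_
      · intro f hf f' hf'
        refine ⟨Ideal.mul_mem_left _ _ hf', ?_⟩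
        have h0 : ρ (θ f) = 0 := hf
        rw [hsmul f f' hf', h0, zero_smul]
      · rintro x y ⟨hx, hx0⟩ ⟨hy, hy0⟩
        exact ⟨Ideal.add_mem _ hx hy, by rw [hadd x hx y hy, hx0, hy0, add_zero]⟩
    exact this.2

/-- **Ring-level transitivity.**  The map `B ⊗_A ker (A' → A) → ker (B' → B)` induced by `μ` has
a retraction when `B = P/(l)` with `l` an `H₁`-regular sequence in `P = Pt/ker(A' → A)Pt` for a flat
`A'`-algebra `Pt`: every `A'`-semilinear `ν : ker (A' → A) → M` into a `B`-module extends along `μ`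
to a `B'`-semilinear map on `ker (B' → B)`. -/
theorem exists_conormal_retraction {R A' A B' B Pt P : Type u} [CommRing R] [CommRing A']
    [CommRing A] [CommRing B'] [CommRing B] [CommRing Pt] [CommRing P]
    [Algebra R A'] [Algebra R A] [Algebra R B'] [Algebra R B] [Algebra A B] [IsScalarTower R A B]
    [Algebra A' Pt] [Algebra R Pt] [IsScalarTower R A' Pt] [Module.Flat A' Pt]
    (α : A' →ₐ[R] A) (hα : OmegaSh.IsUnivThickeningRing R A A' α)
    (β : B' →ₐ[R] B) (hβ : OmegaSh.IsUnivThickeningRing R B B' β)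
    (μ : A' →ₐ[R] B') (hμ : ∀ y, β (μ y) = algebraMap A B (α y))
    (θ : Pt →+* P) (hθ : Function.Surjective θ)
    (hθk : RingHom.ker θ = (RingHom.ker α.toRingHom).map (algebraMap A' Pt))
    (ρ : P →+* B) (hρ : Function.Surjective ρ)
    (hρθ : ∀ y : A', ρ (θ (algebraMap A' Pt y)) = algebraMap A B (α y))
    {c : ℕ} (l : Fin c → P) (hl : CAlgX.IsH1Regular l)
    (hρk : RingHom.ker ρ = Ideal.span (Set.range l))
    {M : Type*} [AddCommGroup M] [Module B M]
    (ν : ↥(RingHom.ker α.toRingHom) →+ M)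
    (hν : ∀ (a : A') (x : ↥(RingHom.ker α.toRingHom)), ν (a • x) = algebraMap A B (α a) • ν x) :
    ∃ t : B' → M,
      (∀ x ∈ RingHom.ker β.toRingHom, ∀ x' ∈ RingHom.ker β.toRingHom, t (x + x') = t x + t x') ∧
      (∀ (b' : B'), ∀ x ∈ RingHom.ker β.toRingHom, t (b' * x) = β b' • t x) ∧
      ∀ x : ↥(RingHom.ker α.toRingHom), t (μ x) = ν x := by
  obtain ⟨hαs, hαk, hαu⟩ := hα
  obtain ⟨hβs, hβk, hβu⟩ := hβ
  -- the `R`-algebra map `Pt → B`
  let ρt : Pt →ₐ[R] B :=
    { toRingHom := ρ.comp θ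
      commutes' := fun r => by
        change ρ (θ (algebraMap R Pt r)) = algebraMap R B r
        rw [IsScalarTower.algebraMap_apply R A' Pt, hρθ, α.commutes,
          ← IsScalarTower.algebraMap_apply R A B] }
  have hρt : ∀ f, ρt f = ρ (θ f) := fun f => rfl
  have hρts : Function.Surjective ρt := hρ.comp hθ
  -- the test ring
  let ε : Pt ⧸ (RingHom.ker ρt.toRingHom) ^ 2 →ₐ[R] B := ρt.kerSquareLift
  have hεmk : ∀ f, ε (Ideal.Quotient.mk _ f) = ρt f := fun f => rfl
  have hεs : Function.Surjective ε := fun b => by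
    obtain ⟨f, rfl⟩ := hρts b
    exact ⟨Ideal.Quotient.mk _ f, rfl⟩
  have hεk : RingHom.ker ε ^ 2 = ⊥ := by
    have h' : RingHom.ker ε = (RingHom.ker ρt.toRingHom).cotangentIdeal :=
      AlgHom.ker_kerSquareLift ρt
    rw [h']
    exact Ideal.cotangentIdeal_square _
  -- `w : B' → E`
  obtain ⟨w, hw', -⟩ := hβu (Pt ⧸ (RingHom.ker ρt.toRingHom) ^ 2) (RingHom.ker ε) hεk
    (Ideal.quotientKerAlgEquivOfSurjective hεs).symm.toAlgHom
  have hw : ∀ b', ε (w b') = β b' := by
    intro b'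
    obtain ⟨z, hz⟩ := hεs (β b')
    have h1 : Ideal.Quotient.mk (RingHom.ker ε) (w b') =
        (Ideal.quotientKerAlgEquivOfSurjective hεs).symm (β b') := congr($hw' b')
    rw [← hz, Ideal.quotientKerAlgEquivOfSurjective_symm_apply, Ideal.Quotient.eq,
      RingHom.mem_ker, map_sub, sub_eq_zero] at h1
    exact h1.trans hz
  -- `a' : A' → E` and `w ∘ μ = a'`
  let a' : A' →ₐ[R] Pt ⧸ (RingHom.ker ρt.toRingHom) ^ 2 :=
    (Ideal.Quotient.mkₐ R _).comp (IsScalarTower.toAlgHom R A' Pt)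
  have ha' : ∀ y, a' y = Ideal.Quotient.mk _ (algebraMap A' Pt y) := fun y => rfl
  obtain ⟨w₀, -, hw₀⟩ := hαu (Pt ⧸ (RingHom.ker ρt.toRingHom) ^ 2) (RingHom.ker ε) hεk
    ((Ideal.quotientKerAlgEquivOfSurjective hεs).symm.toAlgHom.comp (IsScalarTower.toAlgHom R A B))
  have key : ∀ (a'' : A' →ₐ[R] Pt ⧸ (RingHom.ker ρt.toRingHom) ^ 2),
      (∀ y, ε (a'' y) = algebraMap A B (α y)) → a'' = w₀ := by
    intro a'' ha''
    apply hw₀
    ext y
    obtain ⟨z, hz⟩ := hεs (algebraMap A B (α y))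
    change Ideal.Quotient.mk (RingHom.ker ε) (a'' y) =
      (Ideal.quotientKerAlgEquivOfSurjective hεs).symm (algebraMap A B (α y))
    rw [← hz, Ideal.quotientKerAlgEquivOfSurjective_symm_apply, Ideal.Quotient.eq,
      RingHom.mem_ker, map_sub, sub_eq_zero, ha'', hz]
  have hwμ : ∀ y, w (μ y) = a' y := by
    have e1 : w.comp μ = w₀ := key _ fun y => by
      change ε (w (μ y)) = _
      rw [hw, hμ]
    have e2 : a' = w₀ := key _ fun y => by
      rw [ha', hεmk, hρt, hρθ]
    intro y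
    exact congr($(e1.trans e2.symm) y)
  -- the semilinear extension of `ν`
  letI : Module Pt M := Module.compHom M (ρ.comp θ)
  letI : Module A' M := Module.compHom M (algebraMap A' Pt)
  haveI : IsScalarTower A' Pt M := IsScalarTower.of_compHom _ _ _
  have hsmulPt : ∀ (p : Pt) (m : M), p • m = ρ (θ p) • m := fun p m => rfl
  have hsmulA' : ∀ (a : A') (m : M), a • m = algebraMap A B (α a) • m := fun a m => by
    change ρ (θ (algebraMap A' Pt a)) • m = _
    rw [hρθ]
  let νl : ↥(RingHom.ker α.toRingHom) →ₗ[A'] M :=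
    { toFun := ν
      map_add' := map_add ν
      map_smul' := fun a x => by
        rw [RingHom.id_apply, hsmulA']
        exact hν a x }
  obtain ⟨νt', hνt'⟩ := exists_linear_extension_of_flat (Pt := Pt) (RingHom.ker α.toRingHom) νl
  -- transport to `ker θ`
  have hmemθ : ∀ e : ↥(RingHom.ker θ), (e : Pt) ∈ (RingHom.ker α.toRingHom).map (algebraMap A' Pt) :=
    fun e => hθk ▸ e.2
  let νt : ↥(RingHom.ker θ) →+ M :=
    { toFun := fun e => νt' ⟨e, hmemθ e⟩
      map_zero' := by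
        have : (⟨((0 : ↥(RingHom.ker θ)) : Pt), hmemθ 0⟩ :
            ↥((RingHom.ker α.toRingHom).map (algebraMap A' Pt))) = 0 := rfl
        rw [this, map_zero]
      map_add' := fun e e' => by
        have : (⟨((e + e' : ↥(RingHom.ker θ)) : Pt), hmemθ (e + e')⟩ :
            ↥((RingHom.ker α.toRingHom).map (algebraMap A' Pt))) =
            ⟨e, hmemθ e⟩ + ⟨e', hmemθ e'⟩ := rfl
        rw [this, map_add] }
  have hνt : ∀ (p : Pt) (e : ↥(RingHom.ker θ)), νt (p • e) = ρ (θ p) • νt e := by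
    intro p e
    change νt' ⟨((p • e : ↥(RingHom.ker θ)) : Pt), hmemθ (p • e)⟩ = ρ (θ p) • νt' ⟨e, hmemθ e⟩
    have : (⟨((p • e : ↥(RingHom.ker θ)) : Pt), hmemθ (p • e)⟩ :
        ↥((RingHom.ker α.toRingHom).map (algebraMap A' Pt))) = p • ⟨e, hmemθ e⟩ := rfl
    rw [this, map_smul, hsmulPt]
  obtain ⟨Pj, hadd, hsmul, hPjker, hPjsq⟩ := exists_projection_h1 θ hθ ρ l hl hρk νt hνt
  have hJt : RingHom.ker (ρ.comp θ) = RingHom.ker ρt.toRingHom := rfl
  -- representatives
  choose rep hrep using fun b' : B' => Ideal.Quotient.mk_surjective (w b')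
  have hrepJ : ∀ x ∈ RingHom.ker β.toRingHom, rep x ∈ RingHom.ker (ρ.comp θ) := by
    intro x hx
    change ρt (rep x) = 0
    rw [← hεmk, hrep, hw]
    exact hx
  have hindep : ∀ (x : B') (f : Pt), x ∈ RingHom.ker β.toRingHom →
      Ideal.Quotient.mk _ f = w x → Pj f = Pj (rep x) := by
    intro x f hx hf
    have hfJ : f ∈ RingHom.ker (ρ.comp θ) := by
      change ρt f = 0
      rw [← hεmk, hf, hw]
      exact hx
    have hd : f - rep x ∈ RingHom.ker (ρ.comp θ) ^ 2 := by
      rw [hJt, ← Ideal.Quotient.eq, hf, hrep]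
    have h0 := hPjsq _ hd
    have h1 : Pj f = Pj ((f - rep x) + rep x) := by rw [sub_add_cancel]
    rw [h1, hadd _ (Ideal.pow_le_self two_ne_zero hd) _ (hrepJ x hx), h0, zero_add]
  refine ⟨fun x => Pj (rep x), ?_, ?_, ?_⟩
  · intro x hx x' hx'
    change Pj (rep (x + x')) = Pj (rep x) + Pj (rep x')
    rw [← hadd _ (hrepJ x hx) _ (hrepJ x' hx')]
    refine (hindep (x + x') (rep x + rep x') (Ideal.add_mem _ hx hx') ?_).symm
    rw [map_add, map_add, hrep, hrep]
  · intro b' x hx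
    change Pj (rep (b' * x)) = β b' • Pj (rep x)
    have h1 : Pj (rep b' * rep x) = ρ (θ (rep b')) • Pj (rep x) := hsmul _ _ (hrepJ x hx)
    have h2 : ρ (θ (rep b')) = β b' := by
      rw [← hρt, ← hεmk, hrep, hw]
    rw [← h2, ← h1]
    refine (hindep (b' * x) (rep b' * rep x) (Ideal.mul_mem_left _ _ hx) ?_).symm
    rw [map_mul, map_mul, hrep, hrep]
  · intro x
    change Pj (rep (μ x)) = ν x
    have hx : algebraMap A' Pt x ∈ RingHom.ker θ := by
      rw [hθk]
      exact Ideal.mem_map_of_mem _ x.2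
    have hμx : μ (x : A') ∈ RingHom.ker β.toRingHom := by
      change β (μ x) = 0
      rw [hμ]
      have : α (x : A') = 0 := x.2
      rw [this, map_zero]
    rw [← hindep (μ x) (algebraMap A' Pt x) hμx (by rw [hwμ, ha']), hPjker _ hx]
    exact hνt' x

end Groth.Agent.Lib.Helper51.UnivThickRing
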