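import Groth.Agent.H52.Top3
import Groth.Agent.H52.LocPCalc4
import Groth.Agent.H52.LocPInst
import Groth.Agent.H52.Basic

/-!
# Morphisms of algebraic spaces to the spectrum of a field (helper51)

Every morphism from an algebraic space to (a sheaf isomorphic to) the spectrum of a field is flat
and universally open.
-/

set_option autoImplicit false
universe u
open CategoryTheory CategoryTheory.Limits AlgebraicGeometry Opposite AlgSp

namespace Groth.Agent.Lib.Helper51

variable {S : Scheme.{u}}

lemma flat_to_field (k : Type u) [Field k] {X : Scheme.{u}} (f : X ⟶ Spec (CommRingCat.of k)) :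
    Flat f := by
  have : Subsingleton ↥(Spec (CommRingCat.of k)) :=
    inferInstanceAs (Subsingleton (PrimeSpectrum k))
  infer_instance

lemma universallyOpen_to_field (k : Type u) [Field k] {X : Scheme.{u}}
    (f : X ⟶ Spec (CommRingCat.of k)) : UniversallyOpen f := by
  have : Subsingleton ↥(Spec (CommRingCat.of k)) :=
    inferInstanceAs (Subsingleton (PrimeSpectrum k))
  infer_instance

section

variable {X Y : Sp S} (hX : IsAlgSpace X) (k : Type u) [Field k]
  (σ : Spec (CommRingCat.of k) ⟶ S) (eY : Y ≅ (yon S).obj (Over.mk σ)) (f : X ⟶ Y)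

include hX eY

/-- A morphism from an algebraic space to the spectrum of a field is flat. -/
theorem locP_flat_of_target_field : LocP @Flat f := by
  obtain ⟨V, a, hae, has⟩ := hX.atlas
  obtain ⟨h, hh⟩ := (yon S).map_surjective (a ≫ f ≫ eY.hom)
  have hb : RepWith @Etale eY.inv := H52.repWith_of_isIso _ _
  refine H52.isEtLocal_flat.locP_of_chart f a eY.inv h hae has hb ?_ ?_
  · rw [hh, Category.assoc, Category.assoc, Iso.hom_inv_id, Category.comp_id]
  · exact flat_to_field k h.left

/-- A morphism from an algebraic space to the spectrum of a field is universally open. -/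
theorem isUnivOpenMor_of_target_field : IsUnivOpenMor f := by
  obtain ⟨V, a, hae, has⟩ := hX.atlas
  obtain ⟨h, hh⟩ := (yon S).map_surjective (a ≫ f ≫ eY.hom)
  apply H52.isUnivOpenMor_of_precomp_surjective a f has
  have e : a ≫ f = (yon S).map h ≫ eY.inv := by
    rw [hh, Category.assoc, Category.assoc, Iso.hom_inv_id, Category.comp_id]
  rw [e]
  apply H52.isUnivOpenMor_of_repWith
  refine (RepWith (S := S) @UniversallyOpen).comp_mem _ _ ?_ (H52.repWith_of_isIso _ _)
  rw [repWith_yon_map_iff]
  exact universallyOpen_to_field k h.left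

end

/-- `LocP Flat` and `IsUnivOpenMor` pass to base changes (between algebraic spaces). -/
theorem isUnivOpenMor_of_isPullback {X Y Y' X' : Sp S} {f : X ⟶ Y} {g : Y' ⟶ Y} {fst : X' ⟶ X}
    {f' : X' ⟶ Y'} (sq : IsPullback fst f' f g) (hf : IsUnivOpenMor f) : IsUnivOpenMor f' := by
  intro Z Z' hZ g' fst' snd' sq'
  exact hf hZ (g' ≫ g) _ _ (sq'.paste_horiz sq)

end Groth.Agent.Lib.Helper51
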