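import Mathlib.CategoryTheory.MorphismProperty.Limits
import Mathlib.CategoryTheory.Limits.Shapes.Pullback.IsPullback.Basic

/-!
# Products of morphisms having a property stable under base change and composition (helper51)
-/

set_option autoImplicit false
universe v u

namespace Groth.Agent.Lib.Helper51

open CategoryTheory Limits

variable {C : Type u} [Category.{v} C] [HasBinaryProducts C]

lemma prod_map_id_mem (P : MorphismProperty C) [P.IsStableUnderBaseChange]
    {A B : C} (f : A ⟶ B) (X : C) (hf : P f) : P (prod.map f (𝟙 X)) :=
  P.of_isPullback (IsPullback.of_prod_fst_with_id f X) hf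

lemma prod_id_map_mem (P : MorphismProperty C) [P.IsStableUnderBaseChange]
    {A B : C} (f : A ⟶ B) (X : C) (hf : P f) : P (prod.map (𝟙 X) f) := by
  have : P.RespectsIso := MorphismProperty.IsStableUnderBaseChange.respectsIso
  have e : prod.map (𝟙 X) f =
      (prod.braiding X A).hom ≫ prod.map f (𝟙 X) ≫ (prod.braiding B X).hom := by
    ext
    · rw [prod.map_fst, Category.assoc, Category.assoc, prod.braiding_hom, prod.braiding_hom,
        prod.lift_fst, prod.map_snd, prod.lift_snd_assoc, Category.comp_id]
    · rw [prod.map_snd, Category.assoc, Category.assoc, prod.braiding_hom, prod.braiding_hom,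
        prod.lift_snd, prod.map_fst, prod.lift_fst_assoc]
  rw [e, P.cancel_left_of_respectsIso, P.cancel_right_of_respectsIso]
  exact prod_map_id_mem P f X hf

/-- If `P` is stable under base change and composition, `f × g` has `P` as soon as `f` and `g` do. -/
lemma prod_map_mem (P : MorphismProperty C) [P.IsStableUnderBaseChange]
    [P.IsStableUnderComposition] {A B X Y : C} (f : A ⟶ B) (g : X ⟶ Y) (hf : P f) (hg : P g) :
    P (prod.map f g) := by
  have e : prod.map f g = prod.map f (𝟙 X) ≫ prod.map (𝟙 B) g := by
    ext
    · rw [prod.map_fst, Category.assoc, prod.map_fst, prod.map_fst_assoc, Category.comp_id]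
    · rw [prod.map_snd, Category.assoc, prod.map_snd, prod.map_snd_assoc, Category.id_comp]
  rw [e]
  exact P.comp_mem _ _ (prod_map_id_mem P f X hf) (prod_id_map_mem P g B hg)

end Groth.Agent.Lib.Helper51
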