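import Groth.Agent.Lib.Helper51.OverField
import Groth.Agent.H52.FibreProd
import Groth.Agent.H52.QC2
import Groth.Agent.H52.AffineMor

/-!
# Composition of universally open morphisms; the standard triple "surjective, flat, universally
open" under base change and composition (helper51)
-/

set_option autoImplicit false
universe u
open CategoryTheory CategoryTheory.Limits AlgebraicGeometry Opposite AlgSp

namespace Groth.Agent.Lib.Helper51

variable {S : Scheme.{u}}

/-- Universally open morphisms of algebraic spaces are stable under composition. -/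
theorem isUnivOpenMor_comp {X Y Z : Sp S} (hY : IsAlgSpace Y) (hZ : IsAlgSpace Z) (f : X ⟶ Y)
    (g : Y ⟶ Z) (hf : IsUnivOpenMor f) (hg : IsUnivOpenMor g) : IsUnivOpenMor (f ≫ g) := by
  intro W W' hW h fst snd sq
  have sqg := IsPullback.of_hasPullback g h
  have hY' : IsAlgSpace (pullback g h) := H52.isAlgSpace_of_isPullback sqg hY hZ hW
  have hw : (fst ≫ f) ≫ g = snd ≫ h := by rw [Category.assoc]; exact sq.w
  have hm2 : pullback.lift (fst ≫ f) snd hw ≫ pullback.snd g h = snd := pullback.lift_snd _ _ _
  have sq' : IsPullback fst (pullback.lift (fst ≫ f) snd hw ≫ pullback.snd g h) (f ≫ g) h := by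
    rw [hm2]; exact sq
  have sqf : IsPullback fst (pullback.lift (fst ≫ f) snd hw) f (pullback.fst g h) :=
    IsPullback.of_bot sq' (pullback.lift_fst _ _ _).symm sqg
  have h1 : IsOpenMap (Points.map (pullback.lift (fst ≫ f) snd hw)) := hf hY' _ _ _ sqf
  have h2 : IsOpenMap (Points.map (pullback.snd g h)) := hg hW _ _ _ sqg
  have : Points.map snd = Points.map (pullback.snd g h) ∘ Points.map (pullback.lift (fst ≫ f) snd hw) := by
    funext x
    rw [Function.comp_apply, ← Points.map_comp, hm2]
  change IsOpenMap (Points.map snd)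
  rw [this]
  exact h2.comp h1

/-- A morphism with a section is surjective on points. -/
theorem isSurjectiveMor_of_section {X Y : Sp S} (f : X ⟶ Y) (e : Y ⟶ X) (h : e ≫ f = 𝟙 Y) :
    IsSurjectiveMor f := fun y => ⟨Points.map e y, by rw [← Points.map_comp, h, Points.map_id]⟩

theorem isSurjectiveMor_comp {X Y Z : Sp S} (f : X ⟶ Y) (g : Y ⟶ Z) (hf : IsSurjectiveMor f)
    (hg : IsSurjectiveMor g) : IsSurjectiveMor (f ≫ g) := by
  intro z
  obtain ⟨y, rfl⟩ := hg z
  obtain ⟨x, rfl⟩ := hf y
  exact ⟨x, Points.map_comp _ _ _⟩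

/-- The spectrum of a field extension is surjective. -/
lemma surjective_spec_map_field (k k' : Type u) [Field k] [Field k'] [Algebra k k'] :
    Surjective (Spec.map (CommRingCat.ofHom (algebraMap k k'))) := by
  have : Subsingleton ↥(Spec (CommRingCat.of k)) :=
    inferInstanceAs (Subsingleton (PrimeSpectrum k))
  have : Nonempty ↥(Spec (CommRingCat.of k')) := inferInstanceAs (Nonempty (PrimeSpectrum k'))
  exact ⟨fun y => ⟨Classical.arbitrary _, Subsingleton.elim _ _⟩⟩

end Groth.Agent.Lib.Helper51
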