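import Groth.Agent.Lib.Helper51.GroupoidSpStab
import Groth.Agent.Lib.Helper51.OverField
import Groth.Agent.Lib.Helper51.UnivOpenComp
import Groth.Agent.S10262
import Groth.Agent.H52.LqfDisc2
import Groth.Agent.H52.LocPInst
import Groth.Agent.H52.PreEqv
import Mathlib.CategoryTheory.Monoidal.Cartesian.Grp

/-!
# Pseudo-torsors: unramifiedness and local quasi-finiteness pass from the group (helper51)
-/

set_option autoImplicit false
universe u
open CategoryTheory CategoryTheory.Limits AlgebraicGeometry Opposite AlgSp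
open MonoidalCategory CartesianMonoidalCategory MonObj

namespace Groth.Agent.Lib.Helper51

variable {S : Scheme.{u}} {B : Sp S} {G X : Over B} [GrpObj G] (a : GAction G X)

/-- For a pseudo-torsor, the second projection `X ×_B X ⟶ X` is a base change of `G ⟶ B`. -/
theorem exists_isPullback_snd_of_isPseudoTorsor (ha : a.IsPseudoTorsor) :
    ∃ p : pullback X.hom X.hom ⟶ G.left,
      IsPullback p (pullback.snd X.hom X.hom) G.hom X.hom := by
  have : IsIso (lift a.act (snd G X)) := ha
  let σ : pullback G.hom X.hom ≅ pullback X.hom X.hom :=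
    (Over.forget B).mapIso (asIso (lift a.act (snd G X)))
  have hσ : σ.hom ≫ pullback.snd X.hom X.hom = pullback.snd G.hom X.hom := by
    change ((lift a.act (snd G X)) ≫ snd X X).left = (snd G X).left
    rw [lift_snd]
  refine ⟨σ.inv ≫ pullback.fst G.hom X.hom, ?_⟩
  refine IsPullback.of_iso (IsPullback.of_hasPullback G.hom X.hom) σ (Iso.refl _) (Iso.refl _)
    (Iso.refl _) ?_ ?_ (by simp) (by simp)
  · rw [Iso.refl_hom, Category.comp_id, Iso.hom_inv_id_assoc]
  · rw [Iso.refl_hom, Category.comp_id, hσ]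

/-- Unramifiedness passes from `G ⟶ B` to a pseudo-torsor `X ⟶ B` locally of finite type. -/
theorem locP_unramified_of_isPseudoTorsor (hB : IsAlgSpace B) (hG : IsAlgSpace G.left)
    (hX : IsAlgSpace X.left) (ha : a.IsPseudoTorsor) (hXt : LocP @LocallyOfFiniteType X.hom)
    (h : LocP (@LocallyOfFiniteType ⊓ @FormallyUnramified) G.hom) :
    LocP (@LocallyOfFiniteType ⊓ @FormallyUnramified) X.hom := by
  obtain ⟨p, sq⟩ := exists_isPullback_snd_of_isPseudoTorsor a ha
  have hXX : IsAlgSpace (pullback X.hom X.hom) :=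
    H52.isAlgSpace_of_isPullback (IsPullback.of_hasPullback X.hom X.hom) hX hB hX
  have h1 : LocP (@LocallyOfFiniteType ⊓ @FormallyUnramified) (pullback.snd X.hom X.hom) :=
    H52.isEtLocal_unramified.locP_of_isPullback hG hB hX sq h
  let f1 : (⟨pullback X.hom X.hom, hXX⟩ : AlgSp.Space S) ⟶ ⟨X.left, hX⟩ :=
    ObjectProperty.homMk (pullback.snd X.hom X.hom)
  have h2 : RepWith @IsOpenImmersion (pullback.diagonal (pullback.snd X.hom X.hom)) :=
    (Groth.Agent.S10262.result f1).1 h1
  have hk : 𝟙 (pullback X.hom X.hom) ≫ pullback.snd X.hom X.hom =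
      (pullback.snd X.hom X.hom ≫ pullback.diagonal X.hom) ≫ pullback.snd X.hom X.hom := by
    rw [Category.id_comp, Category.assoc, pullback.diagonal_snd, Category.comp_id]
  have sq2 := (isPullback_section_diagonal (pullback.snd X.hom X.hom) (pullback.diagonal X.hom)
    (pullback.diagonal_snd _) hk).flip
  have h3 : RepWith @IsOpenImmersion (pullback.diagonal X.hom) :=
    MorphismProperty.of_isPullback sq2 h2
  let f2 : (⟨X.left, hX⟩ : AlgSp.Space S) ⟶ ⟨B, hB⟩ := ObjectProperty.homMk X.hom
  exact (Groth.Agent.S10262.result f2).2 hXt h3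

lemma surjective_field_to_field (K k : Type u) [Field K] [Field k]
    (f : Spec (CommRingCat.of K) ⟶ Spec (CommRingCat.of k)) : Surjective f := by
  have : Subsingleton ↥(Spec (CommRingCat.of k)) :=
    inferInstanceAs (Subsingleton (PrimeSpectrum k))
  have : Nonempty ↥(Spec (CommRingCat.of K)) := inferInstanceAs (Nonempty (PrimeSpectrum K))
  exact ⟨fun z => ⟨Classical.arbitrary _, Subsingleton.elim _ _⟩⟩

/-- Local quasi-finiteness passes from `G ⟶ B` to a pseudo-torsor `X ⟶ B` locally of finite
type. -/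
theorem locP_lqf_of_isPseudoTorsor (hB : IsAlgSpace B) (hG : IsAlgSpace G.left)
    (hX : IsAlgSpace X.left) (ha : a.IsPseudoTorsor) (hXt : LocP @LocallyOfFiniteType X.hom)
    (h : LocP ((@LocallyQuasiFinite : MorphismProperty Scheme.{u}) ⊓ @LocallyOfFiniteType) G.hom) :
    LocP ((@LocallyQuasiFinite : MorphismProperty Scheme.{u}) ⊓ @LocallyOfFiniteType) X.hom := by
  obtain ⟨pG, sqp⟩ := exists_isPullback_snd_of_isPseudoTorsor a ha
  refine H52.locP_lqf_of_discrete_fibres hX hB X.hom hXt ?_
  intro k _ str y P fst snd sq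
  have hP : IsAlgSpace P := H52.isAlgSpace_of_isPullback sq hX hB (IsAlgSpace.yon_obj _)
  rw [discreteTopology_iff_isOpen_singleton]
  intro x
  obtain ⟨K, _, str', p, rfl⟩ := H52.exists_hom_of_point x
  obtain ⟨j0, hj0⟩ := (yon S).map_surjective (p ≫ snd)
  have hyK : (p ≫ fst) ≫ X.hom = (yon S).map j0 ≫ y := by
    rw [hj0, Category.assoc, Category.assoc, sq.w]
  -- the fibre product `W`, which is both `G_K` and `X_K`
  have sqW0 := IsPullback.of_hasPullback (pullback.snd X.hom X.hom) (p ≫ fst)
  have sqWG : IsPullback (pullback.fst (pullback.snd X.hom X.hom) (p ≫ fst) ≫ pG)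
      (pullback.snd (pullback.snd X.hom X.hom) (p ≫ fst)) G.hom ((p ≫ fst) ≫ X.hom) :=
    sqW0.paste_horiz sqp
  have sqWX : IsPullback
      (pullback.fst (pullback.snd X.hom X.hom) (p ≫ fst) ≫ pullback.fst X.hom X.hom)
      (pullback.snd (pullback.snd X.hom X.hom) (p ≫ fst)) X.hom ((p ≫ fst) ≫ X.hom) :=
    sqW0.paste_horiz (IsPullback.of_hasPullback X.hom X.hom)
  have hWd : DiscreteTopology (Points (pullback (pullback.snd X.hom X.hom) (p ≫ fst))) :=
    H52.discrete_points_fibre_of_locP_lqf hG hB G.hom h str' _ sqWG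
  -- the map `W ⟶ P`
  have hw : (pullback.fst (pullback.snd X.hom X.hom) (p ≫ fst) ≫ pullback.fst X.hom X.hom) ≫
      X.hom = (pullback.snd (pullback.snd X.hom X.hom) (p ≫ fst) ≫ (yon S).map j0) ≫ y := by
    rw [sqWX.w, hyK, Category.assoc]
  have sqq : IsPullback (sq.lift _ _ hw) (pullback.snd (pullback.snd X.hom X.hom) (p ≫ fst))
      snd ((yon S).map j0) := by
    refine IsPullback.of_right ?_ (sq.lift_snd _ _ hw) sq
    rw [sq.lift_fst, ← hyK]
    exact sqWX
  have hjs : Function.Surjective (Points.map ((yon S).map j0)) := by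
    apply H52.surjective_points_of_repWith_surjective
    rw [repWith_yon_map_iff]
    exact surjective_field_to_field K k j0.left
  have hqs : Function.Surjective (Points.map (sq.lift _ _ hw)) :=
    H52.surjective_points_of_isPullback sqq.flip hjs
  have hjo : IsUnivOpenMor ((yon S).map j0) :=
    isUnivOpenMor_of_target_field (IsAlgSpace.yon_obj (Over.mk str')) k str (Iso.refl _) _
  have hqo : IsOpenMap (Points.map (sq.lift _ _ hw)) := hjo hP snd _ _ sqq.flip
  obtain ⟨x', hx'⟩ := hqs (Points.mk (H52.fieldPtOfHom str' p))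
  have := hqo {x'} (isOpen_discrete _)
  rwa [Set.image_singleton, hx'] at this

end Groth.Agent.Lib.Helper51
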