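import Mathlib.AlgebraicGeometry.QuasiAffine

/-!
# Quasi-affine schemes: complements to Mathlib (helper51)
-/

set_option autoImplicit false
universe u

namespace Groth.Agent.Lib.Helper51

open AlgebraicGeometry CategoryTheory Limits

/-- For a qcqs scheme `X` and a global section `r` with `X.basicOpen r` affine, the basic open
`D(r)` of `Spec Γ(X, ⊤)` lies in the range of `X.toSpecΓ`. -/
lemma basicOpen_subset_range_toSpecΓ (X : Scheme.{u}) [CompactSpace X] [QuasiSeparatedSpace X]
    (r : Γ(X, ⊤)) (hr : IsAffineOpen (X.basicOpen r)) :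
    (PrimeSpectrum.basicOpen r : Set (PrimeSpectrum Γ(X, ⊤))) ⊆ Set.range X.toSpecΓ := by
  intro 𝔭 h𝔭
  have loc : IsLocalization.Away r Γ(X, X.basicOpen r) :=
    isLocalization_basicOpen_of_qcqs (U := ⊤) isCompact_univ isQuasiSeparated_univ r
  have hrange := PrimeSpectrum.localization_away_comap_range (S := Γ(X, X.basicOpen r)) r
  rw [← hrange] at h𝔭
  obtain ⟨𝔮, rfl⟩ := h𝔭
  have hiso : IsIso (X.basicOpen r).toSpecΓ := by
    rw [← IsAffineOpen.isoSpec_hom hr]; infer_instance
  obtain ⟨u, rfl⟩ := (X.basicOpen r).toSpecΓ.surjective 𝔮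
  refine ⟨(X.basicOpen r).ι u, ?_⟩
  have := Scheme.Opens.toSpecΓ_SpecMap_presheaf_map_top (X.basicOpen r)
  rw [← Scheme.Hom.comp_apply, ← this]
  rfl

end Groth.Agent.Lib.Helper51
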