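import Groth.Agent.Lib.Helper51.OpenImmDescent

/-!
# Restricting a relation to `U' ⟶ U` gives an open subsheaf of the quotient (helper51)

Abstract form of: for a pre-equivalence relation `s, t : R ⟶ U` on a scheme and `g : U' ⟶ U`
such that `h : U' ×_{g,U,t} R ⟶ U` has open image `W` and is an fppf-epimorphism onto `W`, the
map of quotient sheaves `U'/R' ⟶ U/R` is an open immersion.
-/

set_option autoImplicit false
universe u
open CategoryTheory CategoryTheory.Limits Opposite AlgebraicGeometry AlgSp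

namespace Groth.Agent.Lib.Helper51

variable {S : Scheme.{u}}

/-- A morphism over `S` with image in an open subscheme factors through it. -/
theorem exists_overOpen_lift {T Y : Over S} (T₀ : T.left.Opens) (c' : Y ⟶ T)
    (h : Set.range c'.left ⊆ (T₀ : Set ↥T.left)) :
    ∃ a' : Y ⟶ H52.overOpen T T₀, a' ≫ H52.overOpenι T T₀ = c' := by
  have hsub' : Set.range c'.left ⊆ Set.range T₀.ι := by
    rw [Scheme.Opens.range_ι]
    exact h
  have hfac : IsOpenImmersion.lift T₀.ι c'.left hsub' ≫ T₀.ι = c'.left :=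
    IsOpenImmersion.lift_fac _ _ _
  refine ⟨Over.homMk (IsOpenImmersion.lift T₀.ι c'.left hsub') (by
    change _ ≫ T₀.ι ≫ T.hom = Y.hom
    rw [← Category.assoc, hfac, Over.w]), ?_⟩
  ext1
  exact hfac

theorem mono_overOpenι (T : Over S) (T₀ : T.left.Opens) : Mono (H52.overOpenι T T₀) := by
  have : Mono (H52.overOpenι T T₀).left := by
    change Mono T₀.ι
    infer_instance
  exact Over.mono_of_mono_left _

/-- Abstract open-immersion criterion for the map of quotient sheaves induced by a restriction. -/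
theorem repWith_isOpenImmersion_of_restrict {R U U' Q : Over S} (s t : R ⟶ U) (g : U' ⟶ U)
    {F F' : Sp S} (π : (yon S).obj U ⟶ F) (π' : (yon S).obj U' ⟶ F') [Epi π] [Epi π']
    (φ : F' ⟶ F) [Mono φ] (hφ : π' ≫ φ = (yon S).map g ≫ π)
    (hcoeq : (yon S).map s ≫ π = (yon S).map t ≫ π)
    (hrel : ∀ ⦃T : Over S⦄ (a b : T ⟶ U), (yon S).map a ≫ π = (yon S).map b ≫ π →
      ∃ Sv ∈ J S T, ∀ ⦃Y : Over S⦄ (f : Y ⟶ T), Sv f →
        ∃ r : Y ⟶ R, r ≫ t = f ≫ a ∧ r ≫ s = f ≫ b)
    (pr1 : Q ⟶ U') (pr2 : Q ⟶ R) (hQ : IsPullback pr1 pr2 g t)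
    (W : U.left.Opens) (hW : (W : Set ↥U.left) = Set.range (pr2 ≫ s).left)
    (hlift : Q ⟶ H52.overOpen U W) (hh : hlift ≫ H52.overOpenι U W = pr2 ≫ s)
    [Epi ((yon S).map hlift)] : RepWith @IsOpenImmersion φ := by
  -- Step 1: the restriction of `π` to `W` factors through `φ`
  obtain ⟨ηW, hηW⟩ : ∃ ηW : (yon S).obj (H52.overOpen U W) ⟶ F',
      ηW ≫ φ = (yon S).map (H52.overOpenι U W) ≫ π := by
    apply exists_factor_of_factorSieve_mem
    obtain ⟨Sv, hSv, hl⟩ := exists_cover_lift_of_epi ((yon S).map hlift)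
      (𝟙 ((yon S).obj (H52.overOpen U W)))
    refine (J S).superset_covering ?_ hSv
    intro Y f hf
    obtain ⟨q, hq⟩ := hl f hf
    refine ⟨q ≫ (yon S).map pr1 ≫ π', ?_⟩
    rw [Category.comp_id] at hq
    rw [Category.assoc, Category.assoc, hφ, ← Category.assoc ((yon S).map pr1),
      ← Functor.map_comp, hQ.w, Functor.map_comp, Category.assoc, ← hcoeq,
      ← Category.assoc ((yon S).map pr2), ← Functor.map_comp, ← hh, Functor.map_comp,
      Category.assoc, ← Category.assoc q, hq]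
  have hmonoW := mono_overOpenι U W
  -- Step 2: the square is cartesian
  have sq : IsPullback ηW ((yon S).map (H52.overOpenι U W)) φ π := by
    refine Groth.Agent.Lib.Helper54.isPullback_of_forall_yon _ _ _ _ hηW ?_ ?_
    · intro Y a a' _ h2
      obtain ⟨a₁, rfl⟩ := (yon S).map_surjective a
      obtain ⟨a₂, rfl⟩ := (yon S).map_surjective a'
      rw [← Functor.map_comp, ← Functor.map_comp] at h2
      have h3 := (yon S).map_injective h2
      rw [cancel_mono] at h3
      rw [h3]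
    · intro Y b c hbc
      obtain ⟨c', rfl⟩ := (yon S).map_surjective c
      have hsub : Set.range c'.left ⊆ (W : Set ↥U.left) := by
        rintro _ ⟨y, rfl⟩
        obtain ⟨Sv1, hSv1, hl1⟩ := exists_cover_lift_of_epi π' b
        obtain ⟨Y₁, k, hk, ⟨y₁, hy₁⟩⟩ := Groth.Agent.Lib.Helper54.exists_mem_of_mem_J hSv1 y
        obtain ⟨u'₀, hu'₀⟩ := hl1 k hk
        obtain ⟨u', rfl⟩ := (yon S).map_surjective u'₀
        have h1 : (yon S).map (u' ≫ g) ≫ π = (yon S).map (k ≫ c') ≫ π := by
          rw [Functor.map_comp, Category.assoc, ← hφ, ← Category.assoc, hu'₀, Category.assoc,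
            hbc, Functor.map_comp, Category.assoc]
        obtain ⟨Sv2, hSv2, hl2⟩ := hrel _ _ h1
        obtain ⟨Y₂, k₂, hk₂, ⟨y₂, hy₂⟩⟩ := Groth.Agent.Lib.Helper54.exists_mem_of_mem_J hSv2 y₁
        obtain ⟨r, hrt, hrs⟩ := hl2 k₂ hk₂
        have hqc : (k₂ ≫ u') ≫ g = r ≫ t := by rw [hrt, Category.assoc]
        have hq2 : hQ.lift (k₂ ≫ u') r hqc ≫ pr2 ≫ s = k₂ ≫ k ≫ c' := by
          rw [← Category.assoc, hQ.lift_snd, hrs]
        rw [hW]
        refine ⟨(hQ.lift (k₂ ≫ u') r hqc).left y₂, ?_⟩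
        have h2 := congrArg (fun m : Y₂ ⟶ U => m.left) hq2
        simp only [Over.comp_left] at h2
        have h3 := congrArg (fun m : Y₂.left ⟶ U.left => m y₂) h2
        simp only [Scheme.Hom.comp_apply] at h3
        rw [Over.comp_left, Scheme.Hom.comp_apply, h3, hy₂, hy₁]
      obtain ⟨a', ha'⟩ := exists_overOpen_lift W c' hsub
      refine ⟨(yon S).map a', ?_, ?_⟩
      · rw [← cancel_mono φ, Category.assoc, hηW, ← Category.assoc, ← Functor.map_comp, ha', hbc]
      · rw [← Functor.map_comp, ha']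
  exact repWith_isOpenImmersion_of_isPullback_epi φ π W ηW sq

end Groth.Agent.Lib.Helper51
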