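import Groth.Agent.Lib.Helper51.QuotOpenImm
import Groth.Agent.Lib.Helper51.EffEqvRel

/-!
# Open immersions of quotient sheaves `U'/R' ⟶ U/R` for schemes (helper51)
-/

set_option autoImplicit false
universe u
open CategoryTheory CategoryTheory.Limits Opposite AlgebraicGeometry AlgSp

namespace Groth.Agent.Lib.Helper51

variable {S : Scheme.{u}}

/-- The map of quotients induced by restricting a relation along `g : U' ⟶ U` is a
monomorphism (abstract form with scheme-level data). -/
theorem mono_of_restrict {R U R' U' : Over S} (s t : R ⟶ U) (g : U' ⟶ U) (s' t' : R' ⟶ U')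
    (r : R' ⟶ R) (hsq : IsPullback (prod.lift t' s') r (prod.map g g) (prod.lift t s))
    {F F' : Sp S} (π : (yon S).obj U ⟶ F) (π' : (yon S).obj U' ⟶ F') [Epi π']
    (φ : F' ⟶ F) (hφ : π' ≫ φ = (yon S).map g ≫ π)
    (hcoeq' : (yon S).map s' ≫ π' = (yon S).map t' ≫ π')
    (hrel : ∀ ⦃T : Over S⦄ (a b : T ⟶ U), (yon S).map a ≫ π = (yon S).map b ≫ π →
      ∃ Sv ∈ J S T, ∀ ⦃Y : Over S⦄ (f : Y ⟶ T), Sv f →
        ∃ r : Y ⟶ R, r ≫ t = f ≫ a ∧ r ≫ s = f ≫ b) : Mono φ := by
  apply mono_of_forall_yon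
  intro T x y hxy
  obtain ⟨S1, hS1, h1⟩ := exists_cover_lift_of_epi π' x
  obtain ⟨S2, hS2, h2⟩ := exists_cover_lift_of_epi π' y
  refine yon_hom_ext_of_cover x y (S1 ⊓ S2) ((J S).intersection_covering hS1 hS2) ?_
  rintro Y f ⟨hf1, hf2⟩
  obtain ⟨a'₀, ha'⟩ := h1 f hf1
  obtain ⟨b'₀, hb'⟩ := h2 f hf2
  obtain ⟨a', rfl⟩ := (yon S).map_surjective a'₀
  obtain ⟨b', rfl⟩ := (yon S).map_surjective b'₀
  have hab : (yon S).map (a' ≫ g) ≫ π = (yon S).map (b' ≫ g) ≫ π := by
    rw [Functor.map_comp, Functor.map_comp, Category.assoc, Category.assoc, ← hφ,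
      ← Category.assoc, ← Category.assoc, ha', hb', Category.assoc, Category.assoc, hxy]
  obtain ⟨S3, hS3, h3⟩ := hrel _ _ hab
  rw [← ha', ← hb']
  refine yon_hom_ext_of_cover _ _ S3 hS3 ?_
  intro Z h hh
  obtain ⟨r0, hr0t, hr0s⟩ := h3 h hh
  have hcond : prod.lift (h ≫ a') (h ≫ b') ≫ prod.map g g = r0 ≫ prod.lift t s := by
    rw [prod.lift_map, prod.comp_lift, hr0t, hr0s, Category.assoc, Category.assoc]
  obtain ⟨l, hlt, hls⟩ : ∃ l : Z ⟶ R', l ≫ t' = h ≫ a' ∧ l ≫ s' = h ≫ b' := by
    refine ⟨hsq.lift _ _ hcond, ?_, ?_⟩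
    · have := congrArg (· ≫ prod.fst) (hsq.lift_fst _ _ hcond)
      simpa only [Category.assoc, prod.lift_fst] using this
    · have := congrArg (· ≫ prod.snd) (hsq.lift_fst _ _ hcond)
      simpa only [Category.assoc, prod.lift_snd] using this
  rw [← Category.assoc, ← Category.assoc, ← Functor.map_comp, ← Functor.map_comp, ← hlt, ← hls,
    Functor.map_comp, Functor.map_comp, Category.assoc, Category.assoc, hcoeq']

section QuotSh

variable {R U : Over S} (s t : R ⟶ U)

/-- The quotient map `h_U ⟶ U/R` from the representable sheaf (fppf topology). -/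
noncomputable abbrev qπ : (yon S).obj U ⟶ QuotSh.quot Scheme.fppfPrecoverage s t :=
  (QuotSh.repIsoUliftYoneda Scheme.fppfPrecoverage U).inv ≫ QuotSh.quotπ Scheme.fppfPrecoverage s t

instance epi_qπ : Epi (qπ s t) := epi_comp _ _

theorem qπ_condition : (yon S).map s ≫ qπ s t = (yon S).map t ≫ qπ s t := by
  change (yon S).map s ≫ (QuotSh.repIsoUliftYoneda Scheme.fppfPrecoverage U).inv ≫ _ =
    (yon S).map t ≫ (QuotSh.repIsoUliftYoneda Scheme.fppfPrecoverage U).inv ≫ _
  rw [← Category.assoc, ← Category.assoc, ← repIsoUliftYoneda_inv_naturality,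
    ← repIsoUliftYoneda_inv_naturality, Category.assoc, Category.assoc, QuotSh.quot_condition]

theorem qπ_map {R' U' : Over S} (s' t' : R' ⟶ U') (g : U' ⟶ U)
    (φ : QuotSh.quot Scheme.fppfPrecoverage s' t' ⟶ QuotSh.quot Scheme.fppfPrecoverage s t)
    (hφ : QuotSh.quotπ Scheme.fppfPrecoverage s' t' ≫ φ =
      QuotSh.repMap Scheme.fppfPrecoverage g ≫ QuotSh.quotπ Scheme.fppfPrecoverage s t) :
    qπ s' t' ≫ φ = (yon S).map g ≫ qπ s t := by
  change ((QuotSh.repIsoUliftYoneda Scheme.fppfPrecoverage U').inv ≫ _) ≫ φ =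
    (yon S).map g ≫ (QuotSh.repIsoUliftYoneda Scheme.fppfPrecoverage U).inv ≫ _
  rw [Category.assoc, hφ, ← Category.assoc, repIsoUliftYoneda_inv_naturality, Category.assoc]

/-- For an equivalence relation, points identified in the quotient are related. -/
theorem qπ_rel_of_isEqvRel (hR : AlgSp.IsEqvRel s t) ⦃T : Over S⦄ (a b : T ⟶ U)
    (h : (yon S).map a ≫ qπ s t = (yon S).map b ≫ qπ s t) :
    ∃ Sv ∈ J S T, ∀ ⦃Y : Over S⦄ (f : Y ⟶ T), Sv f →
      ∃ r : Y ⟶ R, r ≫ t = f ≫ a ∧ r ≫ s = f ≫ b := by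
  have hpb := isPullback_yon_quotπ Scheme.fppfPrecoverage s t hR.injective hR.equivalence
  obtain ⟨r₀, hr₀⟩ := (yon S).map_surjective (hpb.lift _ _ h)
  have h1 : r₀ ≫ t = a := by
    apply (yon S).map_injective
    rw [Functor.map_comp, hr₀]
    exact hpb.lift_fst _ _ _
  have h2 : r₀ ≫ s = b := by
    apply (yon S).map_injective
    rw [Functor.map_comp, hr₀]
    exact hpb.lift_snd _ _ _
  refine ⟨⊤, (J S).top_mem T, fun Y f _ => ⟨f ≫ r₀, ?_, ?_⟩⟩
  · rw [Category.assoc, h1]
  · rw [Category.assoc, h2]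

/-- For an equivalence relation `s, t : R ⟶ U` of schemes over `S` with `s` flat and locally of
finite presentation, and `g : U' ⟶ U` flat and locally of finite presentation, the map of fppf
quotient sheaves `U'/R' ⟶ U/R` for the restriction `R'` is representable by open immersions. -/
theorem quotSh_repWith_isOpenImmersion_of_restrict {R' U' : Over S}
    (g : U' ⟶ U) (s' t' : R' ⟶ U') (r : R' ⟶ R)
    (hsq : IsPullback (prod.lift t' s') r (prod.map g g) (prod.lift t s))
    (hR : AlgSp.IsEqvRel s t)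
    [Flat s.left] [LocallyOfFinitePresentation s.left]
    [Flat g.left] [LocallyOfFinitePresentation g.left]
    (φ : QuotSh.quot Scheme.fppfPrecoverage s' t' ⟶ QuotSh.quot Scheme.fppfPrecoverage s t)
    (hφ : QuotSh.quotπ Scheme.fppfPrecoverage s' t' ≫ φ =
      QuotSh.repMap Scheme.fppfPrecoverage g ≫ QuotSh.quotπ Scheme.fppfPrecoverage s t) :
    AlgSp.RepWith @IsOpenImmersion φ := by
  have hφ' := qπ_map s t s' t' g φ hφ
  have hrel := qπ_rel_of_isEqvRel s t hR
  have hmono : Mono φ := mono_of_restrict s t g s' t' r hsq (qπ s t) (qπ s' t') φ hφ'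
    (qπ_condition s' t') hrel
  -- the morphism `h : U' ×_U R ⟶ U`
  have sqQ := IsPullback.of_hasPullback g t
  have sqQl := sqQ.map (Over.forget S)
  have h1 : Flat (pullback.snd g t).left :=
    MorphismProperty.of_isPullback (P := @Flat) sqQl (inferInstanceAs (Flat g.left))
  have h2 : LocallyOfFinitePresentation (pullback.snd g t).left :=
    MorphismProperty.of_isPullback (P := @LocallyOfFinitePresentation) sqQl
      (inferInstanceAs (LocallyOfFinitePresentation g.left))
  have h3 : Flat (pullback.snd g t ≫ s).left := by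
    rw [Over.comp_left]; infer_instance
  have h4 : LocallyOfFinitePresentation (pullback.snd g t ≫ s).left := by
    rw [Over.comp_left]; infer_instance
  have h5 : UniversallyOpen (pullback.snd g t ≫ s).left := inferInstance
  let W : U.left.Opens := ⟨Set.range (pullback.snd g t ≫ s).left,
    (pullback.snd g t ≫ s).left.isOpenMap.isOpen_range⟩
  obtain ⟨hlift, hh⟩ := exists_overOpen_lift W (pullback.snd g t ≫ s) subset_rfl
  have hhl : hlift.left ≫ W.ι = (pullback.snd g t ≫ s).left := by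
    rw [← hh]; rfl
  have h6 : Flat hlift.left :=
    MorphismProperty.of_postcomp (W := @Flat) (W' := @IsOpenImmersion) hlift.left W.ι
      inferInstance (by rw [hhl]; exact h3)
  have h7 : LocallyOfFinitePresentation hlift.left :=
    MorphismProperty.of_postcomp (W := @LocallyOfFinitePresentation) (W' := @IsOpenImmersion)
      hlift.left W.ι inferInstance (by rw [hhl]; exact h4)
  have h8 : Surjective hlift.left := by
    refine ⟨fun w => ?_⟩
    obtain ⟨q, hq⟩ : W.ι w ∈ Set.range (pullback.snd g t ≫ s).left := by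
      have := w.2
      rw [Scheme.Opens.ι_apply]
      exact this
    refine ⟨q, W.ι.injective ?_⟩
    rw [← Scheme.Hom.comp_apply, hhl, hq]
  have hepi : Epi ((yon S).map hlift) := H52.epi_yon_map_of_fppf hlift
  exact repWith_isOpenImmersion_of_restrict s t g (qπ s t) (qπ s' t') φ hφ' (qπ_condition s t) hrel
    (pullback.fst g t) (pullback.snd g t) sqQ W rfl hlift hh

end QuotSh

end Groth.Agent.Lib.Helper51
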