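import Groth.Agent.Lib.Helper51.QuotOpenImm2
import Groth.Agent.H52.Top
import Groth.Prelude.Def_Grpd

/-!
# Groupoid schemes: pre-equivalence relation on points, and local relatedness in `U/R` (helper51)
-/

set_option autoImplicit false
universe u
open CategoryTheory CategoryTheory.Limits Opposite AlgebraicGeometry AlgSp

namespace Groth.Agent.Lib.Helper51

variable {S : Scheme.{u}}

section QuotSh

variable {R U : Over S} (s t : R ⟶ U)

/-- A pre-equivalence relation of schemes over `S` induces a pre-equivalence relation of the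
sheafified representable sheaves. -/
theorem isPreEqvRelSp_repMap
    (heq : ∀ (T : Over S), Equivalence (fun a b : T ⟶ U => ∃ r : T ⟶ R, r ≫ t = a ∧ r ≫ s = b)) :
    IsPreEqvRelSp (QuotSh.repMap Scheme.fppfPrecoverage s) (QuotSh.repMap Scheme.fppfPrecoverage t) := by
  intro T
  have key : ∀ a b : (yon S).obj T ⟶ QuotSh.rep Scheme.fppfPrecoverage U,
      (∃ r : (yon S).obj T ⟶ QuotSh.rep Scheme.fppfPrecoverage R,
        r ≫ QuotSh.repMap Scheme.fppfPrecoverage t = a ∧
        r ≫ QuotSh.repMap Scheme.fppfPrecoverage s = b) ↔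
      ∃ r' : T ⟶ R,
        r' ≫ t = (yon S).preimage (a ≫ (QuotSh.repIsoUliftYoneda Scheme.fppfPrecoverage U).hom) ∧
        r' ≫ s = (yon S).preimage (b ≫ (QuotSh.repIsoUliftYoneda Scheme.fppfPrecoverage U).hom) := by
    intro a b
    constructor
    · rintro ⟨r, rfl, rfl⟩
      refine ⟨(yon S).preimage (r ≫ (QuotSh.repIsoUliftYoneda Scheme.fppfPrecoverage R).hom), ?_, ?_⟩
      · apply (yon S).map_injective
        rw [Functor.map_comp, Functor.map_preimage, Functor.map_preimage, Category.assoc,
          Category.assoc, repMap_comp_repIsoUliftYoneda_hom]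
      · apply (yon S).map_injective
        rw [Functor.map_comp, Functor.map_preimage, Functor.map_preimage, Category.assoc,
          Category.assoc, repMap_comp_repIsoUliftYoneda_hom]
    · rintro ⟨r', h1, h2⟩
      refine ⟨(yon S).map r' ≫ (QuotSh.repIsoUliftYoneda Scheme.fppfPrecoverage R).inv, ?_, ?_⟩
      · rw [Category.assoc, repIsoUliftYoneda_inv_naturality, ← Category.assoc, ← Functor.map_comp,
          h1, Functor.map_preimage, Category.assoc, Iso.hom_inv_id, Category.comp_id]
      · rw [Category.assoc, repIsoUliftYoneda_inv_naturality, ← Category.assoc, ← Functor.map_comp,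
          h2, Functor.map_preimage, Category.assoc, Iso.hom_inv_id, Category.comp_id]
  have h := (heq T).comap (fun a : (yon S).obj T ⟶ QuotSh.rep Scheme.fppfPrecoverage U =>
    (yon S).preimage (a ≫ (QuotSh.repIsoUliftYoneda Scheme.fppfPrecoverage U).hom))
  refine ⟨fun a => (key a a).2 (h.refl a), fun {a b} hab => (key b a).2 (h.symm ((key a b).1 hab)),
    fun {a b c} hab hbc => (key a c).2 (h.trans ((key a b).1 hab) ((key b c).1 hbc))⟩

/-- For a pre-equivalence relation, points identified in the fppf quotient sheaf are related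
locally for the fppf topology. -/
theorem qπ_rel_of_isPreEqvRel
    (heq : ∀ (T : Over S), Equivalence (fun a b : T ⟶ U => ∃ r : T ⟶ R, r ≫ t = a ∧ r ≫ s = b))
    ⦃T : Over S⦄ (a b : T ⟶ U)
    (h : (yon S).map a ≫ qπ s t = (yon S).map b ≫ qπ s t) :
    ∃ Sv ∈ J S T, ∀ ⦃Y : Over S⦄ (f : Y ⟶ T), Sv f →
      ∃ r : Y ⟶ R, r ≫ t = f ≫ a ∧ r ≫ s = f ≫ b := by
  have hpre := isPreEqvRelSp_repMap s t heq
  have h' : ((yon S).map a ≫ (QuotSh.repIsoUliftYoneda Scheme.fppfPrecoverage U).inv) ≫
      quotSpπ (QuotSh.repMap Scheme.fppfPrecoverage s) (QuotSh.repMap Scheme.fppfPrecoverage t) =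
      ((yon S).map b ≫ (QuotSh.repIsoUliftYoneda Scheme.fppfPrecoverage U).inv) ≫
      quotSpπ (QuotSh.repMap Scheme.fppfPrecoverage s) (QuotSh.repMap Scheme.fppfPrecoverage t) := by
    rw [Category.assoc, Category.assoc]
    exact h
  obtain ⟨Sv, hSv, hl⟩ := exists_cover_rel_of_quotSpπ_eq _ _ hpre _ _ h'
  refine ⟨Sv, hSv, fun Y f hf => ?_⟩
  obtain ⟨r₁, h1, h2⟩ := hl f hf
  refine ⟨(yon S).preimage (r₁ ≫ (QuotSh.repIsoUliftYoneda Scheme.fppfPrecoverage R).hom), ?_, ?_⟩
  · apply (yon S).map_injective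
    rw [Functor.map_comp, Functor.map_preimage, Category.assoc,
      ← repMap_comp_repIsoUliftYoneda_hom, ← Category.assoc, h1, Category.assoc, Category.assoc,
      Iso.inv_hom_id, Category.comp_id, Functor.map_comp]
  · apply (yon S).map_injective
    rw [Functor.map_comp, Functor.map_preimage, Category.assoc,
      ← repMap_comp_repIsoUliftYoneda_hom, ← Category.assoc, h2, Category.assoc, Category.assoc,
      Iso.inv_hom_id, Category.comp_id, Functor.map_comp]

end QuotSh

section Groupoid

variable (G : Grpd.GroupoidScheme S)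

/-- The source of a groupoid scheme as a morphism over `S`. -/
noncomputable abbrev gsO : Over.mk G.pR ⟶ Over.mk G.pU := Over.homMk G.s G.s_over

/-- The target of a groupoid scheme as a morphism over `S`. -/
noncomputable abbrev gtO : Over.mk G.pR ⟶ Over.mk G.pU := Over.homMk G.t G.t_over

/-- The arrows of a groupoid scheme define a pre-equivalence relation on `T`-points of the
objects. -/
theorem isPreEqvRel_of_groupoidScheme (T : Over S) :
    Equivalence (fun a b : T ⟶ Over.mk G.pU =>
      ∃ r : T ⟶ Over.mk G.pR, r ≫ gtO G = a ∧ r ≫ gsO G = b) := by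
  have hepR : G.e ≫ G.pR = G.pU := by
    rw [← G.s_over, ← Category.assoc, G.e_s, Category.id_comp]
  have hipR : G.i ≫ G.pR = G.pR := by
    conv_lhs => rw [← G.s_over, ← Category.assoc, G.i_s, G.t_over]
  refine ⟨fun a => ?_, fun {a b} hab => ?_, fun {a b c} hab hbc => ?_⟩
  · refine ⟨Over.homMk (a.left ≫ G.e) ?_, ?_, ?_⟩
    · change (a.left ≫ G.e) ≫ G.pR = T.hom
      rw [Category.assoc, hepR]
      exact Over.w a
    · ext1
      change (a.left ≫ G.e) ≫ G.t = a.left
      rw [Category.assoc, G.e_t]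
      exact Category.comp_id _
    · ext1
      change (a.left ≫ G.e) ≫ G.s = a.left
      rw [Category.assoc, G.e_s]
      exact Category.comp_id _
  · obtain ⟨r, rfl, rfl⟩ := hab
    refine ⟨Over.homMk (r.left ≫ G.i) ?_, ?_, ?_⟩
    · change (r.left ≫ G.i) ≫ G.pR = T.hom
      rw [Category.assoc, hipR]
      exact Over.w r
    · ext1
      change (r.left ≫ G.i) ≫ G.t = r.left ≫ G.s
      rw [Category.assoc, G.i_t]
    · ext1
      change (r.left ≫ G.i) ≫ G.s = r.left ≫ G.t
      rw [Category.assoc, G.i_s]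
  · obtain ⟨α, rfl, hα⟩ := hab
    obtain ⟨β, hβ, rfl⟩ := hbc
    have h : α.left ≫ G.s = β.left ≫ G.t := by
      have := congrArg (fun m : T ⟶ Over.mk G.pU => m.left) (hα.trans hβ.symm)
      exact this
    refine ⟨Over.homMk (pullback.lift α.left β.left h ≫ G.c) ?_, ?_, ?_⟩
    · change (pullback.lift α.left β.left h ≫ G.c) ≫ G.pR = T.hom
      have h1 : (pullback.lift α.left β.left h ≫ G.c) ≫ G.t ≫ G.pU = α.left ≫ G.t ≫ G.pU := by
        rw [← Category.assoc, G.comp_t α.left β.left h, Category.assoc]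
      rw [G.t_over] at h1
      rw [h1]
      exact Over.w α
    · ext1
      change (pullback.lift α.left β.left h ≫ G.c) ≫ G.t = α.left ≫ G.t
      exact G.comp_t α.left β.left h
    · ext1
      change (pullback.lift α.left β.left h ≫ G.c) ≫ G.s = β.left ≫ G.s
      exact G.comp_s α.left β.left h

end Groupoid

end Groth.Agent.Lib.Helper51
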