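import Mathlib
import Groth.Agent.Lib.Helper1.IdealMod
import Groth.Agent.Lib.Helper18.LSubCanExt
import Groth.Agent.Lib.Helper51.OmegaUniv.ExactCover
import Groth.Agent.Lib.Helper51.OmegaUniv.DiffCompatIso

/-!
# `0 → O_X → O_X/I₁ ⊕ O_X/I₂ → O_X/(I₁+I₂) → 0` for `I₁ ⊓ I₂ = ⊥` (helper51)
-/

set_option autoImplicit false
set_option linter.style.haveILetI false
universe u
open AlgebraicGeometry CategoryTheory Limits TopologicalSpace Opposite

namespace Groth.Agent.Lib.Helper51.QuotPairExact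

open Groth.Agent.Lib.Helper1 Groth.Agent.Lib.Helper51.OmegaUniv

variable {X : Scheme.{u}} (I₁ I₂ : X.IdealSheafData)

theorem toSubscheme_app_eq_zero_iff (I : X.IdealSheafData) (U : X.affineOpens) (a : Γ(X, U.1)) :
    (ClSub.toSubscheme I).app U.1 a = 0 ↔ a ∈ I.ideal U := by
  rw [← I.ker_subschemeι_app U, RingHom.mem_ker]
  rfl

theorem main (h : I₁ ⊓ I₂ = ⊥)
    (q₁ : ClSub.quotMod I₁ ⟶ ClSub.quotMod (I₁ ⊔ I₂))
    (q₂ : ClSub.quotMod I₂ ⟶ ClSub.quotMod (I₁ ⊔ I₂))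
    (hq₁ : ClSub.toSubscheme I₁ ≫ q₁ = ClSub.toSubscheme (I₁ ⊔ I₂))
    (hq₂ : ClSub.toSubscheme I₂ ≫ q₂ = ClSub.toSubscheme (I₁ ⊔ I₂)) :
    Epi (biprod.desc q₁ (-q₂)) ∧
      ∃ w : biprod.lift (ClSub.toSubscheme I₁) (ClSub.toSubscheme I₂) ≫ biprod.desc q₁ (-q₂) = 0,
        Nonempty (IsLimit (KernelFork.ofι
          (biprod.lift (ClSub.toSubscheme I₁) (ClSub.toSubscheme I₂)) w)) := by
  haveI := isQuasicoherent_quotMod I₁
  haveI := isQuasicoherent_quotMod I₂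
  haveI := isQuasicoherent_quotMod (I₁ ⊔ I₂)
  haveI : (Coh.structureModule X).IsQuasicoherent := isQuasicoherent_structureModule X
  haveI : (ClSub.quotMod I₁ ⊞ ClSub.quotMod I₂).IsQuasicoherent :=
    Groth.Agent.Lib.Helper18.LSubM.isQuasicoherent_biprod _ _
  have hq₁e : Epi q₁ := by
    have : Epi (ClSub.toSubscheme I₁ ≫ q₁) := by rw [hq₁]; infer_instance
    exact epi_of_epi (ClSub.toSubscheme I₁) q₁
  have hepi : Epi (biprod.desc q₁ (-q₂)) := by
    have : Epi (biprod.inl ≫ biprod.desc q₁ (-q₂)) := by rw [biprod.inl_desc]; exact hq₁e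
    exact epi_of_epi biprod.inl _
  have w : biprod.lift (ClSub.toSubscheme I₁) (ClSub.toSubscheme I₂) ≫ biprod.desc q₁ (-q₂) = 0 := by
    rw [biprod.lift_desc, hq₁, Preadditive.comp_neg, hq₂, add_neg_cancel]
  refine ⟨hepi, w, ?_⟩
  have hmono : Mono (biprod.lift (ClSub.toSubscheme I₁) (ClSub.toSubscheme I₂)) := by
    apply mono_of_app_injective_of_cover
    intro x
    obtain ⟨_, ⟨U, hU, rfl⟩, hxU, -⟩ :=
      X.isBasis_affineOpens.exists_subset_of_mem_open (Set.mem_univ x) isOpen_univ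
    refine ⟨U, hU, hxU, ?_⟩
    rw [injective_iff_map_eq_zero]
    intro a ha
    have h1 : (ClSub.toSubscheme I₁).app U a = 0 := by
      have := congrArg (fun t => (biprod.fst : ClSub.quotMod I₁ ⊞ ClSub.quotMod I₂ ⟶ _).app U t) ha
      simp only [map_zero] at this
      rw [← this]
      exact congrArg (fun m : Coh.structureModule X ⟶ ClSub.quotMod I₁ => m.app U a)
        (biprod.lift_fst (ClSub.toSubscheme I₁) (ClSub.toSubscheme I₂)).symm
    have h2 : (ClSub.toSubscheme I₂).app U a = 0 := by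
      have := congrArg (fun t => (biprod.snd : ClSub.quotMod I₁ ⊞ ClSub.quotMod I₂ ⟶ _).app U t) ha
      simp only [map_zero] at this
      rw [← this]
      exact congrArg (fun m : Coh.structureModule X ⟶ ClSub.quotMod I₂ => m.app U a)
        (biprod.lift_snd (ClSub.toSubscheme I₁) (ClSub.toSubscheme I₂)).symm
    rw [toSubscheme_app_eq_zero_iff _ ⟨U, hU⟩] at h1 h2
    have h3 : a ∈ (I₁ ⊓ I₂).ideal ⟨U, hU⟩ := by
      rw [Scheme.IdealSheafData.ideal_inf]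
      exact ⟨h1, h2⟩
    rw [h, Scheme.IdealSheafData.ideal_bot] at h3
    exact h3
  have hex : (ShortComplex.mk _ _ w).Exact := by
    apply exact_of_app_exact_of_cover
    intro x
    obtain ⟨_, ⟨U, hU, rfl⟩, hxU, -⟩ :=
      X.isBasis_affineOpens.exists_subset_of_mem_open (Set.mem_univ x) isOpen_univ
    refine ⟨U, hU, hxU, ?_⟩
    intro t ht
    obtain ⟨a, ha⟩ := I₁.subschemeι_app_surjective ⟨U, hU⟩
      ((biprod.fst : ClSub.quotMod I₁ ⊞ ClSub.quotMod I₂ ⟶ _).app U t)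
    obtain ⟨b, hb⟩ := I₂.subschemeι_app_surjective ⟨U, hU⟩
      ((biprod.snd : ClSub.quotMod I₁ ⊞ ClSub.quotMod I₂ ⟶ _).app U t)
    have hc : biprod.desc q₁ (-q₂) = biprod.fst ≫ q₁ - biprod.snd ≫ q₂ := by
      apply biprod.hom_ext' <;> simp
    have hT1 : ∀ a : Γ(X, U), q₁.app U ((ClSub.toSubscheme I₁).app U a) =
        (ClSub.toSubscheme (I₁ ⊔ I₂)).app U a := fun a =>
      congrArg (fun m : Coh.structureModule X ⟶ ClSub.quotMod (I₁ ⊔ I₂) => m.app U a) hq₁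
    have hT2 : ∀ a : Γ(X, U), q₂.app U ((ClSub.toSubscheme I₂).app U a) =
        (ClSub.toSubscheme (I₁ ⊔ I₂)).app U a := fun a =>
      congrArg (fun m : Coh.structureModule X ⟶ ClSub.quotMod (I₁ ⊔ I₂) => m.app U a) hq₂
    have ha' : (ClSub.toSubscheme I₁).app U a =
        (biprod.fst : ClSub.quotMod I₁ ⊞ ClSub.quotMod I₂ ⟶ _).app U t := ha
    have hb' : (ClSub.toSubscheme I₂).app U b =
        (biprod.snd : ClSub.quotMod I₁ ⊞ ClSub.quotMod I₂ ⟶ _).app U t := hb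
    have ht' : q₁.app U ((biprod.fst : ClSub.quotMod I₁ ⊞ ClSub.quotMod I₂ ⟶ _).app U t) -
        q₂.app U ((biprod.snd : ClSub.quotMod I₁ ⊞ ClSub.quotMod I₂ ⟶ _).app U t) = 0 := by
      rw [← ht]
      exact congrArg (fun m : ClSub.quotMod I₁ ⊞ ClSub.quotMod I₂ ⟶ ClSub.quotMod (I₁ ⊔ I₂) =>
        m.app U t) hc.symm
    rw [← ha', ← hb', hT1, hT2, ← map_sub] at ht'
    rw [toSubscheme_app_eq_zero_iff _ ⟨U, hU⟩, Scheme.IdealSheafData.ideal_sup] at ht'
    obtain ⟨x₁, hx₁, x₂, hx₂, hx⟩ := Submodule.mem_sup.mp ht'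
    rw [← toSubscheme_app_eq_zero_iff I₁ ⟨U, hU⟩] at hx₁
    rw [← toSubscheme_app_eq_zero_iff I₂ ⟨U, hU⟩] at hx₂
    refine ⟨a - x₁, ?_⟩
    have htot : ∀ s : Γ(ClSub.quotMod I₁ ⊞ ClSub.quotMod I₂, U),
        s = (biprod.inl : _ ⟶ ClSub.quotMod I₁ ⊞ ClSub.quotMod I₂).app U
            ((biprod.fst : ClSub.quotMod I₁ ⊞ ClSub.quotMod I₂ ⟶ _).app U s) +
          (biprod.inr : _ ⟶ ClSub.quotMod I₁ ⊞ ClSub.quotMod I₂).app U
            ((biprod.snd : ClSub.quotMod I₁ ⊞ ClSub.quotMod I₂ ⟶ _).app U s) := fun s =>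
      congrArg (fun m : ClSub.quotMod I₁ ⊞ ClSub.quotMod I₂ ⟶ ClSub.quotMod I₁ ⊞ ClSub.quotMod I₂ =>
        m.app U s) (biprod.total (X := ClSub.quotMod I₁) (Y := ClSub.quotMod I₂)).symm
    have hf : (biprod.fst : ClSub.quotMod I₁ ⊞ ClSub.quotMod I₂ ⟶ _).app U
        ((biprod.lift (ClSub.toSubscheme I₁) (ClSub.toSubscheme I₂)).app U (a - x₁)) =
        (ClSub.toSubscheme I₁).app U (a - x₁) :=
      congrArg (fun m : Coh.structureModule X ⟶ ClSub.quotMod I₁ => m.app U (a - x₁))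
        (biprod.lift_fst (ClSub.toSubscheme I₁) (ClSub.toSubscheme I₂))
    have hs : (biprod.snd : ClSub.quotMod I₁ ⊞ ClSub.quotMod I₂ ⟶ _).app U
        ((biprod.lift (ClSub.toSubscheme I₁) (ClSub.toSubscheme I₂)).app U (a - x₁)) =
        (ClSub.toSubscheme I₂).app U (a - x₁) :=
      congrArg (fun m : Coh.structureModule X ⟶ ClSub.quotMod I₂ => m.app U (a - x₁))
        (biprod.lift_snd (ClSub.toSubscheme I₁) (ClSub.toSubscheme I₂))
    have hn2 : a - x₁ = b + x₂ := by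
      have h5 : a = x₁ + x₂ + b := sub_eq_iff_eq_add.mp hx.symm
      rw [sub_eq_iff_eq_add, h5]
      abel
    rw [htot ((biprod.lift (ClSub.toSubscheme I₁) (ClSub.toSubscheme I₂)).app U (a - x₁)), hf, hs,
      htot t]
    congr 2
    · have e1 : (ClSub.toSubscheme I₁).app U (a - x₁) =
          (ClSub.toSubscheme I₁).app U a - (ClSub.toSubscheme I₁).app U x₁ :=
        map_sub ((ClSub.toSubscheme I₁).app U).hom a x₁
      refine e1.trans ?_
      rw [hx₁, sub_zero, ha']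
    · rw [hn2]
      have e2 : (ClSub.toSubscheme I₂).app U (b + x₂) =
          (ClSub.toSubscheme I₂).app U b + (ClSub.toSubscheme I₂).app U x₂ :=
        map_add ((ClSub.toSubscheme I₂).app U).hom b x₂
      refine e2.trans ?_
      rw [hx₂, add_zero, hb']
  exact ⟨hex.fIsKernel⟩

end Groth.Agent.Lib.Helper51.QuotPairExact
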