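import Groth.Agent.Lib.Helper51.QuotSpEff

/-!
# Quotients of groupoids in fppf sheaves: restriction (helper51)
-/

set_option autoImplicit false
universe u
open CategoryTheory CategoryTheory.Limits Opposite AlgebraicGeometry AlgSp

namespace Groth.Agent.Lib.Helper51

variable {S : Scheme.{u}}

/-- Pointwise form of `mono_quotSp_map_of_restrict`: it is enough that every `R`-relation between
points of `U'` lifts to `R'`. -/
theorem mono_quotSp_map_of_forall_lift {R U R' U' : Sp S} (s t : R ⟶ U)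
    (hpre : IsPreEqvRelSp s t) (g : U' ⟶ U) (s' t' : R' ⟶ U')
    (hres : ∀ ⦃T : Over S⦄ (a' b' : (yon S).obj T ⟶ U') (r0 : (yon S).obj T ⟶ R),
      r0 ≫ t = a' ≫ g → r0 ≫ s = b' ≫ g → ∃ l : (yon S).obj T ⟶ R', l ≫ t' = a' ∧ l ≫ s' = b')
    (ψ : quotSp s' t' ⟶ quotSp s t) (hψ : quotSpπ s' t' ≫ ψ = g ≫ quotSpπ s t) : Mono ψ := by
  apply mono_of_forall_yon
  intro T x y hxy
  have : Epi (quotSpπ s' t') := coequalizer.π_epi
  obtain ⟨S1, hS1, h1⟩ := exists_cover_lift_of_epi (quotSpπ s' t') x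
  obtain ⟨S2, hS2, h2⟩ := exists_cover_lift_of_epi (quotSpπ s' t') y
  refine yon_hom_ext_of_cover x y (S1 ⊓ S2) ((J S).intersection_covering hS1 hS2) ?_
  rintro Y f ⟨hf1, hf2⟩
  obtain ⟨a', ha'⟩ := h1 f hf1
  obtain ⟨b', hb'⟩ := h2 f hf2
  have hab : (a' ≫ g) ≫ quotSpπ s t = (b' ≫ g) ≫ quotSpπ s t := by
    rw [Category.assoc, Category.assoc, ← hψ, ← Category.assoc, ← Category.assoc, ha', hb',
      Category.assoc, Category.assoc, hxy]
  obtain ⟨S3, hS3, h3⟩ := exists_cover_rel_of_quotSpπ_eq s t hpre (a' ≫ g) (b' ≫ g) hab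
  rw [← ha', ← hb']
  refine yon_hom_ext_of_cover _ _ S3 hS3 ?_
  intro Z h hh
  obtain ⟨r0, hr0t, hr0s⟩ := h3 h hh
  obtain ⟨l, hlt, hls⟩ := hres ((yon S).map h ≫ a') ((yon S).map h ≫ b') r0
    (by rw [hr0t, Category.assoc]) (by rw [hr0s, Category.assoc])
  rw [← Category.assoc, ← Category.assoc, ← hlt, ← hls, Category.assoc, Category.assoc,
    quotSp_condition]

/-- Pointwise form of `quotSp_map_of_restrict`. -/
theorem quotSp_map_of_forall_lift {R U R' U' : Sp S} (s t : R ⟶ U)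
    (hpre : IsPreEqvRelSp s t) (g : U' ⟶ U) (s' t' : R' ⟶ U')
    (hres : ∀ ⦃T : Over S⦄ (a' b' : (yon S).obj T ⟶ U') (r0 : (yon S).obj T ⟶ R),
      r0 ≫ t = a' ≫ g → r0 ≫ s = b' ≫ g → ∃ l : (yon S).obj T ⟶ R', l ≫ t' = a' ∧ l ≫ s' = b')
    (ψ : quotSp s' t' ⟶ quotSp s t) (hψ : quotSpπ s' t' ≫ ψ = g ≫ quotSpπ s t) :
    Mono ψ ∧ (Epi (g ≫ quotSpπ s t) → IsIso ψ) := by
  have hm := mono_quotSp_map_of_forall_lift s t hpre g s' t' hres ψ hψ
  refine ⟨hm, fun hg => ?_⟩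
  have : Epi (quotSpπ s' t' ≫ ψ) := by rw [hψ]; exact hg
  have : Epi ψ := epi_of_epi (quotSpπ s' t') ψ
  exact isIso_of_mono_of_epi_sp ψ

variable {B : Sp S}

/-- The source and target of a groupoid in sheaves form a pre-equivalence relation. -/
theorem isPreEqvRelSp_of_groupoidSp (G : GroupoidSp B) : IsPreEqvRelSp G.s G.t := by
  intro T
  refine ⟨fun a => ?_, ?_, ?_⟩
  · refine ⟨a ≫ G.e, ?_, ?_⟩
    · rw [Category.assoc, G.e_t, Category.comp_id]
    · rw [Category.assoc, G.e_s, Category.comp_id]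
  · rintro a b ⟨r, rfl, rfl⟩
    refine ⟨r ≫ G.i, ?_, ?_⟩
    · rw [Category.assoc, G.i_t]
    · rw [Category.assoc, G.i_s]
  · rintro a b c ⟨r1, rfl, rfl⟩ ⟨r2, h2, rfl⟩
    exact ⟨pullback.lift r1 r2 h2.symm ≫ G.c, G.comp_t r1 r2 h2.symm, G.comp_s r1 r2 h2.symm⟩

/-- A restriction of a groupoid lifts relations. -/
theorem exists_lift_of_isRestriction {G G' : GroupoidSp B} {φ : GroupoidSp.Hom G' G}
    (hφ : φ.IsRestriction) {T : Sp S} (a' b' : T ⟶ G'.U) (r0 : T ⟶ G.R)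
    (h1 : r0 ≫ G.t = a' ≫ φ.fU) (h2 : r0 ≫ G.s = b' ≫ φ.fU) :
    ∃ l : T ⟶ G'.R, l ≫ G'.t = a' ∧ l ≫ G'.s = b' := by
  have hB : a' ≫ G'.pU = b' ≫ G'.pU := by
    rw [← φ.fU_over, ← Category.assoc, ← Category.assoc, ← h1, ← h2, Category.assoc,
      Category.assoc, G.t_over, G.s_over]
  have hcond : r0 ≫ G.j = pullback.lift a' b' hB ≫ φ.prodMap := by
    apply pullback.hom_ext
    · rw [Category.assoc, G.j_fst, h1, Category.assoc]
      unfold GroupoidSp.Hom.prodMap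
      rw [pullback.lift_fst, pullback.lift_fst_assoc]
    · rw [Category.assoc, G.j_snd, h2, Category.assoc]
      unfold GroupoidSp.Hom.prodMap
      rw [pullback.lift_snd, pullback.lift_snd_assoc]
  refine ⟨IsPullback.lift hφ r0 (pullback.lift a' b' hB) hcond, ?_, ?_⟩
  · have := congrArg (· ≫ pullback.fst _ _) (IsPullback.lift_snd hφ r0 _ hcond)
    simpa only [Category.assoc, G'.j_fst, pullback.lift_fst] using this
  · have := congrArg (· ≫ pullback.snd _ _) (IsPullback.lift_snd hφ r0 _ hcond)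
    simpa only [Category.assoc, G'.j_snd, pullback.lift_snd] using this

/-- The quotient map of a restriction of a groupoid. -/
theorem groupoidSp_quot_map_of_isRestriction {G G' : GroupoidSp B} (φ : GroupoidSp.Hom G' G)
    (hφ : φ.IsRestriction) (ψ : G'.quot ⟶ G.quot) (hψ : G'.quotπ ≫ ψ = φ.fU ≫ G.quotπ) :
    Mono ψ ∧ (Epi (pullback.snd φ.fU G.t ≫ G.s) → IsIso ψ) := by
  obtain ⟨hm, hiso⟩ := quotSp_map_of_forall_lift G.s G.t (isPreEqvRelSp_of_groupoidSp G) φ.fU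
    G'.s G'.t (fun T a' b' r0 h1 h2 => exists_lift_of_isRestriction hφ a' b' r0 h1 h2) ψ hψ
  refine ⟨hm, fun hepi => hiso ?_⟩
  have hπ : Epi (quotSpπ G.s G.t) := coequalizer.π_epi
  have h1 : Epi ((pullback.snd φ.fU G.t ≫ G.s) ≫ quotSpπ G.s G.t) := epi_comp _ _
  have h2 : (pullback.snd φ.fU G.t ≫ G.s) ≫ quotSpπ G.s G.t =
      pullback.fst φ.fU G.t ≫ φ.fU ≫ quotSpπ G.s G.t := by
    rw [Category.assoc, quotSp_condition, ← Category.assoc, ← pullback.condition, Category.assoc]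
  rw [h2] at h1
  exact epi_of_epi (pullback.fst φ.fU G.t) _

end Groth.Agent.Lib.Helper51
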