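import Mathlib
import Groth.Prelude.Def_RegImm
import Groth.Agent.Lib.Helper10.RegImmBaseChange
import Groth.Agent.Lib.Helper10.RegSeqFlat

/-!
# Composition of regular immersions of arbitrary kinds (local form; helper51)

A kind-generic version of helper10's `KoszulRegImmComp.comp_at`: given an "append" property of
sequences of kinds `(k₂, k₁) ↦ k₃`, the composite of an immersion of kind `k₁` into one of kind `k₂`
is of kind `k₃`.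
-/

set_option autoImplicit false
universe u

namespace Groth.Agent.Lib.Helper51.RegImmCompKind

open CategoryTheory CategoryTheory.Limits AlgebraicGeometry TopologicalSpace
open Groth.Agent.Lib.Helper10.RegImmBaseChange Groth.Agent.Lib.Helper10.RegSeqFlat

/-- the append property for kinds of sequences. -/
def AppendProp (k₁ k₂ k₃ : RegImm.Kind) : Prop :=
  ∀ {A B : Type u} [CommRing A] [CommRing B] (φ : A →+* B), Function.Surjective φ →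
    ∀ fs gs : List A, RingHom.ker φ = Ideal.ofList fs → k₂.Seq A fs → k₁.Seq B (gs.map φ) →
      k₃.Seq A (fs ++ gs)

theorem comp_at_kind {k₁ k₂ k₃ : RegImm.Kind} (happ : AppendProp.{u} k₁ k₂ k₃)
    {X Y Z : Scheme.{u}} (i : Y ⟶ X) (j : Z ⟶ Y) [IsImmersion i] (z : Z)
    (hi : RegImm.IsRegularImmersionAt k₂ i (j z)) (hj : RegImm.IsRegularImmersionAt k₁ j z) :
    RegImm.IsRegularImmersionAt k₃ (j ≫ i) z := by
  obtain ⟨U₁, hU₁, hcl₁, fs, hfs, hker₁⟩ := hi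
  obtain ⟨V, hV, hcl₂, gs, hgs, hker₂⟩ := hj
  -- an open of `X` cutting out `V`
  obtain ⟨W, hW⟩ : ∃ W : X.Opens, i ⁻¹ᵁ W = V.1 := by
    have hind : Topology.IsInducing i := i.isEmbedding.isInducing
    obtain ⟨W, hWo, hWe⟩ := hind.isOpen_iff.mp V.1.2
    exact ⟨⟨W, hWo⟩, Opens.ext hWe⟩
  have hmem : i (j z) ∈ U₁.1 ⊓ W := by
    refine ⟨hU₁, ?_⟩
    have : j z ∈ i ⁻¹ᵁ W := by rw [hW]; exact hV
    exact this
  obtain ⟨_, ⟨U₂, hU₂, rfl⟩, hz₂, hle⟩ := X.isBasis_affineOpens.exists_subset_of_mem_open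
    hmem (U₁.1 ⊓ W).2
  have e₁ : U₂ ≤ (𝟙 X) ⁻¹ᵁ U₁.1 := fun x hx => (hle hx).1
  have e₂ : i ⁻¹ᵁ U₂ ≤ (𝟙 Y) ⁻¹ᵁ V.1 := by
    intro y hy
    have : y ∈ i ⁻¹ᵁ W := (hle hy).2
    rw [hW] at this
    exact this
  -- restrict the data of `i` to `U₂`
  have Hi : IsPullback (𝟙 Y) i i (𝟙 X) := IsPullback.of_horiz_isIso ⟨by simp⟩
  have hcl₁' : IsClosedImmersion (i ∣_ U₂) := isClosedImmersion_restrict Hi e₁ hcl₁
  have hker₁' := ker_app_eq_map Hi U₁.2 hU₂ e₁ hcl₁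
  rw [hker₁, Ideal.map_ofList] at hker₁'
  obtain ⟨hV₂, hsurj⟩ := app_surjective_of_restrict i U₂ hU₂ hcl₁'
  have hne₁ : Ideal.ofList (fs.map (Scheme.Hom.appLE (𝟙 X) U₁.1 U₂ e₁).hom) ≠ ⊤ := by
    rw [← hker₁']
    intro htop
    have h1 : (1 : Γ(X, U₂)) ∈ RingHom.ker (i.app U₂).hom := by rw [htop]; trivial
    rw [RingHom.mem_ker, map_one] at h1
    have hne : Nonempty (i ⁻¹ᵁ U₂ : Y.Opens) := ⟨⟨j z, hz₂⟩⟩
    have hnt : Nontrivial Γ(Y, i ⁻¹ᵁ U₂) := Scheme.component_nontrivial Y _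
    exact one_ne_zero h1
  have hfs' := kindSeq_map _ k₂ (Flat.flat_appLE (𝟙 X) U₁.2 hU₂ e₁) fs hfs hne₁
  -- restrict the data of `j` to `i ⁻¹ U₂`
  have Hj : IsPullback (𝟙 Z) j j (𝟙 Y) := IsPullback.of_horiz_isIso ⟨by simp⟩
  have hcl₂' : IsClosedImmersion (j ∣_ (i ⁻¹ᵁ U₂)) := isClosedImmersion_restrict Hj e₂ hcl₂
  have hker₂' := ker_app_eq_map Hj V.2 hV₂ e₂ hcl₂
  rw [hker₂, Ideal.map_ofList] at hker₂'
  have hne₂ : Ideal.ofList (gs.map (Scheme.Hom.appLE (𝟙 Y) V.1 (i ⁻¹ᵁ U₂) e₂).hom) ≠ ⊤ := by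
    rw [← hker₂']
    intro htop
    have h1 : (1 : Γ(Y, i ⁻¹ᵁ U₂)) ∈ RingHom.ker (j.app (i ⁻¹ᵁ U₂)).hom := by
      rw [htop]; trivial
    rw [RingHom.mem_ker, map_one] at h1
    have hne : Nonempty (j ⁻¹ᵁ (i ⁻¹ᵁ U₂) : Z.Opens) := ⟨⟨z, hz₂⟩⟩
    have hnt : Nontrivial Γ(Z, j ⁻¹ᵁ (i ⁻¹ᵁ U₂)) := Scheme.component_nontrivial Z _
    exact one_ne_zero h1
  have hgs' := kindSeq_map _ k₁ (Flat.flat_appLE (𝟙 Y) V.2 hV₂ e₂) gs hgs hne₂
  -- lift the second sequence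
  obtain ⟨gs', hgs'eq⟩ := (List.map_surjective_iff.mpr hsurj)
    (gs.map (Scheme.Hom.appLE (𝟙 Y) V.1 (i ⁻¹ᵁ U₂) e₂).hom)
  rw [← hgs'eq] at hgs' hker₂'
  refine ⟨⟨U₂, hU₂⟩, hz₂, ?_, fs.map (Scheme.Hom.appLE (𝟙 X) U₁.1 U₂ e₁).hom ++ gs', ?_, ?_⟩
  · rw [morphismRestrict_comp]
    change IsClosedImmersion (j ∣_ (i ⁻¹ᵁ U₂) ≫ i ∣_ U₂)
    infer_instance
  · exact happ (i.app U₂).hom hsurj _ gs' hker₁' hfs' hgs'
  · rw [Scheme.Hom.comp_app]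
    change RingHom.ker ((j.app (i ⁻¹ᵁ U₂)).hom.comp (i.app U₂).hom) = _
    rw [← RingHom.comap_ker, hker₂', ← Ideal.map_ofList,
      Ideal.comap_map_of_surjective _ hsurj, Ideal.ofList_append, sup_comm]
    congr 1

end Groth.Agent.Lib.Helper51.RegImmCompKind
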