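import Mathlib
import Groth.Agent.Lib.Helper51.RegImmCompKind
import Groth.Agent.S2104
import Groth.Agent.S2105
import Groth.Prelude.Def_AlgSpMor6

/-!
# Append properties for `H_1`-regular and quasi-regular sequences, list form (helper51)
-/

set_option autoImplicit false
universe u

namespace Groth.Agent.Lib.Helper51.RegImmCompKind

open Groth.Agent.Lib.Helper10.RegSeqFlat

section

variable {A B : Type u} [CommRing A] [CommRing B]

omit [CommRing A] in
lemma get_append_eq (fs gs : List A) :
    (fs ++ gs).get = fun i : Fin (fs ++ gs).length =>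
      Fin.append fs.get gs.get (Fin.cast (List.length_append) i) := by
  funext i
  obtain ⟨i, hi⟩ := i
  by_cases h : i < fs.length
  · have h1 : (Fin.cast (List.length_append (as := fs) (bs := gs)) ⟨i, hi⟩) =
        Fin.castAdd gs.length ⟨i, h⟩ := rfl
    rw [h1, Fin.append_left]
    simp [List.getElem_append_left h]
  · have h' : fs.length ≤ i := not_lt.mp h
    have hi' : i - fs.length < gs.length := by
      rw [List.length_append] at hi
      omega
    have h1 : (Fin.cast (List.length_append (as := fs) (bs := gs)) ⟨i, hi⟩) =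
        Fin.natAdd fs.length ⟨i - fs.length, hi'⟩ := by
      ext
      simp
      omega
    rw [h1, Fin.append_right]
    simp [List.getElem_append_right h']

/-- the quotient by `ker φ`, for `ker φ = (fs)`, as a ring isomorphic to the target. -/
lemma exists_equiv_quotient (φ : A →+* B) (hφ : Function.Surjective φ) (fs : List A)
    (hker : RingHom.ker φ = Ideal.ofList fs) :
    ∃ e : B ≃+* A ⧸ Ideal.span (Set.range fs.get), ∀ a : A,
      e (φ a) = Ideal.Quotient.mk (Ideal.span (Set.range fs.get)) a := by
  have hspan : Ideal.span (Set.range fs.get) = RingHom.ker φ := by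
    rw [hker]
    unfold Ideal.ofList
    congr 1
    ext x
    simp [List.mem_iff_get]
  let e₁ : A ⧸ RingHom.ker φ ≃+* B := RingHom.quotientKerEquivOfSurjective hφ
  let e₂ : A ⧸ Ideal.span (Set.range fs.get) ≃+* A ⧸ RingHom.ker φ := Ideal.quotEquivOfEq hspan
  refine ⟨(e₂.trans e₁).symm, fun a => ?_⟩
  rw [RingEquiv.symm_apply_eq]
  simp [e₁, e₂]

theorem appendProp_h1 : AppendProp.{u} RegImm.Kind.h1 RegImm.Kind.h1 RegImm.Kind.h1 := by
  intro A B _ _ φ hφ fs gs hker hfs hgs
  obtain ⟨e, he⟩ := exists_equiv_quotient φ hφ fs hker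
  have hfs' : CAlgX.IsH1Regular fs.get := hfs
  have hgs' : CAlgX.IsH1Regular (gs.map φ).get := hgs
  have hflat : (e : B →+* A ⧸ Ideal.span (Set.range fs.get)).Flat :=
    RingHom.Flat.of_bijective (f := (e : B →+* A ⧸ Ideal.span (Set.range fs.get))) e.bijective
  have h1 := isH1Regular_map (e : B →+* A ⧸ Ideal.span (Set.range fs.get)) hflat _ hgs'
  have h2 : CAlgX.IsH1Regular
      (fun j => Ideal.Quotient.mk (Ideal.span (Set.range fs.get)) (gs.get j)) := by
    have h3 := isH1Regular_cast (List.length_map φ).symm _ h1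
    convert h3 using 2
    rename_i j
    simp [he]
  have h4 := Groth.Agent.S2105.result fs.get gs.get hfs' h2
  show CAlgX.IsH1Regular (fs ++ gs).get
  rw [get_append_eq]
  exact isH1Regular_cast List.length_append _ h4

theorem appendProp_h1_quasi :
    AppendProp.{u} RegImm.Kind.h1 RegImm.Kind.quasi RegImm.Kind.quasi := by
  intro A B _ _ φ hφ fs gs hker hfs hgs
  obtain ⟨e, he⟩ := exists_equiv_quotient φ hφ fs hker
  have hfs' : CAlgX.IsQuasiRegular fs.get := hfs
  have hgs' : CAlgX.IsH1Regular (gs.map φ).get := hgs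
  have hflat : (e : B →+* A ⧸ Ideal.span (Set.range fs.get)).Flat :=
    RingHom.Flat.of_bijective (f := (e : B →+* A ⧸ Ideal.span (Set.range fs.get))) e.bijective
  have h1 := isH1Regular_map (e : B →+* A ⧸ Ideal.span (Set.range fs.get)) hflat _ hgs'
  have h2 : CAlgX.IsH1Regular
      (fun j => Ideal.Quotient.mk (Ideal.span (Set.range fs.get)) (gs.get j)) := by
    have h3 := isH1Regular_cast (List.length_map φ).symm _ h1
    convert h3 using 2
    rename_i j
    simp [he]
  have h4 := Groth.Agent.S2104.result fs.get gs.get hfs' h2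
  show CAlgX.IsQuasiRegular (fs ++ gs).get
  rw [get_append_eq]
  exact isQuasiRegular_cast List.length_append _ h4

end

end Groth.Agent.Lib.Helper51.RegImmCompKind

namespace Groth.Agent.Lib.Helper51.RegImmCompKind

open CategoryTheory CategoryTheory.Limits AlgebraicGeometry AlgSp

/-- composition of regular immersions of kinds with the append property (scheme level). -/
theorem isRegularImmersion_comp_kind {k₁ k₂ k₃ : RegImm.Kind} (happ : AppendProp.{u} k₁ k₂ k₃)
    {X Y Z : Scheme.{u}} (i : Y ⟶ X) (j : Z ⟶ Y) (hi : RegImm.IsRegularImmersion k₂ i)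
    (hj : RegImm.IsRegularImmersion k₁ j) : RegImm.IsRegularImmersion k₃ (j ≫ i) := by
  have := hi.1
  have := hj.1
  exact ⟨inferInstance, fun z => comp_at_kind happ i j z (hi.2 (j z)) (hj.2 z)⟩

/-- composition of regular immersions of algebraic spaces, given the scheme-level composition. -/
theorem repLocT_regImm_comp {S : Scheme.{u}} {k₁ k₂ k₃ : RegImm.Kind}
    (hcomp : ∀ {X Y Z : Scheme.{u}} (i : Y ⟶ X) (j : Z ⟶ Y), RegImm.IsRegularImmersion k₂ i →
      RegImm.IsRegularImmersion k₁ j → RegImm.IsRegularImmersion k₃ (j ≫ i))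
    {F G H : Sp S} (i : F ⟶ G) (j : G ⟶ H) (hi : RepLocT (regImm k₁) i)
    (hj : RepLocT (regImm k₂) j) : RepLocT (regImm k₃) (i ≫ j) := by
  refine ⟨MorphismProperty.comp_mem _ _ _ hi.1 hj.1, fun V W b fst snd hb sq => ?_⟩
  have hrepj := hj.1
  have sqj := hrepj.isPullback b
  have hb' : RepWith @Etale (hrepj.fst b) := MorphismProperty.of_isPullback sqj.flip hb
  obtain ⟨r, hr⟩ := (yon S).map_surjective (sqj.lift (fst ≫ i) ((yon S).map snd)
    (by rw [Category.assoc]; exact sq.w))
  have hr1 : (yon S).map r ≫ hrepj.fst b = fst ≫ i := by rw [hr, sqj.lift_fst]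
  have hr2 : r ≫ hrepj.snd b = snd := by
    apply (yon S).map_injective
    rw [Functor.map_comp, hr, sqj.lift_snd]
  have top : IsPullback fst ((yon S).map r) i (hrepj.fst b) := by
    refine IsPullback.of_bot ?_ hr1.symm sqj
    rw [← Functor.map_comp, hr2]
    exact sq
  have h1 : RegImm.IsRegularImmersion k₁ r.left := hi.2 (hrepj.fst b) fst r hb' top
  have h2 : RegImm.IsRegularImmersion k₂ (hrepj.snd b).left :=
    hj.2 b (hrepj.fst b) (hrepj.snd b) hb sqj
  show RegImm.IsRegularImmersion k₃ snd.left
  rw [← hr2, Over.comp_left]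
  exact hcomp _ _ h2 h1

end Groth.Agent.Lib.Helper51.RegImmCompKind
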