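import Mathlib
import Groth.Prelude.Def_RegImm
import Groth.Agent.Lib.Helper10.RegImmDescent
import Groth.Agent.Lib.Helper10.RegDescentKoszul
import Groth.Agent.Lib.Helper10.RegDescentQuasi
import Groth.Agent.Lib.Helper10.RegDescentH1
import Groth.Agent.Lib.Helper1.AffineAndDescent

/-!
# Descent of regular immersions along flat surjective universally open morphisms (helper51)

No quasi-compactness of the covering morphism and no a priori immersion hypothesis on the
morphism downstairs: both the immersion property and the regularity of the ideal descend.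
-/

set_option autoImplicit false
set_option linter.style.haveILetI false
set_option linter.unusedSectionVars false

universe u

namespace Groth.Agent.Lib.Helper51.RegImmEtaleDescent

open AlgebraicGeometry CategoryTheory CategoryTheory.Limits
open Groth.Agent.Lib.Helper10.RegDescent Groth.Agent.Lib.Helper10.RegImmBaseChange
open Groth.Agent.Lib.Helper10.RegImmDescent

variable {X Y X' Y' : Scheme.{u}}

instance : MorphismProperty.RespectsRight @IsImmersion @IsOpenImmersion where
  postcomp i hi f hf := by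
    have : IsOpenImmersion i := hi
    have : IsImmersion f := hf
    infer_instance

/-- a morphism which is, around every point of the source, a closed immersion over an open of the
target is an immersion. -/
theorem isImmersion_of_forall_isClosedImmersion_restrict (i : Y ⟶ X)
    (h : ∀ z : Y, ∃ U : X.Opens, i z ∈ U ∧ IsClosedImmersion (i ∣_ U)) : IsImmersion i := by
  choose U hzU hcl using h
  refine IsZariskiLocalAtTarget.of_range_subset_iSup (P := @IsImmersion) U ?_ (fun z => ?_)
  · rintro _ ⟨z, rfl⟩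
    exact TopologicalSpace.Opens.mem_iSup.mpr ⟨z, hzU z⟩
  · have := hcl z
    infer_instance

variable {K : Kind.{u}}

/-- descent of local generating data of kind `K` along a flat surjective universally open
morphism (no quasi-compactness, no a priori immersion hypothesis downstairs). -/
theorem hasDataAt_descent_of_universallyOpen (i : Y ⟶ X) (g : X' ⟶ X) [Flat g] [Surjective g]
    [UniversallyOpen g] (i' : Y' ⟶ X') [IsImmersion i'] (g' : Y' ⟶ Y)
    (hsq : IsPullback g' i' i g) (hi' : ∀ y', HasDataAt K i' y') (z : Y) : HasDataAt K i z := by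
  -- a point of `Y'` above `z`
  obtain ⟨x', hx'⟩ := ‹Surjective g›.surj (i z)
  obtain ⟨y', hy'z, hy'x'⟩ : ∃ y' : Y', g' y' = z ∧ i' y' = x' := by
    obtain ⟨w, hw1, hw2⟩ := Scheme.Pullback.exists_preimage_pullback (f := i) (g := g) z x' hx'.symm
    refine ⟨hsq.isoPullback.inv w, ?_, ?_⟩
    · rw [← Scheme.Hom.comp_apply, hsq.isoPullback_inv_fst, hw1]
    · rw [← Scheme.Hom.comp_apply, hsq.isoPullback_inv_snd, hw2]
  -- an affine open of `X'` over which `i'` is closed
  obtain ⟨U'', hx'U'', hcl''⟩ := exists_affine_isClosedImmersion_restrict i' y'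
  rw [hy'x'] at hx'U''
  -- an affine open of `X` around `i z`
  obtain ⟨_, ⟨U₁, hU₁, rfl⟩, hzU₁, -⟩ := X.isBasis_affineOpens.exists_subset_of_mem_open
    (Set.mem_univ (i z)) isOpen_univ
  -- a basic open of `U''` inside the preimage of `U₁`
  have hx'mem : x' ∈ g ⁻¹ᵁ U₁ ⊓ U''.1 := ⟨by show g x' ∈ U₁; rw [hx']; exact hzU₁, hx'U''⟩
  obtain ⟨f, hfle, hx'f⟩ := U''.2.exists_basicOpen_le (V := g ⁻¹ᵁ U₁ ⊓ U''.1) ⟨x', hx'mem⟩ hx'U''
  have hDf : IsAffineOpen (X'.basicOpen f) := U''.2.basicOpen f
  -- its image is open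
  let U₂ : X.Opens := ⟨g '' (X'.basicOpen f : Set X'), g.isOpenMap _ (X'.basicOpen f).2⟩
  have hzU₂ : i z ∈ U₂ := ⟨x', hx'f, hx'⟩
  obtain ⟨a, hale, hza⟩ := hU₁.exists_basicOpen_le (V := U₂) ⟨i z, hzU₂⟩ hzU₁
  have hU₀ : IsAffineOpen (X.basicOpen a) := hU₁.basicOpen a
  -- the affine open upstairs
  have hle1 : X'.basicOpen f ≤ g ⁻¹ᵁ U₁ := hfle.trans inf_le_left
  let s : Γ(X', X'.basicOpen f) := X'.presheaf.map (homOfLE hle1).op (g.app U₁ a)
  have hT₀eq : X'.basicOpen s = X'.basicOpen f ⊓ g ⁻¹ᵁ X.basicOpen a := by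
    rw [Scheme.basicOpen_res, Scheme.Hom.preimage_basicOpen]
  have hT₀ : IsAffineOpen (X'.basicOpen s) := hDf.basicOpen s
  have e : X'.basicOpen s ≤ g ⁻¹ᵁ X.basicOpen a := by rw [hT₀eq]; exact inf_le_right
  have hleU'' : X'.basicOpen s ≤ U''.1 := by
    rw [hT₀eq]; exact inf_le_left.trans (hfle.trans inf_le_right)
  have hclT : IsClosedImmersion (i' ∣_ X'.basicOpen s) :=
    (restrictData i' U''.2 hT₀ hleU'' hcl'').1
  -- surjectivity onto `U₀`
  have hsurj : ∀ x ∈ X.basicOpen a, ∃ t ∈ X'.basicOpen s, g t = x := by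
    intro x hx
    obtain ⟨t, ht, rfl⟩ := hale hx
    exact ⟨t, by rw [hT₀eq]; exact ⟨ht, hx⟩, rfl⟩
  -- the restricted square
  have hres := isPullback_restrict hsq e
  have hsurj' : Surjective (g.resLE (X.basicOpen a) (X'.basicOpen s) e) := by
    refine ⟨fun x => ?_⟩
    obtain ⟨t, ht, htx⟩ := hsurj x.1 x.2
    refine ⟨⟨t, ht⟩, ?_⟩
    apply Subtype.ext
    rw [Scheme.Hom.coe_resLE_apply]
    exact htx
  have hqc' : QuasiCompact (g.resLE (X.basicOpen a) (X'.basicOpen s) e) := by
    have : IsAffine (X.basicOpen a).toScheme := hU₀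
    have : IsAffine (X'.basicOpen s).toScheme := hT₀
    infer_instance
  have hcl₀ : IsClosedImmersion (i ∣_ X.basicOpen a) := by
    have := Groth.Agent.Lib.Helper1.descendsAlong_isClosedImmersion_fpqc.{u}
    exact MorphismProperty.of_isPullback_of_descendsAlong (P := @IsClosedImmersion)
      (Q := (@Surjective ⊓ @Flat ⊓ @QuasiCompact : MorphismProperty Scheme.{u}))
      hres.flip ⟨⟨hsurj', inferInstance⟩, hqc'⟩ hclT
  -- descent of the generators
  refine hasDataAt_of_isLoc i hU₀ hcl₀ ?_ z hza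
  apply isLoc_of_flat_family (ι := PUnit.{u+1}) (fun _ => Γ(X', X'.basicOpen s)) _
    (fun _ => (g.appLE (X.basicOpen a) (X'.basicOpen s) e).hom)
  · intro _
    exact Flat.flat_appLE g hU₀ hT₀ e
  · intro 𝔭
    obtain ⟨t, ht, htx⟩ := hsurj (hU₀.fromSpec 𝔭) (fromSpec_mem hU₀ 𝔭)
    refine ⟨PUnit.unit, hT₀.primeIdealOf ⟨t, ht⟩, ?_⟩
    have h1 := IsAffineOpen.comap_primeIdealOf_appLE (f := g) (X.basicOpen a) hU₀
      (X'.basicOpen s) hT₀ e ht
    refine h1.trans ?_
    have h2 : (⟨g t, e ht⟩ : (X.basicOpen a : X.Opens)) =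
        ⟨hU₀.fromSpec 𝔭, fromSpec_mem hU₀ 𝔭⟩ := Subtype.ext htx
    rw [h2]
    exact primeIdealOf_fromSpec hU₀ 𝔭 _
  · intro _
    rw [← ker_app_eq_map hsq hU₀ hT₀ e hcl₀]
    exact isLoc_ker i' hi' hT₀ hclT

/-- local data at every point implies immersion. -/
theorem isImmersion_of_hasDataAt (i : Y ⟶ X) (h : ∀ z, HasDataAt K i z) : IsImmersion i :=
  isImmersion_of_forall_isClosedImmersion_restrict i fun z => by
    obtain ⟨U, hz, hcl, -⟩ := h z
    exact ⟨U.1, hz, hcl⟩

/-- Descent of regular immersions of kind Koszul, `H_1` or quasi along a flat surjective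
universally open morphism (for instance a surjective etale or fppf morphism). -/
theorem isRegularImmersion_descent (k : RegImm.Kind) (hk : k ≠ RegImm.Kind.regular)
    (i : Y ⟶ X) (g : X' ⟶ X) [Flat g] [Surjective g] [UniversallyOpen g] (i' : Y' ⟶ X')
    (g' : Y' ⟶ Y) (hsq : IsPullback g' i' i g) (h : RegImm.IsRegularImmersion k i') :
    RegImm.IsRegularImmersion k i := by
  have := h.1
  cases k with
  | regular => exact absurd rfl hk
  | koszul =>
    have hd := hasDataAt_descent_of_universallyOpen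
      (K := Groth.Agent.Lib.Helper10.RegDescentKoszul.koszulKind) i g i' g' hsq (fun y' => h.2 y')
    exact ⟨isImmersion_of_hasDataAt i hd, hd⟩
  | h1 =>
    have hd := hasDataAt_descent_of_universallyOpen
      (K := Groth.Agent.Lib.Helper10.RegDescentH1.h1Kind) i g i' g' hsq (fun y' => h.2 y')
    exact ⟨isImmersion_of_hasDataAt i hd, hd⟩
  | quasi =>
    have hd := hasDataAt_descent_of_universallyOpen
      (K := Groth.Agent.Lib.Helper10.RegDescentQuasi.quasiKind) i g i' g' hsq (fun y' => h.2 y')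
    exact ⟨isImmersion_of_hasDataAt i hd, hd⟩

end Groth.Agent.Lib.Helper51.RegImmEtaleDescent
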