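import Mathlib
import Groth.Prelude.Def_AlgSpMor6
import Groth.Agent.Lib.Helper51.RegImmEtaleDescent
import Groth.Agent.Lib.Helper10.RegSeqFlat
import Groth.Agent.Lib.Helper51.AlgSpBasic

/-!
# Flat base change of regular immersions of algebraic spaces (helper51)
-/

set_option autoImplicit false
set_option linter.style.haveILetI false

universe u

namespace Groth.Agent.Lib.Helper51.RegImmFlatBCSp

open CategoryTheory CategoryTheory.Limits AlgebraicGeometry AlgSp

variable {S : Scheme.{u}}

/-- flat base change of regular immersions of kind Koszul, `H_1`, quasi, for sheaves with an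
etale atlas on the base. -/
theorem repLocT_regImm_flat_baseChange (k : RegImm.Kind) (hk : k ≠ RegImm.Kind.regular)
    {Z X X' P : Sp S} (hX : IsAlgSpace X) (i : Z ⟶ X) (g : X' ⟶ X)
    (hi : RepLocT (regImm k) i) (hg : LocP @Flat g) (fst : P ⟶ Z) (i' : P ⟶ X')
    (sq : IsPullback fst i' i g) : RepLocT (regImm k) i' := by
  refine ⟨MorphismProperty.of_isPullback sq hi.1, fun V W b fst' snd hb sq' => ?_⟩
  obtain ⟨U, a, ha1, ha2⟩ := hX.atlas
  have hrepa := ha1.rep
  have sqa := hrepa.isPullback (b ≫ g)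
  obtain ⟨h, hh⟩ := (yon S).map_surjective (hrepa.fst (b ≫ g))
  rw [← hh] at sqa
  have hpe : Etale (hrepa.snd (b ≫ g)).left := ha1.property_snd (b ≫ g)
  have hps : Surjective (hrepa.snd (b ≫ g)).left := ha2.2 (b ≫ g) _ _ (hrepa.isPullback (b ≫ g))
  -- flatness of the chart map
  have hchart : RepWith @Etale ((yon S).map (hrepa.snd (b ≫ g)) ≫ b) :=
    MorphismProperty.comp_mem _ _ _ ((repWith_yon_map_iff _ _).2 hpe) hb
  have hflat : Flat h.left := hg _ a h hchart ha1 (by rw [Category.assoc, sqa.w])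
  -- the regular immersion over the atlas
  have hrepi := hi.1
  have sqi := hrepi.isPullback a
  have hj : RegImm.IsRegularImmersion k (hrepi.snd a).left :=
    hi.2 a (hrepi.fst a) (hrepi.snd a) ha1 sqi
  -- the fibre product upstairs
  have sq2 := IsPullback.of_hasPullback snd (hrepa.snd (b ≫ g))
  have big : IsPullback (((yon S).map (pullback.fst snd (hrepa.snd (b ≫ g))) ≫ fst') ≫ fst)
      ((yon S).map (pullback.snd snd (hrepa.snd (b ≫ g)))) i
      (((yon S).map (hrepa.snd (b ≫ g)) ≫ b) ≫ g) :=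
    ((sq2.map (yon S)).paste_horiz sq').paste_horiz sq
  have hbot : ((yon S).map (hrepa.snd (b ≫ g)) ≫ b) ≫ g = (yon S).map h ≫ a := by
    rw [Category.assoc, sqa.w]
  rw [hbot] at big
  obtain ⟨r, hr⟩ := (yon S).map_surjective (sqi.lift
    (((yon S).map (pullback.fst snd (hrepa.snd (b ≫ g))) ≫ fst') ≫ fst)
    ((yon S).map (pullback.snd snd (hrepa.snd (b ≫ g))) ≫ (yon S).map h) (by
    rw [Category.assoc]; exact big.w) :
      (yon S).obj (pullback snd (hrepa.snd (b ≫ g))) ⟶ (yon S).obj (hrepi.pullback a))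
  have hr1 : (yon S).map r ≫ hrepi.fst a =
      ((yon S).map (pullback.fst snd (hrepa.snd (b ≫ g))) ≫ fst') ≫ fst := by
    rw [hr, sqi.lift_fst]
  have hr2 : r ≫ hrepi.snd a = pullback.snd snd (hrepa.snd (b ≫ g)) ≫ h := by
    apply (yon S).map_injective
    rw [Functor.map_comp, hr, sqi.lift_snd, Functor.map_comp]
  have left : IsPullback ((yon S).map r) ((yon S).map (pullback.snd snd (hrepa.snd (b ≫ g))))
      ((yon S).map (hrepi.snd a)) ((yon S).map h) := by
    refine IsPullback.of_right ?_ ?_ sqi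
    · rw [hr1]; exact big
    · rw [← Functor.map_comp, ← Functor.map_comp, hr2]
  have sqS : IsPullback r (pullback.snd snd (hrepa.snd (b ≫ g))) (hrepi.snd a) h :=
    IsPullback.of_map (yon S) hr2 left
  have hbc : RegImm.IsRegularImmersion k (pullback.snd snd (hrepa.snd (b ≫ g))).left :=
    Groth.Agent.Lib.Helper10.RegImmBaseChange.isRegularImmersion_of_isPullback k
      (g := h.left) (sqS.map (Over.forget S))
      (fun φ hφ rs hrs hne => Groth.Agent.Lib.Helper10.RegSeqFlat.kindSeq_map φ k hφ rs hrs hne) hj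
  have : Flat (hrepa.snd (b ≫ g)).left := inferInstance
  have : UniversallyOpen (hrepa.snd (b ≫ g)).left := inferInstance
  exact Groth.Agent.Lib.Helper51.RegImmEtaleDescent.isRegularImmersion_descent k hk snd.left
    (hrepa.snd (b ≫ g)).left _ _ (sq2.map (Over.forget S)) hbc

end Groth.Agent.Lib.Helper51.RegImmFlatBCSp
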