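import Groth.Agent.Lib.Helper51.RelFPSch
import Groth.Agent.Lib.Helper16.FlatPull.Chart

/-!
# Relative finite presentation and base change (helper51)

* `RelFPRing.relFP_baseChange_of_productMap`: ring-level base change, for any finitely presented
  algebra `B` over the tensor product `A ⊗[R] R'`;
* `finitePresentation_productMap`: affine opens of a fibre product are of finite presentation over
  the tensor product of the rings of the affine opens they lie over;
* `relFPOn_baseChange`, `isRelFP_baseChange`: base change of relative finite presentation.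
-/

set_option autoImplicit false
set_option linter.style.haveILetI false
universe u

namespace Groth.Agent.Lib.Helper51.RelFPRing

open TensorProduct

attribute [local instance] Algebra.TensorProduct.rightAlgebra

/-- Base change of relative finite presentation, in a form adapted to open subschemes of fibre
products: `B` is any `A ⊗[R] R'`-algebra of finite presentation. -/
theorem relFP_baseChange_of_productMap {R A R' B : Type u} [CommRing R] [CommRing A] [CommRing R']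
    [CommRing B] [Algebra R A] [Algebra R R'] [Algebra A B] [Algebra R' B] [Algebra R B]
    [IsScalarTower R A B] [IsScalarTower R R' B]
    (hθ : (Algebra.TensorProduct.productMap (IsScalarTower.toAlgHom R A B)
      (IsScalarTower.toAlgHom R R' B) : A ⊗[R] R' →+* B).FinitePresentation)
    {M : Type u} [AddCommGroup M] [Module A M]
    {N : Type u} [AddCommGroup N] [Module B N] [Module A N] [IsScalarTower A B N]
    (ψ : M →ₗ[A] N) (hψ : IsBaseChange B ψ)
    (h : FlatCA.RelFinitePresentation R A M) : FlatCA.RelFinitePresentation R' B N := by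
  let θ : A ⊗[R] R' →ₐ[R] B := Algebra.TensorProduct.productMap (IsScalarTower.toAlgHom R A B)
      (IsScalarTower.toAlgHom R R' B)
  -- step 1: base change to `A' = A ⊗[R] R'`
  have hpo : Algebra.IsPushout R A R' (A ⊗[R] R') := TensorProduct.isPushout
  have h1 : FlatCA.RelFinitePresentation R' (A ⊗[R] R') ((A ⊗[R] R') ⊗[A] M) :=
    relFP_baseChange_of_isPushout (R := R) (A := A) (R' := R') (A' := A ⊗[R] R')
      (TensorProduct.mk A (A ⊗[R] R') M 1) (TensorProduct.isBaseChange A M (A ⊗[R] R')) h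
  -- step 2: base change along the finitely presented map `θ : A' → B`
  let algθ : Algebra (A ⊗[R] R') B := (θ : A ⊗[R] R' →+* B).toAlgebra
  have t1 : IsScalarTower R' (A ⊗[R] R') B := by
    refine IsScalarTower.of_algebraMap_eq fun r' => ?_
    change algebraMap R' B r' = θ (1 ⊗ₜ r')
    simp [θ]
  have t2 : IsScalarTower A (A ⊗[R] R') B := by
    refine IsScalarTower.of_algebraMap_eq fun a => ?_
    change algebraMap A B a = θ (a ⊗ₜ 1)
    simp [θ]
  have hfp : Algebra.FinitePresentation (A ⊗[R] R') B := hθ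
  let mA' : Module (A ⊗[R] R') N := Module.compHom N (θ : A ⊗[R] R' →+* B)
  have t3 : IsScalarTower (A ⊗[R] R') B N := IsScalarTower.of_compHom _ _ _
  have t4 : IsScalarTower A (A ⊗[R] R') N := ⟨fun a x n => by
    change θ (a • x) • n = a • (θ x • n)
    rw [Algebra.smul_def, map_mul, mul_smul]
    have : θ (algebraMap A (A ⊗[R] R') a) = algebraMap A B a := by
      change θ (a ⊗ₜ 1) = _
      simp [θ]
    rw [this, algebraMap_smul]⟩
  let hb := TensorProduct.isBaseChange A M (A ⊗[R] R')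
  let ψ' : (A ⊗[R] R') ⊗[A] M →ₗ[A ⊗[R] R'] N := hb.lift ψ
  have hψ' : IsBaseChange B ψ' := by
    apply IsBaseChange.of_comp hb
    have : (ψ'.restrictScalars A) ∘ₗ (TensorProduct.mk A (A ⊗[R] R') M 1) = ψ := hb.lift_comp ψ
    rw [this]
    exact hψ
  exact relFP_of_isBaseChange (R := R') (A := A ⊗[R] R') (A' := B) ψ' hψ' h1

end Groth.Agent.Lib.Helper51.RelFPRing

open AlgebraicGeometry CategoryTheory Limits TopologicalSpace Opposite TensorProduct

namespace Groth.Agent.Lib.Helper51.RelFPSch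

open Groth.Agent.Lib.Helper51.RelFPRing

theorem appLE_eq_of_eq {X Y : Scheme.{u}} {f₁ f₂ : X ⟶ Y} (e : f₁ = f₂) (U : Y.Opens) (V : X.Opens)
    (h₁ : V ≤ f₁ ⁻¹ᵁ U) (h₂ : V ≤ f₂ ⁻¹ᵁ U) : f₁.appLE U V h₁ = f₂.appLE U V h₂ := by
  subst e
  rfl

variable {X S X' S' : Scheme.{u}} {f : X ⟶ S} {g : S' ⟶ S} {f' : X' ⟶ S'} {g' : X' ⟶ X}

/-- For affine opens of a cartesian square lying over each other, the ring of the affine open of
the fibre product is of finite presentation over the tensor product of the other rings. -/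
theorem finitePresentation_productMap (hc : IsPullback g' f' f g)
    {U : X.Opens} (hU : IsAffineOpen U) {V : S.Opens} (hV : IsAffineOpen V)
    {V' : S'.Opens} (hV' : IsAffineOpen V') {U' : X'.Opens} (hU' : IsAffineOpen U')
    (hUV : U ≤ f ⁻¹ᵁ V) (hV'V : V' ≤ g ⁻¹ᵁ V) (hU'U : U' ≤ g' ⁻¹ᵁ U) (hU'V' : U' ≤ f' ⁻¹ᵁ V') :
    letI : Algebra Γ(S, V) Γ(X, U) := (f.appLE V U hUV).hom.toAlgebra
    letI : Algebra Γ(S, V) Γ(S', V') := (g.appLE V V' hV'V).hom.toAlgebra
    letI : Algebra Γ(X, U) Γ(X', U') := (g'.appLE U U' hU'U).hom.toAlgebra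
    letI : Algebra Γ(S', V') Γ(X', U') := (f'.appLE V' U' hU'V').hom.toAlgebra
    letI : Algebra Γ(S, V) Γ(X', U') :=
      ((g'.appLE U U' hU'U).hom.comp (f.appLE V U hUV).hom).toAlgebra
    ∀ (_ : IsScalarTower Γ(S, V) Γ(X, U) Γ(X', U')) (_ : IsScalarTower Γ(S, V) Γ(S', V') Γ(X', U')),
    (Algebra.TensorProduct.productMap (IsScalarTower.toAlgHom Γ(S, V) Γ(X, U) Γ(X', U'))
      (IsScalarTower.toAlgHom Γ(S, V) Γ(S', V') Γ(X', U')) :
        Γ(X, U) ⊗[Γ(S, V)] Γ(S', V') →+* Γ(X', U')).FinitePresentation := by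
  intro t1 t2
  letI a1 : Algebra Γ(S, V) Γ(X, U) := (f.appLE V U hUV).hom.toAlgebra
  letI a2 : Algebra Γ(S, V) Γ(S', V') := (g.appLE V V' hV'V).hom.toAlgebra
  letI a3 : Algebra Γ(X, U) Γ(X', U') := (g'.appLE U U' hU'U).hom.toAlgebra
  letI a4 : Algebra Γ(S', V') Γ(X', U') := (f'.appLE V' U' hU'V').hom.toAlgebra
  letI a5 : Algebra Γ(S, V) Γ(X', U') :=
    ((g'.appLE U U' hU'U).hom.comp (f.appLE V U hUV).hom).toAlgebra
  let θ : Γ(X, U) ⊗[Γ(S, V)] Γ(S', V') →ₐ[Γ(S, V)] Γ(X', U') :=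
    Algebra.TensorProduct.productMap (IsScalarTower.toAlgHom Γ(S, V) Γ(X, U) Γ(X', U'))
      (IsScalarTower.toAlgHom Γ(S, V) Γ(S', V') Γ(X', U'))
  have e₁ : Spec.map (CommRingCat.ofHom (algebraMap Γ(S, V) Γ(X, U))) ≫ hV.fromSpec =
      hU.fromSpec ≫ f := hV.SpecMap_appLE_fromSpec f hU hUV
  have e₂ : Spec.map (CommRingCat.ofHom (algebraMap Γ(S, V) Γ(S', V'))) ≫ hV.fromSpec =
      hV'.fromSpec ≫ g := hV.SpecMap_appLE_fromSpec g hV' hV'V
  let ι := pullback.map (Spec.map (CommRingCat.ofHom (algebraMap Γ(S, V) Γ(X, U))))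
    (Spec.map (CommRingCat.ofHom (algebraMap Γ(S, V) Γ(S', V')))) f g
    hU.fromSpec hV'.fromSpec hV.fromSpec e₁ e₂
  let κ : Spec (.of (Γ(X, U) ⊗[Γ(S, V)] Γ(S', V'))) ⟶ X' :=
    (pullbackSpecIso Γ(S, V) Γ(X, U) Γ(S', V')).inv ≫ ι ≫ hc.isoPullback.inv
  have hκ : IsOpenImmersion κ := inferInstance
  have key : Spec.map (CommRingCat.ofHom (θ : Γ(X, U) ⊗[Γ(S, V)] Γ(S', V') →+* Γ(X', U'))) ≫ κ =
      hU'.fromSpec := by
    apply hc.hom_ext
    · have h1 : κ ≫ g' = Spec.map (CommRingCat.ofHom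
          (Algebra.TensorProduct.includeLeftRingHom :
            Γ(X, U) →+* Γ(X, U) ⊗[Γ(S, V)] Γ(S', V'))) ≫ hU.fromSpec := by
        simp only [κ, ι, Category.assoc, IsPullback.isoPullback_inv_fst, pullback.lift_fst,
          pullback.map]
        rw [pullbackSpecIso_inv_fst_assoc]
      rw [Category.assoc, h1, ← Spec.map_comp_assoc, ← hU.SpecMap_appLE_fromSpec g' hU' hU'U]
      congr 2
      ext a
      change θ (a ⊗ₜ 1) = algebraMap Γ(X, U) Γ(X', U') a
      simp [θ]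
    · have h2 : κ ≫ f' = Spec.map (CommRingCat.ofHom
          (RingHomClass.toRingHom (Algebra.TensorProduct.includeRight :
            Γ(S', V') →ₐ[Γ(S, V)] Γ(X, U) ⊗[Γ(S, V)] Γ(S', V')))) ≫ hV'.fromSpec := by
        simp only [κ, ι, Category.assoc, IsPullback.isoPullback_inv_snd, pullback.lift_snd,
          pullback.map]
        rw [pullbackSpecIso_inv_snd_assoc]
      rw [Category.assoc, h2, ← Spec.map_comp_assoc, ← hV'.SpecMap_appLE_fromSpec f' hU' hU'V']
      congr 2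
      ext a
      change θ (1 ⊗ₜ a) = algebraMap Γ(S', V') Γ(X', U') a
      simp [θ]
  have hoi : IsOpenImmersion
      (Spec.map (CommRingCat.ofHom (θ : Γ(X, U) ⊗[Γ(S, V)] Γ(S', V') →+* Γ(X', U')))) := by
    have : IsOpenImmersion (Spec.map (CommRingCat.ofHom
        (θ : Γ(X, U) ⊗[Γ(S, V)] Γ(S', V') →+* Γ(X', U'))) ≫ κ) := by
      rw [key]; infer_instance
    exact IsOpenImmersion.of_comp _ κ
  have hlfp : LocallyOfFinitePresentation
      (Spec.map (CommRingCat.ofHom (θ : Γ(X, U) ⊗[Γ(S, V)] Γ(S', V') →+* Γ(X', U')))) :=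
    inferInstance
  exact (HasRingHomProperty.Spec_iff (P := @LocallyOfFinitePresentation)).mp hlfp

/-- Base change of relative finite presentation on affine opens lying over each other. -/
theorem relFPOn_baseChange (hc : IsPullback g' f' f g) (F : X.Modules)
    [SheafOfModules.IsQuasicoherent.{u, u, u} F]
    (U : X.affineOpens) (V : S.affineOpens) (V' : S'.affineOpens) (U' : X'.affineOpens)
    (hUV : (U : X.Opens) ≤ f ⁻¹ᵁ (V : S.Opens)) (hV'V : (V' : S'.Opens) ≤ g ⁻¹ᵁ (V : S.Opens))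
    (hU'U : (U' : X'.Opens) ≤ g' ⁻¹ᵁ (U : X.Opens))
    (hU'V' : (U' : X'.Opens) ≤ f' ⁻¹ᵁ (V' : S'.Opens))
    (h : Flatn.RelFPOn f F U V hUV) :
    Flatn.RelFPOn f' ((Scheme.Modules.pullback g').obj F) U' V' hU'V' := by
  unfold Flatn.RelFPOn at h ⊢
  letI a1 : Algebra Γ(S, (V : S.Opens)) Γ(X, (U : X.Opens)) :=
    (f.appLE (V : S.Opens) (U : X.Opens) hUV).hom.toAlgebra
  letI a2 : Algebra Γ(S, (V : S.Opens)) Γ(S', (V' : S'.Opens)) :=
    (g.appLE (V : S.Opens) (V' : S'.Opens) hV'V).hom.toAlgebra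
  letI a3 : Algebra Γ(X, (U : X.Opens)) Γ(X', (U' : X'.Opens)) :=
    (g'.appLE (U : X.Opens) (U' : X'.Opens) hU'U).hom.toAlgebra
  letI a4 : Algebra Γ(S', (V' : S'.Opens)) Γ(X', (U' : X'.Opens)) :=
    (f'.appLE (V' : S'.Opens) (U' : X'.Opens) hU'V').hom.toAlgebra
  letI a5 : Algebra Γ(S, (V : S.Opens)) Γ(X', (U' : X'.Opens)) :=
    ((g'.appLE (U : X.Opens) (U' : X'.Opens) hU'U).hom.comp
      (f.appLE (V : S.Opens) (U : X.Opens) hUV).hom).toAlgebra
  have t1 : IsScalarTower Γ(S, (V : S.Opens)) Γ(X, (U : X.Opens)) Γ(X', (U' : X'.Opens)) :=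
    IsScalarTower.of_algebraMap_eq' rfl
  have t2 : IsScalarTower Γ(S, (V : S.Opens)) Γ(S', (V' : S'.Opens)) Γ(X', (U' : X'.Opens)) := by
    refine IsScalarTower.of_algebraMap_eq' ?_
    change (g'.appLE (U : X.Opens) (U' : X'.Opens) hU'U).hom.comp
        (f.appLE (V : S.Opens) (U : X.Opens) hUV).hom =
      (f'.appLE (V' : S'.Opens) (U' : X'.Opens) hU'V').hom.comp
        (g.appLE (V : S.Opens) (V' : S'.Opens) hV'V).hom
    rw [← CommRingCat.hom_comp, ← CommRingCat.hom_comp, Scheme.Hom.appLE_comp_appLE,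
      Scheme.Hom.appLE_comp_appLE]
    congr 1
    exact appLE_eq_of_eq hc.w _ _ _ _
  letI mA : Module Γ(X, (U : X.Opens))
      Γ((Scheme.Modules.pullback g').obj F, (U' : X'.Opens)) :=
    Module.compHom _ (g'.appLE (U : X.Opens) (U' : X'.Opens) hU'U).hom
  have t3 : IsScalarTower Γ(X, (U : X.Opens)) Γ(X', (U' : X'.Opens))
      Γ((Scheme.Modules.pullback g').obj F, (U' : X'.Opens)) := IsScalarTower.of_compHom _ _ _
  obtain ⟨ψ, hψ⟩ := Groth.Agent.Lib.Helper16.FlatPull.exists_isBaseChange_sections g' U.2 U'.2 hU'U F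
  have hθ := finitePresentation_productMap hc U.2 V.2 V'.2 U'.2 hUV hV'V hU'U hU'V' t1 t2
  change FlatCA.RelFinitePresentation Γ(S', (V' : S'.Opens)) Γ(X', (U' : X'.Opens))
    Γ((Scheme.Modules.pullback g').obj F, (U' : X'.Opens))
  exact relFP_baseChange_of_productMap (R := Γ(S, (V : S.Opens))) (A := Γ(X, (U : X.Opens)))
    (R' := Γ(S', (V' : S'.Opens))) (B := Γ(X', (U' : X'.Opens))) hθ ψ hψ h

/-- Base change of relative finite presentation. -/
theorem isRelFP_baseChange (hc : IsPullback g' f' f g) [LocallyOfFiniteType f] (F : X.Modules)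
    [SheafOfModules.IsQuasicoherent.{u, u, u} F] (hF : Flatn.IsRelFP f F) :
    Flatn.IsRelFP f' ((Scheme.Modules.pullback g').obj F) := by
  have hq : SheafOfModules.IsQuasicoherent.{u, u, u} ((Scheme.Modules.pullback g').obj F) :=
    Groth.Agent.Lib.Helper16.FlatPull.isQuasicoherent_pullback g' F
  have hf' : LocallyOfFiniteType f' :=
    MorphismProperty.of_isPullback (P := @LocallyOfFiniteType) hc inferInstance
  rw [isRelFP_iff] at hF ⊢
  intro U' V' hU'V'
  apply relFPOn_of_forall_exists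
  intro x' hx'
  -- an affine open `V` of `S` around the image point
  obtain ⟨V, hVaff, hxV, -⟩ :=
    (Opens.isBasis_iff_nbhd.mp S.isBasis_affineOpens) (show g (f' x') ∈ (⊤ : S.Opens) from trivial)
  -- an affine open `V₁'` of `S'` inside `V' ⊓ g⁻¹ V`
  obtain ⟨V₁', hV₁'aff, hxV₁', hV₁'le⟩ :=
    (Opens.isBasis_iff_nbhd.mp S'.isBasis_affineOpens)
      (show f' x' ∈ (V' : S'.Opens) ⊓ g ⁻¹ᵁ V from ⟨hU'V' hx', hxV⟩)
  -- an affine open `U` of `X` inside `f⁻¹ V`
  have hfg : f (g' x') = g (f' x') := by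
    rw [← Scheme.Hom.comp_apply, ← Scheme.Hom.comp_apply, hc.w]
  obtain ⟨U, hUaff, hxU, hUle⟩ :=
    (Opens.isBasis_iff_nbhd.mp X.isBasis_affineOpens)
      (show g' x' ∈ f ⁻¹ᵁ V from by
        change f (g' x') ∈ V
        rw [hfg]; exact hxV)
  -- a basic open of `U'` inside `g'⁻¹ U ⊓ f'⁻¹ V₁'`
  obtain ⟨a, haW, hxa⟩ := U'.2.exists_basicOpen_le
    (V := g' ⁻¹ᵁ U ⊓ f' ⁻¹ᵁ V₁') ⟨x', ⟨hxU, hxV₁'⟩⟩ hx'
  refine ⟨a, hxa, ?_⟩
  have h1 := relFPOn_baseChange hc F ⟨U, hUaff⟩ ⟨V, hVaff⟩ ⟨V₁', hV₁'aff⟩ (X'.affineBasicOpen a)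
    hUle (hV₁'le.trans inf_le_right) (haW.trans inf_le_left) (haW.trans inf_le_right)
    (hF ⟨U, hUaff⟩ ⟨V, hVaff⟩ hUle)
  exact (relFPOn_base_iff f' _ (X'.affineBasicOpen a) ⟨V₁', hV₁'aff⟩ V'
    (hV₁'le.trans inf_le_left) (haW.trans inf_le_right) _).mp h1

end Groth.Agent.Lib.Helper51.RelFPSch
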