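import Groth.Agent.Lib.Helper51.RelFPSch
import Groth.Agent.Lib.Helper42.QCohAffineSections
import Groth.Agent.Lib.Helper45.ModulesExact

/-!
# Relative finite presentation in short exact sequences of quasi-coherent modules (helper51)
-/

set_option autoImplicit false
universe u

open AlgebraicGeometry CategoryTheory Limits TopologicalSpace Opposite

namespace Groth.Agent.Lib.Helper51.RelFPSch

open Groth.Agent.Lib.Helper51.RelFPRing Groth.Agent.Lib.Helper45 Groth.Agent.Lib.Helper42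

variable {X S : Scheme.{u}} (f : X ⟶ S)

theorem relFPOn_of_shortExact (E : ShortComplex X.Modules) (hE : E.ShortExact)
    [SheafOfModules.IsQuasicoherent.{u, u, u} E.X₁] [SheafOfModules.IsQuasicoherent.{u, u, u} E.X₂]
    [SheafOfModules.IsQuasicoherent.{u, u, u} E.X₃]
    (U : X.affineOpens) (V : S.affineOpens) (hUV : (U : X.Opens) ≤ f ⁻¹ᵁ (V : S.Opens))
    (h₁ : Flatn.RelFPOn f E.X₁ U V hUV) (h₃ : Flatn.RelFPOn f E.X₃ U V hUV) :
    Flatn.RelFPOn f E.X₂ U V hUV := by
  unfold Flatn.RelFPOn at h₁ h₃ ⊢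
  let algU : Algebra Γ(S, (V : S.Opens)) Γ(X, (U : X.Opens)) :=
    (f.appLE (V : S.Opens) (U : X.Opens) hUV).hom.toAlgebra
  have := hE.mono_f
  have := hE.epi_g
  change FlatCA.RelFinitePresentation Γ(S, (V : S.Opens)) Γ(X, (U : X.Opens)) Γ(E.X₂, (U : X.Opens))
  exact relFP_of_exact (appₗ E.f (U : X.Opens)) (appₗ E.g (U : X.Opens))
    (app_injective_of_mono E.f (U : X.Opens)) (app_surjective_of_epi E.g U.2)
    (app_exact_of_shortExact E hE (U : X.Opens)) h₁ h₃

theorem relFPOn_of_shortExact_of_isFiniteType (E : ShortComplex X.Modules) (hE : E.ShortExact)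
    [SheafOfModules.IsQuasicoherent.{u, u, u} E.X₁] [SheafOfModules.IsQuasicoherent.{u, u, u} E.X₂]
    [SheafOfModules.IsQuasicoherent.{u, u, u} E.X₃]
    [SheafOfModules.IsFiniteType (R := X.ringCatSheaf) E.X₁]
    (U : X.affineOpens) (V : S.affineOpens) (hUV : (U : X.Opens) ≤ f ⁻¹ᵁ (V : S.Opens))
    (h₂ : Flatn.RelFPOn f E.X₂ U V hUV) :
    Flatn.RelFPOn f E.X₃ U V hUV := by
  unfold Flatn.RelFPOn at h₂ ⊢
  let algU : Algebra Γ(S, (V : S.Opens)) Γ(X, (U : X.Opens)) :=
    (f.appLE (V : S.Opens) (U : X.Opens) hUV).hom.toAlgebra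
  have := hE.mono_f
  have := hE.epi_g
  have hfin : Module.Finite Γ(X, (U : X.Opens)) Γ(E.X₁, (U : X.Opens)) :=
    finite_sections_of_isFiniteType U.2 E.X₁
  change FlatCA.RelFinitePresentation Γ(S, (V : S.Opens)) Γ(X, (U : X.Opens)) Γ(E.X₃, (U : X.Opens))
  exact relFP_of_surjective_of_finite (appₗ E.f (U : X.Opens)) (appₗ E.g (U : X.Opens))
    (app_surjective_of_epi E.g U.2) (app_exact_of_shortExact E hE (U : X.Opens)) h₂

end Groth.Agent.Lib.Helper51.RelFPSch
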