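import Groth.Agent.Lib.Helper51.RelFPSch
import Groth.Agent.Lib.Helper16.FlatPull.Chart

/-!
# Relative finite presentation and pullback along morphisms locally of finite presentation
(helper51)
-/

set_option autoImplicit false
universe u

open AlgebraicGeometry CategoryTheory Limits TopologicalSpace Opposite

namespace Groth.Agent.Lib.Helper51.RelFPSch

open Groth.Agent.Lib.Helper51.RelFPRing Groth.Agent.Lib.Helper45

variable {X Y S : Scheme.{u}} (f : X ⟶ Y) (g : Y ⟶ S)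

theorem relFPOn_pullback [LocallyOfFinitePresentation f] (G : Y.Modules)
    [SheafOfModules.IsQuasicoherent.{u, u, u} G]
    (U : X.affineOpens) (V' : Y.affineOpens) (W : S.affineOpens)
    (hUV' : (U : X.Opens) ≤ f ⁻¹ᵁ (V' : Y.Opens)) (hV'W : (V' : Y.Opens) ≤ g ⁻¹ᵁ (W : S.Opens))
    (hUW : (U : X.Opens) ≤ (f ≫ g) ⁻¹ᵁ (W : S.Opens))
    (h : Flatn.RelFPOn g G V' W hV'W) :
    Flatn.RelFPOn (f ≫ g) ((Scheme.Modules.pullback f).obj G) U W hUW := by
  unfold Flatn.RelFPOn at h ⊢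
  let a1 : Algebra Γ(S, (W : S.Opens)) Γ(Y, (V' : Y.Opens)) :=
    (g.appLE (W : S.Opens) (V' : Y.Opens) hV'W).hom.toAlgebra
  let a2 : Algebra Γ(Y, (V' : Y.Opens)) Γ(X, (U : X.Opens)) :=
    (f.appLE (V' : Y.Opens) (U : X.Opens) hUV').hom.toAlgebra
  let a3 : Algebra Γ(S, (W : S.Opens)) Γ(X, (U : X.Opens)) :=
    ((f ≫ g).appLE (W : S.Opens) (U : X.Opens) hUW).hom.toAlgebra
  have tower : IsScalarTower Γ(S, (W : S.Opens)) Γ(Y, (V' : Y.Opens)) Γ(X, (U : X.Opens)) := by
    refine IsScalarTower.of_algebraMap_eq' ?_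
    change ((f ≫ g).appLE (W : S.Opens) (U : X.Opens) hUW).hom =
      (f.appLE (V' : Y.Opens) (U : X.Opens) hUV').hom.comp
        (g.appLE (W : S.Opens) (V' : Y.Opens) hV'W).hom
    rw [← CommRingCat.hom_comp, Scheme.Hom.appLE_comp_appLE]
  have hfp : Algebra.FinitePresentation Γ(Y, (V' : Y.Opens)) Γ(X, (U : X.Opens)) :=
    HasRingHomProperty.appLE (P := @LocallyOfFinitePresentation) f inferInstance V' U hUV'
  let mA : Module Γ(Y, (V' : Y.Opens)) Γ((Scheme.Modules.pullback f).obj G, (U : X.Opens)) :=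
    Module.compHom _ (f.appLE (V' : Y.Opens) (U : X.Opens) hUV').hom
  have tower2 : IsScalarTower Γ(Y, (V' : Y.Opens)) Γ(X, (U : X.Opens))
      Γ((Scheme.Modules.pullback f).obj G, (U : X.Opens)) := IsScalarTower.of_compHom _ _ _
  obtain ⟨ψ, hψ⟩ := Groth.Agent.Lib.Helper16.FlatPull.exists_isBaseChange_sections f V'.2 U.2 hUV' G
  change FlatCA.RelFinitePresentation Γ(S, (W : S.Opens)) Γ(X, (U : X.Opens))
    Γ((Scheme.Modules.pullback f).obj G, (U : X.Opens))
  exact relFP_of_isBaseChange ψ hψ h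

/-- Pullback along a morphism locally of finite presentation preserves relative finite
presentation. -/
theorem isRelFP_pullback [LocallyOfFinitePresentation f] [LocallyOfFiniteType g] (G : Y.Modules)
    [SheafOfModules.IsQuasicoherent.{u, u, u} G] (hG : Flatn.IsRelFP g G) :
    Flatn.IsRelFP (f ≫ g) ((Scheme.Modules.pullback f).obj G) := by
  have hq : SheafOfModules.IsQuasicoherent.{u, u, u} ((Scheme.Modules.pullback f).obj G) :=
    Groth.Agent.Lib.Helper16.FlatPull.isQuasicoherent_pullback f G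
  rw [isRelFP_iff] at hG ⊢
  intro U W hUW
  apply relFPOn_of_forall_exists
  intro x hx
  have hfx : f x ∈ g ⁻¹ᵁ (W : S.Opens) := by
    have := hUW hx
    simpa using this
  obtain ⟨V', hV'aff, hfxV', hV'le⟩ :=
    (TopologicalSpace.Opens.isBasis_iff_nbhd.mp Y.isBasis_affineOpens) hfx
  obtain ⟨a, haV', hxa⟩ := U.2.exists_basicOpen_le (V := f ⁻¹ᵁ V') ⟨x, hfxV'⟩ hx
  exact ⟨a, hxa, relFPOn_pullback f g G (X.affineBasicOpen a) ⟨V', hV'aff⟩ W haV' hV'le _
    (hG ⟨V', hV'aff⟩ W hV'le)⟩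

end Groth.Agent.Lib.Helper51.RelFPSch
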