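import Groth.Agent.Lib.Helper51.RelFPSch
import Groth.Agent.Lib.Helper49.QcqsModules

/-!
# Relative finite presentation and finite pushforward (helper51)
-/

set_option autoImplicit false
universe u

open AlgebraicGeometry CategoryTheory Limits TopologicalSpace Opposite

namespace Groth.Agent.Lib.Helper51.RelFPSch

open Groth.Agent.Lib.Helper51.RelFPRing Groth.Agent.Lib.Helper45

variable {X Y S : Scheme.{u}} (π : X ⟶ Y) (g : Y ⟶ S) (F : X.Modules)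

/-- For a finite morphism `π`, relative finite presentation of `π_* F` over an affine open `V'` of
`Y` is the same as relative finite presentation of `F` over `π⁻¹ V'`. -/
theorem relFPOn_push_iff [IsFinite π] [LocallyOfFiniteType g]
    (V' : Y.affineOpens) (W : S.affineOpens) (hV'W : (V' : Y.Opens) ≤ g ⁻¹ᵁ (W : S.Opens))
    (hUW : π ⁻¹ᵁ (V' : Y.Opens) ≤ (π ≫ g) ⁻¹ᵁ (W : S.Opens)) :
    Flatn.RelFPOn (π ≫ g) F ⟨π ⁻¹ᵁ (V' : Y.Opens), V'.2.preimage π⟩ W hUW ↔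
      Flatn.RelFPOn g ((Scheme.Modules.pushforward π).obj F) V' W hV'W := by
  unfold Flatn.RelFPOn
  let a1 : Algebra Γ(S, (W : S.Opens)) Γ(Y, (V' : Y.Opens)) :=
    (g.appLE (W : S.Opens) (V' : Y.Opens) hV'W).hom.toAlgebra
  let a2 : Algebra Γ(Y, (V' : Y.Opens)) Γ(X, π ⁻¹ᵁ (V' : Y.Opens)) :=
    (π.app (V' : Y.Opens)).hom.toAlgebra
  let a3 : Algebra Γ(S, (W : S.Opens)) Γ(X, π ⁻¹ᵁ (V' : Y.Opens)) :=
    ((π ≫ g).appLE (W : S.Opens) (π ⁻¹ᵁ (V' : Y.Opens)) hUW).hom.toAlgebra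
  have tower : IsScalarTower Γ(S, (W : S.Opens)) Γ(Y, (V' : Y.Opens))
      Γ(X, π ⁻¹ᵁ (V' : Y.Opens)) := by
    refine IsScalarTower.of_algebraMap_eq' ?_
    change ((π ≫ g).appLE (W : S.Opens) (π ⁻¹ᵁ (V' : Y.Opens)) hUW).hom =
      (π.app (V' : Y.Opens)).hom.comp (g.appLE (W : S.Opens) (V' : Y.Opens) hV'W).hom
    rw [← CommRingCat.hom_comp, π.app_eq_appLE, Scheme.Hom.appLE_comp_appLE]
  have hft : Algebra.FiniteType Γ(S, (W : S.Opens)) Γ(Y, (V' : Y.Opens)) :=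
    HasRingHomProperty.appLE (P := @LocallyOfFiniteType) g inferInstance W V' hV'W
  have hfin : Module.Finite Γ(Y, (V' : Y.Opens)) Γ(X, π ⁻¹ᵁ (V' : Y.Opens)) :=
    IsFinite.finite_app π (V' : Y.Opens) V'.2
  let mA : Module Γ(Y, (V' : Y.Opens)) Γ(F, π ⁻¹ᵁ (V' : Y.Opens)) :=
    Module.compHom _ (π.app (V' : Y.Opens)).hom
  have tower2 : IsScalarTower Γ(Y, (V' : Y.Opens)) Γ(X, π ⁻¹ᵁ (V' : Y.Opens))
      Γ(F, π ⁻¹ᵁ (V' : Y.Opens)) := ⟨fun a b m => by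
    change (π.app (V' : Y.Opens) a * b) • m = π.app (V' : Y.Opens) a • (b • m)
    rw [mul_smul]⟩
  change FlatCA.RelFinitePresentation Γ(S, (W : S.Opens)) Γ(X, π ⁻¹ᵁ (V' : Y.Opens))
      Γ(F, π ⁻¹ᵁ (V' : Y.Opens)) ↔
    FlatCA.RelFinitePresentation Γ(S, (W : S.Opens)) Γ(Y, (V' : Y.Opens))
      Γ(F, π ⁻¹ᵁ (V' : Y.Opens))
  exact (relFP_finite_iff (R := Γ(S, (W : S.Opens))) (A := Γ(Y, (V' : Y.Opens)))
    (B := Γ(X, π ⁻¹ᵁ (V' : Y.Opens))) Γ(F, π ⁻¹ᵁ (V' : Y.Opens))).symm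

/-- For `π` finite and `g` locally of finite type: `F` is finitely presented relative to `S`
through `π ≫ g` iff `π_* F` is finitely presented relative to `S` through `g`. -/
theorem isRelFP_push_iff [IsFinite π] [LocallyOfFiniteType g]
    [SheafOfModules.IsQuasicoherent.{u, u, u} F] :
    Flatn.IsRelFP (π ≫ g) F ↔ Flatn.IsRelFP g ((Scheme.Modules.pushforward π).obj F) := by
  have hq : SheafOfModules.IsQuasicoherent.{u, u, u} ((Scheme.Modules.pushforward π).obj F) :=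
    Groth.Agent.Lib.Helper49.isQuasicoherent_pushforward F π
  constructor
  · intro h
    rw [isRelFP_iff] at h
    refine isRelFP_of_forall g _ fun V' W hV'W => ?_
    have hUW : π ⁻¹ᵁ (V' : Y.Opens) ≤ (π ≫ g) ⁻¹ᵁ (W : S.Opens) := by
      intro x hx
      exact hV'W hx
    exact (relFPOn_push_iff π g F V' W hV'W hUW).mp (h ⟨π ⁻¹ᵁ (V' : Y.Opens), V'.2.preimage π⟩ W hUW)
  · intro h
    rw [isRelFP_iff] at h
    refine ⟨{W : S.affineOpens | (W : S.Opens) ≤ ⊤}, iSup_affineOpens_le ⊤, fun W _ =>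
      ⟨{U : X.affineOpens | ∃ V' : Y.affineOpens, (V' : Y.Opens) ≤ g ⁻¹ᵁ (W : S.Opens) ∧
        (U : X.Opens) = π ⁻¹ᵁ (V' : Y.Opens)}, ?_, ?_⟩⟩
    · apply le_antisymm
      · refine iSup₂_le fun U hU => ?_
        obtain ⟨V', hV', hU⟩ := hU
        rw [hU]
        intro x hx
        exact hV' hx
      · intro x hx
        have hπx : π x ∈ g ⁻¹ᵁ (W : S.Opens) := hx
        obtain ⟨V', hV'aff, hxV', hV'le⟩ :=
          (Opens.isBasis_iff_nbhd.mp Y.isBasis_affineOpens) hπx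
        exact Opens.mem_iSup.mpr ⟨⟨π ⁻¹ᵁ V', hV'aff.preimage π⟩,
          Opens.mem_iSup.mpr ⟨⟨⟨V', hV'aff⟩, hV'le, rfl⟩, hxV'⟩⟩
    · rintro U ⟨V', hV', hU⟩ hUW
      have e : (⟨π ⁻¹ᵁ (V' : Y.Opens), V'.2.preimage π⟩ : X.affineOpens) = U :=
        Subtype.ext hU.symm
      have hUW' : π ⁻¹ᵁ (V' : Y.Opens) ≤ (π ≫ g) ⁻¹ᵁ (W : S.Opens) := hU ▸ hUW
      exact (relFPOn_congr (π ≫ g) F e W hUW' hUW).mp
        ((relFPOn_push_iff π g F V' W hV' hUW').mpr (h V' W hV'))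

end Groth.Agent.Lib.Helper51.RelFPSch
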