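import Groth.Agent.Lib.Helper35.RelFP3
import Groth.Agent.S6992
import Groth.Agent.S12083
import Groth.Prelude.Def_FlatCA

/-!
# Ring-level toolbox for `FlatCA.RelFinitePresentation` (helper51)

Wrappers around helper35's `FPVia` library, phrased directly for the prelude's predicate
`FlatCA.RelFinitePresentation R A M` ("`M` is finitely presented relative to `R`"):

* `relFP_iff_fpVia`: may be tested on any surjection from a finitely presented `R`-algebra;
* `relFP_of_isBaseChange`: base change along a finitely presented ring map `A → A'`;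
* `relFP_of_equiv`: transport along isomorphisms;
* `relFP_change_base`: replacing `R` by a finitely presented `R`-algebra `R'`;
* `relFP_of_localizationSpan`, `relFP_of_localizationSpan'`: local on `Spec A`;
* `relFP_of_exact`, `relFP_of_surjective_of_finite`: extensions and quotients;
* `relFP_finite_iff`: along a finite ring map `A → B`;
* `relFP_baseChange_of_isPushout`: base change `R → R'`.
-/

set_option autoImplicit false
universe u

namespace Groth.Agent.Lib.Helper51.RelFPRing

open Groth.Agent.Lib.Helper35

section Plain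

variable {T M' M M'' : Type*} [CommRing T] [AddCommGroup M'] [AddCommGroup M] [AddCommGroup M'']
  [Module T M'] [Module T M] [Module T M'']

theorem fp_of_exact (i : M' →ₗ[T] M) (p : M →ₗ[T] M'') (hi : Function.Injective i)
    (hp : Function.Surjective p) (hex : Function.Exact i p)
    [Module.FinitePresentation T M'] [Module.FinitePresentation T M''] :
    Module.FinitePresentation T M := by
  have hker : LinearMap.ker p = LinearMap.range i := by
    ext m
    exact hex m
  have e : M' ≃ₗ[T] LinearMap.ker p :=
    (LinearEquiv.ofInjective i hi).trans (LinearEquiv.ofEq _ _ hker.symm)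
  have : Module.FinitePresentation T (LinearMap.ker p) := Module.FinitePresentation.of_equiv e
  exact Module.finitePresentation_of_ker p hp

theorem fp_of_surjective_of_finite (i : M' →ₗ[T] M) (p : M →ₗ[T] M'')
    (hp : Function.Surjective p) (hex : Function.Exact i p)
    [Module.Finite T M'] [Module.FinitePresentation T M] :
    Module.FinitePresentation T M'' := by
  have hker : LinearMap.ker p = LinearMap.range i := by
    ext m
    exact hex m
  refine Module.finitePresentation_of_surjective p hp ?_
  rw [hker]
  exact Submodule.fg_range i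

end Plain

section Via

variable {T A : Type*} [CommRing T] [CommRing A] (φ : T →+* A)
  {M' M M'' : Type*} [AddCommGroup M'] [AddCommGroup M] [AddCommGroup M'']
  [Module A M'] [Module A M] [Module A M'']

theorem FPVia.of_exact (i : M' →ₗ[A] M) (p : M →ₗ[A] M'') (hi : Function.Injective i)
    (hp : Function.Surjective p) (hex : Function.Exact i p)
    (h' : FPVia φ M') (h'' : FPVia φ M'') : FPVia φ M := by
  let _ : Module T M' := Module.compHom M' φ
  let _ : Module T M := Module.compHom M φ
  let _ : Module T M'' := Module.compHom M'' φ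
  have fp' : Module.FinitePresentation T M' := h'
  have fp'' : Module.FinitePresentation T M'' := h''
  let iT : M' →ₗ[T] M :=
    { toFun := i
      map_add' := i.map_add
      map_smul' := fun t m => i.map_smul (φ t) m }
  let pT : M →ₗ[T] M'' :=
    { toFun := p
      map_add' := p.map_add
      map_smul' := fun t m => p.map_smul (φ t) m }
  exact fp_of_exact iT pT hi hp hex

theorem FPVia.of_surjective_of_finite (hφ : Function.Surjective φ)
    (i : M' →ₗ[A] M) (p : M →ₗ[A] M'')
    (hp : Function.Surjective p) (hex : Function.Exact i p) [Module.Finite A M']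
    (h : FPVia φ M) : FPVia φ M'' := by
  let _ : Algebra T A := φ.toAlgebra
  let _ : Module T M' := Module.compHom M' φ
  let _ : Module T M := Module.compHom M φ
  let _ : Module T M'' := Module.compHom M'' φ
  have : IsScalarTower T A M' := ⟨fun t a m => by
    change (φ t * a) • m = φ t • (a • m)
    rw [mul_smul]⟩
  have fp : Module.FinitePresentation T M := h
  have hfinA : Module.Finite T A := Module.Finite.of_surjective (Algebra.linearMap T A) hφ
  have hfin : Module.Finite T M' := Module.Finite.trans A M'
  let iT : M' →ₗ[T] M :=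
    { toFun := i
      map_add' := i.map_add
      map_smul' := fun t m => i.map_smul (φ t) m }
  let pT : M →ₗ[T] M'' :=
    { toFun := p
      map_add' := p.map_add
      map_smul' := fun t m => p.map_smul (φ t) m }
  exact fp_of_surjective_of_finite iT pT hp hex

end Via

section

variable {R A : Type u} [CommRing R] [CommRing A] [Algebra R A]
  (M : Type u) [AddCommGroup M] [Module A M]

/-- Relative finite presentation can be tested on any surjection from a finitely presented
`R`-algebra. -/
theorem relFP_iff_fpVia {T : Type u} [CommRing T] [Algebra R T] [Algebra.FinitePresentation R T]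
    (α : T →ₐ[R] A) (hα : Function.Surjective α) :
    FlatCA.RelFinitePresentation R A M ↔ FPVia (α : T →+* A) M := by
  constructor
  · rintro ⟨n, φ, hφ, h⟩
    exact (FPVia.indep (R := R) M φ hφ α hα).mp h
  · intro h
    have hft : Algebra.FiniteType R A := Algebra.FiniteType.of_surjective α hα
    obtain ⟨n, φ, hφ⟩ := Algebra.FiniteType.iff_quotient_mvPolynomial''.mp hft
    exact ⟨n, φ, hφ, (FPVia.indep (R := R) M α hα φ hφ).mp h⟩

variable {M} in
theorem finiteType_of_relFP (h : FlatCA.RelFinitePresentation R A M) : Algebra.FiniteType R A := by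
  obtain ⟨n, φ, hφ, -⟩ := h
  exact Algebra.FiniteType.of_surjective φ hφ

variable {M} in
/-- Base change of relative finite presentation along a finitely presented ring map `A → A'`. -/
theorem relFP_of_isBaseChange {A' : Type u} [CommRing A'] [Algebra A A'] [Algebra R A']
    [IsScalarTower R A A'] [Algebra.FinitePresentation A A']
    {M' : Type u} [AddCommGroup M'] [Module A' M'] [Module A M'] [IsScalarTower A A' M']
    (ψ : M →ₗ[A] M') (hψ : IsBaseChange A' ψ)
    (h : FlatCA.RelFinitePresentation R A M) : FlatCA.RelFinitePresentation R A' M' := by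
  have hft : Algebra.FiniteType R A := finiteType_of_relFP h
  obtain ⟨n, φ, hφ, hM⟩ := h
  have hft' : Algebra.FiniteType R A' := Algebra.FiniteType.trans (S := A) hft inferInstance
  obtain ⟨k, γ, hγ⟩ := Algebra.FiniteType.iff_quotient_mvPolynomial''.mp hft'
  have h1 := FPVia.tensor_of_finitePresentation (R := R) (A' := A') M φ hφ hM γ hγ
  exact ⟨k, γ, hγ, FPVia.of_linearEquiv _ hψ.equiv h1⟩

variable {M} in
/-- Transfer of relative finite presentation along an isomorphism of algebras and a compatible
additive isomorphism of modules. -/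
theorem relFP_of_equiv {B : Type u} [CommRing B] [Algebra R B] {N : Type u} [AddCommGroup N]
    [Module B N] (e : A ≃ₐ[R] B) (eM : M ≃+ N) (he : ∀ (a : A) (m : M), eM (a • m) = e a • eM m)
    (h : FlatCA.RelFinitePresentation R A M) : FlatCA.RelFinitePresentation R B N := by
  obtain ⟨n, φ, hφ, hM⟩ := h
  refine ⟨n, (e : A →ₐ[R] B).comp φ, e.surjective.comp hφ, ?_⟩
  exact FPVia.of_addEquiv (φ : MvPolynomial (Fin n) R →+* A)
    (((e : A →ₐ[R] B).comp φ : MvPolynomial (Fin n) R →ₐ[R] B) : MvPolynomial (Fin n) R →+* B)
    eM (fun t m => he (φ t) m) hM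

/-- Changing the base ring along a finitely presented ring map `R → R'`. -/
theorem relFP_change_base {R' : Type u} [CommRing R'] [Algebra R R'] [Algebra R' A]
    [IsScalarTower R R' A] [Algebra.FinitePresentation R R'] :
    FlatCA.RelFinitePresentation R' A M ↔ FlatCA.RelFinitePresentation R A M := by
  constructor
  · rintro ⟨n, φ, hφ, hM⟩
    have : Algebra.FinitePresentation R (MvPolynomial (Fin n) R') :=
      Algebra.FinitePresentation.trans R R' _
    exact (relFP_iff_fpVia (R := R) M (φ.restrictScalars R) hφ).mpr hM
  · intro h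
    have hft : Algebra.FiniteType R A := finiteType_of_relFP h
    have hft' : Algebra.FiniteType R' A := Algebra.FiniteType.of_restrictScalars_finiteType R R' A
    obtain ⟨n, φ, hφ⟩ := Algebra.FiniteType.iff_quotient_mvPolynomial''.mp hft'
    have : Algebra.FinitePresentation R (MvPolynomial (Fin n) R') :=
      Algebra.FinitePresentation.trans R R' _
    exact ⟨n, φ, hφ, (relFP_iff_fpVia (R := R) M (φ.restrictScalars R) hφ).mp h⟩

/-- Relative finite presentation is local on the source ring. -/
theorem relFP_of_localizationSpan [Algebra.FiniteType R A] (s : Set A) (hs : Ideal.span s = ⊤)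
    (H : ∀ g ∈ s, FlatCA.RelFinitePresentation R (Localization.Away g)
      (LocalizedModule (Submonoid.powers g) M)) :
    FlatCA.RelFinitePresentation R A M := by
  obtain ⟨n, α, hα⟩ := Algebra.FiniteType.iff_quotient_mvPolynomial''.mp
    (inferInstance : Algebra.FiniteType R A)
  let sT : Set (MvPolynomial (Fin n) R) := {t | α t ∈ s ∨ α t = 0}
  have hsT : Ideal.span sT = ⊤ := by
    have hker : RingHom.ker (α : MvPolynomial (Fin n) R →+* A) ≤ Ideal.span sT := by
      intro t ht
      exact Ideal.subset_span (Or.inr ht)
    have hmap : Ideal.map (α : MvPolynomial (Fin n) R →+* A) (Ideal.span sT) = ⊤ := by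
      rw [Ideal.map_span, eq_top_iff, ← hs]
      apply Ideal.span_mono
      intro g hg
      obtain ⟨t, rfl⟩ := hα g
      exact ⟨t, Or.inl hg, rfl⟩
    have := Ideal.comap_map_of_surjective (α : MvPolynomial (Fin n) R →+* A) hα (Ideal.span sT)
    rw [hmap, Ideal.comap_top] at this
    rw [eq_top_iff, this]
    refine sup_le le_rfl ?_
    rw [← RingHom.ker_eq_comap_bot]
    exact hker
  refine ⟨n, α, hα, FPVia.of_localizationSpan (R := R) α hα M sT hsT ?_⟩
  rintro t (ht | ht)
  · obtain ⟨k, γ, hγ, h⟩ := H (α t) ht
    exact ⟨k, γ, hγ, h⟩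
  · have hsub : Subsingleton (Localization.Away (α t)) :=
      IsLocalization.subsingleton (M := Submonoid.powers (α t))
        (by rw [ht]; exact ⟨1, by simp⟩)
    have hsubM : Subsingleton (LocalizedModule (Submonoid.powers (α t)) M) :=
      Module.subsingleton (Localization.Away (α t)) _
    refine ⟨0, MvPolynomial.aeval (fun _ => 0), Function.surjective_to_subsingleton _, ?_⟩
    unfold FPVia
    exact @Module.FinitePresentation.of_subsingleton _ _ _ _ (_) hsubM

/-- Relative finite presentation is local on the source ring, for arbitrary models of the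
localizations. -/
theorem relFP_of_localizationSpan' [Algebra.FiniteType R A] (s : Set A) (hs : Ideal.span s = ⊤)
    {Aₚ : s → Type u} [∀ g, CommRing (Aₚ g)] [∀ g, Algebra A (Aₚ g)] [∀ g, Algebra R (Aₚ g)]
    [∀ g, IsScalarTower R A (Aₚ g)] [∀ g : s, IsLocalization.Away g.val (Aₚ g)]
    {Mₚ : s → Type u} [∀ g, AddCommGroup (Mₚ g)] [∀ g, Module A (Mₚ g)]
    [∀ g, Module (Aₚ g) (Mₚ g)] [∀ g, IsScalarTower A (Aₚ g) (Mₚ g)]
    (ψ : ∀ g : s, M →ₗ[A] Mₚ g) [∀ g : s, IsLocalizedModule (Submonoid.powers g.val) (ψ g)]
    (H : ∀ g : s, FlatCA.RelFinitePresentation R (Aₚ g) (Mₚ g)) :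
    FlatCA.RelFinitePresentation R A M := by
  refine relFP_of_localizationSpan M s hs fun g hg => ?_
  have hloc : IsLocalization (Submonoid.powers g) (Aₚ ⟨g, hg⟩) :=
    (inferInstance : IsLocalization.Away (⟨g, hg⟩ : s).val (Aₚ ⟨g, hg⟩))
  have hlocM : IsLocalizedModule (Submonoid.powers g) (ψ ⟨g, hg⟩) :=
    (inferInstance : IsLocalizedModule (Submonoid.powers (⟨g, hg⟩ : s).val) (ψ ⟨g, hg⟩))
  let e : Aₚ ⟨g, hg⟩ ≃ₐ[R] Localization.Away g :=
    (IsLocalization.algEquiv (Submonoid.powers g) (Aₚ ⟨g, hg⟩) (Localization.Away g)).restrictScalars R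
  let eM : Mₚ ⟨g, hg⟩ ≃ₗ[A] LocalizedModule (Submonoid.powers g) M :=
    (IsLocalizedModule.iso (Submonoid.powers g) (ψ ⟨g, hg⟩)).symm
  refine relFP_of_equiv e eM.toAddEquiv ?_ (H ⟨g, hg⟩)
  intro a m
  obtain ⟨⟨x, ⟨_, k, rfl⟩⟩, hx⟩ := IsLocalization.surj (Submonoid.powers g) a
  simp only at hx
  have hunit := IsLocalizedModule.map_units (LocalizedModule.mkLinearMap (Submonoid.powers g) M)
    (⟨g ^ k, k, rfl⟩ : Submonoid.powers g)
  have hinj : Function.Injective (fun z : LocalizedModule (Submonoid.powers g) M => (g ^ k) • z) :=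
    ((Module.End.isUnit_iff _).mp hunit).injective
  apply hinj
  change g ^ k • eM (a • m) = g ^ k • (e a • eM m)
  have he : ∀ y : A, e (algebraMap A (Aₚ ⟨g, hg⟩) y) = algebraMap A (Localization.Away g) y := by
    intro y
    exact (IsLocalization.algEquiv (Submonoid.powers g) (Aₚ ⟨g, hg⟩) (Localization.Away g)).commutes y
  rw [← map_smul, ← algebraMap_smul (Aₚ ⟨g, hg⟩) (g ^ k) (a • m), smul_smul, mul_comm, hx,
    algebraMap_smul, map_smul]
  rw [← algebraMap_smul (Localization.Away g) (g ^ k) (e a • eM m), smul_smul, ← he, ← map_mul,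
    mul_comm, hx, he, algebraMap_smul]

variable {M} in
/-- Extensions: if the outer terms of a short exact sequence are finitely presented relative to
`R`, so is the middle term. -/
theorem relFP_of_exact {M' M'' : Type u} [AddCommGroup M'] [Module A M'] [AddCommGroup M'']
    [Module A M''] (i : M' →ₗ[A] M) (p : M →ₗ[A] M'') (hi : Function.Injective i)
    (hp : Function.Surjective p) (hex : Function.Exact i p)
    (h' : FlatCA.RelFinitePresentation R A M') (h'' : FlatCA.RelFinitePresentation R A M'') :
    FlatCA.RelFinitePresentation R A M := by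
  obtain ⟨n, φ, hφ, hM'⟩ := h'
  have hM'' : FPVia (φ : MvPolynomial (Fin n) R →+* A) M'' :=
    (relFP_iff_fpVia (R := R) M'' φ hφ).mp h''
  exact ⟨n, φ, hφ, FPVia.of_exact (φ : MvPolynomial (Fin n) R →+* A) i p hi hp hex hM' hM''⟩

variable {M} in
/-- Quotients of relatively finitely presented modules by finite submodules are relatively
finitely presented. -/
theorem relFP_of_surjective_of_finite {M' M'' : Type u} [AddCommGroup M'] [Module A M']
    [AddCommGroup M''] [Module A M''] (i : M' →ₗ[A] M) (p : M →ₗ[A] M'')
    (hp : Function.Surjective p) (hex : Function.Exact i p) [Module.Finite A M']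
    (h : FlatCA.RelFinitePresentation R A M) :
    FlatCA.RelFinitePresentation R A M'' := by
  obtain ⟨n, φ, hφ, hM⟩ := h
  exact ⟨n, φ, hφ, FPVia.of_surjective_of_finite (φ : MvPolynomial (Fin n) R →+* A) hφ i p hp hex hM⟩

end

section Finite

variable {R A B : Type u} [CommRing R] [CommRing A] [CommRing B]
  [Algebra R A] [Algebra A B] [Algebra R B] [IsScalarTower R A B]
  (M : Type u) [AddCommGroup M] [Module B M] [Module A M] [IsScalarTower A B M]

/-- Along a finite ring map `A → B` of finite type `R`-algebras, relative finite presentation of a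
`B`-module may be tested over `A`. -/
theorem relFP_finite_iff [Algebra.FiniteType R A] [Module.Finite A B] :
    FlatCA.RelFinitePresentation R A M ↔ FlatCA.RelFinitePresentation R B M := by
  have hftB : Algebra.FiniteType R B :=
    Algebra.FiniteType.trans (S := A) inferInstance inferInstance
  constructor
  · rintro ⟨n, α, hα, h⟩
    obtain ⟨k, β, hβ⟩ := Algebra.FiniteType.iff_quotient_mvPolynomial''.mp hftB
    exact ⟨k, β, hβ, (Groth.Agent.S6992.result M α hα β hβ).mp h⟩
  · rintro ⟨k, β, hβ, h⟩
    obtain ⟨n, α, hα⟩ := Algebra.FiniteType.iff_quotient_mvPolynomial''.mp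
      (inferInstance : Algebra.FiniteType R A)
    exact ⟨n, α, hα, (Groth.Agent.S6992.result M α hα β hβ).mpr h⟩

end Finite

section BaseChange

variable {R A R' A' : Type u} [CommRing R] [CommRing A] [CommRing R'] [CommRing A']
  [Algebra R A] [Algebra R R'] [Algebra A A'] [Algebra R' A'] [Algebra R A']
  [IsScalarTower R A A'] [IsScalarTower R R' A'] [Algebra.IsPushout R A R' A']
  {M : Type u} [AddCommGroup M] [Module A M]

/-- Base change `R → R'` of relative finite presentation. -/
theorem relFP_baseChange_of_isPushout
    {M' : Type u} [AddCommGroup M'] [Module A' M'] [Module A M'] [IsScalarTower A A' M']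
    (ψ : M →ₗ[A] M') (hψ : IsBaseChange A' ψ)
    (h : FlatCA.RelFinitePresentation R A M) : FlatCA.RelFinitePresentation R' A' M' := by
  have hft : Algebra.FiniteType R A := finiteType_of_relFP h
  obtain ⟨n, α, hα, hM⟩ := h
  let γ : MvPolynomial (Fin n) R' →ₐ[R'] A' :=
    Groth.Agent.Lib.Helper63.RelFP.bcPres (R' := R') (A' := A') α
  have hγ : Function.Surjective γ := Groth.Agent.Lib.Helper63.RelFP.bcPres_surjective α hα
  have h1 := Groth.Agent.S12083.result (R := R) (A := A) (R' := R') (A' := A') M α hα hM γ hγ
  exact ⟨n, γ, hγ, FPVia.of_linearEquiv _ hψ.equiv h1⟩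

end BaseChange

end Groth.Agent.Lib.Helper51.RelFPRing
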