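import Groth.Prelude.Def_AlgSpRep
import Groth.Agent.Lib.Helper51.RelRepSheaf
import Groth.Agent.H52.FibreProd

/-!
# Maps of presheaves representable by algebraic spaces (helper51)
-/

set_option autoImplicit false
universe u

namespace Groth.Agent.Lib.Helper51

open CategoryTheory Limits AlgebraicGeometry Opposite

variable {S : Scheme.{u}}

/-- Let `a : F ⟶ G` be a map of presheaves on schemes over `S` all of whose base changes to
schemes are fppf sheaves. If `G` is an fppf sheaf, so is `F`. -/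
theorem isSheaf_of_forall_pullback_isSheaf {F G : AlgSp.PSp S} (a : F ⟶ G)
    (hG : Presheaf.IsSheaf (AlgSp.J S) G)
    (ha : ∀ ⦃T : Over S⦄ (ξ : (AlgSp.pyon S).obj T ⟶ G), ∃ (F' : AlgSp.PSp S) (fst : F' ⟶ F)
      (snd : F' ⟶ (AlgSp.pyon S).obj T), IsPullback fst snd a ξ ∧
        Presheaf.IsSheaf (AlgSp.J S) F') :
    Presheaf.IsSheaf (AlgSp.J S) F := by
  rw [isSheaf_iff_isSheaf_of_type] at hG ⊢
  intro T R hR x hx
  -- the image family in `G` and its amalgamation
  let y : Presieve.FamilyOfElements G R := fun Y f hf ↦ a.app (op Y) (x f hf)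
  have hy : y.Compatible := by
    intro Y₁ Y₂ Z g₁ g₂ f₁ f₂ h₁ h₂ comm
    change G.map g₁.op (a.app _ (x f₁ h₁)) = G.map g₂.op (a.app _ (x f₂ h₂))
    rw [← NatTrans.naturality_apply, ← NatTrans.naturality_apply, hx g₁ g₂ h₁ h₂ comm]
  obtain ⟨y₀, hy₀, hy₀uniq⟩ := hG R hR y hy
  obtain ⟨V, fst, snd, hpb, hV⟩ := ha (pyonDesc y₀)
  rw [isSheaf_iff_isSheaf_of_type] at hV
  -- pointwise pullbacks
  have hpt : ∀ Y : Over S, IsPullback (fst.app (op Y)) (snd.app (op Y))
      (a.app (op Y)) ((pyonDesc y₀).app (op Y)) :=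
    fun Y ↦ hpb.map ((evaluation _ _).obj (op Y))
  -- lift the family to `V`
  have hex : ∀ ⦃Y : Over S⦄ (f : Y ⟶ T) (hf : R f), ∃ v : V.obj (op Y),
      fst.app (op Y) v = x f hf ∧ snd.app (op Y) v = ⟨f⟩ := by
    intro Y f hf
    refine Types.exists_of_isPullback (hpt Y) (x f hf) ⟨f⟩ ?_
    rw [pyonDesc_app]
    exact (hy₀ f hf).symm
  choose v' hv1 hv2 using hex
  let v : Presieve.FamilyOfElements V R.arrows := fun Y f hf ↦ v' f hf
  have hvc : v.Compatible := by
    intro Y₁ Y₂ Z g₁ g₂ f₁ f₂ h₁ h₂ comm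
    apply Types.ext_of_isPullback (hpt Z)
    · rw [NatTrans.naturality_apply, NatTrans.naturality_apply, hv1, hv1]
      exact hx g₁ g₂ h₁ h₂ comm
    · rw [NatTrans.naturality_apply, NatTrans.naturality_apply, hv2, hv2]
      change (ULift.up (g₁ ≫ f₁) : ULift _) = ULift.up (g₂ ≫ f₂)
      rw [comm]
  obtain ⟨v₀, hv₀, hv₀uniq⟩ := hV R hR v hvc
  refine ⟨fst.app (op T) v₀, ?_, ?_⟩
  · intro Y f hf
    rw [← NatTrans.naturality_apply, hv₀ f hf, hv1]
  · intro x₁ hx₁
    have h1 : a.app (op T) x₁ = y₀ := by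
      apply hy₀uniq
      intro Y f hf
      change G.map f.op (a.app (op T) x₁) = a.app (op Y) (x f hf)
      rw [← NatTrans.naturality_apply, hx₁ f hf]
    obtain ⟨v₁, hv₁1, hv₁2⟩ := Types.exists_of_isPullback (hpt T) x₁ ⟨𝟙 T⟩ (by
      rw [pyonDesc_app, h1]
      simp)
    have h2 : v₁ = v₀ := by
      apply hv₀uniq
      intro Y f hf
      apply Types.ext_of_isPullback (hpt Y)
      · rw [NatTrans.naturality_apply, hv₁1, hv1]
        exact hx₁ f hf
      · rw [NatTrans.naturality_apply, hv₁2, hv2]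
        change (ULift.up (f ≫ 𝟙 T) : ULift _) = ULift.up f
        rw [Category.comp_id]
    rw [← hv₁1, h2]

/-- A presheaf with a map to a sheaf which is representable by algebraic spaces is a sheaf. -/
theorem isSheaf_of_repBySp {F G : AlgSp.PSp S} (a : F ⟶ G) (ha : AlgSp.RepBySp a)
    (hG : Presheaf.IsSheaf (AlgSp.J S) G) : Presheaf.IsSheaf (AlgSp.J S) F :=
  isSheaf_of_forall_pullback_isSheaf a hG fun _ ξ ↦
    ⟨pullback a ξ, pullback.fst a ξ, pullback.snd a ξ, IsPullback.of_hasPullback a ξ,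
      (ha ξ _ _ (IsPullback.of_hasPullback a ξ)).choose⟩

end Groth.Agent.Lib.Helper51
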