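import Groth.Agent.Lib.Helper51.RepBySp

/-!
# Sheaves all of whose base changes to schemes are algebraic spaces (helper51)
-/

set_option autoImplicit false
universe u

namespace Groth.Agent.Lib.Helper51

open CategoryTheory Limits AlgebraicGeometry Opposite

variable {S : Scheme.{u}}

/-- A sheaf over an algebraic space `X`, all of whose base changes to schemes over `X` are
algebraic spaces, is an algebraic space. -/
theorem isAlgSpace_of_forall_pullback_isAlgSpace {P X : AlgSp.Sp S} (hX : AlgSp.IsAlgSpace X)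
    (f : P ⟶ X)
    (h : ∀ ⦃T : Over S⦄ (x : (AlgSp.yon S).obj T ⟶ X), ∃ (Z : AlgSp.Sp S)
      (z₁ : Z ⟶ (AlgSp.yon S).obj T) (z₂ : Z ⟶ P), IsPullback z₂ z₁ f x ∧ AlgSp.IsAlgSpace Z) :
    AlgSp.IsAlgSpace P := by
  refine ⟨Functor.relativelyRepresentable.diag_iff.2 fun T g ↦ ?_, ?_⟩
  · obtain ⟨Z, z₁, z₂, sq, hZ⟩ := h (g ≫ f)
    have hw : g ≫ f = 𝟙 _ ≫ g ≫ f := (Category.id_comp _).symm
    have hσ : AlgSp.Representable (sq.lift g (𝟙 _) hw) := hZ.representable_from_yon _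
    have hz₂ : AlgSp.Representable z₂ :=
      MorphismProperty.of_isPullback sq.flip (hX.representable_from_yon (g ≫ f))
    have := (AlgSp.Representable (S := S)).comp_mem _ _ hσ hz₂
    rwa [sq.lift_fst] at this
  · obtain ⟨V, p, hpe, hps⟩ := hX.atlas
    obtain ⟨Z, z₁, z₂, sq, hZ⟩ := h p
    obtain ⟨W, q, hqe, hqs⟩ := hZ.atlas
    exact ⟨W, q ≫ z₂,
      (AlgSp.RepWith (S := S) @Etale).comp_mem _ _ hqe (MorphismProperty.of_isPullback sq.flip hpe),
      (AlgSp.RepWith (S := S) @Surjective).comp_mem _ _ hqs (MorphismProperty.of_isPullback sq.flip hps)⟩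

/-- Let `a : F ⟶ G` be a map of presheaves which is representable by algebraic spaces, `X` an
algebraic space and `ξ : X ⟶ G`. Then `X ×_G F` is an algebraic space. -/
theorem isAlgSpaceP_of_isPullback_of_repBySp {F G : AlgSp.PSp S} (a : F ⟶ G)
    (ha : AlgSp.RepBySp a) (X : AlgSp.Sp S) (hX : AlgSp.IsAlgSpace X) (ξ : X.obj ⟶ G)
    (F' : AlgSp.PSp S) (fst : F' ⟶ X.obj) (snd : F' ⟶ F) (sq : IsPullback fst snd ξ a) :
    AlgSp.IsAlgSpaceP F' := by
  -- base changes to schemes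
  have key : ∀ ⦃T : Over S⦄ (x : (AlgSp.pyon S).obj T ⟶ X.obj) (Z : AlgSp.PSp S)
      (z₁ : Z ⟶ (AlgSp.pyon S).obj T) (z₂ : Z ⟶ F'), IsPullback z₂ z₁ fst x →
      AlgSp.IsAlgSpaceP Z := by
    intro T x Z z₁ z₂ sqZ
    exact ha (x ≫ ξ) (z₂ ≫ snd) z₁ (sqZ.paste_horiz sq.flip)
  have hF' : Presheaf.IsSheaf (AlgSp.J S) F' :=
    isSheaf_of_forall_pullback_isSheaf fst X.property fun T x ↦
      ⟨pullback fst x, pullback.fst fst x, pullback.snd fst x, IsPullback.of_hasPullback fst x,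
        (key x _ _ _ (IsPullback.of_hasPullback fst x)).choose⟩
  refine ⟨hF', ?_⟩
  let f : (⟨F', hF'⟩ : AlgSp.Sp S) ⟶ X := ObjectProperty.homMk fst
  refine isAlgSpace_of_forall_pullback_isAlgSpace hX f fun T x ↦ ?_
  refine ⟨pullback f x, pullback.snd f x, pullback.fst f x, IsPullback.of_hasPullback f x, ?_⟩
  rw [← AlgSp.isAlgSpaceP_obj_iff]
  exact key x.hom _ _ _
    ((IsPullback.of_hasPullback f x).map (sheafToPresheaf (AlgSp.J S) (Type (u + 1))))

end Groth.Agent.Lib.Helper51
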