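import Groth.Agent.Lib.Helper51.RepBySp2
import Groth.Agent.Lib.Helper51.ProdMap

/-!
# Stability properties of maps of presheaves representable by algebraic spaces (helper51)
-/

set_option autoImplicit false
universe u

namespace Groth.Agent.Lib.Helper51

open CategoryTheory Limits AlgebraicGeometry Opposite

variable {S : Scheme.{u}}

instance repBySp_isStableUnderBaseChange : (AlgSp.RepBySp (S := S)).IsStableUnderBaseChange where
  of_isPullback sq hg := fun _ ξ _ fst snd sq' ↦ hg (ξ ≫ _) (fst ≫ _) snd (sq'.paste_horiz sq)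

theorem isAlgSpaceP_pyon (U : Over S) : AlgSp.IsAlgSpaceP ((AlgSp.pyon S).obj U) :=
  (AlgSp.isAlgSpaceP_obj_iff ((AlgSp.yon S).obj U)).2 (AlgSp.IsAlgSpace.yon_obj U)

instance repBySp_containsIdentities : (AlgSp.RepBySp (S := S)).ContainsIdentities where
  id_mem F := fun U ξ F' fst snd sq ↦ by
    have : IsIso snd := sq.isIso_snd_of_isIso
    exact (isAlgSpaceP_pyon U).of_iso (asIso snd).symm

instance repBySp_isStableUnderComposition :
    (AlgSp.RepBySp (S := S)).IsStableUnderComposition where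
  comp_mem a b ha hb := by
    intro U ξ F' fst snd sq
    obtain ⟨hs, hA⟩ := hb ξ (pullback.fst b ξ) (pullback.snd b ξ) (IsPullback.of_hasPullback b ξ)
    have hw : (fst ≫ a) ≫ b = snd ≫ ξ := by
      rw [Category.assoc]
      exact sq.w
    have hbig : IsPullback fst (pullback.lift (fst ≫ a) snd hw ≫ pullback.snd b ξ) (a ≫ b) ξ := by
      rw [pullback.lift_snd]
      exact sq
    have hl : IsPullback fst (pullback.lift (fst ≫ a) snd hw) a (pullback.fst b ξ) :=
      IsPullback.of_bot hbig (pullback.lift_fst _ _ hw).symm (IsPullback.of_hasPullback b ξ)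
    exact isAlgSpaceP_of_isPullback_of_repBySp a ha ⟨pullback b ξ, hs⟩ hA
      (pullback.fst b ξ) F' _ fst hl.flip

instance repBySp_isMultiplicative : (AlgSp.RepBySp (S := S)).IsMultiplicative where

/-- Products of maps representable by algebraic spaces. -/
theorem repBySp_prod_map {F₁ G₁ F₂ G₂ : AlgSp.PSp S} (a₁ : F₁ ⟶ G₁) (a₂ : F₂ ⟶ G₂)
    (h₁ : AlgSp.RepBySp a₁) (h₂ : AlgSp.RepBySp a₂) : AlgSp.RepBySp (prod.map a₁ a₂) :=
  prod_map_mem AlgSp.RepBySp a₁ a₂ h₁ h₂

/-- Cancellation: if the diagonal of `b` and `a ≫ b` are representable by algebraic spaces, so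
is `a`. -/
theorem repBySp_of_comp_of_diagonal {F G H : AlgSp.PSp S} (a : F ⟶ G) (b : G ⟶ H)
    (hΔ : AlgSp.RepBySp (pullback.diagonal b)) (hab : AlgSp.RepBySp (a ≫ b)) :
    AlgSp.RepBySp a := by
  have e : a = pullback.lift (𝟙 F) a (by simp) ≫ pullback.snd (a ≫ b) b :=
    (pullback.lift_snd _ _ _).symm
  rw [e]
  apply (AlgSp.RepBySp (S := S)).comp_mem
  · exact (AlgSp.RepBySp (S := S)).of_isPullback (pullback_lift_diagonal_isPullback a b) hΔ
  · exact (AlgSp.RepBySp (S := S)).pullback_snd _ _ hab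

end Groth.Agent.Lib.Helper51
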