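import Groth.Agent.Lib.Helper51.RepBySp3

/-!
# The diagonal of a map representable by algebraic spaces (helper51)
-/

set_option autoImplicit false
universe u v w

namespace Groth.Agent.Lib.Helper51

open CategoryTheory Limits AlgebraicGeometry Opposite

section Cat

variable {C : Type w} [Category.{v} C] [HasPullbacks C]

/-- The base change of the relative diagonal of `a` along `ξ = (ξ₁, ξ₂)` is the fibre product of the
two sections of `U ×_G F ⟶ U` defined by `ξ₁` and `ξ₂`. -/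
theorem isPullback_diagonal_of_isPullback_sections {F G U Z W : C} (a : F ⟶ G)
    (ξ : U ⟶ pullback a a) (z₁ : Z ⟶ F) (z₂ : Z ⟶ U)
    (hZ : IsPullback z₁ z₂ a ((ξ ≫ pullback.fst a a) ≫ a))
    (σ₁ σ₂ : U ⟶ Z) (h11 : σ₁ ≫ z₁ = ξ ≫ pullback.fst a a) (h12 : σ₁ ≫ z₂ = 𝟙 U)
    (h21 : σ₂ ≫ z₁ = ξ ≫ pullback.snd a a) (h22 : σ₂ ≫ z₂ = 𝟙 U)
    (w₁ w₂ : W ⟶ U) (hW : IsPullback w₁ w₂ σ₁ σ₂) :
    IsPullback (w₁ ≫ ξ ≫ pullback.fst a a) w₁ (pullback.diagonal a) ξ := by
  have hw12 : w₁ = w₂ := by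
    have := congr_arg (· ≫ z₂) hW.w
    simpa only [Category.assoc, h12, h22, Category.comp_id] using this
  have hwξ : w₁ ≫ ξ ≫ pullback.fst a a = w₁ ≫ ξ ≫ pullback.snd a a := by
    have := congr_arg (· ≫ z₁) hW.w
    simp only [Category.assoc, h11, h21] at this
    rw [this, hw12]
  have hcomm : (w₁ ≫ ξ ≫ pullback.fst a a) ≫ pullback.diagonal a = w₁ ≫ ξ := by
    apply pullback.hom_ext
    · rw [Category.assoc, Category.assoc, Category.assoc, pullback.diagonal_fst, Category.comp_id,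
        Category.assoc]
    · rw [Category.assoc, Category.assoc, Category.assoc, pullback.diagonal_snd, Category.comp_id,
        Category.assoc]
      exact hwξ
  refine ⟨⟨hcomm⟩, ⟨PullbackCone.IsLimit.mk _ (fun s ↦ hW.lift s.snd s.snd ?_) (fun s ↦ ?_)
    (fun s ↦ ?_) (fun s m hm1 hm2 ↦ ?_)⟩⟩
  · -- `s.snd ≫ σ₁ = s.snd ≫ σ₂`
    have h1 : s.fst = s.snd ≫ ξ ≫ pullback.fst a a := by
      have := congr_arg (· ≫ pullback.fst a a) s.condition
      simpa only [Category.assoc, pullback.diagonal_fst, Category.comp_id] using this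
    have h2 : s.fst = s.snd ≫ ξ ≫ pullback.snd a a := by
      have := congr_arg (· ≫ pullback.snd a a) s.condition
      simpa only [Category.assoc, pullback.diagonal_snd, Category.comp_id] using this
    apply hZ.hom_ext
    · rw [Category.assoc, Category.assoc, h11, h21, ← h1, ← h2]
    · rw [Category.assoc, Category.assoc, h12, h22]
  · have h1 : s.fst = s.snd ≫ ξ ≫ pullback.fst a a := by
      have := congr_arg (· ≫ pullback.fst a a) s.condition
      simpa only [Category.assoc, pullback.diagonal_fst, Category.comp_id] using this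
    rw [← Category.assoc, hW.lift_fst, h1]
  · exact hW.lift_fst _ _ _
  · apply hW.hom_ext
    · rw [hW.lift_fst]
      exact hm2
    · rw [hW.lift_snd, ← hw12]
      exact hm2

end Cat

variable {S : Scheme.{u}}

/-- The relative diagonal of a map representable by algebraic spaces is representable by algebraic
spaces (in fact by schemes). -/
theorem repBySp_diagonal {F G : AlgSp.PSp S} (a : F ⟶ G) (ha : AlgSp.RepBySp a) :
    AlgSp.RepBySp (pullback.diagonal a) := by
  intro U ξ E fst snd sq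
  have hξ : (ξ ≫ pullback.fst a a) ≫ a = (ξ ≫ pullback.snd a a) ≫ a := by
    rw [Category.assoc, Category.assoc, pullback.condition]
  obtain ⟨hZs, hZ⟩ := ha ((ξ ≫ pullback.fst a a) ≫ a) (pullback.fst a ((ξ ≫ pullback.fst a a) ≫ a))
    (pullback.snd a ((ξ ≫ pullback.fst a a) ≫ a)) (IsPullback.of_hasPullback _ _)
  let Z : AlgSp.Sp S := ⟨pullback a ((ξ ≫ pullback.fst a a) ≫ a), hZs⟩
  let σ₁ : (AlgSp.pyon S).obj U ⟶ pullback a ((ξ ≫ pullback.fst a a) ≫ a) :=
    pullback.lift (ξ ≫ pullback.fst a a) (𝟙 _) (by rw [Category.id_comp])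
  let σ₂ : (AlgSp.pyon S).obj U ⟶ pullback a ((ξ ≫ pullback.fst a a) ≫ a) :=
    pullback.lift (ξ ≫ pullback.snd a a) (𝟙 _) (by rw [Category.id_comp, hξ])
  let σ₁' : (AlgSp.yon S).obj U ⟶ Z := ObjectProperty.homMk σ₁
  let σ₂' : (AlgSp.yon S).obj U ⟶ Z := ObjectProperty.homMk σ₂
  obtain ⟨W, w₂, w₁, hW⟩ := hZ.representable_from_yon σ₁' σ₂'
  have hW' : IsPullback w₁.hom ((AlgSp.yon S).map w₂).hom σ₁ σ₂ :=
    hW.map (sheafToPresheaf (AlgSp.J S) (Type (u + 1)))
  have key := isPullback_diagonal_of_isPullback_sections a ξ _ _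
    (IsPullback.of_hasPullback a ((ξ ≫ pullback.fst a a) ≫ a)) σ₁ σ₂
    (pullback.lift_fst _ _ _) (pullback.lift_snd _ _ _) (pullback.lift_fst _ _ _)
    (pullback.lift_snd _ _ _) _ _ hW'
  exact (isAlgSpaceP_pyon W).of_iso (key.isoIsPullback _ _ sq)

end Groth.Agent.Lib.Helper51
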