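import Mathlib
import Groth.Agent.Lib.Helper51.OmegaUniv.MiddleInv
import Groth.Agent.Lib.Helper51.RibbonExt

/-!
# Isomorphisms of square-zero thickenings and isomorphisms of extension classes (helper51)
-/

set_option autoImplicit false
set_option linter.style.haveILetI false
universe w u
open AlgebraicGeometry CategoryTheory Limits TopologicalSpace Opposite TensorProduct OmegaSh

namespace Groth.Agent.Lib.Helper51.Ribbon

open Groth.Agent.Lib.Helper49 Groth.Agent.Lib.Helper49.UnitChart Groth.Agent.Lib.Helper45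
  Groth.Agent.Lib.Helper13.OmegaShYoneda Groth.Agent.Lib.Helper51.OmegaUniv

section

variable {D C C' S SD : Scheme.{u}} {i : D ⟶ C} {i' : D ⟶ C'}
  {pC : C ⟶ S} {pC' : C' ⟶ S} {pD : D ⟶ SD}
  {Ω₁ : C.Modules} {d₁ : Der pC Ω₁} {Ω₁' : C'.Modules} {d₁' : Der pC' Ω₁'}
  {Ω₂ : D.Modules} {d₂ : Der pD Ω₂}
  {φ : Omega.conormal i ⟶ (Scheme.Modules.pullback i).obj Ω₁}
  {c : (Scheme.Modules.pullback i).obj Ω₁ ⟶ Ω₂}
  {φ' : Omega.conormal i' ⟶ (Scheme.Modules.pullback i').obj Ω₁'}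
  {c' : (Scheme.Modules.pullback i').obj Ω₁' ⟶ Ω₂}
  [HasExt.{w} D.Modules]

/-- An isomorphism of thickenings under `D` over the base induces an isomorphism of conormal
sheaves carrying one extension class to the other. -/
theorem exists_conormal_iso_of_iso (hd₁ : IsUniversal d₁) (hd₁' : IsUniversal d₁')
    (hc : IsDiffCompat i d₁ d₂ c) (hc' : IsDiffCompat i' d₁' d₂ c')
    (hw : φ ≫ c = 0) (hS : (ShortComplex.mk φ c hw).ShortExact)
    (hw' : φ' ≫ c' = 0) (hS' : (ShortComplex.mk φ' c' hw').ShortExact)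
    (ψ : C ≅ C') (hψi : i ≫ ψ.hom = i') (hψk : ψ.hom ≫ pC' = pC) :
    ∃ α : Omega.conormal i ≅ Omega.conormal i',
      hS.extClass.comp (Abelian.Ext.mk₀ α.hom) (add_zero 1) = hS'.extClass := by
  have hψi' : i' ≫ ψ.inv = i := by rw [← hψi, Category.assoc, ψ.hom_inv_id, Category.comp_id]
  have hψk' : ψ.inv ≫ pC = pC' := by rw [← hψk, ψ.inv_hom_id_assoc]
  obtain ⟨dg, hdg, -⟩ := existsUnique_diffCompat pC' pC ψ.hom (𝟙 _)
    (by rw [Category.comp_id, hψk]) Ω₁' d₁' hd₁' Ω₁ d₁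
  obtain ⟨dg', hdg', -⟩ := existsUnique_diffCompat pC pC' ψ.inv (𝟙 _)
    (by rw [Category.comp_id, hψk']) Ω₁ d₁ hd₁ Ω₁' d₁'
  -- `τ : i^*Ω₁ ⟶ i'^*Ω₁'` from `ψ.inv`, `τ' : i'^*Ω₁' ⟶ i^*Ω₁` from `ψ.hom`
  have hτ : middle i' i ψ.inv hψi' dg' ≫ c' = c := middle_comp i' i ψ.inv hψi' hd₁ hdg' hc' hc
  have hτ' : middle i i' ψ.hom hψi dg ≫ c = c' := middle_comp i i' ψ.hom hψi hd₁' hdg hc hc'
  have h1 : middle i' i ψ.inv hψi' dg' ≫ middle i i' ψ.hom hψi dg = 𝟙 _ :=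
    middle_comp_middle i i' ψ.hom ψ.inv hψi hψi' ψ.hom_inv_id hd₁ hdg hdg'
  have h2 : middle i i' ψ.hom hψi dg ≫ middle i' i ψ.inv hψi' dg' = 𝟙 _ :=
    middle_comp_middle i' i ψ.inv ψ.hom hψi' hψi ψ.inv_hom_id hd₁' hdg' hdg
  haveI : Mono φ := hS.mono_f
  haveI : Mono φ' := hS'.mono_f
  haveI : Mono (ShortComplex.mk φ c hw).f := hS.mono_f
  haveI : Mono (ShortComplex.mk φ' c' hw').f := hS'.mono_f
  let α₀ : Omega.conormal i ⟶ Omega.conormal i' :=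
    hS'.exact.lift (φ ≫ middle i' i ψ.inv hψi' dg') (by
      change (φ ≫ middle i' i ψ.inv hψi' dg') ≫ c' = 0
      rw [Category.assoc, hτ, hw])
  have hα₀ : α₀ ≫ φ' = φ ≫ middle i' i ψ.inv hψi' dg' := hS'.exact.lift_f _ _
  let β₀ : Omega.conormal i' ⟶ Omega.conormal i :=
    hS.exact.lift (φ' ≫ middle i i' ψ.hom hψi dg) (by
      change (φ' ≫ middle i i' ψ.hom hψi dg) ≫ c = 0
      rw [Category.assoc, hτ', hw'])
  have hβ₀ : β₀ ≫ φ = φ' ≫ middle i i' ψ.hom hψi dg := hS.exact.lift_f _ _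
  have hαβ : α₀ ≫ β₀ = 𝟙 _ := by
    rw [← cancel_mono φ, Category.assoc, hβ₀, ← Category.assoc, hα₀, Category.assoc, h1,
      Category.comp_id, Category.id_comp]
  have hβα : β₀ ≫ α₀ = 𝟙 _ := by
    rw [← cancel_mono φ', Category.assoc, hα₀, ← Category.assoc, hβ₀, Category.assoc, h2,
      Category.comp_id, Category.id_comp]
  refine ⟨⟨α₀, β₀, hαβ, hβα⟩, ?_⟩
  let F : ShortComplex.mk φ c hw ⟶ ShortComplex.mk φ' c' hw' :=
    { τ₁ := α₀
      τ₂ := middle i' i ψ.inv hψi' dg'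
      τ₃ := 𝟙 Ω₂
      comm₁₂ := hα₀
      comm₂₃ := by
        change _ ≫ c' = c ≫ 𝟙 _
        rw [Category.comp_id]
        exact hτ }
  have key := ShortComplex.ShortExact.extClass_naturality hS hS' F
  rw [Abelian.Ext.mk₀_id_comp] at key
  exact key

end

end Groth.Agent.Lib.Helper51.Ribbon
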