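import Mathlib
import Groth.Agent.Lib.Helper51.OmegaUniv.MiddleInv
import Groth.Agent.Lib.Helper51.RibbonExt

/-!
# Uniqueness of the extension with prescribed differential; inverse extensions (helper51)
-/

set_option autoImplicit false
set_option linter.style.haveILetI false
universe u
open AlgebraicGeometry CategoryTheory Limits TopologicalSpace Opposite TensorProduct OmegaSh

namespace Groth.Agent.Lib.Helper51.Ribbon

open Groth.Agent.Lib.Helper49 Groth.Agent.Lib.Helper49.UnitChart Groth.Agent.Lib.Helper45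
  Groth.Agent.Lib.Helper13.OmegaShYoneda Groth.Agent.Lib.Helper51.OmegaUniv
  Groth.Agent.Lib.Helper69

section Uniq

variable {D C X S SD : Scheme.{u}} {i : D ⟶ C} [IsClosedImmersion i] {f : D ⟶ X}
  {pC : C ⟶ S} {pD : D ⟶ SD} {pX : X ⟶ S}
  {Ω₁ : C.Modules} {d₁ : Der pC Ω₁} {Ω₂ : D.Modules} {d₂ : Der pD Ω₂}
  {Ω₃ : X.Modules} {d₃ : Der pX Ω₃}
  {φ : Omega.conormal i ⟶ (Scheme.Modules.pullback i).obj Ω₁}
  {c : (Scheme.Modules.pullback i).obj Ω₁ ⟶ Ω₂}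
  {s : (Scheme.Modules.pullback f).obj Ω₃ ⟶ (Scheme.Modules.pullback i).obj Ω₁}
  (H : Hyp i f d₁ d₂ d₃ φ c s)

/-- An extension of `f` whose differential restricts to `s` is the extension `H.ext`. -/
theorem Hyp.eq_ext (q : C ⟶ X) (hq : i ≫ q = f)
    (hd : ∀ (U : X.Opens) (a : Γ(X, U)),
      pullSLE i Ω₁ (q ⁻¹ᵁ U) (f ⁻¹ᵁ U) (le_of_comp_eq i f q hq U)
          (d₁.app (q ⁻¹ᵁ U) (q.app U a)) =
        s.app (f ⁻¹ᵁ U) (pullSLE f Ω₃ U (f ⁻¹ᵁ U) le_rfl (d₃.app U a))) :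
    q = H.ext := by
  have hbase : q.base = H.ext.base := by
    ext y
    obtain ⟨x, rfl⟩ := surjective_of_ker_sq i H.hI y
    have h1 : q (i x) = f x := by
      rw [← Scheme.Hom.comp_apply, hq]
    have h2 : H.ext (i x) = f x := by
      rw [← Scheme.Hom.comp_apply, H.comp_ext]
    exact h1.trans h2.symm
  refine Scheme.Hom.ext hbase ?_
  intro U
  ext a
  have E : H.opn U = q ⁻¹ᵁ U := by
    rw [← H.ext_preimage]
    ext y
    change H.ext.base y ∈ U ↔ q.base y ∈ U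
    rw [hbase]
  have hb : (q.app U ≫ C.presheaf.map (eqToHom (show H.ext ⁻¹ᵁ U = q ⁻¹ᵁ U from E)).op) a =
      fres E.le (q.app U a) := rfl
  refine hb.trans ?_
  refine H.eq_lift ⟨?_, ?_⟩
  · have e1 := appLE_fres i E.le (le_of_comp_eq i f q hq U) (H.le_opn U) (le_refl _) (q.app U a)
    refine e1.trans ?_
    have e3 := Scheme.Hom.appLE_comp_appLE i q U (q ⁻¹ᵁ U) (f ⁻¹ᵁ U) le_rfl
      (le_of_comp_eq i f q hq U)
    have e4 := congrArg (fun k => k.hom a) e3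
    have e5 := appLE_congr_hom' hq U (f ⁻¹ᵁ U)
      ((le_of_comp_eq i f q hq U).trans ((Opens.map i.base).map (homOfLE le_rfl)).le) (le_refl _)
    have e6 : i.appLE (q ⁻¹ᵁ U) (f ⁻¹ᵁ U) (le_of_comp_eq i f q hq U) (q.app U a) = f.app U a := by
      rw [Scheme.Hom.app_eq_appLE]
      refine e4.trans ?_
      rw [e5, ← Scheme.Hom.app_eq_appLE]
    rw [e6]
    change (D.presheaf.map (𝟙 _)) (f.app U a) = f.app U a
    rw [D.presheaf.map_id]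
    rfl
  · have e1 := pullSLE_der_fres (d₁ := d₁) i E.le (le_of_comp_eq i f q hq U) (H.le_opn U)
      (le_refl _) (q.app U a)
    refine e1.trans ?_
    rw [hd U a]
    exact mres_self _ _

end Uniq

section Inverse

variable {D C C' S SD : Scheme.{u}} {i : D ⟶ C} [IsClosedImmersion i] {i' : D ⟶ C'}
  [IsClosedImmersion i']
  {pC : C ⟶ S} {pD : D ⟶ SD} {pC' : C' ⟶ S}
  {Ω₁ : C.Modules} {d₁ : Der pC Ω₁} {Ω₂ : D.Modules} {d₂ : Der pD Ω₂}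
  {Ω₁' : C'.Modules} {d₁' : Der pC' Ω₁'}
  {φ : Omega.conormal i ⟶ (Scheme.Modules.pullback i).obj Ω₁}
  {c : (Scheme.Modules.pullback i).obj Ω₁ ⟶ Ω₂}
  {φ' : Omega.conormal i' ⟶ (Scheme.Modules.pullback i').obj Ω₁'}
  {c' : (Scheme.Modules.pullback i').obj Ω₁' ⟶ Ω₂}
  {s : (Scheme.Modules.pullback i').obj Ω₁' ⟶ (Scheme.Modules.pullback i).obj Ω₁}
  {s' : (Scheme.Modules.pullback i).obj Ω₁ ⟶ (Scheme.Modules.pullback i').obj Ω₁'}

omit [IsClosedImmersion i] [IsClosedImmersion i'] in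
/-- The hypotheses for the identity of `C`. -/
theorem Hyp.idHyp (H : Hyp i i' d₁ d₂ d₁' φ c s) :
    Hyp i i d₁ d₂ d₁ φ c (𝟙 ((Scheme.Modules.pullback i).obj Ω₁)) :=
  ⟨H.hI, H.hφ, H.hc, H.hw, H.hS, by rw [Category.id_comp]; exact H.hc⟩

omit [IsClosedImmersion i'] in
theorem Hyp.id_eq_ext (H : Hyp i i' d₁ d₂ d₁' φ c s) : 𝟙 C = H.idHyp.ext :=
  H.idHyp.eq_ext (𝟙 C) (Category.comp_id i) (fun _ _ => rfl)

/-- Extensions along inverse splittings are inverse to each other. -/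
theorem Hyp.ext_comp_ext (H : Hyp i i' d₁ d₂ d₁' φ c s) (H' : Hyp i' i d₁' d₂ d₁ φ' c' s')
    (hss : s' ≫ s = 𝟙 _) : H.ext ≫ H'.ext = 𝟙 C := by
  rw [H.id_eq_ext]
  have hq : i ≫ H.ext ≫ H'.ext = i := by rw [← Category.assoc, H.comp_ext, H'.comp_ext]
  refine H.idHyp.eq_ext _ hq ?_
  intro U a
  have h1 := (H.isLift_ext (H'.opn U) (H'.ext.app U a)).2
  have h2 := (H'.isLift_ext U a).2
  have e1 : pullSLE i Ω₁ ((H.ext ≫ H'.ext) ⁻¹ᵁ U) (i ⁻¹ᵁ U) (le_of_comp_eq i i _ hq U)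
      (d₁.app ((H.ext ≫ H'.ext) ⁻¹ᵁ U) ((H.ext ≫ H'.ext).app U a)) =
      mres _ (H'.le_opn U) (pullSLE i Ω₁ (H.opn (H'.opn U)) (i' ⁻¹ᵁ (H'.opn U))
        (H.le_opn (H'.opn U)) (d₁.app (H.opn (H'.opn U)) (H.ext.app (H'.opn U)
          (H'.ext.app U a)))) :=
    (mres_pullSLE i Ω₁ (H.opn (H'.opn U)) (H.le_opn (H'.opn U)) (H'.le_opn U) _).symm
  refine e1.trans ?_
  rw [h1]
  refine (app_mres s (H'.le_opn U) _).symm.trans ?_
  rw [mres_pullSLE]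
  have h2' : pullSLE i' Ω₁' (H'.opn U) (i ⁻¹ᵁ U) ((H'.le_opn U).trans le_rfl)
      (d₁'.app (H'.opn U) (H'.ext.app U a)) =
      s'.app (i ⁻¹ᵁ U) (pullSLE i Ω₁ U (i ⁻¹ᵁ U) le_rfl (d₁.app U a)) := h2
  rw [h2']
  exact congrArg (fun m : (Scheme.Modules.pullback i).obj Ω₁ ⟶ (Scheme.Modules.pullback i).obj Ω₁ =>
    m.app (i ⁻¹ᵁ U) (pullSLE i Ω₁ U (i ⁻¹ᵁ U) le_rfl (d₁.app U a))) hss

end Inverse

end Groth.Agent.Lib.Helper51.Ribbon
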