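import Mathlib
import Groth.Agent.Lib.Helper51.RibbonUniq
import Groth.Agent.Lib.Helper51.ExtClassHom

/-!
# Thickenings with isomorphic extension classes are isomorphic (helper51)
-/

set_option autoImplicit false
set_option linter.style.haveILetI false
universe w u
open AlgebraicGeometry CategoryTheory Limits TopologicalSpace Opposite TensorProduct OmegaSh

namespace Groth.Agent.Lib.Helper51.Ribbon

open Groth.Agent.Lib.Helper49 Groth.Agent.Lib.Helper49.UnitChart Groth.Agent.Lib.Helper45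
  Groth.Agent.Lib.Helper13.OmegaShYoneda Groth.Agent.Lib.Helper51.OmegaUniv

section

variable {D C C' S SD : Scheme.{u}} {i : D ⟶ C} {i' : D ⟶ C'}
  {pC : C ⟶ S} {pC' : C' ⟶ S} {pD : D ⟶ SD}
  {Ω₁ : C.Modules} {d₁ : Der pC Ω₁} {Ω₁' : C'.Modules} {d₁' : Der pC' Ω₁'}
  {Ω₂ : D.Modules} {d₂ : Der pD Ω₂}
  {φ : Omega.conormal i ⟶ (Scheme.Modules.pullback i).obj Ω₁}
  {c : (Scheme.Modules.pullback i).obj Ω₁ ⟶ Ω₂}
  {φ' : Omega.conormal i' ⟶ (Scheme.Modules.pullback i').obj Ω₁'}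
  {c' : (Scheme.Modules.pullback i').obj Ω₁' ⟶ Ω₂}
  [HasExt.{w} D.Modules]

/-- Two square-zero thickenings of `D` over an affine base, with short exact restricted cotangent
sequences, whose extension classes correspond under an isomorphism of conormal sheaves are
isomorphic under `D` over the base. -/
theorem exists_iso_of_conormal_iso [IsAffine S] [IsClosedImmersion i] [IsClosedImmersion i']
    (hI : i.ker ^ 2 = ⊥) (hI' : i'.ker ^ 2 = ⊥) (hp : i' ≫ pC' = i ≫ pC)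
    (hφ : IsConormalDiff i d₁ φ) (hφ' : IsConormalDiff i' d₁' φ')
    (hc : IsDiffCompat i d₁ d₂ c) (hc' : IsDiffCompat i' d₁' d₂ c')
    (hw : φ ≫ c = 0) (hS : (ShortComplex.mk φ c hw).ShortExact)
    (hw' : φ' ≫ c' = 0) (hS' : (ShortComplex.mk φ' c' hw').ShortExact)
    (α : Omega.conormal i ≅ Omega.conormal i')
    (h : hS.extClass.comp (Abelian.Ext.mk₀ α.hom) (add_zero 1) = hS'.extClass) :
    ∃ ψ : C ≅ C', i ≫ ψ.hom = i' ∧ ψ.hom ≫ pC' = pC := by
  obtain ⟨β, hβ1, hβ2⟩ := exists_middle_of_extClass_comp_eq hw hS hw' hS' α.hom h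
  let F : ShortComplex.mk φ c hw ⟶ ShortComplex.mk φ' c' hw' :=
    { τ₁ := α.hom
      τ₂ := β
      τ₃ := 𝟙 Ω₂
      comm₁₂ := hβ1.symm
      comm₂₃ := by
        change β ≫ c' = c ≫ 𝟙 _
        rw [Category.comp_id]
        exact hβ2 }
  haveI hβiso : IsIso β :=
    ShortComplex.isIso₂_of_shortExact_of_isIso₁₃' F hS hS'
      (inferInstanceAs (IsIso α.hom)) (inferInstanceAs (IsIso (𝟙 Ω₂)))
  have hinv : inv β ≫ c = c' := by
    rw [← hβ2, IsIso.inv_hom_id_assoc]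
  have H : Hyp i i' d₁ d₂ d₁' φ c (inv β) :=
    ⟨hI, hφ, hc, hw, hS, by rw [hinv]; exact hc'⟩
  have H' : Hyp i' i d₁' d₂ d₁ φ' c' β :=
    ⟨hI', hφ', hc', hw', hS', by rw [hβ2]; exact hc⟩
  refine ⟨⟨H.ext, H'.ext, H.ext_comp_ext H' (IsIso.hom_inv_id β),
    H'.ext_comp_ext H (IsIso.inv_hom_id β)⟩, H.comp_ext, H.ext_comp hp⟩

end

end Groth.Agent.Lib.Helper51.Ribbon
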