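import Mathlib
import Groth.Agent.Lib.Helper18.NilpAffine

set_option autoImplicit false
set_option linter.style.haveILetI false
universe u
open AlgebraicGeometry CategoryTheory Limits

namespace Groth.Agent.Lib.Helper51.RibbonSplitAff

/-- Ring-level: a smooth quotient by a nilpotent ideal has a section over the base. -/
theorem exists_section_of_smooth {R B A : CommRingCat.{u}} (φ : R ⟶ B) (ψ : B ⟶ A)
    (hsurj : Function.Surjective ψ.hom) (hnil : IsNilpotent (RingHom.ker ψ.hom))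
    (hsm : (φ ≫ ψ).hom.Smooth) :
    ∃ σ : A ⟶ B, σ ≫ ψ = 𝟙 A ∧ (φ ≫ ψ) ≫ σ = φ := by
  letI := φ.hom.toAlgebra
  letI := (φ ≫ ψ).hom.toAlgebra
  haveI : Algebra.Smooth R A := hsm
  let ψa : B →ₐ[R] A := ⟨ψ.hom, fun r => rfl⟩
  let σ : A →ₐ[R] B := Algebra.FormallySmooth.liftOfSurjective (AlgHom.id R A) ψa hsurj hnil
  refine ⟨CommRingCat.ofHom σ.toRingHom, ?_, ?_⟩
  · ext x
    exact Algebra.FormallySmooth.liftOfSurjective_apply (AlgHom.id R A) ψa hsurj hnil x
  · ext x
    exact σ.commutes x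

/-- Scheme-level: a nilpotent thickening `i : D ⟶ C` over an affine base `S`, with `D` affine and
smooth over `S`, has a retraction over `S`. -/
theorem exists_retraction {D C S : Scheme.{u}} (i : D ⟶ C) (p : C ⟶ S) [IsAffine S] [IsAffine D]
    [IsClosedImmersion i] (n : ℕ) (hn : i.ker ^ n = ⊥) [Smooth (i ≫ p)] :
    ∃ r : C ⟶ D, i ≫ r = 𝟙 D ∧ r ≫ i ≫ p = p := by
  haveI : IsAffine C := Groth.Agent.Lib.Helper18.isAffine_of_isClosedImmersion_of_ker_pow_eq_bot i n hn
  have hsurj : Function.Surjective i.appTop.hom :=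
    (IsClosedImmersion.isAffine_surjective_of_isAffine i).2
  have hnil : IsNilpotent (RingHom.ker i.appTop.hom) := by
    refine ⟨n, ?_⟩
    have h1 := i.ker_apply ⟨⊤, isAffineOpen_top C⟩
    have h2 := congrArg (fun J : C.IdealSheafData => J.ideal ⟨⊤, isAffineOpen_top C⟩) hn
    simp only [Scheme.IdealSheafData.ideal_pow, Scheme.IdealSheafData.ideal_bot, Pi.pow_apply,
      Pi.bot_apply] at h2
    rw [h1] at h2
    exact h2
  have hsm : (p.appTop ≫ i.appTop).hom.Smooth := by
    have h := Smooth.smooth_appLE (i ≫ p) (isAffineOpen_top S) (isAffineOpen_top D) le_top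
    have e : (i ≫ p).appLE ⊤ ⊤ le_top = p.appTop ≫ i.appTop := by
      rw [← Scheme.Hom.comp_appTop]
      simp [Scheme.Hom.appTop, Scheme.Hom.app_eq_appLE]
    rw [e] at h
    exact h
  obtain ⟨σ, h1, h2⟩ := exists_section_of_smooth p.appTop i.appTop hsurj hnil hsm
  refine ⟨C.isoSpec.hom ≫ Spec.map σ ≫ D.isoSpec.inv, ?_, ?_⟩
  · rw [← Scheme.isoSpec_hom_naturality_assoc, ← Spec.map_comp_assoc, h1]
    simp
  · rw [Category.assoc, Category.assoc, ← Scheme.isoSpec_inv_naturality (i ≫ p),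
      ← Spec.map_comp_assoc, Scheme.Hom.comp_appTop, h2, Scheme.isoSpec_inv_naturality,
      Iso.hom_inv_id_assoc]

end Groth.Agent.Lib.Helper51.RibbonSplitAff
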