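import Mathlib
import Groth.Agent.Lib.Helper51.RibbonIso2
import Groth.Agent.Lib.Helper80.ConormalDiffMk
import Groth.Agent.Lib.Helper80.OmegaUniversal
import Groth.Agent.S9384

/-!
# Split square-zero thickenings with isomorphic conormal sheaves are isomorphic (helper51)
-/

set_option autoImplicit false
set_option linter.style.haveILetI false
universe w u
open AlgebraicGeometry CategoryTheory Limits TopologicalSpace Opposite TensorProduct OmegaSh

namespace Groth.Agent.Lib.Helper51.Ribbon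

open Groth.Agent.Lib.Helper49 Groth.Agent.Lib.Helper49.UnitChart Groth.Agent.Lib.Helper45
  Groth.Agent.Lib.Helper13.OmegaShYoneda Groth.Agent.Lib.Helper51.OmegaUniv

theorem isUniversal_derCongr {X Y : Scheme.{u}} {f f' : X ⟶ Y} (h : f = f') {Ω : X.Modules}
    {d : Der f Ω} (hd : IsUniversal d) : IsUniversal (derCongr h d) := by
  subst h
  exact hd

/-- The class of a short exact sequence with a section is zero. -/
theorem extClass_eq_zero_of_section {A : Type*} [Category A] [Abelian A] [HasExt.{w} A]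
    {S : ShortComplex A} (hS : S.ShortExact) (σ : S.X₃ ⟶ S.X₂) (hσ : σ ≫ S.g = 𝟙 _) :
    hS.extClass = 0 := by
  have h1 := Abelian.Ext.mk₀_comp_mk₀_assoc σ S.g hS.extClass
  rw [hσ] at h1
  have h1' : (Abelian.Ext.mk₀ (𝟙 S.X₃)).comp hS.extClass (zero_add 1) = hS.extClass :=
    Abelian.Ext.mk₀_id_comp hS.extClass
  rw [hS.comp_extClass, Abelian.Ext.comp_zero] at h1
  exact h1'.symm.trans h1.symm

section

variable {D C S : Scheme.{u}} [IsAffine S] (pD : D ⟶ S) (i : D ⟶ C) [IsClosedImmersion i]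
  (sC : C ⟶ S)

theorem quasiSeparatedSpace_of_ker_sq [QuasiSeparatedSpace D] (hI : i.ker ^ 2 = ⊥) :
    QuasiSeparatedSpace C :=
  (quasiSeparatedSpace_congr
    (i.isClosedEmbedding.isEmbedding.toHomeomorphOfSurjective (surjective_of_ker_sq i hI))).mp
    inferInstance

/-- A split square-zero thickening has a short exact restricted cotangent sequence with a
section. -/
theorem exists_cotangentSeq_of_split [QuasiSeparatedSpace D] (hI : i.ker ^ 2 = ⊥)
    (hp : i ≫ sC = pD) (ρ : C ⟶ D) (hρ : i ≫ ρ = 𝟙 D) (hρk : ρ ≫ i ≫ sC = sC)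
    {Ω₂ : D.Modules} (d₂ : Der pD Ω₂) (hd₂ : IsUniversal d₂) :
    ∃ (Ω₁ : C.Modules) (d₁ : Der sC Ω₁)
      (φ : Omega.conormal i ⟶ (Scheme.Modules.pullback i).obj Ω₁)
      (c : (Scheme.Modules.pullback i).obj Ω₁ ⟶ Ω₂) (hw : φ ≫ c = 0),
      IsConormalDiff i d₁ φ ∧ IsDiffCompat i d₁ d₂ c ∧
        (ShortComplex.mk φ c hw).ShortExact ∧ ∃ σ : Ω₂ ⟶ _, σ ≫ c = 𝟙 _ := by
  haveI : QuasiSeparatedSpace C := quasiSeparatedSpace_of_ker_sq i hI
  haveI : QuasiSeparated sC := (HasAffineProperty.iff_of_isAffine (P := @QuasiSeparated)).mpr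
    inferInstance
  have hd₁ : IsUniversal (dOmega sC) := Groth.Agent.Lib.Helper80.OmegaUniversal.isUniversal_dOmega sC
  have hφ := Groth.Agent.Lib.Helper80.ConormalDiffMk.isConormalDiff i (dOmega sC)
  obtain ⟨c, hc, -⟩ := existsUnique_diffCompat sC pD i (𝟙 _)
    (by rw [Category.comp_id, hp]) _ (dOmega sC) hd₁ Ω₂ d₂
  have hc' : IsDiffCompat i (dOmega sC) (derCongr hp.symm d₂) c := by
    intro U s
    rw [derCongr_app]
    exact hc U s
  obtain ⟨w, hex, ⟨r, hr⟩, ⟨σ, hσ⟩⟩ := Groth.Agent.S9384.result sC i ρ hρ hρk _ (dOmega sC) hd₁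
    Ω₂ (derCongr hp.symm d₂) (isUniversal_derCongr hp.symm hd₂) _ hφ c hc'
  haveI : Mono (Groth.Agent.Lib.Helper80.ConormalDiffMk.conormalDiff i (dOmega sC)) :=
    mono_of_mono_fac hr
  haveI : Epi c := epi_of_epi_fac hσ
  exact ⟨_, dOmega sC, _, c, w, hφ, hc, ShortComplex.ShortExact.mk' hex ‹_› ‹_›, σ, hσ⟩

end

section

variable {D C C' S : Scheme.{u}} [IsAffine S] (pD : D ⟶ S) [QuasiSeparatedSpace D]
  (i : D ⟶ C) [IsClosedImmersion i] (sC : C ⟶ S)
  (i' : D ⟶ C') [IsClosedImmersion i'] (sC' : C' ⟶ S)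

/-- Two split square-zero thickenings of `D` over an affine base with isomorphic conormal sheaves
are isomorphic under `D` over the base. -/
theorem exists_iso_of_split (hI : i.ker ^ 2 = ⊥) (hp : i ≫ sC = pD)
    (ρ : C ⟶ D) (hρ : i ≫ ρ = 𝟙 D) (hρk : ρ ≫ i ≫ sC = sC)
    (hI' : i'.ker ^ 2 = ⊥) (hp' : i' ≫ sC' = pD)
    (ρ' : C' ⟶ D) (hρ' : i' ≫ ρ' = 𝟙 D) (hρk' : ρ' ≫ i' ≫ sC' = sC')
    (α : Omega.conormal i ≅ Omega.conormal i') :
    ∃ ψ : C ≅ C', i ≫ ψ.hom = i' ∧ ψ.hom ≫ sC' = sC := by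
  haveI : QuasiSeparated pD := (HasAffineProperty.iff_of_isAffine (P := @QuasiSeparated)).mpr
    inferInstance
  have hd₂ : IsUniversal (dOmega pD) := Groth.Agent.Lib.Helper80.OmegaUniversal.isUniversal_dOmega pD
  obtain ⟨Ω₁, d₁, φ, c, hw, hφ, hc, hS, σ, hσ⟩ :=
    exists_cotangentSeq_of_split pD i sC hI hp ρ hρ hρk (dOmega pD) hd₂
  obtain ⟨Ω₁', d₁', φ', c', hw', hφ', hc', hS', σ', hσ'⟩ :=
    exists_cotangentSeq_of_split pD i' sC' hI' hp' ρ' hρ' hρk' (dOmega pD) hd₂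
  haveI : HasExt.{max (u + 1) u} D.Modules := HasExt.standard _
  have h0 : hS.extClass = 0 := extClass_eq_zero_of_section hS σ hσ
  have h0' : hS'.extClass = 0 := extClass_eq_zero_of_section hS' σ' hσ'
  refine exists_iso_of_conormal_iso hI hI' (hp'.trans hp.symm) hφ hφ' hc hc' hw hS hw' hS' α ?_
  rw [h0, h0', Abelian.Ext.zero_comp]

end

end Groth.Agent.Lib.Helper51.Ribbon
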