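import Mathlib
import Groth.Agent.Lib.Helper10.LciComp
import Groth.Agent.Lib.Helper10.RegDescentFamily
import Groth.Agent.Lib.Helper10.LciSmooth
import Groth.Agent.Lib.Helper51.RegQuot

/-!
# Regularity of `ker (A → C)` from regularity of `ker (B → C)` for `B` smooth over `A` (helper51)
-/

set_option autoImplicit false
set_option linter.style.haveILetI false
universe u

namespace Groth.Agent.Lib.Helper51.SmoothDescend

open TensorProduct
open Groth.Agent.Lib.Helper10.RegDescent Groth.Agent.Lib.Helper10.FlatLocal
  Groth.Agent.Lib.Helper51.RegQuot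

section Unram

variable {P B C : Type u} [CommRing P] [CommRing B] [CommRing C] [Algebra P B]

/-- **Sections of unramified maps are open immersions**, in ideal form: if `B` is unramified and
essentially of finite type over `P` and `P → B → C` is surjective, then there is `h ∈ B` mapping to
`1` in `C` which multiplies `ker (B → C)` into the extension of `ker (P → C)`. -/
theorem exists_mul_mem_map_ker [Algebra.FormallyUnramified P B] [Algebra.EssFiniteType P B]
    (ψ : B →+* C) (hsurj : Function.Surjective (ψ.comp (algebraMap P B))) :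
    ∃ h : B, ψ h = 1 ∧ ∀ x ∈ RingHom.ker ψ,
      h * x ∈ (RingHom.ker (ψ.comp (algebraMap P B))).map (algebraMap P B) := by
  obtain ⟨t, ht1, ht2⟩ := Algebra.FormallyUnramified.iff_exists_tensorProduct.mp
    (inferInstance : Algebra.FormallyUnramified P B)
  set K : Ideal P := RingHom.ker (ψ.comp (algebraMap P B)) with hK
  set KB : Ideal B := K.map (algebraMap P B) with hKB
  let q : B →+* B ⧸ KB := Ideal.Quotient.mk KB
  -- `γ : C → B/KB`
  have hle : K ≤ RingHom.ker (q.comp (algebraMap P B)) := by
    intro k hk
    rw [RingHom.mem_ker, RingHom.comp_apply]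
    exact Ideal.Quotient.eq_zero_iff_mem.mpr (Ideal.mem_map_of_mem _ hk)
  let γ : C →+* B ⧸ KB := RingHom.liftOfSurjective (ψ.comp (algebraMap P B)) hsurj
    ⟨q.comp (algebraMap P B), hle⟩
  have hγ : ∀ p : P, γ (ψ (algebraMap P B p)) = q (algebraMap P B p) := by
    intro p
    exact RingHom.liftOfRightInverse_comp_apply _ _ _ ⟨q.comp (algebraMap P B), hle⟩ p
  -- `ψ̄ : B/KB → C`
  have hle' : ∀ x ∈ KB, ψ x = 0 := by
    intro x hx
    have : KB ≤ RingHom.ker ψ := by
      rw [hKB, Ideal.map_le_iff_le_comap]
      intro k hk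
      exact hk
    exact this hx
  let ψbar : B ⧸ KB →+* C := Ideal.Quotient.lift KB ψ hle'
  have hψbar : ∀ x, ψbar (q x) = ψ x := fun x => Ideal.Quotient.lift_mk _ _ _
  have hψγ : ∀ c, ψbar (γ c) = c := by
    intro c
    obtain ⟨p, rfl⟩ := hsurj c
    rw [RingHom.comp_apply, hγ, hψbar]
  -- the two algebra maps `B → B/KB`
  let f₁ : B →ₐ[P] B ⧸ KB :=
    { toRingHom := γ.comp ψ
      commutes' := fun p => by
        show γ (ψ (algebraMap P B p)) = _
        rw [hγ]
        rfl }
  let f₂ : B →ₐ[P] B ⧸ KB :=
    { toRingHom := q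
      commutes' := fun p => rfl }
  let Φ : B ⊗[P] B →ₐ[P] B ⧸ KB := Algebra.TensorProduct.productMap f₁ f₂
  have hΦ : ∀ s s' : B, Φ (s ⊗ₜ s') = γ (ψ s) * q s' := fun s s' =>
    Algebra.TensorProduct.productMap_apply_tmul f₁ f₂ s s'
  have hΦψ : ∀ y : B ⊗[P] B, ψbar (Φ y) = ψ (Algebra.TensorProduct.lmul' P y) := by
    intro y
    induction y using TensorProduct.induction_on with
    | zero => simp
    | tmul s s' =>
      rw [hΦ, map_mul, hψγ, hψbar, Algebra.TensorProduct.lmul'_apply_tmul, map_mul]
    | add y₁ y₂ h₁ h₂ => rw [map_add, map_add, h₁, h₂, map_add, map_add]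
  obtain ⟨h, hh⟩ := Ideal.Quotient.mk_surjective (Φ t)
  refine ⟨h, ?_, ?_⟩
  · have := hΦψ t
    rw [ht2, map_one, ← hh, hψbar] at this
    exact this
  · intro x hx
    have h1 := congrArg Φ (ht1 x)
    rw [map_mul, map_sub, hΦ, hΦ, map_zero, map_one, map_one, map_one, one_mul,
      RingHom.mem_ker.mp hx, map_zero, zero_mul, sub_zero] at h1
    rw [← Ideal.Quotient.eq_zero_iff_mem, map_mul, hh, mul_comm]
    exact h1

end Unram

section StepA

variable {K : Kind.{u}} {P B C : Type u} [CommRing P] [CommRing B] [CommRing C] [Algebra P B]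

/-- the family used for the descent. -/
def Fam (h₀ : B) (s : Finset P) : Option s → Type u
  | none => Localization.Away h₀
  | some k => Localization.Away (k : P)

instance (h₀ : B) (s : Finset P) : ∀ o, CommRing (Fam h₀ s o)
  | none => inferInstanceAs (CommRing (Localization.Away h₀))
  | some k => inferInstanceAs (CommRing (Localization.Away (k : P)))

/-- the maps of the family. -/
def famMap (h₀ : B) (s : Finset P) : ∀ o, P →+* Fam h₀ s o
  | none => (algebraMap B (Localization.Away h₀)).comp (algebraMap P B)
  | some k => algebraMap P (Localization.Away (k : P))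

lemma ker_fg_of_finitePresentation' {A B : Type u} [CommRing A] [CommRing B] (f : A →+* B)
    (hf : f.FinitePresentation) (hsurj : Function.Surjective f) : (RingHom.ker f).FG := by
  algebraize [f]
  exact Algebra.FinitePresentation.ker_fG_of_surjective (Algebra.ofId A B) hsurj

/-- **Step A (étale descent).**  If `B` is étale over `P`, `ψ : B → C` is surjective with
`P → B → C` surjective, and `ker ψ` is locally of kind `K`, then so is `ker (P → C)`. -/
theorem isLoc_ker_comp_of_etale [Algebra.Etale P B] (ψ : B →+* C)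
    (hsurj : Function.Surjective (ψ.comp (algebraMap P B)))
    (h : IsLoc K (RingHom.ker ψ)) : IsLoc K (RingHom.ker (ψ.comp (algebraMap P B))) := by
  classical
  have hψ : Function.Surjective ψ := Function.Surjective.of_comp hsurj
  obtain ⟨h₀, hh1, hh2⟩ := exists_mul_mem_map_ker ψ hsurj
  -- finite generation of the kernel
  have hfp : (ψ.comp (algebraMap P B)).FinitePresentation := by
    have h1 : (algebraMap P B).FinitePresentation :=
      RingHom.finitePresentation_algebraMap.mpr inferInstance
    have h2 : ψ.FinitePresentation := RingHom.FinitePresentation.of_surjective ψ hψ h.fg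
    exact h2.comp h1
  obtain ⟨s, hs⟩ := ker_fg_of_finitePresentation' _ hfp hsurj
  have hflatB : (algebraMap P B).Flat := RingHom.flat_algebraMap_iff.mpr inferInstance
  apply isLoc_of_flat_family (ι := Option s) (Fam h₀ s) _ (famMap h₀ s)
  · rintro (_ | k)
    · exact hflatB.comp (algebraMap_away_flat h₀)
    · exact algebraMap_away_flat (k : P)
  · intro 𝔭
    by_cases hK𝔭 : RingHom.ker (ψ.comp (algebraMap P B)) ≤ 𝔭.asIdeal
    · have hmem : 𝔭 ∈ Set.range (PrimeSpectrum.comap (ψ.comp (algebraMap P B))) := by
        rw [range_comap_of_surjective _ _ hsurj]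
        exact hK𝔭
      obtain ⟨𝔭', h𝔭'⟩ := hmem
      have hh₀ : h₀ ∉ (𝔭'.comap ψ).asIdeal := by
        intro hmem
        have h1 : ψ h₀ ∈ 𝔭'.asIdeal := hmem
        rw [hh1] at h1
        exact 𝔭'.isPrime.ne_top ((Ideal.eq_top_iff_one _).mpr h1)
      obtain ⟨𝔮'', h𝔮''⟩ := exists_prime_away' h₀ (𝔭'.comap ψ) hh₀
      refine ⟨none, 𝔮'', ?_⟩
      show (𝔮''.comap (algebraMap B (Localization.Away h₀))).comap (algebraMap P B) = 𝔭
      rw [h𝔮'', ← h𝔭']
      rfl
    · have hex : ∃ k : s, (k : P) ∉ 𝔭.asIdeal := by
        by_contra hne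
        apply hK𝔭
        rw [← hs, Ideal.span_le]
        intro x hx
        by_contra hx𝔭
        exact hne ⟨⟨x, hx⟩, hx𝔭⟩
      obtain ⟨k, hk⟩ := hex
      obtain ⟨𝔮, h𝔮⟩ := exists_prime_away' (k : P) 𝔭 hk
      exact ⟨some k, 𝔮, h𝔮⟩
  · rintro (_ | k)
    · show IsLoc K ((RingHom.ker (ψ.comp (algebraMap P B))).map
        ((algebraMap B (Localization.Away h₀)).comp (algebraMap P B)))
      have heq : (RingHom.ker (ψ.comp (algebraMap P B))).map
          ((algebraMap B (Localization.Away h₀)).comp (algebraMap P B)) =
          (RingHom.ker ψ).map (algebraMap B (Localization.Away h₀)) := by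
        rw [← Ideal.map_map]
        apply le_antisymm
        · apply Ideal.map_mono
          rw [Ideal.map_le_iff_le_comap]
          intro k hk
          exact hk
        · rw [Ideal.map_le_iff_le_comap]
          intro x hx
          rw [Ideal.mem_comap]
          have h1 := Ideal.mem_map_of_mem (algebraMap B (Localization.Away h₀)) (hh2 x hx)
          rw [map_mul] at h1
          obtain ⟨v, hv⟩ := (IsLocalization.Away.algebraMap_isUnit (S := Localization.Away h₀)
            h₀).exists_left_inv
          have h2 := Ideal.mul_mem_left _ v h1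
          rw [← mul_assoc, hv, one_mul] at h2
          exact h2
      rw [heq]
      exact Groth.Agent.Lib.Helper10.LciComp.isLoc_map_of_flat _ (algebraMap_away_flat h₀) _ h
    · show IsLoc K ((RingHom.ker (ψ.comp (algebraMap P B))).map
        (algebraMap P (Localization.Away (k : P))))
      intro 𝔮 h𝔮
      exfalso
      apply 𝔮.isPrime.ne_top
      rw [eq_top_iff]
      refine le_trans ?_ h𝔮
      rw [top_le_iff]
      have hk : (k : P) ∈ RingHom.ker (ψ.comp (algebraMap P B)) := by
        rw [← hs]
        exact Ideal.subset_span k.2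
      exact Ideal.eq_top_of_isUnit_mem _ (Ideal.mem_map_of_mem _ hk)
        (IsLocalization.Away.algebraMap_isUnit (k : P))

end StepA

section StepB

variable {K : Kind.{u}} {A T : Type u} [CommRing A] [CommRing T]

open MvPolynomial in
/-- `p ≡ p(a)` modulo the ideal `(X_i - a_i)`. -/
lemma sub_C_eval_mem {n : ℕ} (a : Fin n → A) (p : MvPolynomial (Fin n) A) :
    p - C (eval a p) ∈ Ideal.span (Set.range fun i : Fin n => (X i - C (a i) : MvPolynomial (Fin n) A)) := by
  induction p using MvPolynomial.induction_on with
  | C r => simp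
  | add p q hp hq =>
    have : p + q - C (eval a (p + q)) = (p - C (eval a p)) + (q - C (eval a q)) := by
      rw [map_add, map_add]
      ring
    rw [this]
    exact Ideal.add_mem _ hp hq
  | mul_X p i hp =>
    have : p * X i - C (eval a (p * X i)) =
        (p - C (eval a p)) * X i + C (eval a p) * (X i - C (a i)) := by
      rw [map_mul, eval_X, map_mul]
      ring
    rw [this]
    exact Ideal.add_mem _ (Ideal.mul_mem_right _ _ hp)
      (Ideal.mul_mem_left _ _ (Ideal.subset_span ⟨i, rfl⟩))

open MvPolynomial in
/-- **Step B (evaluation).**  If `A → C` is surjective and the kernel of `A[X₁,…,Xₙ] → C` is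
locally of kind `K`, then so is the kernel of `A → C`. -/
theorem isLoc_ker_of_mvPolynomial (hstep : QuotStep K) (n : ℕ)
    (πP : MvPolynomial (Fin n) A →+* T)
    (hsurj : Function.Surjective (πP.comp (C : A →+* MvPolynomial (Fin n) A)))
    (h : IsLoc K (RingHom.ker πP)) :
    IsLoc K (RingHom.ker (πP.comp (C : A →+* MvPolynomial (Fin n) A))) := by
  classical
  have hch : ∀ i : Fin n, ∃ r : A, πP (C r) = πP (X i) := fun i => hsurj (πP (X i))
  choose a' ha' using hch
  set ε : MvPolynomial (Fin n) A →+* A := eval a' with hεdef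
  have hε : Function.Surjective ε := fun r => ⟨C r, eval_C r⟩
  have hπ : πP = (πP.comp (C : A →+* MvPolynomial (Fin n) A)).comp ε := by
    apply MvPolynomial.ringHom_ext
    · intro r
      simp [hεdef]
    · intro i
      simp only [RingHom.comp_apply, hεdef, eval_X]
      exact (ha' i).symm
  have hcomap : (RingHom.ker (πP.comp (C : A →+* MvPolynomial (Fin n) A))).comap ε =
      RingHom.ker πP := by
    rw [RingHom.comap_ker, ← hπ]
  set f : Fin n → MvPolynomial (Fin n) A := fun i => X i - C (a' i) with hf
  have hfε : ∀ i, ε (f i) = 0 := by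
    intro i
    simp [hεdef, hf]
  have hlen : (List.ofFn f).length = n := List.length_ofFn
  have hker : RingHom.ker ε = Ideal.ofList (List.ofFn f) := by
    have h1 : Ideal.ofList (List.ofFn f) = Ideal.span (Set.range f) := by
      rw [Ideal.ofList]
      congr 1
      ext y
      simp [List.mem_ofFn]
    rw [h1]
    apply le_antisymm
    · intro p hp
      have h2 := sub_C_eval_mem a' p
      rw [show eval a' p = 0 from hp, map_zero, sub_zero] at h2
      exact h2
    · rw [Ideal.span_le]
      rintro _ ⟨i, rfl⟩
      exact hfε i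
  -- the derivations
  let D : Fin n → MvPolynomial (Fin n) A →+ A := fun i =>
    { toFun := fun p => ε (pderiv i p)
      map_zero' := by simp
      map_add' := fun p q => by simp }
  have hD : ∀ i x y, D i (x * y) = ε x * D i y + D i x * ε y := by
    intro i x y
    show ε (pderiv i (x * y)) = ε x * ε (pderiv i y) + ε (pderiv i x) * ε y
    rw [Derivation.leibniz, map_add, smul_eq_mul, smul_eq_mul, map_mul, map_mul]
    ring
  have hDf : ∀ i k, D i (f k) = if k = i then (1 : A) else 0 := by
    intro i k
    show ε (pderiv i (X k - C (a' k))) = _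
    rw [map_sub, pderiv_X, pderiv_C, sub_zero]
    by_cases hki : k = i
    · subst hki
      simp
    · rw [if_neg hki, Pi.single_eq_of_ne hki, map_zero]
  rw [isLoc_iff_exists_isLocalization]
  intro 𝔮 hJ𝔮
  refine exists_data_of_comap hstep ε hε (List.ofFn f) hker _ 𝔮 hJ𝔮 ?_ (by
    rw [hcomap]
    exact h)
  intro c hc
  have key := Groth.Agent.Lib.Helper10.LciTrans.ind_of_derivation ε D hD f hfε (fun _ => 1) hDf
    𝔮.asIdeal (fun _ h1 => 𝔮.isPrime.ne_top ((Ideal.eq_top_iff_one _).mpr h1))
    ((RingHom.ker (πP.comp (C : A →+* MvPolynomial (Fin n) A))).comap ε)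
    (Ideal.comap_mono hJ𝔮) (fun i => c (Fin.cast hlen.symm i)) (by
      convert hc using 1
      refine Fintype.sum_equiv (finCongr hlen.symm) _ _ (fun i => ?_)
      rw [List.get_ofFn]
      rfl)
  intro i
  have := key (Fin.cast hlen i)
  simpa using this

end StepB

end Groth.Agent.Lib.Helper51.SmoothDescend
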