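import Mathlib
import Groth.Agent.Lib.Helper51.SmoothDescend

/-!
# Sections of algebras étale over a polynomial ring (helper51)

* `isWeaklyRegular_X_sub_C`: the sequence `X_i - a_i` is weakly regular in `A[X_1, …, X_n]`
  (the combinatorial part is adapted from helper93's `KoszulPoly.isWeaklyRegular_xpow`).
* `exists_regular_of_etale_section`: if `B` is étale over `A[X_1, …, X_n]` and `ρ : B → A` is a
  retraction of `A → B`, then after inverting some `h` with `ρ h = 1` the kernel of `ρ` is generated
  by the weakly regular sequence `X_i - ρ X_i`.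
-/

set_option autoImplicit false
set_option linter.style.haveILetI false
universe u

namespace Groth.Agent.Lib.Helper51.SectionReg

open MvPolynomial RingTheory.Sequence

section Vars

variable (A : Type u) [CommRing A] (k : ℕ)

/-- the variables, as a list. -/
noncomputable def xs : List (MvPolynomial (Fin k) A) :=
  List.ofFn fun j : Fin k => (X j : MvPolynomial (Fin k) A)

lemma xs_length : (xs A k).length = k := List.length_ofFn

/-- the exponents of the first `i` variables. -/
def expSet (i : ℕ) : Set (Fin k →₀ ℕ) := {s | ∃ j : Fin k, j.val < i ∧ s = Finsupp.single j 1}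

lemma ofList_take (i : ℕ) :
    Ideal.ofList ((xs A k).take i) =
      Ideal.span ((fun s => monomial s (1 : A)) '' expSet k i) := by
  unfold Ideal.ofList
  congr 1
  ext x
  simp only [Set.mem_ofPred_eq, Set.mem_image, expSet]
  rw [List.mem_take_iff_getElem]
  constructor
  · rintro ⟨j, hj, rfl⟩
    rw [lt_min_iff, xs_length] at hj
    refine ⟨Finsupp.single ⟨j, hj.2⟩ 1, ⟨⟨j, hj.2⟩, hj.1, rfl⟩, ?_⟩
    unfold xs
    rw [List.getElem_ofFn]
    rfl
  · rintro ⟨s, ⟨j, hj, rfl⟩, rfl⟩
    refine ⟨j.val, by rw [lt_min_iff, xs_length]; exact ⟨hj, j.2⟩, ?_⟩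
    unfold xs
    rw [List.getElem_ofFn]
    rfl

lemma mem_ofList_take_iff (i : ℕ) (p : MvPolynomial (Fin k) A) :
    p ∈ Ideal.ofList ((xs A k).take i) ↔
      ∀ m ∈ p.support, ∃ j : Fin k, j.val < i ∧ 1 ≤ m j := by
  rw [ofList_take, mem_ideal_span_monomial_image]
  refine forall₂_congr fun m _ => ?_
  constructor
  · rintro ⟨s, ⟨j, hj, rfl⟩, hs⟩
    exact ⟨j, hj, by simpa using hs j⟩
  · rintro ⟨j, hj, hn⟩
    refine ⟨_, ⟨j, hj, rfl⟩, ?_⟩
    intro l
    by_cases hl : l = j
    · subst hl; simpa using hn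
    · rw [Finsupp.single_apply, if_neg (Ne.symm hl)]; exact Nat.zero_le _

/-- the variables form a weakly regular sequence. -/
lemma isWeaklyRegular_xs : IsWeaklyRegular (MvPolynomial (Fin k) A) (xs A k) := by
  rw [isWeaklyRegular_iff_Fin]
  intro i
  rw [isSMulRegular_iff_right_eq_zero_of_smul]
  intro q hq
  obtain ⟨p, rfl⟩ := Submodule.Quotient.mk_surjective _ q
  rw [← Submodule.Quotient.mk_smul, Submodule.Quotient.mk_eq_zero, smul_eq_mul, Ideal.mul_top,
    mem_ofList_take_iff] at hq
  rw [Submodule.Quotient.mk_eq_zero, smul_eq_mul, Ideal.mul_top, mem_ofList_take_iff]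
  intro m hm
  have hi : i.val < k := lt_of_lt_of_eq i.2 (xs_length A k)
  have hx : (xs A k)[i] = monomial (Finsupp.single (⟨i.val, hi⟩ : Fin k) 1) (1 : A) := by
    have h1 : (xs A k)[i] = (xs A k)[i.val] := rfl
    rw [h1]
    unfold xs
    rw [List.getElem_ofFn]
    rfl
  have hm' : Finsupp.single (⟨i.val, hi⟩ : Fin k) 1 + m ∈ ((xs A k)[i] * p).support := by
    rw [mem_support_iff, hx, coeff_monomial_mul, one_mul]
    exact mem_support_iff.mp hm
  obtain ⟨j, hj, hn⟩ := hq _ hm'
  refine ⟨j, hj, ?_⟩
  have hne : (⟨i.val, hi⟩ : Fin k) ≠ j := by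
    intro h
    rw [← h] at hj
    exact lt_irrefl _ hj
  rwa [Finsupp.add_apply, Finsupp.single_apply, if_neg hne, zero_add] at hn

variable {A k}

/-- the translated variables `X_i - a_i` form a weakly regular sequence. -/
theorem isWeaklyRegular_X_sub_C (a : Fin k → A) :
    IsWeaklyRegular (MvPolynomial (Fin k) A)
      (List.ofFn fun j : Fin k => (X j - C (a j) : MvPolynomial (Fin k) A)) := by
  let τ : MvPolynomial (Fin k) A →ₐ[A] MvPolynomial (Fin k) A := aeval fun j => X j - C (a j)
  let τ' : MvPolynomial (Fin k) A →ₐ[A] MvPolynomial (Fin k) A := aeval fun j => X j + C (a j)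
  have h1 : τ.comp τ' = AlgHom.id A _ := by
    ext j
    simp [τ, τ']
  have h2 : τ'.comp τ = AlgHom.id A _ := by
    ext j
    simp [τ, τ']
  have hbij : Function.Bijective τ.toRingHom := by
    refine ⟨Function.LeftInverse.injective (g := τ') fun x => ?_,
      Function.RightInverse.surjective (g := τ') fun x => ?_⟩
    · exact DFunLike.congr_fun h2 x
    · exact DFunLike.congr_fun h1 x
  have hflat : τ.toRingHom.Flat := RingHom.Flat.of_bijective hbij
  have h3 := @IsWeaklyRegular.of_flat (MvPolynomial (Fin k) A) (MvPolynomial (Fin k) A) _ _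
    τ.toRingHom.toAlgebra hflat _ (isWeaklyRegular_xs A k)
  have h4 : (xs A k).map (@algebraMap (MvPolynomial (Fin k) A) (MvPolynomial (Fin k) A) _ _
      τ.toRingHom.toAlgebra) = List.ofFn fun j : Fin k => (X j - C (a j) : MvPolynomial (Fin k) A) := by
    unfold xs
    rw [List.map_ofFn]
    congr 1
    funext j
    show τ (X j) = _
    simp [τ]
  rw [h4] at h3
  exact h3

end Vars

section Main

open Groth.Agent.Lib.Helper51.SmoothDescend

variable {A B : Type u} [CommRing A] [CommRing B]

/-- the kernel of an evaluation `A[X] → A` is generated by the `X_i - a_i`. -/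
lemma ker_eval_eq_ofList {n : ℕ} (a : Fin n → A) :
    RingHom.ker (eval a : MvPolynomial (Fin n) A →+* A) =
      Ideal.ofList (List.ofFn fun j : Fin n => (X j - C (a j) : MvPolynomial (Fin n) A)) := by
  have hofList : Ideal.ofList (List.ofFn fun j : Fin n => (X j - C (a j) : MvPolynomial (Fin n) A)) =
      Ideal.span (Set.range fun j : Fin n => (X j - C (a j) : MvPolynomial (Fin n) A)) := by
    unfold Ideal.ofList
    congr 1
    ext x
    simp [List.mem_ofFn]
  rw [hofList]
  apply le_antisymm
  · intro p hp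
    rw [RingHom.mem_ker] at hp
    have := sub_C_eval_mem a p
    rwa [hp, map_zero, sub_zero] at this
  · rw [Ideal.span_le]
    rintro _ ⟨j, rfl⟩
    show _ ∈ RingHom.ker _
    rw [RingHom.mem_ker]
    simp

/-- **Sections of algebras étale over a polynomial ring.**  If `B` is étale over
`A[X_1, …, X_n]` and `ρ : B → A` is a retraction of `A → B`, then for some `h` with `ρ h = 1` the
extension of `ker ρ` to `B[1/h]` is generated by a weakly regular sequence of length `n`. -/
theorem exists_regular_of_etale_section (n : ℕ)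
    [Algebra (MvPolynomial (Fin n) A) B] [Algebra.Etale (MvPolynomial (Fin n) A) B]
    (ρ : B →+* A)
    (hρ : (ρ.comp (algebraMap (MvPolynomial (Fin n) A) B)).comp
      (C : A →+* MvPolynomial (Fin n) A) = RingHom.id A) :
    ∃ h : B, ρ h = 1 ∧ ∃ fs : List (Localization.Away h), fs.length = n ∧
      IsWeaklyRegular (Localization.Away h) fs ∧
      (RingHom.ker ρ).map (algebraMap B (Localization.Away h)) = Ideal.ofList fs := by
  classical
  have hsurj : Function.Surjective (ρ.comp (algebraMap (MvPolynomial (Fin n) A) B)) := fun r =>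
    ⟨C r, congrArg (fun φ => φ r) hρ⟩
  obtain ⟨h, hh1, hh2⟩ := exists_mul_mem_map_ker ρ hsurj
  obtain ⟨a, ha⟩ : ∃ a : Fin n → A, a = fun i =>
      ρ (algebraMap (MvPolynomial (Fin n) A) B (X i)) := ⟨_, rfl⟩
  have hπ : ρ.comp (algebraMap (MvPolynomial (Fin n) A) B) = (eval a : _ →+* A) := by
    apply MvPolynomial.ringHom_ext
    · intro r
      have := congrArg (fun φ => φ r) hρ
      simpa using this
    · intro i
      rw [ha]
      simp
  rw [hπ, ker_eval_eq_ofList] at hh2
  obtain ⟨l, hl⟩ : ∃ l : List (MvPolynomial (Fin n) A), l =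
      List.ofFn fun j : Fin n => (X j - C (a j) : MvPolynomial (Fin n) A) := ⟨_, rfl⟩
  rw [← hl] at hh2
  have hlker : ∀ p ∈ l, ρ (algebraMap (MvPolynomial (Fin n) A) B p) = 0 := by
    intro p hp
    have h1 : p ∈ Ideal.ofList l := Ideal.subset_span hp
    rw [hl, ← ker_eval_eq_ofList, ← hπ, RingHom.mem_ker] at h1
    exact h1
  refine ⟨h, hh1, (l.map (algebraMap (MvPolynomial (Fin n) A) B)).map
    (algebraMap B (Localization.Away h)), ?_, ?_, ?_⟩
  · rw [List.length_map, List.length_map, hl, List.length_ofFn]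
  · have h1 : IsWeaklyRegular (MvPolynomial (Fin n) A) l := hl ▸ isWeaklyRegular_X_sub_C a
    have h2 : IsWeaklyRegular B (l.map (algebraMap (MvPolynomial (Fin n) A) B)) :=
      IsWeaklyRegular.of_flat h1
    exact IsWeaklyRegular.of_flat h2
  · rw [← Ideal.map_ofList, ← Ideal.map_ofList]
    apply le_antisymm
    · rw [Ideal.map_le_iff_le_comap]
      intro x hx
      rw [Ideal.mem_comap]
      have h1 := Ideal.mem_map_of_mem (algebraMap B (Localization.Away h)) (hh2 x hx)
      rw [map_mul] at h1
      have hu : IsUnit (algebraMap B (Localization.Away h) h) :=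
        IsLocalization.Away.algebraMap_isUnit h
      exact (Ideal.unit_mul_mem_iff_mem _ hu).mp h1
    · apply Ideal.map_mono
      rw [Ideal.map_ofList, Ideal.ofList, Ideal.span_le]
      rintro _ hb
      obtain ⟨p, hp, rfl⟩ := List.mem_map.mp hb
      exact hlker p hp

end Main

section Coord

attribute [local instance] MvPolynomial.algebraMvPolynomial

variable {A₀ B₁ A B : Type u} [CommRing A₀] [CommRing B₁] [CommRing A] [CommRing B]

/-- **étale coordinates survive localisation of the base.**  If `φ₀ : A₀ → B₁` is standard smooth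
of relative dimension `n`, `A = A₀[1/g]`, `B` is étale over `B₁` and `φ : A → B` is compatible with
`φ₀`, then `B` is étale over `A[X_1, …, X_n]` compatibly with `φ`. -/
theorem exists_etale_mvPolynomial_of_away (φ₀ : A₀ →+* B₁) (n : ℕ)
    (hφ₀ : φ₀.IsStandardSmoothOfRelativeDimension n) (g : A₀) [Algebra A₀ A]
    [IsLocalization.Away g A] [Algebra B₁ B] [Algebra.Etale B₁ B] (φ : A →+* B)
    (hφ : φ.comp (algebraMap A₀ A) = (algebraMap B₁ B).comp φ₀) :
    ∃ (_ : Algebra (MvPolynomial (Fin n) A) B), Algebra.Etale (MvPolynomial (Fin n) A) B ∧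
      (algebraMap (MvPolynomial (Fin n) A) B).comp (C : A →+* MvPolynomial (Fin n) A) = φ := by
  obtain ⟨gP, hgP, hgPet⟩ := hφ₀.exists_etale_mvPolynomial
  letI algP₀B₁ : Algebra (MvPolynomial (Fin n) A₀) B₁ := gP.toAlgebra
  haveI : Algebra.Etale (MvPolynomial (Fin n) A₀) B₁ := hgPet
  letI algP₀B : Algebra (MvPolynomial (Fin n) A₀) B := ((algebraMap B₁ B).comp gP).toAlgebra
  haveI : IsScalarTower (MvPolynomial (Fin n) A₀) B₁ B := IsScalarTower.of_algebraMap_eq' rfl
  haveI : Algebra.Etale (MvPolynomial (Fin n) A₀) B :=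
    Algebra.Etale.comp (MvPolynomial (Fin n) A₀) B₁ B
  letI algPB : Algebra (MvPolynomial (Fin n) A) B :=
    (MvPolynomial.eval₂Hom φ (fun i => algebraMap B₁ B (gP (X i)))).toAlgebra
  haveI : IsScalarTower (MvPolynomial (Fin n) A₀) (MvPolynomial (Fin n) A) B := by
    apply IsScalarTower.of_algebraMap_eq'
    apply MvPolynomial.ringHom_ext
    · intro r
      have h1 : gP (C r) = φ₀ r := congrArg (fun ψ => ψ r) hgP
      have h2 : φ (algebraMap A₀ A r) = algebraMap B₁ B (φ₀ r) := congrArg (fun ψ => ψ r) hφ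
      show algebraMap B₁ B (gP (C r)) =
        MvPolynomial.eval₂Hom φ _ (MvPolynomial.map (algebraMap A₀ A) (C r))
      rw [h1, MvPolynomial.map_C, MvPolynomial.eval₂Hom_C, h2]
    · intro i
      show algebraMap B₁ B (gP (X i)) =
        MvPolynomial.eval₂Hom φ _ (MvPolynomial.map (algebraMap A₀ A) (X i))
      rw [MvPolynomial.map_X, MvPolynomial.eval₂Hom_X']
  haveI : IsLocalization.Away (C g : MvPolynomial (Fin n) A₀) (MvPolynomial (Fin n) A) := by
    have h1 := MvPolynomial.isLocalization (σ := Fin n) (Submonoid.powers g) A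
    rw [Submonoid.map_powers] at h1
    exact h1
  haveI : Algebra.Etale (MvPolynomial (Fin n) A₀) (MvPolynomial (Fin n) A) :=
    Algebra.Etale.of_isLocalizationAway (C g)
  haveI : Algebra.Etale (MvPolynomial (Fin n) A) B :=
    Algebra.Etale.of_restrictScalars (MvPolynomial (Fin n) A₀) _ _
  refine ⟨algPB, inferInstance, ?_⟩
  ext r
  show MvPolynomial.eval₂Hom φ _ (C r) = φ r
  rw [MvPolynomial.eval₂Hom_C]

/-- transport of a weakly regular generating sequence along an isomorphism of localisations. -/
lemma exists_regular_of_isLocalization_away {B : Type u} [CommRing B] (I : Ideal B) (h : B) (n : ℕ)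
    (H : ∃ fs : List (Localization.Away h), fs.length = n ∧
      IsWeaklyRegular (Localization.Away h) fs ∧
      I.map (algebraMap B (Localization.Away h)) = Ideal.ofList fs)
    (B' : Type u) [CommRing B'] [Algebra B B'] [IsLocalization.Away h B'] :
    ∃ fs : List B', fs.length = n ∧ IsWeaklyRegular B' fs ∧
      I.map (algebraMap B B') = Ideal.ofList fs := by
  obtain ⟨fs, hlen, hreg, hI⟩ := H
  let e : Localization.Away h ≃ₐ[B] B' :=
    IsLocalization.algEquiv (Submonoid.powers h) (Localization.Away h) B'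
  have hflat : (e : Localization.Away h →+* B').Flat :=
    RingHom.Flat.of_bijective e.bijective
  have h3 := @IsWeaklyRegular.of_flat (Localization.Away h) B' _ _
    (e : Localization.Away h →+* B').toAlgebra hflat _ hreg
  refine ⟨fs.map (e : Localization.Away h →+* B'), by rw [List.length_map, hlen], h3, ?_⟩
  rw [← Ideal.map_ofList, ← hI, Ideal.map_map]
  congr 1
  ext b
  exact (e.commutes b).symm

/-- **Sections of standard smooth maps (ring level).**  In the situation of
`exists_etale_mvPolynomial_of_away`, let `ρ : B → A` be a retraction of `φ`.  Then for some `h`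
with `ρ h = 1`, in every localisation `B'` of `B` away from `h` the extension of `ker ρ` is
generated by a weakly regular sequence of length `n`. -/
theorem exists_regular_of_section (φ₀ : A₀ →+* B₁) (n : ℕ)
    (hφ₀ : φ₀.IsStandardSmoothOfRelativeDimension n) (g : A₀) [Algebra A₀ A]
    [IsLocalization.Away g A] [Algebra B₁ B] [Algebra.Etale B₁ B] (φ : A →+* B)
    (hφ : φ.comp (algebraMap A₀ A) = (algebraMap B₁ B).comp φ₀)
    (ρ : B →+* A) (hρφ : ρ.comp φ = RingHom.id A) :
    ∃ h : B, ρ h = 1 ∧ ∀ (B' : Type u) [CommRing B'] [Algebra B B'] [IsLocalization.Away h B'],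
      ∃ fs : List B', fs.length = n ∧ IsWeaklyRegular B' fs ∧
        (RingHom.ker ρ).map (algebraMap B B') = Ideal.ofList fs := by
  obtain ⟨alg, het, halg⟩ := exists_etale_mvPolynomial_of_away φ₀ n hφ₀ g φ hφ
  obtain ⟨h, hh1, H⟩ := exists_regular_of_etale_section n ρ
    (by rw [RingHom.comp_assoc, halg, hρφ])
  exact ⟨h, hh1, fun B' _ _ _ => exists_regular_of_isLocalization_away _ h n H B'⟩

end Coord

end Groth.Agent.Lib.Helper51.SectionReg
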