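import Mathlib
import Groth.Agent.Lib.Helper51.SectionReg

/-!
# Sections of smooth morphisms of relative dimension `n` are cut out by regular sequences (helper51)
-/

set_option autoImplicit false
set_option linter.style.haveILetI false
universe u

namespace Groth.Agent.Lib.Helper51.SectionReg

open AlgebraicGeometry CategoryTheory RingTheory.Sequence TopologicalSpace

/-- `appLE` of a morphism equal to the identity. -/
lemma appLE_eq_map_of_eq_id {Y : Scheme.{u}} (k : Y ⟶ Y) (hk : k = 𝟙 Y) (V V' : Y.Opens)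
    (e : V' ≤ k ⁻¹ᵁ V) (e' : V' ≤ V) :
    k.appLE V V' e = Y.presheaf.map (homOfLE e').op := by
  subst hk
  simp only [Scheme.Hom.appLE, Scheme.Hom.id_app]
  exact Category.id_comp _

/-- **Sections of smooth morphisms, local form.**  Let `f : X ⟶ Y` be smooth of relative dimension
`n` and `σ` a quasi-compact section of `f`.  Around every point `σ y` there is an affine open of `X`
on which the ideal of `σ` is generated by a weakly regular sequence of length `n`. -/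
theorem exists_affine_regular_of_section {X Y : Scheme.{u}} (f : X ⟶ Y) (n : ℕ)
    [SmoothOfRelativeDimension n f] (σ : Y ⟶ X) [QuasiCompact σ] (hσ : σ ≫ f = 𝟙 Y) (y : Y) :
    ∃ U' : X.affineOpens, σ y ∈ U'.1 ∧ ∃ fs : List Γ(X, U'.1), fs.length = n ∧
      IsWeaklyRegular Γ(X, U'.1) fs ∧ σ.ker.ideal U' = Ideal.ofList fs := by
  have hfσ : ∀ s : Y, f (σ s) = s := fun s => by
    have := congrArg (fun k : Y ⟶ Y => k s) hσ
    simpa using this
  obtain ⟨V₀, hV₀, U₁, hU₁, hxU₁, e₁, hstd⟩ :=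
    SmoothOfRelativeDimension.exists_isStandardSmoothOfRelativeDimension (n := n) (f := f) (σ y)
  have hyV₀ : y ∈ V₀ := by
    have : f (σ y) ∈ V₀ := e₁ hxU₁
    rwa [hfσ] at this
  -- shrink the base
  obtain ⟨g, hgle, hyg⟩ := hV₀.exists_basicOpen_le (V := σ ⁻¹ᵁ U₁) ⟨y, hxU₁⟩ hyV₀
  have hV : IsAffineOpen (Y.basicOpen g) := hV₀.basicOpen g
  have hU : IsAffineOpen (X.basicOpen ((f.appLE V₀ U₁ e₁).hom g)) := hU₁.basicOpen _
  have hUeq : X.basicOpen ((f.appLE V₀ U₁ e₁).hom g) = U₁ ⊓ f ⁻¹ᵁ Y.basicOpen g := by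
    rw [Scheme.Hom.appLE, CommRingCat.hom_comp, RingHom.comp_apply]
    erw [Scheme.basicOpen_res]
    rw [Scheme.preimage_basicOpen]
  have eUV : X.basicOpen ((f.appLE V₀ U₁ e₁).hom g) ≤ f ⁻¹ᵁ Y.basicOpen g := by
    rw [hUeq]
    exact inf_le_right
  have eVU : Y.basicOpen g ≤ σ ⁻¹ᵁ X.basicOpen ((f.appLE V₀ U₁ e₁).hom g) := by
    intro s hs
    rw [hUeq]
    refine ⟨hgle hs, ?_⟩
    show f (σ s) ∈ Y.basicOpen g
    rwa [hfσ]
  haveI : IsLocalization.Away g Γ(Y, Y.basicOpen g) := hV₀.isLocalization_basicOpen g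
  haveI : IsLocalization.Away ((f.appLE V₀ U₁ e₁).hom g)
      Γ(X, X.basicOpen ((f.appLE V₀ U₁ e₁).hom g)) := hU₁.isLocalization_basicOpen _
  haveI : Algebra.Etale Γ(X, U₁) Γ(X, X.basicOpen ((f.appLE V₀ U₁ e₁).hom g)) :=
    Algebra.Etale.of_isLocalizationAway ((f.appLE V₀ U₁ e₁).hom g)
  -- compatibility
  have hφ : (f.appLE (Y.basicOpen g) (X.basicOpen ((f.appLE V₀ U₁ e₁).hom g)) eUV).hom.comp
      (algebraMap Γ(Y, V₀) Γ(Y, Y.basicOpen g)) =
      (algebraMap Γ(X, U₁) Γ(X, X.basicOpen ((f.appLE V₀ U₁ e₁).hom g))).comp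
        (f.appLE V₀ U₁ e₁).hom := by
    have h1 := Scheme.Hom.map_appLE f eUV (homOfLE (Y.basicOpen_le g)).op
    have h2 := Scheme.Hom.appLE_map f e₁
      (homOfLE (X.basicOpen_le ((f.appLE V₀ U₁ e₁).hom g))).op
    have h3 := congrArg CommRingCat.Hom.hom (h1.trans h2.symm)
    exact h3
  have hρφ : (σ.appLE (X.basicOpen ((f.appLE V₀ U₁ e₁).hom g)) (Y.basicOpen g) eVU).hom.comp
      (f.appLE (Y.basicOpen g) (X.basicOpen ((f.appLE V₀ U₁ e₁).hom g)) eUV).hom =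
      RingHom.id _ := by
    have h1 := Scheme.Hom.appLE_comp_appLE σ f (Y.basicOpen g)
      (X.basicOpen ((f.appLE V₀ U₁ e₁).hom g)) (Y.basicOpen g) eUV eVU
    rw [appLE_eq_map_of_eq_id (σ ≫ f) hσ _ _ _ le_rfl] at h1
    have h2 := congrArg CommRingCat.Hom.hom h1
    rw [CommRingCat.hom_comp] at h2
    rw [h2]
    have : (homOfLE (le_refl (Y.basicOpen g))).op = 𝟙 _ := rfl
    rw [this, Y.presheaf.map_id]
    rfl
  obtain ⟨h, hh1, H⟩ := exists_regular_of_section (f.appLE V₀ U₁ e₁).hom n hstd g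
    (f.appLE (Y.basicOpen g) (X.basicOpen ((f.appLE V₀ U₁ e₁).hom g)) eUV).hom hφ
    (σ.appLE (X.basicOpen ((f.appLE V₀ U₁ e₁).hom g)) (Y.basicOpen g) eVU).hom hρφ
  -- the preimage of `U` is exactly `V`
  have hEq : σ ⁻¹ᵁ X.basicOpen ((f.appLE V₀ U₁ e₁).hom g) = Y.basicOpen g := by
    refine le_antisymm (fun s hs => ?_) eVU
    have h1 : f (σ s) ∈ Y.basicOpen g := eUV hs
    rwa [hfσ] at h1
  have hinj : Function.Injective (Y.presheaf.map (homOfLE eVU).op).hom := by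
    have h1 : homOfLE eVU = eqToHom hEq.symm := Subsingleton.elim _ _
    rw [h1]
    exact (ConcreteCategory.bijective_of_isIso (Y.presheaf.map (eqToHom hEq.symm).op)).1
  have hρdef : ∀ z, (σ.appLE (X.basicOpen ((f.appLE V₀ U₁ e₁).hom g)) (Y.basicOpen g) eVU).hom z =
      (Y.presheaf.map (homOfLE eVU).op).hom
        ((σ.app (X.basicOpen ((f.appLE V₀ U₁ e₁).hom g))).hom z) := fun z => rfl
  have hker : RingHom.ker
      (σ.appLE (X.basicOpen ((f.appLE V₀ U₁ e₁).hom g)) (Y.basicOpen g) eVU).hom =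
      RingHom.ker (σ.app (X.basicOpen ((f.appLE V₀ U₁ e₁).hom g))).hom := by
    ext z
    rw [RingHom.mem_ker, RingHom.mem_ker, hρdef, map_eq_zero_iff _ hinj]
  refine ⟨X.affineBasicOpen (U := ⟨X.basicOpen ((f.appLE V₀ U₁ e₁).hom g), hU⟩) h, ?_, ?_⟩
  · -- the point lies in the basic open
    have hy1 : y ∈ Y.basicOpen
        ((σ.appLE (X.basicOpen ((f.appLE V₀ U₁ e₁).hom g)) (Y.basicOpen g) eVU).hom h) := by
      rw [hh1, Scheme.basicOpen_one]
      exact hyg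
    rw [hρdef] at hy1
    erw [Scheme.basicOpen_res] at hy1
    rw [← Scheme.preimage_basicOpen] at hy1
    exact hy1.2
  · haveI : IsLocalization.Away h Γ(X, X.basicOpen h) := hU.isLocalization_basicOpen h
    obtain ⟨fs, hlen, hreg, hI⟩ := H Γ(X, X.basicOpen h)
    refine ⟨fs, hlen, hreg, ?_⟩
    have h1 : σ.ker.ideal (X.affineBasicOpen
        (U := ⟨X.basicOpen ((f.appLE V₀ U₁ e₁).hom g), hU⟩) h) =
        Ideal.map (algebraMap Γ(X, X.basicOpen ((f.appLE V₀ U₁ e₁).hom g)) Γ(X, X.basicOpen h))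
          (RingHom.ker
            (σ.appLE (X.basicOpen ((f.appLE V₀ U₁ e₁).hom g)) (Y.basicOpen g) eVU).hom) := by
      rw [hker, ← Scheme.Hom.ker_apply σ ⟨X.basicOpen ((f.appLE V₀ U₁ e₁).hom g), hU⟩]
      exact (σ.ker.map_ideal_basicOpen ⟨X.basicOpen ((f.appLE V₀ U₁ e₁).hom g), hU⟩ h).symm
    exact h1.trans hI

end Groth.Agent.Lib.Helper51.SectionReg
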