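import Mathlib
import Groth.Agent.Lib.Helper51.SmoothDescend

/-!
# Regularity descends from a smooth algebra to the base (helper51)
-/

set_option autoImplicit false
set_option linter.style.haveILetI false
universe u

namespace Groth.Agent.Lib.Helper51.SmoothDescend

open Groth.Agent.Lib.Helper10.RegDescent Groth.Agent.Lib.Helper10.FlatLocal
  Groth.Agent.Lib.Helper51.RegQuot Groth.Agent.Lib.Helper10.LciTrans
  Groth.Agent.Lib.Helper10.LciSmooth

attribute [local instance] MvPolynomial.algebraMvPolynomial

variable {K : Kind.{u}}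

/-- **étale over a polynomial ring.** -/
theorem isLoc_ker_of_etale_mvPolynomial (hstep : QuotStep K) {A B T : Type u} [CommRing A]
    [CommRing B] [CommRing T] (n : ℕ) [Algebra (MvPolynomial (Fin n) A) B]
    [Algebra.Etale (MvPolynomial (Fin n) A) B] (ψ : B →+* T)
    (hsurj : Function.Surjective ((ψ.comp (algebraMap (MvPolynomial (Fin n) A) B)).comp
      (MvPolynomial.C : A →+* MvPolynomial (Fin n) A)))
    (h : IsLoc K (RingHom.ker ψ)) :
    IsLoc K (RingHom.ker ((ψ.comp (algebraMap (MvPolynomial (Fin n) A) B)).comp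
      (MvPolynomial.C : A →+* MvPolynomial (Fin n) A))) := by
  have hsurjP : Function.Surjective (ψ.comp (algebraMap (MvPolynomial (Fin n) A) B)) :=
    Function.Surjective.of_comp hsurj
  exact isLoc_ker_of_mvPolynomial hstep n _ hsurj (isLoc_ker_comp_of_etale ψ hsurjP h)

/-- **Main algebraic theorem.**  If `B` is smooth over `A`, `ψ : B → T` is a surjection such that
`A → T` is still surjective, and `ker ψ` is locally of kind `K`, then `ker (A → T)` is locally of
kind `K`. -/
theorem isLoc_ker_comp_of_smooth (hstep : QuotStep K) {A B T : Type u} [CommRing A]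
    [CommRing B] [CommRing T] [Algebra A B] [Algebra.Smooth A B] (ψ : B →+* T)
    (hsurj : Function.Surjective (ψ.comp (algebraMap A B)))
    (h : IsLoc K (RingHom.ker ψ)) : IsLoc K (RingHom.ker (ψ.comp (algebraMap A B))) := by
  classical
  have hψsurj : Function.Surjective ψ := Function.Surjective.of_comp hsurj
  apply isLoc_of_forall_exists_away
  intro 𝔭 hJ𝔭
  have hmem : 𝔭 ∈ Set.range (PrimeSpectrum.comap (ψ.comp (algebraMap A B))) := by
    rw [range_comap_of_surjective _ _ hsurj]
    exact hJ𝔭
  obtain ⟨𝔭', h𝔭'⟩ := hmem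
  obtain ⟨f, hf, n, algP, hcomp, ⟨Q⟩⟩ := exists_standardEtalePresentation (A := A) (𝔭'.comap ψ)
  haveI : Algebra.IsStandardEtale (MvPolynomial (Fin n) A) (Localization.Away f) := ⟨⟨Q⟩⟩
  obtain ⟨a, ha⟩ := hsurj (ψ f)
  have hψf : ψ f ∉ 𝔭'.asIdeal := hf
  have ha𝔭 : a ∉ 𝔭.asIdeal := by
    rw [← h𝔭']
    intro hmem
    apply hψf
    rw [← ha]
    exact hmem
  have haa𝔭 : a * a ∉ 𝔭.asIdeal := fun hmem => (𝔭.isPrime.mem_or_mem hmem).elim ha𝔭 ha𝔭
  refine ⟨a * a, haa𝔭, ?_⟩
  -- the element of `B` we invert
  obtain ⟨g, hgdef⟩ : ∃ g : T, (ψ.comp (algebraMap A B)) (a * a) = g := ⟨_, rfl⟩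
  have hg : ψ (algebraMap A B a * f) = g := by
    rw [← hgdef, map_mul, ← ha, map_mul, RingHom.comp_apply]
  -- `ψ'`
  have hunitψ : IsUnit (((algebraMap T (Localization.Away g)).comp
      ψ) (algebraMap A B a * f)) := by
    rw [RingHom.comp_apply, hg]
    exact IsLocalization.Away.algebraMap_isUnit _
  obtain ⟨ψ', hψ'⟩ : ∃ ψ' : Localization.Away (algebraMap B (Localization.Away f)
      (algebraMap A B a)) →+* Localization.Away g,
      ψ' = IsLocalization.Away.lift (algebraMap A B a * f) hunitψ := ⟨_, rfl⟩
  have hsqψ : ψ'.comp (algebraMap B _) = (algebraMap T _).comp ψ := by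
    rw [hψ']
    exact IsLocalization.Away.lift_comp _ hunitψ
  have hψ'surj := locSq_surjective ψ (algebraMap A B a * f) _ hg ψ' hsqψ hψsurj
  have hψ'ker := locSq_ker ψ (algebraMap A B a * f) _ hg ψ' hsqψ
  have hflatBB' : (algebraMap B (Localization.Away (algebraMap B (Localization.Away f)
      (algebraMap A B a)))).Flat :=
    RingHom.flat_algebraMap_iff.mpr
      (IsLocalization.flat _ (Submonoid.powers (algebraMap A B a * f)))
  have hloc' : IsLoc K (RingHom.ker ψ') := by
    rw [hψ'ker]
    exact Groth.Agent.Lib.Helper10.LciComp.isLoc_map_of_flat _ hflatBB' _ h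
  -- `π'`
  have hunitπ : IsUnit (((algebraMap T (Localization.Away g)).comp
      (ψ.comp (algebraMap A B))) (a * a)) := by
    rw [RingHom.comp_apply, hgdef]
    exact IsLocalization.Away.algebraMap_isUnit _
  obtain ⟨π', hπ'⟩ : ∃ π' : Localization.Away (a * a) →+*
      Localization.Away g,
      π' = IsLocalization.Away.lift (a * a) hunitπ := ⟨_, rfl⟩
  have hsqπ : π'.comp (algebraMap A _) = (algebraMap T _).comp (ψ.comp (algebraMap A B)) := by
    rw [hπ']
    exact IsLocalization.Away.lift_comp _ hunitπ
  have hπ'surj := locSq_surjective (ψ.comp (algebraMap A B)) (a * a) _ hgdef π' hsqπ hsurj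
  have hπ'ker := locSq_ker (ψ.comp (algebraMap A B)) (a * a) _ hgdef π' hsqπ
  rw [← hπ'ker]
  -- `φ₀ : A' → B'`
  have hunit₀ : IsUnit (((algebraMap B (Localization.Away (algebraMap B (Localization.Away f)
      (algebraMap A B a)))).comp (algebraMap A B)) (a * a)) := by
    have h1 : IsUnit (algebraMap B (Localization.Away (algebraMap B (Localization.Away f)
        (algebraMap A B a))) (algebraMap A B a * f)) :=
      IsLocalization.Away.algebraMap_isUnit _
    rw [map_mul] at h1
    have h2 := isUnit_of_mul_isUnit_left h1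
    rw [RingHom.comp_apply, map_mul, map_mul]
    exact h2.mul h2
  obtain ⟨φ₀, hφ₀⟩ : ∃ φ₀ : Localization.Away (a * a) →+*
      Localization.Away (algebraMap B (Localization.Away f) (algebraMap A B a)),
      φ₀ = IsLocalization.Away.lift (a * a) hunit₀ := ⟨_, rfl⟩
  have hφ₀comp : φ₀.comp (algebraMap A _) = (algebraMap B _).comp (algebraMap A B) := by
    rw [hφ₀]
    exact IsLocalization.Away.lift_comp _ hunit₀
  -- the algebra structure of `B'` over `A'[X]`
  letI algP' : Algebra (MvPolynomial (Fin n) (Localization.Away (a * a)))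
      (Localization.Away (algebraMap B (Localization.Away f) (algebraMap A B a))) :=
    (MvPolynomial.eval₂Hom φ₀ (fun i => algebraMap (Localization.Away f) _
      (algebraMap (MvPolynomial (Fin n) A) (Localization.Away f) (MvPolynomial.X i)))).toAlgebra
  haveI : Algebra.Etale (MvPolynomial (Fin n) A)
      (Localization.Away (algebraMap B (Localization.Away f) (algebraMap A B a))) :=
    Algebra.Etale.comp (MvPolynomial (Fin n) A) (Localization.Away f) _
  haveI : IsScalarTower (MvPolynomial (Fin n) A) (MvPolynomial (Fin n) (Localization.Away (a * a)))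
      (Localization.Away (algebraMap B (Localization.Away f) (algebraMap A B a))) := by
    apply IsScalarTower.of_algebraMap_eq'
    apply MvPolynomial.ringHom_ext
    · intro r
      have h1 : algebraMap (MvPolynomial (Fin n) A) (Localization.Away f) (MvPolynomial.C r) =
          algebraMap B (Localization.Away f) (algebraMap A B r) :=
        congrArg (fun φ => φ r) hcomp
      have h2 : φ₀ (algebraMap A _ r) = algebraMap B _ (algebraMap A B r) :=
        congrArg (fun φ => φ r) hφ₀comp
      rw [IsScalarTower.algebraMap_apply (MvPolynomial (Fin n) A) (Localization.Away f)]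
      show algebraMap (Localization.Away f) _ (algebraMap (MvPolynomial (Fin n) A)
        (Localization.Away f) (MvPolynomial.C r)) =
        MvPolynomial.eval₂Hom φ₀ _ (MvPolynomial.map (algebraMap A (Localization.Away (a * a)))
          (MvPolynomial.C r))
      rw [h1, MvPolynomial.map_C, MvPolynomial.eval₂Hom_C, h2,
        ← IsScalarTower.algebraMap_apply B (Localization.Away f)]
    · intro i
      rw [IsScalarTower.algebraMap_apply (MvPolynomial (Fin n) A) (Localization.Away f)]
      show algebraMap (Localization.Away f) _ (algebraMap (MvPolynomial (Fin n) A)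
        (Localization.Away f) (MvPolynomial.X i)) =
        MvPolynomial.eval₂Hom φ₀ _ (MvPolynomial.map (algebraMap A (Localization.Away (a * a)))
          (MvPolynomial.X i))
      rw [MvPolynomial.map_X, MvPolynomial.eval₂Hom_X']
  haveI : IsLocalization.Away (MvPolynomial.C (a * a) : MvPolynomial (Fin n) A)
      (MvPolynomial (Fin n) (Localization.Away (a * a))) := by
    have h1 := MvPolynomial.isLocalization (σ := Fin n) (Submonoid.powers (a * a))
      (Localization.Away (a * a))
    rw [Submonoid.map_powers] at h1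
    exact h1
  haveI : Algebra.Etale (MvPolynomial (Fin n) A)
      (MvPolynomial (Fin n) (Localization.Away (a * a))) :=
    Algebra.Etale.of_isLocalizationAway (MvPolynomial.C (a * a))
  haveI : Algebra.Etale (MvPolynomial (Fin n) (Localization.Away (a * a)))
      (Localization.Away (algebraMap B (Localization.Away f) (algebraMap A B a))) :=
    Algebra.Etale.of_restrictScalars (MvPolynomial (Fin n) A) _ _
  -- compatibility
  have heq : (ψ'.comp (algebraMap (MvPolynomial (Fin n) (Localization.Away (a * a)))
      (Localization.Away (algebraMap B (Localization.Away f) (algebraMap A B a))))).comp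
      (MvPolynomial.C : Localization.Away (a * a) →+* _) = π' := by
    apply IsLocalization.ringHom_ext (Submonoid.powers (a * a))
    rw [hsqπ]
    ext r
    have h2 : φ₀ (algebraMap A _ r) = algebraMap B _ (algebraMap A B r) :=
      congrArg (fun φ => φ r) hφ₀comp
    have h3 : ψ' (algebraMap B _ (algebraMap A B r)) = algebraMap T _ (ψ (algebraMap A B r)) :=
      congrArg (fun φ => φ (algebraMap A B r)) hsqψ
    show ψ' (MvPolynomial.eval₂Hom φ₀ _ (MvPolynomial.C (algebraMap A _ r))) = _
    rw [MvPolynomial.eval₂Hom_C, h2, h3]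
    rfl
  rw [← heq]
  apply isLoc_ker_of_etale_mvPolynomial hstep n ψ' _ hloc'
  rw [heq]
  exact hπ'surj

/-- the Koszul case, via local complete intersection maps. -/
theorem isLoc_koszul_ker_comp_of_smooth {A B T : Type u} [CommRing A]
    [CommRing B] [CommRing T] [Algebra A B] [Algebra.Smooth A B] (ψ : B →+* T)
    (hsurj : Function.Surjective (ψ.comp (algebraMap A B)))
    (h : IsLoc Groth.Agent.Lib.Helper10.RegDescentKoszul.koszulKind (RingHom.ker ψ)) :
    IsLoc Groth.Agent.Lib.Helper10.RegDescentKoszul.koszulKind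
      (RingHom.ker (ψ.comp (algebraMap A B))) := by
  have hψsurj : Function.Surjective ψ := Function.Surjective.of_comp hsurj
  have h1 : Groth.Agent.Lib.Helper10.LciComp.IsLCIHom (algebraMap A B) :=
    Groth.Agent.Lib.Helper10.LciComp.isLCIHom_algebraMap.mpr isLCI_of_smooth
  have h2 : Groth.Agent.Lib.Helper10.LciComp.IsLCIHom ψ := isLCIHom_of_surjective ψ hψsurj h
  have h3 := Groth.Agent.Lib.Helper10.LciComp.isLCIHom_comp _ _ h1 h2
  have hα : IsPolyHom (RingHom.id A) :=
    ⟨0, (MvPolynomial.isEmptyAlgEquiv A (Fin 0)).toRingEquiv, by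
      ext x
      show MvPolynomial.isEmptyAlgEquiv A (Fin 0) (MvPolynomial.C x) = x
      exact (MvPolynomial.isEmptyAlgEquiv A (Fin 0)).commutes x⟩
  exact isLoc_ker_of_isLCIHom_comp hα _ hsurj (by rwa [RingHom.comp_id])

end Groth.Agent.Lib.Helper51.SmoothDescend
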