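import Mathlib
import Groth.Agent.Lib.Helper51.SmoothDescend2
import Groth.Agent.Lib.Helper10.RegImmDescent

/-!
# Regular immersions over a smooth morphism descend (helper51)
-/

set_option autoImplicit false
set_option linter.style.haveILetI false
universe u

namespace Groth.Agent.Lib.Helper51.SmoothDescend

open AlgebraicGeometry CategoryTheory
open Groth.Agent.Lib.Helper10.RegDescent Groth.Agent.Lib.Helper10.RegImmDescent
  Groth.Agent.Lib.Helper10.RegImmBaseChange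

/-- Scheme-level reduction: if `p : X ⟶ S` is smooth, `i : Y ⟶ X` and `i ≫ p` are immersions and
`i` has local data of kind `K` everywhere, then `i ≫ p` has local data of kind `K` at every
point, provided the kind `K` satisfies the algebraic descent theorem. -/
theorem hasDataAt_comp_smooth {K : Kind.{u}}
    (hT : ∀ {A B T : Type u} [CommRing A] [CommRing B] [CommRing T] [Algebra A B]
      [Algebra.Smooth A B] (ψ : B →+* T), Function.Surjective (ψ.comp (algebraMap A B)) →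
      IsLoc K (RingHom.ker ψ) → IsLoc K (RingHom.ker (ψ.comp (algebraMap A B))))
    {Y X S : Scheme.{u}} (p : X ⟶ S) [Smooth p] (i : Y ⟶ X) [IsImmersion i]
    [IsImmersion (i ≫ p)] (hi : ∀ y, HasDataAt K i y) (y : Y) : HasDataAt K (i ≫ p) y := by
  -- charts
  obtain ⟨V₀, hyV₀, hclV₀⟩ := exists_affine_isClosedImmersion_restrict (i ≫ p) y
  have hpy : p (i y) ∈ V₀.1 := hyV₀
  have hmem : i y ∈ p ⁻¹ᵁ V₀.1 ⊓ i.coborderRange := ⟨hpy, subset_coborder ⟨y, rfl⟩⟩
  obtain ⟨_, ⟨U₀, hU₀, rfl⟩, hyU₀, hleU₀⟩ := X.isBasis_affineOpens.exists_subset_of_mem_open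
    hmem (p ⁻¹ᵁ V₀.1 ⊓ i.coborderRange).2
  have hU₀V₀ : U₀ ≤ p ⁻¹ᵁ V₀.1 := fun x hx => (hleU₀ hx).1
  -- an open of `S` cutting out `i⁻¹ U₀`
  have hemb : Topology.IsEmbedding (i ≫ p) := (i ≫ p).isEmbedding
  obtain ⟨O, hO⟩ : ∃ O : S.Opens, (i ≫ p) ⁻¹ᵁ O = i ⁻¹ᵁ U₀ := by
    obtain ⟨O, hOo, hOe⟩ := hemb.isInducing.isOpen_iff.mp (i ⁻¹ᵁ U₀).2
    exact ⟨⟨O, hOo⟩, TopologicalSpace.Opens.ext hOe⟩
  have hyO : p (i y) ∈ O := by
    have h1 : y ∈ (i ≫ p) ⁻¹ᵁ O := by
      rw [hO]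
      exact hyU₀
    exact h1
  obtain ⟨a, haO, hya⟩ := V₀.2.exists_basicOpen_le (V := O) ⟨p (i y), hyO⟩ hpy
  have hV : IsAffineOpen (S.basicOpen a) := V₀.2.basicOpen a
  obtain ⟨hclV, -, -⟩ := restrictData (i ≫ p) V₀.2 hV (S.basicOpen_le a) hclV₀
  -- the chart of `X`
  set a' : Γ(X, U₀) := p.appLE V₀.1 U₀ hU₀V₀ a with ha'
  have hU : IsAffineOpen (X.basicOpen a') := hU₀.basicOpen a'
  have hUeq : X.basicOpen a' = U₀ ⊓ p ⁻¹ᵁ S.basicOpen a := by
    rw [ha', Scheme.Hom.appLE, CommRingCat.comp_apply, Scheme.basicOpen_res,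
      Scheme.Hom.preimage_basicOpen]
  have hUV : X.basicOpen a' ≤ p ⁻¹ᵁ S.basicOpen a := by
    rw [hUeq]
    exact inf_le_right
  have hclU : IsClosedImmersion (i ∣_ X.basicOpen a') :=
    isClosedImmersion_restrict_of_le_coborder i _
      (fun x hx => (hleU₀ ((X.basicOpen_le a') hx)).2)
  have hW : i ⁻¹ᵁ X.basicOpen a' = (i ≫ p) ⁻¹ᵁ S.basicOpen a := by
    rw [hUeq]
    apply le_antisymm
    · intro z hz
      exact hz.2
    · intro z hz
      refine ⟨?_, hz⟩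
      have h1 : z ∈ (i ≫ p) ⁻¹ᵁ O := haO hz
      rw [hO] at h1
      exact h1
  have hWle : i ⁻¹ᵁ X.basicOpen a' ≤ (i ≫ p) ⁻¹ᵁ S.basicOpen a := hW.le
  -- algebra
  letI : Algebra Γ(S, S.basicOpen a) Γ(X, X.basicOpen a') :=
    (p.appLE (S.basicOpen a) (X.basicOpen a') hUV).hom.toAlgebra
  haveI : Algebra.Smooth Γ(S, S.basicOpen a) Γ(X, X.basicOpen a') :=
    HasRingHomProperty.appLE (P := @Smooth) p inferInstance ⟨_, hV⟩ ⟨_, hU⟩ hUV
  have hlocI : IsLoc K (RingHom.ker (i.app (X.basicOpen a')).hom) := isLoc_ker i hi hU hclU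
  obtain ⟨hWV, hsurjV⟩ := app_surjective_of_restrict (i ≫ p) (S.basicOpen a) hV hclV
  have hcomp : (i.app (X.basicOpen a')).hom.comp
      (algebraMap Γ(S, S.basicOpen a) Γ(X, X.basicOpen a')) =
      ((i ≫ p).appLE (S.basicOpen a) (i ⁻¹ᵁ X.basicOpen a') hWle).hom := by
    have h1 : (i ≫ p).appLE (S.basicOpen a) (i ⁻¹ᵁ X.basicOpen a') hWle =
        p.appLE (S.basicOpen a) (X.basicOpen a') hUV ≫
          i.appLE (X.basicOpen a') (i ⁻¹ᵁ X.basicOpen a') le_rfl := by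
      rw [Scheme.Hom.appLE_comp_appLE]
    rw [h1, Scheme.Hom.appLE_eq_app]
    rfl
  have happLE : ((i ≫ p).appLE (S.basicOpen a) (i ⁻¹ᵁ X.basicOpen a') hWle).hom =
      (Y.presheaf.map (homOfLE hWle).op).hom.comp ((i ≫ p).app (S.basicOpen a)).hom := by
    rw [Scheme.Hom.appLE, CommRingCat.hom_comp]
  have hbij : Function.Bijective (Y.presheaf.map (homOfLE hWle).op).hom := by
    have : IsIso (Y.presheaf.map (homOfLE hWle).op) := by
      have h2 : homOfLE hWle = eqToHom hW := Subsingleton.elim _ _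
      rw [h2]
      infer_instance
    exact ConcreteCategory.bijective_of_isIso (Y.presheaf.map (homOfLE hWle).op)
  have hsurj : Function.Surjective ((i.app (X.basicOpen a')).hom.comp
      (algebraMap Γ(S, S.basicOpen a) Γ(X, X.basicOpen a'))) := by
    rw [hcomp, happLE]
    exact hbij.2.comp hsurjV
  have hker : RingHom.ker ((i.app (X.basicOpen a')).hom.comp
      (algebraMap Γ(S, S.basicOpen a) Γ(X, X.basicOpen a'))) =
      RingHom.ker ((i ≫ p).app (S.basicOpen a)).hom := by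
    rw [hcomp, happLE]
    ext x
    simp only [RingHom.mem_ker, RingHom.comp_apply]
    exact ⟨fun h => hbij.1 (by rw [h, map_zero]), fun h => by rw [h, map_zero]⟩
  have hlocJ := hT (i.app (X.basicOpen a')).hom hsurj hlocI
  rw [hker] at hlocJ
  exact hasDataAt_of_isLoc (i ≫ p) hV hclV hlocJ y hya

end Groth.Agent.Lib.Helper51.SmoothDescend
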