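import Mathlib

/-!
# `H¹(L_{B/A})` for standard smooth `A`, `B` over `R` with `Ω[B/A] = 0` (helper51)
-/

set_option autoImplicit false
set_option linter.style.haveILetI false
universe u
open Algebra TensorProduct KaehlerDifferential

namespace Groth.Agent.Lib.Helper51.SmoothPair

variable {R A B : Type u} [CommRing R] [CommRing A] [CommRing B] [Algebra R A] [Algebra A B]
  [Algebra R B] [IsScalarTower R A B]

/-- For `R → A → B` with `A`, `B` formally smooth over `R` and `Ω[B/A] = 0`:
`B ⊗[A] Ω[A/R] ≃ H¹(L_{B/A}) × Ω[B/R]`. -/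
theorem nonempty_split_equiv [FormallySmooth R B] [Subsingleton Ω[B⁄A]] :
    Nonempty ((B ⊗[A] Ω[A⁄R]) ≃ₗ[B] Algebra.H1Cotangent A B × Ω[B⁄R]) := by
  have hsub : Subsingleton (Algebra.H1Cotangent R B) :=
    ((Algebra.formallySmooth_iff R B).mp inferInstance).2
  have hex1 := Algebra.H1Cotangent.exact_map_δ R A B
  have hex2 := Algebra.H1Cotangent.exact_δ_mapBaseChange R A B
  have hinj : Function.Injective (Algebra.H1Cotangent.δ R A B) := by
    rw [injective_iff_map_eq_zero]
    intro x hx
    obtain ⟨y, rfl⟩ := (hex1 x).mp hx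
    rw [Subsingleton.elim y 0, map_zero]
  have hsurj : Function.Surjective (mapBaseChange R A B) := by
    intro y
    exact (KaehlerDifferential.exact_mapBaseChange_map R A B y).mp (Subsingleton.elim _ _)
  obtain ⟨σ, hσ⟩ := Module.projective_lifting_property (mapBaseChange R A B) LinearMap.id hsurj
  exact ⟨(hex2.splitSurjectiveEquiv hinj ⟨σ, hσ⟩).1⟩

/-- Rank count for standard smooth algebras. -/
theorem rank_h1_of_standardSmooth (a b : ℕ) [Algebra.IsStandardSmoothOfRelativeDimension a R A]
    [Algebra.IsStandardSmoothOfRelativeDimension b R B] [Subsingleton Ω[B⁄A]] :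
    Module.Finite B (Algebra.H1Cotangent A B) ∧ Module.Projective B (Algebra.H1Cotangent A B) ∧
      ∀ p : PrimeSpectrum B, Module.rankAtStalk (Algebra.H1Cotangent A B) p + b = a := by
  haveI : Algebra.IsStandardSmooth R A :=
    Algebra.IsStandardSmoothOfRelativeDimension.isStandardSmooth a
  haveI : Algebra.IsStandardSmooth R B :=
    Algebra.IsStandardSmoothOfRelativeDimension.isStandardSmooth b
  obtain ⟨e⟩ := nonempty_split_equiv (R := R) (A := A) (B := B)
  haveI hfin : Module.Finite B (Algebra.H1Cotangent A B × Ω[B⁄R]) := Module.Finite.equiv e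
  haveI hproj : Module.Projective B (Algebra.H1Cotangent A B × Ω[B⁄R]) :=
    Module.Projective.of_equiv e
  haveI hfin1 : Module.Finite B (Algebra.H1Cotangent A B) :=
    Module.Finite.of_surjective (LinearMap.fst B _ Ω[B⁄R]) Prod.fst_surjective
  haveI hproj1 : Module.Projective B (Algebra.H1Cotangent A B) :=
    Module.Projective.of_split (LinearMap.inl B _ Ω[B⁄R]) (LinearMap.fst B _ Ω[B⁄R])
      (LinearMap.fst_comp_inl B _ _)
  refine ⟨hfin1, hproj1, fun p => ?_⟩
  haveI : Nontrivial B := ⟨⟨0, 1, fun h => p.2.ne_top ((Ideal.eq_top_iff_one _).mpr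
    (h ▸ p.asIdeal.zero_mem))⟩⟩
  haveI : Nontrivial A := (algebraMap A B).domain_nontrivial
  have h1 := Module.rankAtStalk_eq_of_equiv e
  have h2 := congrFun h1 p
  rw [Module.rankAtStalk_prod, Pi.add_apply, Module.rankAtStalk_baseChange,
    Module.rankAtStalk_eq_finrank_of_free, Module.rankAtStalk_eq_finrank_of_free (M := Ω[B⁄R])] at h2
  have ha : Module.finrank A Ω[A⁄R] = a :=
    Module.finrank_eq_of_rank_eq (Algebra.IsStandardSmoothOfRelativeDimension.rank_kaehlerDifferential a)
  have hb : Module.finrank B Ω[B⁄R] = b :=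
    Module.finrank_eq_of_rank_eq (Algebra.IsStandardSmoothOfRelativeDimension.rank_kaehlerDifferential b)
  simp only [Pi.natCast_def, ha, hb] at h2
  exact h2.symm

end Groth.Agent.Lib.Helper51.SmoothPair
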