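import Mathlib
import Groth.Agent.Lib.Helper51.OmegaUniv.KaehlerAlg5
import Groth.Agent.Lib.Helper51.OmegaUniv.KaehlerAlg8
import Groth.Agent.Lib.Helper51.OmegaUniv.Conormal

/-!
# Smooth subschemes of smooth schemes, algebra (helper51)

For a surjection `A → B` of `R`-algebras with `A` formally smooth, and an `A`-module `N` identified
with the kernel by `ι : N → A`: the map `ψ : B ⊗ N → B ⊗ Ω[A/R]`, `b ⊗ n ↦ b ⊗ d(ι n)`, the exact
sequence `B ⊗ N → B ⊗ Ω[A/R] → Ω[B/R] → 0`, the criterion `B` formally smooth iff `ψ` injective and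
`Ω[B/R]` projective, and the rank count.
-/

set_option autoImplicit false
set_option linter.style.haveILetI false
set_option linter.unusedSectionVars false
universe u
open TensorProduct KaehlerDifferential

namespace Groth.Agent.Lib.Helper51.SmoothSub

section defs

variable {R A B : Type u} [CommRing R] [CommRing A] [CommRing B] [Algebra R A]
  [Algebra A B]

variable {N : Type u} [AddCommGroup N] [Module A N] (ι : N →ₗ[A] A)
  (hk : ∀ n, algebraMap A B (ι n) = 0)

/-- the `A`-linear map `n ↦ 1 ⊗ d(ι n)` -/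
noncomputable def delta : N →ₗ[A] B ⊗[A] Ω[A⁄R] where
  toFun n := (1 : B) ⊗ₜ[A] D R A (ι n)
  map_add' n m := by rw [map_add, map_add, tmul_add]
  map_smul' a n := by
    have h1 : ι (a • n) = a * ι n := by rw [map_smul, smul_eq_mul]
    rw [h1, Derivation.leibniz, tmul_add, RingHom.id_apply, tmul_smul]
    have h2 : (1 : B) ⊗ₜ[A] (ι n • D R A a) = 0 := by
      rw [← smul_tmul, Algebra.smul_def, mul_one, hk, zero_tmul]
    rw [h2, add_zero]

/-- `ψ : B ⊗ N → B ⊗ Ω[A/R]`, `b ⊗ n ↦ b ⊗ d(ι n)` -/
noncomputable def psi : B ⊗[A] N →ₗ[B] B ⊗[A] Ω[A⁄R] :=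
  (delta (R := R) ι hk).liftBaseChange B

theorem psi_tmul (b : B) (n : N) :
    psi (R := R) ι hk (b ⊗ₜ n) = b ⊗ₜ[A] D R A (ι n) := by
  rw [psi, LinearMap.liftBaseChange_tmul]
  show b • ((1 : B) ⊗ₜ[A] D R A (ι n)) = _
  rw [smul_tmul', smul_eq_mul, mul_one]

end defs

section alg

variable {R A B : Type u} [CommRing R] [CommRing A] [CommRing B] [Algebra R A] [Algebra R B]
  [Algebra A B] [IsScalarTower R A B]

/-- `B` is formally smooth as soon as `I/I² → B ⊗ Ω[A/R]` is injective and `Ω[B/R]` projective. -/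
theorem formallySmooth_of_injective_of_projective [Algebra.FormallySmooth R A]
    (hs : Function.Surjective (algebraMap A B))
    (hinj : Function.Injective (kerCotangentToTensor R A B)) [Module.Projective B Ω[B⁄R]] :
    Algebra.FormallySmooth R B := by
  rw [Algebra.formallySmooth_iff]
  exact ⟨inferInstance, (Algebra.FormallySmooth.kerCotangentToTensor_injective_iff hs).mp hinj⟩

variable {N : Type u} [AddCommGroup N] [Module A N] (ι : N →ₗ[A] A)
  (hk : ∀ n, algebraMap A B (ι n) = 0)

include hk in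
theorem mem_ker_ι (n : N) : ι n ∈ RingHom.ker (algebraMap A B) := RingHom.mem_ker.mpr (hk n)

theorem psi_one_tmul (n : N) :
    psi (R := R) ι hk (1 ⊗ₜ n) =
      kerCotangentToTensor R A B (Ideal.toCotangent _ ⟨ι n, mem_ker_ι ι hk n⟩) := by
  rw [psi_tmul, kerCotangentToTensor_toCotangent]

/-- exactness of `B ⊗ N → B ⊗ Ω[A/R] → Ω[B/R]` -/
theorem exact_psi_mapBaseChange (hs : Function.Surjective (algebraMap A B))
    (hr : ∀ a : A, algebraMap A B a = 0 → ∃ n, ι n = a) :
    Function.Exact (psi (R := R) ι hk) (mapBaseChange R A B) := by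
  intro x
  constructor
  · intro hx
    obtain ⟨c, rfl⟩ := (exact_kerCotangentToTensor_mapBaseChange R A B hs x).mp hx
    obtain ⟨⟨a, ha⟩, rfl⟩ := Ideal.toCotangent_surjective _ c
    obtain ⟨n, rfl⟩ := hr a (RingHom.mem_ker.mp ha)
    exact ⟨1 ⊗ₜ n, psi_one_tmul ι hk n⟩
  · rintro ⟨t, rfl⟩
    obtain ⟨n, rfl⟩ := Groth.Agent.Lib.Helper51.OmegaUniv.exists_one_tmul hs t
    rw [psi_one_tmul]
    exact (exact_kerCotangentToTensor_mapBaseChange R A B hs _).mpr ⟨_, rfl⟩

/-- `ψ` injective implies `I/I² → B ⊗ Ω[A/R]` injective -/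
theorem kerCotangentToTensor_injective_of_psi_injective
    (hs : Function.Surjective (algebraMap A B))
    (hr : ∀ a : A, algebraMap A B a = 0 → ∃ n, ι n = a)
    (hinj : Function.Injective (psi (R := R) ι hk)) :
    Function.Injective (kerCotangentToTensor R A B) := by
  rw [injective_iff_map_eq_zero]
  intro c hc
  obtain ⟨⟨a, ha⟩, rfl⟩ := Ideal.toCotangent_surjective _ c
  obtain ⟨n, hn⟩ := hr a (RingHom.mem_ker.mp ha)
  subst hn
  rw [← psi_one_tmul ι hk n] at hc
  have h0 : (1 : B) ⊗ₜ[A] n = 0 := hinj (hc.trans (map_zero _).symm)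
  have h1 := Groth.Agent.Lib.Helper51.OmegaUniv.KAlg.mem_sq_of_one_tmul_eq_zero
    (ι : N →+ A) (fun r m => by simp) hk hs n h0
  rw [Ideal.toCotangent_eq_zero]
  exact h1

/-- `I/I² → B ⊗ Ω[A/R]` injective implies `ψ` injective -/
theorem psi_injective_of_kerCotangentToTensor_injective
    (hs : Function.Surjective (algebraMap A B)) (hι : Function.Injective ι)
    (hr : ∀ a : A, algebraMap A B a = 0 → ∃ n, ι n = a)
    (hinj : Function.Injective (kerCotangentToTensor R A B)) :
    Function.Injective (psi (R := R) ι hk) := by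
  rw [injective_iff_map_eq_zero]
  intro t ht
  obtain ⟨n, rfl⟩ := Groth.Agent.Lib.Helper51.OmegaUniv.exists_one_tmul hs t
  rw [psi_one_tmul] at ht
  have h0 := hinj (ht.trans (map_zero _).symm)
  rw [Ideal.toCotangent_eq_zero] at h0
  exact Groth.Agent.Lib.Helper51.OmegaUniv.KAlg.one_tmul_eq_zero_of_mem_sq
    (ι : N →+ A) (fun r m => by simp) hι hr n h0

include hk in
/-- the splitting `B ⊗ Ω[A/R] ≃ (B ⊗ N) × Ω[B/R]` for `B` formally smooth -/
theorem exists_split_equiv [Algebra.FormallySmooth R B]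
    (hs : Function.Surjective (algebraMap A B)) (hι : Function.Injective ι)
    (hr : ∀ a : A, algebraMap A B a = 0 → ∃ n, ι n = a) :
    Nonempty ((B ⊗[A] Ω[A⁄R]) ≃ₗ[B] (B ⊗[A] N) × Ω[B⁄R]) := by
  have hinj := psi_injective_of_kerCotangentToTensor_injective (R := R) ι hk hs hι hr
    (Groth.Agent.Lib.Helper51.OmegaUniv.KAlg.kerCotangentToTensor_injective_of_formallySmooth hs)
  have hex := exact_psi_mapBaseChange (R := R) ι hk hs hr
  have hsurj : Function.Surjective (mapBaseChange R A B) := mapBaseChange_surjective R A B hs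
  obtain ⟨σ, hσ⟩ := Module.projective_lifting_property (mapBaseChange R A B) LinearMap.id hsurj
  exact ⟨(hex.splitSurjectiveEquiv hinj ⟨σ, hσ⟩).1⟩

include hk in
/-- **rank count** in the conormal sequence of a surjection of formally smooth algebras -/
theorem rankAtStalk_add [Algebra.FormallySmooth R A] [Algebra.FormallySmooth R B]
    [Module.Finite A Ω[A⁄R]] [Module.Finite B Ω[B⁄R]]
    (hs : Function.Surjective (algebraMap A B)) (hι : Function.Injective ι)
    (hr : ∀ a : A, algebraMap A B a = 0 → ∃ n, ι n = a) :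
    Module.Finite B (B ⊗[A] N) ∧ Module.Projective B (B ⊗[A] N) ∧
      ∀ p : PrimeSpectrum B, Module.rankAtStalk (B ⊗[A] N) p + Module.rankAtStalk (Ω[B⁄R]) p =
        Module.rankAtStalk (Ω[A⁄R]) (p.comap (algebraMap A B)) := by
  obtain ⟨e⟩ := exists_split_equiv (R := R) ι hk hs hι hr
  have hpA : Module.Projective A Ω[A⁄R] := ((Algebra.formallySmooth_iff R A).mp inferInstance).1
  have hpB : Module.Projective B Ω[B⁄R] := ((Algebra.formallySmooth_iff R B).mp inferInstance).1
  have hfinN : Module.Finite B (B ⊗[A] N) :=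
    Module.Finite.of_surjective ((LinearMap.fst B (B ⊗[A] N) Ω[B⁄R]).comp e.toLinearMap)
      (fun x => ⟨e.symm (x, 0), by simp⟩)
  have hprojN : Module.Projective B (B ⊗[A] N) :=
    Module.Projective.of_split (e.symm.toLinearMap.comp (LinearMap.inl B (B ⊗[A] N) Ω[B⁄R]))
      ((LinearMap.fst B (B ⊗[A] N) Ω[B⁄R]).comp e.toLinearMap) (by ext x; simp)
  refine ⟨hfinN, hprojN, fun p => ?_⟩
  have h1 := Module.rankAtStalk_eq_of_equiv e
  have h2 := Module.rankAtStalk_prod (R := B) (B ⊗[A] N) Ω[B⁄R]
  have h3 := Module.rankAtStalk_baseChange (R := A) (M := Ω[A⁄R]) (S := B) p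
  rw [← h3, h1, h2]
  rfl

end alg

section loc

/-- the rank of a localized module computed in any model of the localization -/
theorem finrank_eq_rankAtStalk_of_isLocalizedModule {R : Type u} [CommRing R]
    (p : PrimeSpectrum R) (R' : Type u) [CommRing R'] [Algebra R R']
    [IsLocalization.AtPrime R' p.asIdeal]
    {M M' : Type u} [AddCommGroup M] [Module R M] [AddCommGroup M'] [Module R M'] [Module R' M']
    [IsScalarTower R R' M'] (g : M →ₗ[R] M') [IsLocalizedModule p.asIdeal.primeCompl g] :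
    Module.finrank R' M' = Module.rankAtStalk M p := by
  let σ : Localization.AtPrime p.asIdeal ≃ₐ[R] R' :=
    IsLocalization.algEquiv p.asIdeal.primeCompl (Localization.AtPrime p.asIdeal) R'
  let j : LocalizedModule p.asIdeal.primeCompl M ≃ₗ[R] M' :=
    IsLocalizedModule.iso p.asIdeal.primeCompl g
  have hc : ∀ (r : Localization.AtPrime p.asIdeal) (m : LocalizedModule p.asIdeal.primeCompl M),
      j (r • m) = σ r • j m := by
    intro r m
    obtain ⟨⟨a, t⟩, hat⟩ := IsLocalization.surj p.asIdeal.primeCompl r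
    -- `r * t = a`
    have h1 : (t : R) • (r • m) = a • m := by
      rw [← algebraMap_smul (Localization.AtPrime p.asIdeal) (t : R), smul_smul, mul_comm, hat,
        algebraMap_smul]
    have h2 : (t : R) • j (r • m) = a • j m := by rw [← map_smul, h1, map_smul]
    have h3 : (t : R) • (σ r • j m) = a • j m := by
      rw [← algebraMap_smul R' (t : R), smul_smul, ← σ.commutes, ← map_mul, mul_comm, hat,
        σ.commutes, algebraMap_smul]
    have hunit := IsLocalizedModule.map_units g t
    exact ((Module.End.isUnit_iff _).mp hunit).injective (h2.trans h3.symm)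
  have h := rank_eq_of_equiv_equiv (σ : Localization.AtPrime p.asIdeal → R') j.toAddEquiv
    σ.bijective hc
  unfold Module.rankAtStalk Module.finrank
  rw [h]

end loc

end Groth.Agent.Lib.Helper51.SmoothSub
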