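import Mathlib
import Groth.Agent.Lib.Helper51.SmoothSubAlg
import Groth.Agent.Lib.Helper51.OmegaUniv.ConormalInj
import Groth.Agent.Lib.Helper51.OmegaUniv.H1Sheaf
import Groth.Agent.Lib.Helper51.OmegaUniv.Sections
import Groth.Agent.Lib.Helper49.FinLocFreeSections
import Groth.Agent.Lib.Helper45.ModulesExact
import Groth.Agent.Lib.Helper55.ChartResidue

/-!
# Smooth subschemes of smooth schemes, chart level (helper51)
-/

set_option autoImplicit false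
set_option linter.style.haveILetI false
set_option linter.unusedSectionVars false
universe u
open AlgebraicGeometry CategoryTheory Limits TopologicalSpace Opposite TensorProduct OmegaSh

namespace Groth.Agent.Lib.Helper51.SmoothSub

open Groth.Agent.Lib.Helper49 Groth.Agent.Lib.Helper49.UnitChart Groth.Agent.Lib.Helper45
  Groth.Agent.Lib.Helper51.OmegaUniv

variable {X Y Z : Scheme.{u}} (f : Y ⟶ Z) (j : X ⟶ Y)
  {ΩY : Y.Modules} {dY : Der f ΩY}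
  {φ : Omega.conormal j ⟶ (Scheme.Modules.pullback j).obj ΩY}

section chart

variable [QuasiCompact j] (hY : IsUniversal dY) (hφ : IsConormalDiff j dY φ)
  {U : Y.Opens} (hU : IsAffineOpen U) {V : Z.Opens} (hV : IsAffineOpen V) (h₁ : U ≤ f ⁻¹ᵁ V)
  (hW : IsAffineOpen (j ⁻¹ᵁ U)) (hsurj : Function.Surjective (j.app U).hom)

include hY hφ hU hV hW hsurj in
/-- On a chart, the conormal differential is identified with `ψ`. -/
theorem exists_chart_square :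
    letI := (f.appLE V U h₁).hom.toAlgebra
    letI := (j.appLE U (j ⁻¹ᵁ U) le_rfl).hom.toAlgebra
    ∃ (hk : ∀ n, algebraMap Γ(Y, U) Γ(X, j ⁻¹ᵁ U) (idealSectLin j U n) = 0)
      (eN : Γ(X, j ⁻¹ᵁ U) ⊗[Γ(Y, U)] Γ(ClSub.idealMod j.ker, U) ≃ₗ[Γ(X, j ⁻¹ᵁ U)]
        Γ(Omega.conormal j, j ⁻¹ᵁ U))
      (eΩ : Γ(X, j ⁻¹ᵁ U) ⊗[Γ(Y, U)] Ω[Γ(Y, U)⁄Γ(Z, V)] ≃ₗ[Γ(X, j ⁻¹ᵁ U)]
        Γ((Scheme.Modules.pullback j).obj ΩY, j ⁻¹ᵁ U)),
      (∀ a : Γ(Y, U), algebraMap Γ(Y, U) Γ(X, j ⁻¹ᵁ U) a = 0 → ∃ n, idealSectLin j U n = a) ∧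
      Function.Surjective (algebraMap Γ(Y, U) Γ(X, j ⁻¹ᵁ U)) ∧
      ∀ t, φ.app (j ⁻¹ᵁ U) (eN t) = eΩ (psi (R := Γ(Z, V)) (idealSectLin j U) hk t) := by
  letI : Algebra Γ(Z, V) Γ(Y, U) := (f.appLE V U h₁).hom.toAlgebra
  letI : Algebra Γ(Y, U) Γ(X, j ⁻¹ᵁ U) := (j.appLE U (j ⁻¹ᵁ U) le_rfl).hom.toAlgebra
  have hsurj' : Function.Surjective (algebraMap Γ(Y, U) Γ(X, j ⁻¹ᵁ U)) := by
    change Function.Surjective (j.appLE U (j ⁻¹ᵁ U) le_rfl).hom
    rw [Scheme.Hom.appLE_eq_app]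
    exact hsurj
  have hker : ∀ y : Γ(Y, U), algebraMap Γ(Y, U) Γ(X, j ⁻¹ᵁ U) y = 0 ↔ j.app U y = 0 := by
    intro y
    change (j.appLE U (j ⁻¹ᵁ U) le_rfl).hom y = 0 ↔ _
    rw [Scheme.Hom.appLE_eq_app]
  have hk : ∀ n, algebraMap Γ(Y, U) Γ(X, j ⁻¹ᵁ U) (idealSectLin j U n) = 0 := by
    intro n
    rw [hker]
    exact app_idealSect j hU n
  obtain ⟨eN, heN⟩ := exists_conormal_sections_equiv j hU hW le_rfl
  obtain ⟨eΩ, heΩ⟩ := exists_pullback_sections_equiv j hY hU hV h₁ hW le_rfl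
  refine ⟨hk, eN, eΩ, fun a ha => exists_idealSect_eq j hU a ((hker a).mp ha), hsurj', fun t => ?_⟩
  obtain ⟨s, rfl⟩ := exists_one_tmul hsurj' t
  rw [heN, one_smul, conormalDiff_app_res j hφ le_rfl s, psi_tmul, heΩ, one_smul]
  rfl

end chart

section smooth

variable [QuasiCompact j] (hY : IsUniversal dY) (hφ : IsConormalDiff j dY φ)
  {U : Y.Opens} (hU : IsAffineOpen U) {V : Z.Opens} (hV : IsAffineOpen V) (h₁ : U ≤ f ⁻¹ᵁ V)
  (hW : IsAffineOpen (j ⁻¹ᵁ U)) (hsurj : Function.Surjective (j.app U).hom)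
  {ΩX : X.Modules} {dX : Der (j ≫ f) ΩX} (hX : IsUniversal dX)

include hY hφ hU hV hW hsurj hX in
/-- If the conormal differential is injective on the chart, `Ω_X` is finite locally free and the
ambient chart is formally smooth, then the chart of the subscheme is formally smooth. -/
theorem formallySmooth_chart_of_injective (h₂ : j ⁻¹ᵁ U ≤ (j ≫ f) ⁻¹ᵁ V)
    (hfs : letI := (f.appLE V U h₁).hom.toAlgebra
      Algebra.FormallySmooth Γ(Z, V) Γ(Y, U))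
    (hΩX : FlatMod.IsFinLocFree ΩX)
    (hinj : Function.Injective (φ.app (j ⁻¹ᵁ U))) :
    letI := ((j ≫ f).appLE V (j ⁻¹ᵁ U) h₂).hom.toAlgebra
    Algebra.FormallySmooth Γ(Z, V) Γ(X, j ⁻¹ᵁ U) := by
  letI : Algebra Γ(Z, V) Γ(Y, U) := (f.appLE V U h₁).hom.toAlgebra
  letI : Algebra Γ(Y, U) Γ(X, j ⁻¹ᵁ U) := (j.appLE U (j ⁻¹ᵁ U) le_rfl).hom.toAlgebra
  letI : Algebra Γ(Z, V) Γ(X, j ⁻¹ᵁ U) := ((j ≫ f).appLE V (j ⁻¹ᵁ U) h₂).hom.toAlgebra
  have t₁ : IsScalarTower Γ(Z, V) Γ(Y, U) Γ(X, j ⁻¹ᵁ U) := by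
    refine IsScalarTower.of_algebraMap_eq' ?_
    change ((j ≫ f).appLE V (j ⁻¹ᵁ U) h₂).hom =
      (f.appLE V U h₁ ≫ j.appLE U (j ⁻¹ᵁ U) le_rfl).hom
    rw [Scheme.Hom.appLE_comp_appLE]
  have : Algebra.FormallySmooth Γ(Z, V) Γ(Y, U) := hfs
  obtain ⟨hk, eN, eΩ, hr, hs, hsq⟩ := exists_chart_square f j hY hφ hU hV h₁ hW hsurj
  have hψ : Function.Injective (psi (R := Γ(Z, V)) (idealSectLin j U) hk) := by
    rw [injective_iff_map_eq_zero]
    intro t ht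
    have h1 : φ.app (j ⁻¹ᵁ U) (eN t) = 0 := by rw [hsq, ht, map_zero]
    have h2 : eN t = 0 := hinj (h1.trans (map_zero _).symm)
    exact eN.injective (h2.trans (map_zero eN).symm)
  have hkct := kerCotangentToTensor_injective_of_psi_injective (R := Γ(Z, V))
    (idealSectLin j U) hk hs hr hψ
  obtain ⟨e, -⟩ := exists_sections_equiv (j ≫ f) hX hW hV h₂
  have hfp := finite_projective_sections_of_isFinLocFree ΩX hΩX hW
  have : Module.Projective Γ(X, j ⁻¹ᵁ U) Ω[Γ(X, j ⁻¹ᵁ U)⁄Γ(Z, V)] :=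
    haveI := hfp.2
    Module.Projective.of_equiv e.symm
  exact formallySmooth_of_injective_of_projective hs hkct

include hU hV hW hsurj in
/-- rank count on a chart -/
theorem rank_chart (h₂ : j ⁻¹ᵁ U ≤ (j ≫ f) ⁻¹ᵁ V)
    (hfsA : letI := (f.appLE V U h₁).hom.toAlgebra
      Algebra.FormallySmooth Γ(Z, V) Γ(Y, U) ∧ Module.Finite Γ(Y, U) Ω[Γ(Y, U)⁄Γ(Z, V)])
    (hfsB : letI := ((j ≫ f).appLE V (j ⁻¹ᵁ U) h₂).hom.toAlgebra
      Algebra.FormallySmooth Γ(Z, V) Γ(X, j ⁻¹ᵁ U) ∧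
        Module.Finite Γ(X, j ⁻¹ᵁ U) Ω[Γ(X, j ⁻¹ᵁ U)⁄Γ(Z, V)]) :
    letI := (f.appLE V U h₁).hom.toAlgebra
    letI := (j.appLE U (j ⁻¹ᵁ U) le_rfl).hom.toAlgebra
    letI := ((j ≫ f).appLE V (j ⁻¹ᵁ U) h₂).hom.toAlgebra
    Module.Finite Γ(X, j ⁻¹ᵁ U) Γ(Omega.conormal j, j ⁻¹ᵁ U) ∧
      Module.Projective Γ(X, j ⁻¹ᵁ U) Γ(Omega.conormal j, j ⁻¹ᵁ U) ∧
      ∀ p : PrimeSpectrum Γ(X, j ⁻¹ᵁ U),
        Module.rankAtStalk Γ(Omega.conormal j, j ⁻¹ᵁ U) p +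
            Module.rankAtStalk (Ω[Γ(X, j ⁻¹ᵁ U)⁄Γ(Z, V)]) p =
          Module.rankAtStalk (Ω[Γ(Y, U)⁄Γ(Z, V)])
            (p.comap (algebraMap Γ(Y, U) Γ(X, j ⁻¹ᵁ U))) := by
  letI : Algebra Γ(Z, V) Γ(Y, U) := (f.appLE V U h₁).hom.toAlgebra
  letI : Algebra Γ(Y, U) Γ(X, j ⁻¹ᵁ U) := (j.appLE U (j ⁻¹ᵁ U) le_rfl).hom.toAlgebra
  letI : Algebra Γ(Z, V) Γ(X, j ⁻¹ᵁ U) := ((j ≫ f).appLE V (j ⁻¹ᵁ U) h₂).hom.toAlgebra
  have t₁ : IsScalarTower Γ(Z, V) Γ(Y, U) Γ(X, j ⁻¹ᵁ U) := by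
    refine IsScalarTower.of_algebraMap_eq' ?_
    change ((j ≫ f).appLE V (j ⁻¹ᵁ U) h₂).hom =
      (f.appLE V U h₁ ≫ j.appLE U (j ⁻¹ᵁ U) le_rfl).hom
    rw [Scheme.Hom.appLE_comp_appLE]
  have := hfsA.1
  have := hfsA.2
  have := hfsB.1
  have := hfsB.2
  have hsurj' : Function.Surjective (algebraMap Γ(Y, U) Γ(X, j ⁻¹ᵁ U)) := by
    change Function.Surjective (j.appLE U (j ⁻¹ᵁ U) le_rfl).hom
    rw [Scheme.Hom.appLE_eq_app]
    exact hsurj
  have hker : ∀ y : Γ(Y, U), algebraMap Γ(Y, U) Γ(X, j ⁻¹ᵁ U) y = 0 ↔ j.app U y = 0 := by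
    intro y
    change (j.appLE U (j ⁻¹ᵁ U) le_rfl).hom y = 0 ↔ _
    rw [Scheme.Hom.appLE_eq_app]
  have hk : ∀ n, algebraMap Γ(Y, U) Γ(X, j ⁻¹ᵁ U) (idealSectLin j U n) = 0 := by
    intro n
    rw [hker]
    exact app_idealSect j hU n
  obtain ⟨eN, -⟩ := exists_conormal_sections_equiv j hU hW le_rfl
  obtain ⟨h1, h2, h3⟩ := rankAtStalk_add (R := Γ(Z, V)) (idealSectLin j U) hk hsurj'
    (idealSectLin_injective j U) (fun a ha => exists_idealSect_eq j hU a ((hker a).mp ha))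
  refine ⟨Module.Finite.equiv eN, Module.Projective.of_equiv eN, fun p => ?_⟩
  rw [← Module.rankAtStalk_eq_of_equiv eN]
  exact h3 p

end smooth

section stalk

attribute [local instance] Helper45.stalkModuleSections

/-- the rank of a stalk of a quasi-coherent module, computed on an affine chart -/
theorem finrank_stalk_eq_rankAtStalk {X : Scheme.{u}} (F : X.Modules) [F.IsQuasicoherent]
    {W : X.Opens} (hW : IsAffineOpen W) (x : W) :
    Module.finrank (X.presheaf.stalk (x : X)) ↑(F.presheaf.stalk (x : X)) =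
      Module.rankAtStalk Γ(F, W) (hW.primeIdealOf x) := by
  have h1 := Helper45.isLocalizedModule_germₗ hW F x
  have h2 := hW.isLocalization_stalk x
  exact finrank_eq_rankAtStalk_of_isLocalizedModule (hW.primeIdealOf x)
    (X.presheaf.stalk (x : X)) (Helper45.germₗ F x)

/-- a quasi-coherent module with finite projective sections on an affine chart has free stalks -/
theorem free_stalk_of_projective_sections {X : Scheme.{u}} (F : X.Modules) [F.IsQuasicoherent]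
    {W : X.Opens} (hW : IsAffineOpen W) (x : W) (hfin : Module.Finite Γ(X, W) Γ(F, W))
    (hproj : Module.Projective Γ(X, W) Γ(F, W)) :
    Module.Free (X.presheaf.stalk (x : X)) ↑(F.presheaf.stalk (x : X)) := by
  have := Helper45.isLocalizedModule_germₗ hW F x
  have := hW.isLocalization_stalk x
  have : Module.Projective (X.presheaf.stalk (x : X)) ↑(F.presheaf.stalk (x : X)) :=
    Module.projective_of_isLocalizedModule (hW.primeIdealOf x).asIdeal.primeCompl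
      (Helper45.germₗ F x)
  have : Module.Finite (X.presheaf.stalk (x : X)) ↑(F.presheaf.stalk (x : X)) :=
    Module.Finite.of_isLocalizedModule (hW.primeIdealOf x).asIdeal.primeCompl
      (Helper45.germₗ F x)
  exact Module.free_of_flat_of_isLocalRing

end stalk

end Groth.Agent.Lib.Helper51.SmoothSub
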