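import Mathlib
import Groth.Agent.Lib.Helper51.SmoothPairAlg
import Groth.Agent.Lib.Helper51.SmoothSubSch
import Groth.Agent.Lib.Helper51.OmegaUniv.H1Sheaf
import Groth.Agent.Lib.Helper24.SmoothAtOmega
import Groth.Agent.Lib.Helper23.FibreFree
import Groth.Agent.H52.SmoothDim

/-!
# Smooth subschemes of smooth schemes: rank of the conormal sheaf (helper51)
-/

set_option autoImplicit false
set_option linter.style.haveILetI false
set_option linter.unusedSectionVars false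
universe u
open AlgebraicGeometry CategoryTheory Limits TopologicalSpace Opposite TensorProduct OmegaSh

namespace Groth.Agent.Lib.Helper51.SmoothPair

open Groth.Agent.Lib.Helper49 Groth.Agent.Lib.Helper51.OmegaUniv

set_option backward.defeqAttrib.useBackward true in
set_option backward.isDefEq.respectTransparency false in
/-- Around a point of a smooth morphism there is a standard smooth affine chart over a prescribed
affine open of the base and inside a prescribed open of the source. -/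
theorem exists_chart_isStandardSmooth {X Y : Scheme.{u}} (f : X ⟶ Y) [Smooth f]
    {U : Y.Opens} (hU : IsAffineOpen U) (O : X.Opens) (x : X) (hxO : x ∈ O) (hxU : f x ∈ U) :
    ∃ (V : X.Opens) (_ : IsAffineOpen V) (hVU : V ≤ f ⁻¹ᵁ U) (n : ℕ),
      x ∈ V ∧ V ≤ O ∧ (f.appLE U V hVU).hom.IsStandardSmoothOfRelativeDimension n := by
  have H : x ∈ f.smoothLocus := by rw [f.smoothLocus_eq_top]; trivial
  obtain ⟨_, ⟨V, hV, rfl⟩, hxV, hVUO⟩ :=
    X.isBasis_affineOpens.exists_subset_of_mem_open (show x ∈ f ⁻¹ᵁ U ⊓ O from ⟨hxU, hxO⟩)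
      (f ⁻¹ᵁ U ⊓ O).2
  have hVU : V ≤ f ⁻¹ᵁ U := fun y hy => (hVUO hy).1
  have hVO : V ≤ O := fun y hy => (hVUO hy).2
  have := f.finitePresentation_appLE hU hV hVU
  algebraize [(f.appLE U V hVU).hom]
  have : Algebra.IsSmoothAt _ _ := (formallySmooth_stalkMap_iff U hU V hV hVU hxV).mp H
  obtain ⟨r, hrx, hr⟩ := Algebra.IsSmoothAt.exists_notMem_isStandardSmooth Γ(Y, U)
    (hV.primeIdealOf ⟨x, hxV⟩).asIdeal
  have hss : (f.appLE U (X.basicOpen r) ((X.basicOpen_le r).trans hVU)).hom.IsStandardSmooth := by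
    have := hV.isLocalization_basicOpen r
    rw [← RingHom.isStandardSmooth_algebraMap] at hr
    convert!
      RingHom.isStandardSmooth_respectsIso.1 _
        (IsLocalization.algEquiv (.powers r) _ Γ(X, X.basicOpen r)).toRingEquiv hr
    ext
    dsimp
    simp only [IsScalarTower.algebraMap_apply Γ(Y, U) Γ(X, V) (Localization _),
      IsLocalization.map_eq]
    simp only [RingHom.algebraMap_toAlgebra, RingHomCompTriple.comp_apply, ← ConcreteCategory.comp_apply,
      Scheme.Hom.appLE_map]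
  obtain ⟨n, hn⟩ := Groth.Agent.H52.exists_relDim_of_isStandardSmooth _ hss
  refine ⟨_, hV.basicOpen r, (X.basicOpen_le r).trans hVU, n, ?_, (X.basicOpen_le r).trans hVO, hn⟩
  rwa [← PrimeSpectrum.mem_basicOpen, IsAffineOpen.primeIdealOf,
    ← hV.fromSpec_preimage_basicOpen, Scheme.Hom.mem_preimage, ← Scheme.Hom.comp_apply,
    IsAffineOpen.isoSpec_hom, IsAffineOpen.toSpecΓ_fromSpec] at hrx

section main

variable {X' X Y : Scheme.{u}} (f : X ⟶ Y) [Smooth f]
  (j : X' ⟶ X) [IsImmersion j] [QuasiCompact j] [Smooth (j ≫ f)]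

/-- Chart data at a point of a smooth subscheme of a smooth scheme. -/
theorem exists_chart (x : X') :
    ∃ (W : X'.Opens) (_ : IsAffineOpen W) (a b : ℕ), x ∈ W ∧
      FlatMor.fibreDimAt f (j x) = (a : WithBot ℕ∞) ∧
      FlatMor.fibreDimAt (j ≫ f) x = (b : WithBot ℕ∞) ∧
      Module.Finite Γ(X', W) Γ(Omega.conormal j, W) ∧
      Module.Projective Γ(X', W) Γ(Omega.conormal j, W) ∧
      ∀ p : PrimeSpectrum Γ(X', W), Module.rankAtStalk Γ(Omega.conormal j, W) p + b = a := by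
  obtain ⟨_, ⟨Y₀, hY₀ : IsAffineOpen Y₀, rfl⟩, hxY₀, -⟩ :=
    Y.isBasis_affineOpens.exists_subset_of_mem_open (Set.mem_univ (f (j x))) isOpen_univ
  obtain ⟨V₀, hV₀, hV₀Y, a, hxV₀, -, hssA⟩ :=
    exists_chart_isStandardSmooth f hY₀ ⊤ (j x) trivial hxY₀
  have hx' : (j ≫ f) x ∈ Y₀ := by rw [Scheme.Hom.comp_apply]; exact hxY₀
  obtain ⟨W, hW, hWY, b, hxW, hWV, hssB⟩ :=
    exists_chart_isStandardSmooth (j ≫ f) hY₀ (j ⁻¹ᵁ V₀) x hxV₀ hx'
  have hfa := Groth.Agent.Lib.Helper24.fibreDimAt_eq_of_chart_isStandardSmoothOfRelativeDimension f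
    hY₀ hV₀ hV₀Y a hssA (j x) hxV₀
  have hfb := Groth.Agent.Lib.Helper24.fibreDimAt_eq_of_chart_isStandardSmoothOfRelativeDimension
    (j ≫ f) hY₀ hW hWY b hssB x hxW
  letI aRA : Algebra Γ(Y, Y₀) Γ(X, V₀) := (f.appLE Y₀ V₀ hV₀Y).hom.toAlgebra
  letI aAB : Algebra Γ(X, V₀) Γ(X', W) := (j.appLE V₀ W hWV).hom.toAlgebra
  letI aRB : Algebra Γ(Y, Y₀) Γ(X', W) := ((j ≫ f).appLE Y₀ W hWY).hom.toAlgebra
  haveI t : IsScalarTower Γ(Y, Y₀) Γ(X, V₀) Γ(X', W) := IsScalarTower.of_algebraMap_eq' (by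
    change ((j ≫ f).appLE Y₀ W hWY).hom = (j.appLE V₀ W hWV).hom.comp (f.appLE Y₀ V₀ hV₀Y).hom
    rw [← CommRingCat.hom_comp, Scheme.Hom.appLE_comp_appLE])
  haveI sA : Algebra.IsStandardSmoothOfRelativeDimension a Γ(Y, Y₀) Γ(X, V₀) := hssA
  haveI sB : Algebra.IsStandardSmoothOfRelativeDimension b Γ(Y, Y₀) Γ(X', W) := hssB
  haveI hsub := onCharts_subsingleton_kaehler j ⟨W, hW⟩ ⟨V₀, hV₀⟩ hWV
  obtain ⟨Φ, -⟩ := exists_chart_equiv j hW hV₀ hWV
  obtain ⟨hfin, hproj, hrank⟩ := rank_h1_of_standardSmooth (R := Γ(Y, Y₀)) (A := Γ(X, V₀))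
    (B := Γ(X', W)) a b
  refine ⟨W, hW, a, b, hxW, hfa, hfb, Module.Finite.equiv Φ.symm,
    Module.Projective.of_equiv Φ.symm, fun p => ?_⟩
  rw [Module.rankAtStalk_eq_of_equiv Φ]
  exact hrank p

/-- **Conormal sheaf of a smooth subscheme of a smooth scheme** (EGA IV 17.12.1-type statement):
locally free of rank the difference of the fibre dimensions. -/
theorem conormal_locFree_rank (x : X') :
    ∃ (U : X'.Opens) (n : ℕ), x ∈ U ∧
      Nonempty ((Omega.conormal j).restrict U.ι ≅ FlatMod.freeMod (↑U) n) ∧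
      FlatMor.fibreDimAt f (j x) = FlatMor.fibreDimAt (j ≫ f) x + (n : WithBot ℕ∞) := by
  haveI hqC : (Omega.conormal j).IsQuasicoherent :=
    Groth.Agent.Lib.Helper16.FlatPull.isQuasicoherent_pullback j (ClSub.idealMod j.ker)
  have hflf : FlatMod.IsFinLocFree (Omega.conormal j) :=
    isFinLocFree_of_finite_projective_cover _ (fun y => by
      obtain ⟨W, hW, a, b, hyW, -, -, hfin, hproj, -⟩ := exists_chart f j y
      exact ⟨W, hW, hyW, hfin, hproj⟩)
  obtain ⟨U, n, hxU, ⟨e⟩⟩ := hflf x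
  obtain ⟨W, hW, a, b, hxW, hfa, hfb, hfin, hproj, hrank⟩ := exists_chart f j x
  have h1 := (Groth.Agent.Lib.Helper23.FibreFree.free_and_finrank_stalk_of_iso_restrict_freeMod
    (Omega.conormal j) U n e x hxU).2
  have h2 := Groth.Agent.Lib.Helper51.SmoothSub.finrank_stalk_eq_rankAtStalk (Omega.conormal j) hW
    ⟨x, hxW⟩
  have h3 := hrank (hW.primeIdealOf ⟨x, hxW⟩)
  refine ⟨U, n, hxU, ⟨e⟩, ?_⟩
  rw [hfa, hfb]
  have h4 : a = b + n := by
    rw [h1] at h2
    omega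
  rw [h4]
  push_cast
  rfl

end main

end Groth.Agent.Lib.Helper51.SmoothPair
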