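import Mathlib
import Groth.Agent.Lib.Helper51.SmoothSubSch
import Groth.Agent.Lib.Helper23.FibreFree
import Groth.Agent.Lib.Helper18.LimFinLocFree
import Groth.Agent.Lib.Helper24.SmoothRationalPoint
import Groth.Agent.Lib.Helper24.SmoothRegularPoint
import Groth.Agent.Lib.Helper97.FrobVar
import Groth.Agent.S12422
import Groth.Agent.S1488
import Groth.Agent.S5020

/-!
# Nonsingular subvarieties of nonsingular varieties (helper51)

Hartshorne II.8.17: for a closed irreducible subscheme `Y` of a nonsingular variety `X` over an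
algebraically closed field, `Y` is nonsingular iff `Ω_Y` is locally free and the conormal sequence
is left exact; then the conormal sheaf is locally free of rank the codimension.
-/

set_option autoImplicit false
set_option linter.style.haveILetI false
set_option linter.unusedSectionVars false
universe u
open AlgebraicGeometry CategoryTheory Limits TopologicalSpace Opposite TensorProduct OmegaSh

namespace Groth.Agent.Lib.Helper51.SmoothSub

open Groth.Agent.Lib.Helper49 Groth.Agent.Lib.Helper49.UnitChart Groth.Agent.Lib.Helper45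
  Groth.Agent.Lib.Helper51.OmegaUniv

section variety

variable (k : Type u) [Field k] [IsAlgClosed k]

/-- regular implies smooth, for schemes locally of finite type over an algebraically closed
field -/
theorem smooth_of_regular (X : Scheme.{u}) [X.Over (Spec (CommRingCat.of k))]
    [LocallyOfFiniteType (X ↘ (Spec (CommRingCat.of k)))]
    (hreg : ∀ x : X, IsRegularLocalRing (X.presheaf.stalk x)) :
    Smooth (X ↘ (Spec (CommRingCat.of k))) := by
  haveI : LocallyOfFinitePresentation (X ↘ (Spec (CommRingCat.of k))) :=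
    LocallyOfFinitePresentation.iff_locallyOfFiniteType.mpr inferInstance
  rw [← Scheme.Hom.smoothLocus_eq_top_iff, ← top_le_iff]
  rintro x -
  refine Groth.Agent.Lib.Helper24.mem_smoothLocus_of_isRegularLocalRing_of_formallySmooth_residueField
    k _ x (hreg x) ?_
  letI : Algebra k (X.residueField x) := Curv2.resAlgebra k X x
  haveI : Algebra.EssFiniteType k (X.residueField x) :=
    Groth.Agent.Lib.Helper97.FrobVar.essFiniteType_residueField k X x
  have : Algebra.FormallySmooth k (X.residueField x) := inferInstance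
  exact this

attribute [local instance] Helper45.stalkModuleSections in
/-- **Hartshorne II.8.17.** -/
theorem main (n q : ℕ)
    (X : Scheme.{u}) [X.Over (Spec (CommRingCat.of k))] [IsIntegral X]
    [IsSeparated (X ↘ (Spec (CommRingCat.of k)))]
    [LocallyOfFiniteType (X ↘ (Spec (CommRingCat.of k)))]
    [QuasiCompact (X ↘ (Spec (CommRingCat.of k)))]
    (hreg : ∀ x : ↥X, IsRegularLocalRing ↑(X.presheaf.stalk x))
    (hn : topologicalKrullDim ↥X = (n : WithBot ℕ∞))
    (Y : Scheme.{u}) (i : Y ⟶ X) [IsClosedImmersion i] [IrreducibleSpace ↥Y]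
    (hq : topologicalKrullDim ↥Y = (q : WithBot ℕ∞))
    (ΩX : X.Modules) (dX : OmegaSh.Der (X ↘ (Spec (CommRingCat.of k))) ΩX)
    (hX : OmegaSh.IsUniversal dX)
    (ΩY : Y.Modules) (dY : OmegaSh.Der (i ≫ (X ↘ (Spec (CommRingCat.of k)))) ΩY)
    (hY : OmegaSh.IsUniversal dY)
    (φ : Omega.conormal i ⟶ (Scheme.Modules.pullback i).obj ΩX)
    (hφ : OmegaSh.IsConormalDiff i dX φ) :
    ((∀ y : ↥Y, IsRegularLocalRing ↑(Y.presheaf.stalk y)) ↔ (FlatMod.IsFinLocFree ΩY ∧ Mono φ)) ∧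
      ((∀ y : ↥Y, IsRegularLocalRing ↑(Y.presheaf.stalk y)) →
        FlatMod.IsFinLocFreeOfRank (n - q) (Omega.conormal i)) := by
  classical
  letI : Y.Over (Spec (CommRingCat.of k)) := ⟨i ≫ (X ↘ (Spec (CommRingCat.of k)))⟩
  have hYs : (Y ↘ (Spec (CommRingCat.of k))) = i ≫ (X ↘ (Spec (CommRingCat.of k))) := rfl
  haveI : LocallyOfFiniteType (Y ↘ (Spec (CommRingCat.of k))) := by rw [hYs]; infer_instance
  haveI : IsSeparated (Y ↘ (Spec (CommRingCat.of k))) := by rw [hYs]; infer_instance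
  haveI : QuasiCompact (Y ↘ (Spec (CommRingCat.of k))) := by rw [hYs]; infer_instance
  haveI : LocallyOfFinitePresentation (X ↘ (Spec (CommRingCat.of k))) :=
    LocallyOfFinitePresentation.iff_locallyOfFiniteType.mpr inferInstance
  haveI : LocallyOfFiniteType (i ≫ (X ↘ (Spec (CommRingCat.of k)))) := inferInstance
  haveI : LocallyOfFinitePresentation (i ≫ (X ↘ (Spec (CommRingCat.of k)))) :=
    LocallyOfFinitePresentation.iff_locallyOfFiniteType.mpr inferInstance
  have hsmX : Smooth (X ↘ (Spec (CommRingCat.of k))) := smooth_of_regular k X hreg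
  have hΩXr : FlatMod.IsFinLocFreeOfRank n ΩX :=
    (Groth.Agent.S12422.result k n X hn ΩX dX hX).mpr hreg
  have hV : IsAffineOpen (⊤ : (Spec (CommRingCat.of k)).Opens) := isAffineOpen_top _
  have hqC : (Omega.conormal i).IsQuasicoherent :=
    Groth.Agent.Lib.Helper16.FlatPull.isQuasicoherent_pullback i (ClSub.idealMod i.ker)
  have hqΩX : ΩX.IsQuasicoherent := isQuasicoherent_of_isUniversal (X ↘ (Spec (CommRingCat.of k))) hX
  have hqΩY : ΩY.IsQuasicoherent := isQuasicoherent_of_isUniversal (i ≫ (X ↘ (Spec (CommRingCat.of k)))) hY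
  -- charts
  have hchart : ∀ y : Y, ∃ (U : X.Opens) (_ : IsAffineOpen U) (_ : IsAffineOpen (i ⁻¹ᵁ U)),
      i y ∈ U ∧ Function.Surjective (i.app U).hom := by
    intro y
    obtain ⟨U, hU, hyU, -, hW, hsurj⟩ := exists_closedImm_chart i y ⊤ trivial
    exact ⟨U, hU, hW, hyU, hsurj⟩
  have hfsA : ∀ (U : X.Opens) (hU : IsAffineOpen U) (h₁ : U ≤ (X ↘ (Spec (CommRingCat.of k))) ⁻¹ᵁ ⊤),
      letI := ((X ↘ (Spec (CommRingCat.of k))).appLE ⊤ U h₁).hom.toAlgebra
      Algebra.FormallySmooth Γ(Spec (CommRingCat.of k), ⊤) Γ(X, U) ∧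
        Module.Finite Γ(X, U) Ω[Γ(X, U)⁄Γ(Spec (CommRingCat.of k), ⊤)] := by
    intro U hU h₁
    have hsm := (X ↘ (Spec (CommRingCat.of k))).smooth_appLE hV hU h₁
    letI := ((X ↘ (Spec (CommRingCat.of k))).appLE ⊤ U h₁).hom.toAlgebra
    have : Algebra.Smooth Γ(Spec (CommRingCat.of k), ⊤) Γ(X, U) := hsm
    exact ⟨inferInstance, inferInstance⟩
  -- part A
  have partA : (∀ y : ↥Y, IsRegularLocalRing ↑(Y.presheaf.stalk y)) →
      FlatMod.IsFinLocFreeOfRank q ΩY ∧ Mono φ ∧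
        FlatMod.IsFinLocFreeOfRank (n - q) (Omega.conormal i) := by
    intro hYreg
    have hsmY : Smooth (i ≫ (X ↘ (Spec (CommRingCat.of k)))) := smooth_of_regular k Y hYreg
    have hΩYr : FlatMod.IsFinLocFreeOfRank q ΩY :=
      (Groth.Agent.S12422.result k q Y hq ΩY dY hY).mpr hYreg
    have hfsY : MoreMor.IsFormallySmoothHom (i ≫ (X ↘ (Spec (CommRingCat.of k)))) :=
      ((Groth.Agent.S1488.result (i ≫ (X ↘ (Spec (CommRingCat.of k))))).mp hsmY).2
    have hmono : Mono φ := Groth.Agent.S5020.result i (X ↘ (Spec (CommRingCat.of k))) hfsY ΩX dX hX φ hφ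
    refine ⟨hΩYr, hmono, ?_⟩
    have hΩXfp := isFinitePresentation_of_isFinLocFree ΩX
      (Groth.Agent.Lib.Helper18.LimFinLocFree.isFinLocFree_of_isFinLocFreeOfRank hΩXr)
    have hΩYfp := isFinitePresentation_of_isFinLocFree ΩY
      (Groth.Agent.Lib.Helper18.LimFinLocFree.isFinLocFree_of_isFinLocFreeOfRank hΩYr)
    have hXflfr := (Groth.Agent.Lib.Helper23.FibreFree.isFinLocFreeOfRank_iff_isFLFR ΩX hΩXfp n).mp
      hΩXr
    have hYflfr := (Groth.Agent.Lib.Helper23.FibreFree.isFinLocFreeOfRank_iff_isFLFR ΩY hΩYfp q).mp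
      hΩYr
    have key : ∀ y : Y, ∃ W : Y.Opens, IsAffineOpen W ∧ y ∈ W ∧
        Module.Finite Γ(Y, W) Γ(Omega.conormal i, W) ∧
        Module.Projective Γ(Y, W) Γ(Omega.conormal i, W) ∧
        Module.Free (Y.presheaf.stalk y) ↑((Omega.conormal i).presheaf.stalk y) ∧
        Module.finrank (Y.presheaf.stalk y) ↑((Omega.conormal i).presheaf.stalk y) = n - q := by
      intro y
      obtain ⟨U, hU, hW, hyU, hsurj⟩ := hchart y
      have h₁ : U ≤ (X ↘ (Spec (CommRingCat.of k))) ⁻¹ᵁ ⊤ := fun _ _ => trivial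
      have h₂ : i ⁻¹ᵁ U ≤ (i ≫ (X ↘ (Spec (CommRingCat.of k)))) ⁻¹ᵁ ⊤ := fun _ _ => trivial
      have hB : letI := ((i ≫ (X ↘ (Spec (CommRingCat.of k)))).appLE ⊤ (i ⁻¹ᵁ U) h₂).hom.toAlgebra
          Algebra.FormallySmooth Γ(Spec (CommRingCat.of k), ⊤) Γ(Y, i ⁻¹ᵁ U) ∧
            Module.Finite Γ(Y, i ⁻¹ᵁ U) Ω[Γ(Y, i ⁻¹ᵁ U)⁄Γ(Spec (CommRingCat.of k), ⊤)] := by
        have hsm := (i ≫ (X ↘ (Spec (CommRingCat.of k)))).smooth_appLE hV hW h₂
        letI := ((i ≫ (X ↘ (Spec (CommRingCat.of k)))).appLE ⊤ (i ⁻¹ᵁ U) h₂).hom.toAlgebra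
        have : Algebra.Smooth Γ(Spec (CommRingCat.of k), ⊤) Γ(Y, i ⁻¹ᵁ U) := hsm
        exact ⟨inferInstance, inferInstance⟩
      obtain ⟨hfin, hproj, hrank⟩ := rank_chart (X ↘ (Spec (CommRingCat.of k))) i hU hV h₁ hW hsurj h₂ (hfsA U hU h₁) hB
      refine ⟨i ⁻¹ᵁ U, hW, hyU, hfin, hproj,
        free_stalk_of_projective_sections _ hW ⟨y, hyU⟩ hfin hproj, ?_⟩
      have r1 := finrank_stalk_eq_rankAtStalk (Omega.conormal i) hW ⟨y, hyU⟩
      have r2 := finrank_stalk_eq_rankAtStalk ΩY hW ⟨y, hyU⟩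
      have r3 := finrank_stalk_eq_rankAtStalk ΩX hU ⟨i y, hyU⟩
      obtain ⟨eY, -⟩ := exists_sections_equiv (i ≫ (X ↘ (Spec (CommRingCat.of k)))) hY hW hV h₂
      obtain ⟨eX, -⟩ := exists_sections_equiv (X ↘ (Spec (CommRingCat.of k))) hX hU hV h₁
      have r2' := Module.rankAtStalk_eq_of_equiv eY
      have r3' := Module.rankAtStalk_eq_of_equiv eX
      have hp : hU.primeIdealOf ⟨i y, hyU⟩ =
          (hW.primeIdealOf ⟨y, hyU⟩).comap (i.appLE U (i ⁻¹ᵁ U) le_rfl).hom :=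
        PrimeSpectrum.ext
          (Groth.Agent.Lib.Helper55.primeIdealOf_comap i (le_refl (i ⁻¹ᵁ U)) y hyU hW hU)
      have hr := hrank (hW.primeIdealOf ⟨y, hyU⟩)
      have e2 : Module.finrank (Y.presheaf.stalk y) ↑(ΩY.presheaf.stalk y) = q := (hYflfr y).2
      have e3 : Module.finrank (X.presheaf.stalk (i y)) ↑(ΩX.presheaf.stalk (i y)) = n :=
        (hXflfr (i y)).2
      rw [r1]
      rw [r2, ← r2'] at e2
      rw [r3, ← r3', hp] at e3
      have hr' : Module.rankAtStalk (↑Γ(Omega.conormal i, i ⁻¹ᵁ U)) (hW.primeIdealOf ⟨y, hyU⟩) +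
          q = n := by
        rw [← e2, ← e3]
        exact hr
      omega
    have hCfp : SheafOfModules.IsFinitePresentation (R := Y.ringCatSheaf) (Omega.conormal i) := by
      refine isFinitePresentation_of_affine_cover _ fun y => ?_
      obtain ⟨W, hW, hyW, hfin, hproj, -, -⟩ := key y
      exact ⟨W, hW, hyW, Module.finitePresentation_of_projective _ _⟩
    refine (Groth.Agent.Lib.Helper23.FibreFree.isFinLocFreeOfRank_iff_isFLFR _ hCfp (n - q)).mpr ?_
    intro y
    obtain ⟨W, hW, hyW, hfin, hproj, hfree, hrk⟩ := key y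
    exact ⟨hfree, hrk⟩
  -- part B
  have partB : FlatMod.IsFinLocFree ΩY → Mono φ →
      ∀ y : ↥Y, IsRegularLocalRing ↑(Y.presheaf.stalk y) := by
    intro hΩY hmono y
    obtain ⟨U, hU, hW, hyU, hsurj⟩ := hchart y
    have h₁ : U ≤ (X ↘ (Spec (CommRingCat.of k))) ⁻¹ᵁ ⊤ := fun _ _ => trivial
    have h₂ : i ⁻¹ᵁ U ≤ (i ≫ (X ↘ (Spec (CommRingCat.of k)))) ⁻¹ᵁ ⊤ := fun _ _ => trivial
    have hinj : Function.Injective (φ.app (i ⁻¹ᵁ U)) :=
      Groth.Agent.Lib.Helper45.app_injective_of_mono φ (i ⁻¹ᵁ U)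
    have hfs := formallySmooth_chart_of_injective (X ↘ (Spec (CommRingCat.of k))) i hX hφ hU hV h₁ hW hsurj hY h₂
      (hfsA U hU h₁).1 hΩY hinj
    have hmem : y ∈ (i ≫ (X ↘ (Spec (CommRingCat.of k)))).smoothLocus := by
      rw [Scheme.Hom.mem_smoothLocus, formallySmooth_stalkMap_iff ⊤ hV (i ⁻¹ᵁ U) hW h₂ hyU]
      have hfp := (i ≫ (X ↘ (Spec (CommRingCat.of k)))).finitePresentation_appLE hV hW h₂
      letI := ((i ≫ (X ↘ (Spec (CommRingCat.of k)))).appLE ⊤ (i ⁻¹ᵁ U) h₂).hom.toAlgebra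
      have hfs' : Algebra.FormallySmooth Γ(Spec (CommRingCat.of k), ⊤) Γ(Y, i ⁻¹ᵁ U) := hfs
      have : Algebra.FinitePresentation Γ(Spec (CommRingCat.of k), ⊤) Γ(Y, i ⁻¹ᵁ U) := hfp
      rw [Algebra.smoothLocus_eq_univ_iff.mpr hfs']
      exact Set.mem_univ _
    exact Groth.Agent.Lib.Helper24.isRegularLocalRing_stalk_of_mem_smoothLocus k (i ≫ (X ↘ (Spec (CommRingCat.of k)))) y hmem
  refine ⟨⟨fun h => ?_, fun h => partB h.1 h.2⟩, fun h => (partA h).2.2⟩
  obtain ⟨h1, h2, -⟩ := partA h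
  exact ⟨Groth.Agent.Lib.Helper18.LimFinLocFree.isFinLocFree_of_isFinLocFreeOfRank h1, h2⟩

end variety

end Groth.Agent.Lib.Helper51.SmoothSub
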