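import Mathlib
import Groth.Agent.Lib.Helper89.JacCritTFAE

/-!
# Square-zero surjections with principal kernel (helper51)

For a surjection `A → C` whose kernel `J` has `J² = 0`: `H¹(L_{C/A}) ≅ J/J² = J` is free of rank
one over `C` iff `J = (z)` with `ann(z) ⊆ J`.
-/

set_option autoImplicit false
set_option linter.style.haveILetI false
set_option linter.unusedSectionVars false
universe u
open Algebra TensorProduct KaehlerDifferential

namespace Groth.Agent.Lib.Helper51.SquareZero

open Groth.Agent.Lib.Helper89.JacCrit

variable {A C : Type u} [CommRing A] [CommRing C] [Algebra A C]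

/-- For a surjection `A → C`, `H¹(L_{C/A})` is the cotangent module `J/J²` of the kernel. -/
theorem nonempty_h1Cotangent_equiv_cotangent (hsurj : Function.Surjective (algebraMap A C)) :
    Nonempty (Algebra.H1Cotangent A C ≃ₗ[C] (ext (A := A) (B := A) hsurj).Cotangent) := by
  let P : Extension.{u} A C := ext (A := A) (B := A) hsurj
  haveI : Algebra.FormallySmooth A P.Ring := inferInstanceAs (Algebra.FormallySmooth A A)
  haveI : Algebra.FormallySmooth A (Generators.self A C).toExtension.Ring :=
    inferInstanceAs (Algebra.FormallySmooth A (MvPolynomial C A))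
  let e1 := Extension.H1Cotangent.equivOfFormallySmooth (Generators.self A C).toExtension P
  have hsub : Subsingleton P.CotangentSpace := by
    have h1 : Subsingleton (Ω[P.Ring⁄A]) := inferInstanceAs (Subsingleton (Ω[A⁄A]))
    refine ⟨fun x y => ?_⟩
    have hz : ∀ z : P.CotangentSpace, z = 0 := by
      intro z
      induction z using TensorProduct.induction_on with
      | zero => rfl
      | tmul b w => rw [Subsingleton.elim w 0, tmul_zero]
      | add z₁ z₂ h₁ h₂ => rw [h₁, h₂, add_zero]
    rw [hz x, hz y]
  have hbij2 : Function.Bijective P.h1Cotangentι := by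
    refine ⟨Extension.h1Cotangentι_injective, fun x => ⟨⟨x, ?_⟩, rfl⟩⟩
    change P.cotangentComplex x = 0
    exact Subsingleton.elim _ _
  let e2 : P.H1Cotangent ≃ₗ[C] P.Cotangent := LinearEquiv.ofBijective P.h1Cotangentι hbij2
  exact ⟨e1 ≪≫ₗ e2⟩

/-- **Square-zero principal kernels.** -/
theorem principal_iff (hsurj : Function.Surjective (algebraMap A C))
    (hsq : RingHom.ker (algebraMap A C) ^ 2 = ⊥) :
    (∃ z : A, RingHom.ker (algebraMap A C) = Ideal.span {z} ∧
      ∀ a : A, a * z = 0 → a ∈ RingHom.ker (algebraMap A C)) ↔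
    Nonempty (Algebra.H1Cotangent A C ≃ₗ[C] (Fin 1 → C)) := by
  obtain ⟨E0⟩ := nonempty_h1Cotangent_equiv_cotangent hsurj
  have hPker : (ext (A := A) (B := A) hsurj).ker = RingHom.ker (algebraMap A C) := rfl
  constructor
  · rintro ⟨z, hz, hann⟩
    have hzmem : z ∈ (ext (A := A) (B := A) hsurj).ker := by
      rw [hPker, hz]
      exact Ideal.subset_span rfl
    let t : Fin 1 → (ext (A := A) (B := A) hsurj).Cotangent :=
      fun _ => Extension.Cotangent.mk ⟨z, hzmem⟩
    have hspan : Submodule.span C (Set.range t) = ⊤ := by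
      have := Extension.Cotangent.span_eq_top_of_span_eq_ker (P := ext (A := A) (B := A) hsurj)
        (fun _ : Fin 1 => z) (by
          rw [hPker, hz]
          congr 1
          ext y
          simp)
      exact this
    have hli : LinearIndependent C t := by
      rw [Fintype.linearIndependent_iff]
      intro g hg j
      obtain ⟨b, hb⟩ := hsurj (g 0)
      have h1 : Extension.Cotangent.mk (P := ext (A := A) (B := A) hsurj)
          (b • (⟨z, hzmem⟩ : (ext (A := A) (B := A) hsurj).ker)) = 0 := by
        rw [map_smul]
        have h2 : g 0 • t 0 = 0 := by simpa using hg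
        rw [← h2, ← hb]
        exact (algebraMap_smul C b (t 0)).symm
      rw [Extension.Cotangent.mk_eq_zero_iff] at h1
      have h3 : b * z ∈ RingHom.ker (algebraMap A C) ^ 2 := by
        rw [← hPker]
        exact h1
      rw [hsq, Ideal.mem_bot] at h3
      have h4 := hann b h3
      rw [RingHom.mem_ker, hb] at h4
      rw [Subsingleton.elim j 0]
      exact h4
    exact ⟨E0 ≪≫ₗ (Module.Basis.mk hli hspan.ge).equivFun⟩
  · rintro ⟨E⟩
    let e' : (ext (A := A) (B := A) hsurj).Cotangent ≃ₗ[C] (Fin 1 → C) := E0.symm ≪≫ₗ E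
    obtain ⟨⟨z, hzmem⟩, hzw⟩ := Extension.Cotangent.mk_surjective
      (P := ext (A := A) (B := A) hsurj) (e'.symm (fun _ => 1))
    have hdecomp : ∀ v : (ext (A := A) (B := A) hsurj).Cotangent,
        v = (e' v 0) • e'.symm (fun _ => 1) := by
      intro v
      apply e'.injective
      rw [map_smul, LinearEquiv.apply_symm_apply]
      funext j
      rw [Subsingleton.elim j 0]
      simp
    have hsmul : ∀ (a : A) (y : (ext (A := A) (B := A) hsurj).ker),
        algebraMap A C a • Extension.Cotangent.mk y = Extension.Cotangent.mk (a • y) := by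
      intro a y
      rw [map_smul]
      exact algebraMap_smul C a (Extension.Cotangent.mk y)
    refine ⟨z, le_antisymm ?_ ?_, ?_⟩
    · intro y hy
      have hy' : y ∈ (ext (A := A) (B := A) hsurj).ker := hy
      obtain ⟨a, ha⟩ := hsurj (e' (Extension.Cotangent.mk ⟨y, hy'⟩) 0)
      have h1 := hdecomp (Extension.Cotangent.mk ⟨y, hy'⟩)
      rw [← ha, ← hzw, hsmul, ← sub_eq_zero, ← map_sub, Extension.Cotangent.mk_eq_zero_iff] at h1
      have h2 : y - a * z ∈ RingHom.ker (algebraMap A C) ^ 2 := by
        rw [← hPker]
        exact h1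
      rw [hsq, Ideal.mem_bot, sub_eq_zero] at h2
      rw [h2]
      exact Ideal.mul_mem_left _ _ (Ideal.subset_span rfl)
    · rw [Ideal.span_le]
      rintro _ rfl
      exact hzmem
    · intro a ha
      have h1 : algebraMap A C a • e'.symm (fun _ => 1) = 0 := by
        rw [← hzw, hsmul]
        have : a • (⟨z, hzmem⟩ : (ext (A := A) (B := A) hsurj).ker) = 0 := by
          apply Subtype.ext
          exact ha
        rw [this, map_zero]
      have h2 := congrArg e' h1
      rw [map_smul, LinearEquiv.apply_symm_apply, map_zero] at h2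
      have h3 := congrFun h2 0
      simp only [Pi.smul_apply, smul_eq_mul, mul_one, Pi.zero_apply] at h3
      exact h3

end Groth.Agent.Lib.Helper51.SquareZero
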