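import Mathlib
import Groth.Agent.Lib.Helper51.SquareZeroPrincipal
import Groth.Agent.Lib.Helper51.OmegaUniv.H1Sheaf
import Groth.Agent.Lib.Helper49.FreeMod
import Groth.Agent.Lib.Helper16.FlatPull.Chart
import Groth.Prelude.Def_MultCurve
import Groth.Prelude.Def_Pic

/-!
# Principal square-zero ideals and invertibility of the conormal sheaf (helper51)
-/

set_option autoImplicit false
set_option linter.style.haveILetI false
set_option linter.unusedSectionVars false
universe u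
open AlgebraicGeometry CategoryTheory Limits TopologicalSpace Opposite TensorProduct OmegaSh

namespace Groth.Agent.Lib.Helper51.SquareZero

open Groth.Agent.Lib.Helper49 Groth.Agent.Lib.Helper51.OmegaUniv

theorem isPrincipalOfOrder_two_iff (C : Scheme.{u}) (I : C.IdealSheafData) (hI : I ^ 2 = ⊥) :
    MultCurve.IsPrincipalOfOrder I 2 ↔ PicF.IsInvertible (Omega.conormal I.subschemeι) := by
  have hsupp : I.support = ⊤ := by
    rw [← Scheme.IdealSheafData.support_pow_succ I 1]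
    have : I ^ (1 + 1) = I ^ 2 := rfl
    rw [this, hI]
    rfl
  have hsurj : Function.Surjective I.subschemeι := by
    intro x
    have : x ∈ Set.range I.subschemeι := by
      rw [I.range_subschemeι, hsupp]
      trivial
    exact this
  haveI hqC : (Omega.conormal I.subschemeι).IsQuasicoherent :=
    Groth.Agent.Lib.Helper16.FlatPull.isQuasicoherent_pullback I.subschemeι
      (ClSub.idealMod I.subschemeι.ker)
  -- chart data over an affine open `U` of `C`
  have chart : ∀ U : C.affineOpens,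
      letI := (I.subschemeι.appLE U.1 (I.subschemeι ⁻¹ᵁ U.1) le_rfl).hom.toAlgebra
      IsAffineOpen (I.subschemeι ⁻¹ᵁ U.1) ∧
      Function.Surjective (algebraMap Γ(C, U.1) Γ(I.subscheme, I.subschemeι ⁻¹ᵁ U.1)) ∧
      RingHom.ker (algebraMap Γ(C, U.1) Γ(I.subscheme, I.subschemeι ⁻¹ᵁ U.1)) = I.ideal U ∧
      RingHom.ker (algebraMap Γ(C, U.1) Γ(I.subscheme, I.subschemeι ⁻¹ᵁ U.1)) ^ 2 = ⊥ := by
    intro U
    letI := (I.subschemeι.appLE U.1 (I.subschemeι ⁻¹ᵁ U.1) le_rfl).hom.toAlgebra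
    have hker : RingHom.ker (algebraMap Γ(C, U.1) Γ(I.subscheme, I.subschemeι ⁻¹ᵁ U.1)) =
        I.ideal U := by
      change RingHom.ker (I.subschemeι.appLE U.1 (I.subschemeι ⁻¹ᵁ U.1) le_rfl).hom = _
      rw [← Scheme.Hom.app_eq_appLE]
      exact I.ker_subschemeι_app U
    refine ⟨U.2.preimage I.subschemeι, ?_, hker, ?_⟩
    · change Function.Surjective (I.subschemeι.appLE U.1 (I.subschemeι ⁻¹ᵁ U.1) le_rfl).hom
      rw [← Scheme.Hom.app_eq_appLE]
      exact I.subschemeι_app_surjective U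
    · rw [hker]
      have : (I ^ 2).ideal U = ⊥ := by
        rw [hI]
        rfl
      exact this
  constructor
  · intro h z
    obtain ⟨U, hxU, z₀, hz₀, hann⟩ := h (I.subschemeι z)
    obtain ⟨hW, hsurjA, hker, hsq⟩ := chart U
    letI := (I.subschemeι.appLE U.1 (I.subschemeι ⁻¹ᵁ U.1) le_rfl).hom.toAlgebra
    obtain ⟨Φ, -⟩ := exists_chart_equiv I.subschemeι hW U.2 le_rfl
    obtain ⟨E⟩ := (principal_iff hsurjA hsq).mp ⟨z₀, hker.trans hz₀, fun a ha => by
      rw [hker]
      exact hann a (by simpa using ha)⟩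
    obtain ⟨ψ⟩ := nonempty_iso_restrict_freeMod_of_linearEquiv hW (Omega.conormal I.subschemeι) 1
      (Φ ≪≫ₗ E)
    exact ⟨I.subschemeι ⁻¹ᵁ U.1, hxU, ⟨ψ ≪≫ coproductUniqueIso _⟩⟩
  · intro h x
    obtain ⟨z, rfl⟩ := hsurj x
    obtain ⟨U', hzU', ⟨e⟩⟩ := h z
    obtain ⟨t, ht, hteq⟩ := (I.subschemeι.isEmbedding.isInducing.isOpen_iff).mp U'.2
    have hzt : I.subschemeι z ∈ t := by
      have : z ∈ I.subschemeι ⁻¹' t := by
        rw [hteq]
        exact hzU'
      exact this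
    obtain ⟨_, ⟨V₀, hV₀ : IsAffineOpen V₀, rfl⟩, hxV₀, hV₀t⟩ :=
      C.isBasis_affineOpens.exists_subset_of_mem_open hzt ht
    have hle : I.subschemeι ⁻¹ᵁ V₀ ≤ U' := by
      intro y hy
      have : y ∈ I.subschemeι ⁻¹' t := hV₀t hy
      rw [hteq] at this
      exact this
    obtain ⟨hW, hsurjA, hker, hsq⟩ := chart ⟨V₀, hV₀⟩
    letI := (I.subschemeι.appLE V₀ (I.subschemeι ⁻¹ᵁ V₀) le_rfl).hom.toAlgebra
    obtain ⟨Φ, -⟩ := exists_chart_equiv I.subschemeι hW hV₀ le_rfl
    let e1 : (Omega.conormal I.subschemeι).restrict U'.ι ≅ FlatMod.freeMod (↑U') 1 :=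
      e ≪≫ (coproductUniqueIso (fun _ : Fin 1 => Coh.structureModule (↑U'))).symm
    let E := sectionsEquivOfIsoFree (Omega.conormal I.subschemeι) 1
      (isoFreeOfLE hle (Omega.conormal I.subschemeι) 1 e1)
    obtain ⟨z₀, hz₀, hann⟩ := (principal_iff hsurjA hsq).mpr ⟨Φ.symm ≪≫ₗ E⟩
    refine ⟨⟨V₀, hV₀⟩, hxV₀, z₀, hker.symm.trans hz₀, fun a ha => ?_⟩
    have := hann a (by simpa using ha)
    rw [hker] at this
    exact this

end Groth.Agent.Lib.Helper51.SquareZero
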