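import Groth.Agent.Lib.Helper51.Thickening
import Mathlib.AlgebraicGeometry.Morphisms.FormallyUnramified

/-!
# First order thickenings of affine schemes (helper51)

* `surjective_of_ker_mul_ker_eq_bot`: a closed immersion whose kernel has square zero is
  surjective.
* `isFirstOrderThickening_SpecMap`: the spectrum of a surjection of rings with square-zero kernel
  is a first order thickening.
-/

set_option autoImplicit false
universe u

namespace Groth.Agent.Lib.Helper51

open AlgebraicGeometry CategoryTheory Limits

/-- A closed immersion whose kernel has square zero is surjective. -/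
lemma surjective_of_ker_mul_ker_eq_bot {X Y : Scheme.{u}} (i : X ⟶ Y) [IsClosedImmersion i]
    (h : i.ker * i.ker = ⊥) : Surjective i := by
  have hd : IsDominant i := by
    rw [isDominant_iff, denseRange_iff_closure_range, ← i.support_ker,
      ← i.ker.support_pow 2 (by simp), pow_two, h]
    simp
  refine ⟨fun y => ?_⟩
  have h1 : closure (Set.range i) = Set.univ := by
    rw [← denseRange_iff_closure_range]
    exact hd.denseRange
  have h2 : IsClosed (Set.range i) := i.isClosedEmbedding.isClosed_range
  rw [h2.closure_eq] at h1
  have : y ∈ Set.range i := h1 ▸ Set.mem_univ y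
  exact this

/-- The spectrum of a surjection of rings with square-zero kernel is a first order thickening. -/
lemma isFirstOrderThickening_SpecMap {R S : CommRingCat.{u}} (φ : R ⟶ S)
    (hφ : Function.Surjective φ) (hker : RingHom.ker φ.hom ^ 2 = ⊥) :
    MoreMor.IsFirstOrderThickening (Spec.map φ) := by
  have hc : IsClosedImmersion (Spec.map φ) := IsClosedImmersion.spec_of_surjective φ hφ
  have hk : (Spec.map φ).ker * (Spec.map φ).ker = ⊥ := by
    refine le_bot_iff.mp (Scheme.IdealSheafData.le_of_isAffine ?_)
    rw [Scheme.IdealSheafData.ideal_mul, Pi.mul_apply, Scheme.Hom.ker_apply, Ideal.mul_le]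
    intro a ha b hb
    have hnat : (Spec.map φ).appTop ≫ (Scheme.ΓSpecIso S).hom = (Scheme.ΓSpecIso R).hom ≫ φ := by
      simp
    have key : ∀ c : Γ(Spec R, ⊤), c ∈ RingHom.ker ((Spec.map φ).app ⊤).hom →
        (Scheme.ΓSpecIso R).hom.hom c ∈ RingHom.ker φ.hom := by
      intro c hc
      rw [RingHom.mem_ker] at hc ⊢
      have h1 := congr(($hnat).hom c)
      simp only [CommRingCat.hom_comp, RingHom.comp_apply] at h1
      rw [← h1]
      have : (Spec.map φ).appTop.hom c = 0 := hc
      rw [this, map_zero]
    have h2 : (Scheme.ΓSpecIso R).hom.hom (a * b) ∈ RingHom.ker φ.hom ^ 2 := by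
      rw [map_mul, pow_two]
      exact Ideal.mul_mem_mul (key a ha) (key b hb)
    rw [hker] at h2
    have hinj : Function.Injective (Scheme.ΓSpecIso R).hom.hom :=
      (ConcreteCategory.bijective_of_isIso (Scheme.ΓSpecIso R).hom).1
    have h3 : a * b = 0 := hinj (by simpa using h2)
    rw [h3]
    exact Ideal.zero_mem _
  exact ⟨⟨hc, surjective_of_ker_mul_ker_eq_bot _ hk⟩, hk⟩

end Groth.Agent.Lib.Helper51
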