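import Groth.Agent.Lib.Helper51.UnivThickRing
import Groth.Agent.Lib.Helper10.KoszulH1
import Groth.Agent.Lib.Helper51.OmegaUniv.Conormal
import Groth.Prelude.Def_CAlgX

/-!
# The conormal module of a universal thickening of an lci, formally unramified algebra

`B = P/J` with `P` formally smooth over `R` and `J` generated by an `H₁`-regular sequence, `B' → B`
the universal first order thickening over `R`.  Then `B'` is a retract of `P/J²` over `B`, and
`ker (B' → B)` is a direct summand of the free module `J/J²`.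
-/

set_option autoImplicit false
set_option linter.style.haveILetI false

namespace Groth.Agent.Lib.Helper51.UnivThickRing

universe u

open TensorProduct

/-- `B'` is a retract of `P/J²`. -/
theorem exists_retract_quot_sq {R P B B' : Type u} [CommRing R] [CommRing P] [CommRing B]
    [CommRing B'] [Algebra R P] [Algebra R B] [Algebra R B'] [Algebra.FormallySmooth R P]
    (ρ : P →ₐ[R] B) (hρ : Function.Surjective ρ) (π : B' →ₐ[R] B)
    (hπ : OmegaSh.IsUnivThickeningRing R B B' π) :
    ∃ (u : B' →+* P ⧸ (RingHom.ker ρ.toRingHom) ^ 2) (σ : P →+* B'),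
      (∀ y, π (σ y) = ρ y) ∧
      (∀ b' y, u b' = Ideal.Quotient.mk _ y → σ y = b') ∧
      (∀ b' y, u b' = Ideal.Quotient.mk _ y → ρ y = π b') := by
  obtain ⟨hπs, hπk, huniv⟩ := hπ
  set J : Ideal P := RingHom.ker ρ.toRingHom with hJ
  let θ : P ⧸ J ^ 2 →ₐ[R] B := ρ.kerSquareLift
  have hθmk : ∀ y, θ (Ideal.Quotient.mk _ y) = ρ y := fun y => rfl
  have hθs : Function.Surjective θ := fun b => by
    obtain ⟨y, rfl⟩ := hρ b
    exact ⟨Ideal.Quotient.mk _ y, rfl⟩
  have hθk : RingHom.ker θ ^ 2 = ⊥ := by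
    have h := AlgHom.ker_kerSquareLift ρ
    have h' : RingHom.ker θ = (RingHom.ker ρ.toRingHom).cotangentIdeal := h
    rw [h']
    exact Ideal.cotangentIdeal_square _
  -- the map `u`
  obtain ⟨u', hu', -⟩ := huniv (P ⧸ J ^ 2) (RingHom.ker θ) hθk
    (Ideal.quotientKerAlgEquivOfSurjective hθs).symm.toAlgHom
  have hu'' : ∀ b', θ (u' b') = π b' := by
    intro b'
    obtain ⟨z, hz⟩ := hθs (π b')
    have h1 : Ideal.Quotient.mk (RingHom.ker θ) (u' b') =
        (Ideal.quotientKerAlgEquivOfSurjective hθs).symm (π b') := congr($hu' b')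
    rw [← hz, Ideal.quotientKerAlgEquivOfSurjective_symm_apply, Ideal.Quotient.eq,
      RingHom.mem_ker, map_sub, sub_eq_zero] at h1
    exact h1.trans hz
  -- the lift `σ`
  have hπn : IsNilpotent (RingHom.ker (π : B' →+* B)) := ⟨2, hπk⟩
  let σ : P →ₐ[R] B' := Algebra.FormallySmooth.liftOfSurjective ρ π hπs hπn
  have hσ : ∀ y, π (σ y) = ρ y := Algebra.FormallySmooth.liftOfSurjective_apply ρ π hπs hπn
  have hσJ : ∀ y ∈ J ^ 2, σ y = 0 := by
    intro y hy
    have h1 : σ y ∈ (J ^ 2).map σ.toRingHom := Ideal.mem_map_of_mem _ hy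
    rw [Ideal.map_pow] at h1
    have h2 : J.map σ.toRingHom ≤ RingHom.ker π.toRingHom := by
      rw [Ideal.map_le_iff_le_comap]
      intro z hz
      change π (σ z) = 0
      rw [hσ]
      exact hz
    have h3 := Ideal.pow_right_mono h2 2 h1
    rw [hπk] at h3
    exact h3
  let v : P ⧸ J ^ 2 →ₐ[R] B' := Ideal.Quotient.liftₐ (J ^ 2) σ hσJ
  have hvmk : ∀ y, v (Ideal.Quotient.mk _ y) = σ y := fun y => rfl
  -- `v ∘ u' = id`
  have hπk' : RingHom.ker π ^ 2 = ⊥ := hπk
  obtain ⟨w, -, hw⟩ := huniv B' (RingHom.ker π) hπk'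
    (Ideal.quotientKerAlgEquivOfSurjective hπs).symm.toAlgHom
  have key : ∀ (a' : B' →ₐ[R] B'), (∀ b', π (a' b') = π b') → a' = w := by
    intro a' ha'
    apply hw
    ext b'
    change Ideal.Quotient.mk (RingHom.ker π) (a' b') =
      (Ideal.quotientKerAlgEquivOfSurjective hπs).symm (π b')
    rw [Ideal.quotientKerAlgEquivOfSurjective_symm_apply, Ideal.Quotient.eq,
      RingHom.mem_ker, map_sub, sub_eq_zero]
    exact ha' b'
  have e1 : AlgHom.id R B' = w := key _ fun b' => rfl
  have e2 : v.comp u' = w := by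
    apply key
    intro b'
    change π (v (u' b')) = π b'
    obtain ⟨y, hy⟩ := Ideal.Quotient.mk_surjective (u' b')
    rw [← hy, hvmk, hσ, ← hθmk, hy, hu'']
  have hvu : ∀ b', v (u' b') = b' := fun b' => by
    have := congr($(e2.trans e1.symm) b')
    exact this
  refine ⟨u'.toRingHom, σ.toRingHom, hσ, ?_, ?_⟩
  · intro b' y hy
    change σ y = b'
    rw [← hvmk, ← hvu b']
    exact congrArg v hy.symm
  · intro b' y hy
    rw [← hu'', ← hθmk]
    exact congrArg θ hy.symm

/-- Module-level consequence: if `B'` is a retract of `P/J²` over `B` (in the form produced by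
`exists_retract_quot_sq`) and `J` is generated by an `H₁`-regular sequence, then `B ⊗[B'] N'` is a
finite projective `B`-module, for `N' ≅ ker (B' → B)`. -/
theorem finite_projective_of_retract_h1 {P B B' : Type u} {N' : Type*} [CommRing P] [CommRing B]
    [CommRing B'] [Algebra B' B] (ρ : P →+* B) (hρ : Function.Surjective ρ)
    (hπ : Function.Surjective (algebraMap B' B))
    {c : ℕ} (g : Fin c → P) (hg : CAlgX.IsH1Regular g)
    (hspan : RingHom.ker ρ = Ideal.span (Set.range g))
    (u : B' →+* P ⧸ (RingHom.ker ρ) ^ 2) (σ : P →+* B')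
    (h1 : ∀ y, algebraMap B' B (σ y) = ρ y)
    (h2 : ∀ b' y, u b' = Ideal.Quotient.mk _ y → σ y = b')
    (h3 : ∀ b' y, u b' = Ideal.Quotient.mk _ y → ρ y = algebraMap B' B b')
    [AddCommGroup N'] [Module B' N'] (ι : N' →+ B')
    (hsmul : ∀ (r : B') (n : N'), ι (r • n) = r * ι n) (hι : Function.Injective ι)
    (hker : ∀ n : N', algebraMap B' B (ι n) = 0)
    (hrange : ∀ y : B', algebraMap B' B y = 0 → ∃ n, ι n = y) :
    Module.Finite B (B ⊗[B'] N') ∧ Module.Projective B (B ⊗[B'] N') := by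
  -- generators of the target
  have hgJ : ∀ k, ρ (g k) = 0 := by
    intro k
    have : g k ∈ RingHom.ker ρ := by
      rw [hspan]
      exact Ideal.subset_span ⟨k, rfl⟩
    exact this
  choose n' hn' using fun k => hrange (σ (g k)) (by rw [h1, hgJ])
  let r : (Fin c → B) →ₗ[B] B ⊗[B'] N' :=
    Fintype.linearCombination B (fun k => (1 : B) ⊗ₜ[B'] n' k)
  -- coordinates
  have hcoord : ∀ n : N', ∃ (y : P) (b : Fin c → P), u (ι n) = Ideal.Quotient.mk _ y ∧
      y = ∑ k, b k * g k := by
    intro n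
    obtain ⟨y, hy⟩ := Ideal.Quotient.mk_surjective (u (ι n))
    have hyJ : y ∈ Ideal.span (Set.range g) := by
      rw [← hspan]
      change ρ y = 0
      rw [h3 _ _ hy.symm, hker]
    obtain ⟨b, hb⟩ := (Ideal.mem_span_range_iff_exists_fun).mp hyJ
    exact ⟨y, b, hy.symm, hb.symm⟩
  choose yy bb hyy hbb using hcoord
  have huniq : ∀ (n : N') (y : P) (b : Fin c → P), u (ι n) = Ideal.Quotient.mk _ y →
      y = ∑ k, b k * g k → ∀ k, ρ (b k) = ρ (bb n k) := by
    intro n y b hy hb k
    have hdiff : y - yy n ∈ RingHom.ker ρ ^ 2 := by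
      rw [← Ideal.Quotient.eq, ← hy, ← hyy n]
    have hsum : ∑ k, (b k - bb n k) * g k ∈ Ideal.span (Set.range g) ^ 2 := by
      have : ∑ k, (b k - bb n k) * g k = y - yy n := by
        rw [hb, hbb n, ← Finset.sum_sub_distrib]
        exact Finset.sum_congr rfl fun k _ => sub_mul _ _ _
      rw [this, ← hspan]
      exact hdiff
    have hmem := Groth.Agent.Lib.Helper10.KoszulH1.coeff_mem_of_isH1Regular g hg
      (fun k => b k - bb n k) hsum k
    rw [← hspan] at hmem
    have : ρ (b k - bb n k) = 0 := hmem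
    rw [map_sub, sub_eq_zero] at this
    exact this
  let t : N' →ₗ[B'] (Fin c → B) :=
    { toFun := fun n k => ρ (bb n k)
      map_add' := fun n₁ n₂ => by
        funext k
        rw [Pi.add_apply, ← map_add]
        refine (huniq (n₁ + n₂) (yy n₁ + yy n₂) (fun k => bb n₁ k + bb n₂ k) ?_ ?_ k).symm
        · rw [map_add, map_add, map_add, hyy, hyy]
        · rw [hbb n₁, hbb n₂, ← Finset.sum_add_distrib]
          exact Finset.sum_congr rfl fun k _ => (add_mul _ _ _).symm
      map_smul' := fun β n => by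
        funext k
        obtain ⟨z, hz⟩ := Ideal.Quotient.mk_surjective (u β)
        rw [RingHom.id_apply, Pi.smul_apply, Algebra.smul_def]
        rw [← h3 β z hz.symm, ← map_mul]
        refine (huniq (β • n) (z * yy n) (fun k => z * bb n k) ?_ ?_ k).symm
        · rw [hsmul, map_mul, map_mul, hyy, hz]
        · rw [hbb n, Finset.mul_sum]
          exact Finset.sum_congr rfl fun k _ => (mul_assoc _ _ _).symm }
  let s : B ⊗[B'] N' →ₗ[B] (Fin c → B) := LinearMap.liftBaseChange B t
  have hrs : ∀ m, r (s m) = m := by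
    intro m
    obtain ⟨n, rfl⟩ := Groth.Agent.Lib.Helper51.OmegaUniv.exists_one_tmul hπ m
    have hs : s ((1 : B) ⊗ₜ[B'] n) = fun k => ρ (bb n k) := by
      change LinearMap.liftBaseChange B t ((1 : B) ⊗ₜ[B'] n) = _
      rw [LinearMap.liftBaseChange_tmul, one_smul]
      rfl
    rw [hs]
    change Fintype.linearCombination B (fun k => (1 : B) ⊗ₜ[B'] n' k) (fun k => ρ (bb n k)) = _
    rw [Fintype.linearCombination_apply]
    have hterm : ∀ k, ρ (bb n k) • ((1 : B) ⊗ₜ[B'] n' k) =
        (1 : B) ⊗ₜ[B'] (σ (bb n k) • n' k) := by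
      intro k
      rw [← h1, TensorProduct.smul_tmul', smul_eq_mul, mul_one, ← TensorProduct.smul_tmul,
        Algebra.smul_def, mul_one]
    rw [Finset.sum_congr rfl fun k _ => hterm k, ← tmul_sum]
    congr 1
    apply hι
    rw [map_sum]
    have : ∀ k, ι (σ (bb n k) • n' k) = σ (bb n k * g k) := by
      intro k
      rw [hsmul, hn', map_mul]
    rw [Finset.sum_congr rfl fun k _ => this k, ← map_sum, ← hbb n]
    exact h2 _ _ (hyy n)
  have hrsurj : Function.Surjective r := fun m => ⟨s m, hrs m⟩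
  exact ⟨Module.Finite.of_surjective r hrsurj,
    Module.Projective.of_split s r (LinearMap.ext hrs)⟩

end Groth.Agent.Lib.Helper51.UnivThickRing
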