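import Groth.Agent.Lib.Helper51.UnivThickRing

/-!
# Retraction between universal thickenings along a formally smooth map (ring level)
-/

set_option autoImplicit false
set_option linter.style.haveILetI false

namespace Groth.Agent.Lib.Helper51.UnivThickRing

open AlgebraicGeometry CategoryTheory Limits TopologicalSpace
open Groth.Agent.Lib.Helper7 Groth.Agent.Lib.Helper7.UnivThick

universe u

/-- Ring-level retraction: `R → A` formally smooth, `B'` the universal thickening of `B` over `A`,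
`B''` the one over `R`, `κ : B'' → B'` the comparison map. Then `κ` has a retraction `l` over `B`. -/
theorem exists_retraction_of_ringUniv {R A B B' B'' : CommRingCat.{u}} (p : R ⟶ A) (a : A ⟶ B')
    (b : R ⟶ B'') (κ : B'' ⟶ B') (π : B' ⟶ B) (hsm : p.hom.FormallySmooth)
    (hsurj : Function.Surjective (κ ≫ π).hom) (hker : RingHom.ker (κ ≫ π).hom ^ 2 = ⊥)
    (hcomm : b ≫ κ = p ≫ a) (hA : RingUniv (a ≫ π) a π)
    (hR : RingUniv (b ≫ κ ≫ π) b (κ ≫ π)) :
    ∃ l : B' ⟶ B'', κ ≫ l = 𝟙 B'' ∧ l ≫ κ ≫ π = π := by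
  letI : Algebra R A := p.hom.toAlgebra
  letI : Algebra R B'' := b.hom.toAlgebra
  letI : Algebra R B := (b ≫ κ ≫ π).hom.toAlgebra
  haveI : Algebra.FormallySmooth R A := hsm
  let f : A →ₐ[R] B :=
    { toRingHom := (a ≫ π).hom
      commutes' := fun r => by
        have : κ.hom (b.hom r) = a.hom (p.hom r) := congr($(hcomm).hom r)
        change π.hom (a.hom (p.hom r)) = π.hom (κ.hom (b.hom r))
        rw [this] }
  let g : B'' →ₐ[R] B :=
    { toRingHom := (κ ≫ π).hom
      commutes' := fun r => rfl }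
  have hg : Function.Surjective g := hsurj
  have hg' : IsNilpotent (RingHom.ker (g : B'' →+* B)) := ⟨2, hker⟩
  let σ : A →ₐ[R] B'' := Algebra.FormallySmooth.liftOfSurjective f g hg hg'
  have hσ : ∀ x, (κ ≫ π).hom (σ x) = (a ≫ π).hom x :=
    Algebra.FormallySmooth.liftOfSurjective_apply f g hg hg'
  have hσR : p ≫ CommRingCat.ofHom σ.toRingHom = b := by
    ext r
    exact σ.commutes r
  have c1 : CommRingCat.ofHom σ.toRingHom ≫ (κ ≫ π) = (a ≫ π) ≫ 𝟙 B := by
    ext x
    exact hσ x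
  obtain ⟨l, ⟨hl1, hl2⟩, -⟩ := hA B'' B (κ ≫ π) hsurj hker (𝟙 B) (CommRingCat.ofHom σ.toRingHom) c1
  rw [Category.comp_id] at hl1
  refine ⟨l, ?_, hl1⟩
  have c2 : b ≫ (κ ≫ π) = (b ≫ κ ≫ π) ≫ 𝟙 B := by rw [Category.comp_id]
  obtain ⟨l₀, -, hl₀⟩ := hR B'' B (κ ≫ π) hsurj hker (𝟙 B) b c2
  have e1 : κ ≫ l = l₀ := by
    apply hl₀
    constructor
    · rw [Category.assoc, hl1, Category.comp_id]
    · rw [← Category.assoc, hcomm, Category.assoc, hl2, hσR]
  have e2 : 𝟙 B'' = l₀ := by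
    apply hl₀
    constructor
    · rw [Category.id_comp, Category.comp_id]
    · rw [Category.comp_id]
  rw [e1, e2]

end Groth.Agent.Lib.Helper51.UnivThickRing
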