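import Mathlib.CategoryTheory.Limits.VanKampen
import Mathlib.CategoryTheory.Limits.Types.Coproducts
import Mathlib.CategoryTheory.Limits.Types.Pullbacks

/-!
# Arbitrary coproducts of types are van Kampen colimits (helper51)
-/

set_option autoImplicit false
universe v u'

namespace Groth.Agent.Lib.Helper51

open CategoryTheory Limits

section

variable {ι : Type u'} {F : Discrete ι ⥤ Type v} (c : Cocone F)

/-- The cofan attached to a cocone over a discrete diagram of types. -/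
def cofanOfCocone : Cofan (fun i : ι ↦ F.obj ⟨i⟩) := Cofan.mk c.pt (fun i ↦ c.ι.app ⟨i⟩)

@[simp]
lemma cofanOfCocone_inj (i : ι) : (cofanOfCocone c).inj i = c.ι.app ⟨i⟩ := rfl

lemma nonempty_isColimit_cofanOfCocone_iff :
    Nonempty (IsColimit (cofanOfCocone c)) ↔ Nonempty (IsColimit c) := by
  have e : (Cocone.precompose (Discrete.natIsoFunctor (F := F)).inv).obj c ≅ cofanOfCocone c :=
    Cocone.ext (Iso.refl _) (fun ⟨i⟩ ↦ by
      simp [cofanOfCocone])
  constructor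
  · rintro ⟨h⟩
    exact ⟨(IsColimit.precomposeInvEquiv (Discrete.natIsoFunctor (F := F)) c)
      (h.ofIsoColimit e.symm)⟩
  · rintro ⟨h⟩
    exact ⟨((IsColimit.precomposeInvEquiv (Discrete.natIsoFunctor (F := F)) c).symm h).ofIsoColimit e⟩

lemma ι_injective_of_isColimit (hc : IsColimit c) (i : ι) : Function.Injective (c.ι.app ⟨i⟩) :=
  Cofan.inj_injective_of_isColimit ((nonempty_isColimit_cofanOfCocone_iff c).2 ⟨hc⟩).some i

lemma ι_jointly_surjective_of_isColimit (hc : IsColimit c) (x : c.pt) :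
    ∃ (i : ι) (y : F.obj ⟨i⟩), c.ι.app ⟨i⟩ y = x :=
  Cofan.inj_jointly_surjective_of_isColimit
    ((nonempty_isColimit_cofanOfCocone_iff c).2 ⟨hc⟩).some x

lemma eq_of_ι_apply_eq_of_isColimit (hc : IsColimit c) {i j : ι} (x : F.obj ⟨i⟩) (y : F.obj ⟨j⟩)
    (h : c.ι.app ⟨i⟩ x = c.ι.app ⟨j⟩ y) : i = j :=
  Cofan.eq_of_inj_apply_eq_of_isColimit
    ((nonempty_isColimit_cofanOfCocone_iff c).2 ⟨hc⟩).some x y h

lemma nonempty_isColimit_of_bijective
    (h : Function.Bijective (fun x : Σ i : ι, F.obj ⟨i⟩ ↦ c.ι.app ⟨x.1⟩ x.2)) :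
    Nonempty (IsColimit c) := by
  rw [← nonempty_isColimit_cofanOfCocone_iff, Cofan.nonempty_isColimit_iff_bijective_fromSigma]
  exact h

end

/-- Every colimit cocone over a discrete diagram of types is a van Kampen colimit. -/
theorem isVanKampenColimit_types_discrete {ι : Type u'} {F : Discrete ι ⥤ Type v} (c : Cocone F)
    (hc : IsColimit c) : IsVanKampenColimit c := by
  intro F' c' α f hcomm _
  have hcomm' : ∀ (i : ι) (x : F'.obj ⟨i⟩), c.ι.app ⟨i⟩ (α.app ⟨i⟩ x) = f (c'.ι.app ⟨i⟩ x) :=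
    fun i x ↦ congr_fun (congr_arg (fun t ↦ (t.app ⟨i⟩ : _ → _)) hcomm) x
  constructor
  · rintro ⟨hc'⟩ ⟨j⟩
    rw [Types.isPullback_iff]
    refine ⟨by ext x; exact (hcomm' j x).symm, ?_, ?_⟩
    · rintro x y ⟨h1, -⟩
      exact ι_injective_of_isColimit c' hc' j h1
    · intro z w hzw
      obtain ⟨i, y, rfl⟩ := ι_jointly_surjective_of_isColimit c' hc' z
      rw [← hcomm'] at hzw
      obtain rfl := eq_of_ι_apply_eq_of_isColimit c hc _ _ hzw
      exact ⟨y, rfl, ι_injective_of_isColimit c hc i hzw⟩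
  · intro H
    apply nonempty_isColimit_of_bijective
    constructor
    · rintro ⟨i, x⟩ ⟨j, y⟩ hxy
      dsimp only at hxy
      have h1 : c.ι.app ⟨i⟩ (α.app ⟨i⟩ x) = c.ι.app ⟨j⟩ (α.app ⟨j⟩ y) := by
        rw [hcomm', hcomm', hxy]
      obtain rfl := eq_of_ι_apply_eq_of_isColimit c hc _ _ h1
      have h2 := ι_injective_of_isColimit c hc i h1
      rw [Types.ext_of_isPullback (H ⟨i⟩) hxy h2]
    · intro z
      obtain ⟨j, w, hw⟩ := ι_jointly_surjective_of_isColimit c hc (f z)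
      obtain ⟨x, hx, -⟩ := Types.exists_of_isPullback (H ⟨j⟩) z w hw.symm
      exact ⟨⟨j, x⟩, hx⟩

end Groth.Agent.Lib.Helper51
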