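import Mathlib
import Groth.Agent.S10937

/-!
# A smooth integral variety of dimension `n` over an algebraically closed field is smooth of
relative dimension `n` (helper51; assembled from helper50/24/55/78/80 libraries and S10937)
-/

set_option autoImplicit false
set_option linter.style.haveILetI false
universe u

namespace Groth.Agent.Lib.Helper51.VarietySmoothDim

open AlgebraicGeometry CategoryTheory CategoryTheory.Limits

theorem smoothOfRelativeDimension_of_variety (K : Type u) [Field K] [IsAlgClosed K]
    (X : Scheme.{u}) (f : X ⟶ Spec (CommRingCat.of K)) [Smooth f] [IsSeparated f] [QuasiCompact f]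
    [IsIntegral X] (n : ℕ) (hn : topologicalKrullDim X = n) : SmoothOfRelativeDimension n f := by
  haveI : LocallyOfFiniteType f := inferInstance
  have hdimK : topologicalKrullDim ↥(Spec (CommRingCat.of K)) = ((0 : ℕ) : WithBot ℕ∞) := by
    have h1 : topologicalKrullDim (PrimeSpectrum K) = ringKrullDim K :=
      PrimeSpectrum.topologicalKrullDim_eq_ringKrullDim K
    have h2 : ringKrullDim K = 0 := ringKrullDim_eq_zero_of_field K
    exact h1.trans (h2.trans (by simp))
  have hX : topologicalKrullDim ↥X = ((0 + n : ℕ) : WithBot ℕ∞) := by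
    rw [hn, zero_add]
  refine (Groth.Agent.S10937.result K f (𝟙 _) f (Category.comp_id f) n 0 hdimK hX).mpr ?_
  intro x
  have hUX := Groth.Agent.Lib.Helper80.OmegaUniversal.isUniversal_dOmega f
  obtain ⟨U, m, hx, hiso, hm⟩ :=
    Groth.Agent.Lib.Helper24.exists_restrict_iso_freeMod_fibreDimAt_of_smooth f _ _ hUX x
  haveI hsub : Subsingleton ↥(Spec (CommRingCat.of K)) :=
    (inferInstance : Subsingleton (PrimeSpectrum K))
  have hconst : ∀ t₁ t₂ : X, f t₁ = f t₂ := fun t₁ t₂ => Subsingleton.elim _ _
  have hdim : FlatMor.fibreDimAt f x = (n : WithBot ℕ∞) := by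
    rw [Groth.Agent.Lib.Helper78.AbVarFibre.fibreDimAt_eq_localDim_of_const _ hconst x,
      Groth.Agent.Lib.Helper55.localDim_eq_topologicalKrullDim_of_irreducibleSpace f x, hn]
  rw [hdim] at hm
  have e : n = m := by exact_mod_cast hm
  subst e
  exact ⟨U, hx, hiso⟩

end Groth.Agent.Lib.Helper51.VarietySmoothDim
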