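import Mathlib
import Groth.Agent.Lib.Helper51.VirtDimAlg
import Groth.Agent.Lib.Helper51.OmegaUniv.H1Sheaf
import Groth.Agent.Lib.Helper51.OmegaUniv.DiffCompat
import Groth.Agent.Lib.Helper49.FreeMod
import Groth.Agent.S4652

/-!
# Virtual relative dimension is independent of the factorisation, scheme level (helper51)
-/

set_option autoImplicit false
set_option linter.style.haveILetI false
set_option linter.unusedSectionVars false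
universe u
open AlgebraicGeometry CategoryTheory Limits TopologicalSpace Opposite TensorProduct OmegaSh

namespace Groth.Agent.Lib.Helper51.VirtDim

open Groth.Agent.Lib.Helper49 Groth.Agent.Lib.Helper51.OmegaUniv

/-- If `F|_U` is locally free of rank `n`, then `F` is free of rank `n` near each point of `U`. -/
theorem exists_iso_restrict_freeMod_of_rank {X : Scheme.{u}} (F : X.Modules) (U : X.Opens) (n : ℕ)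
    (h : FlatMod.IsFinLocFreeOfRank n ((Scheme.Modules.restrictFunctor U.ι).obj F))
    (x : X) (hx : x ∈ U) :
    ∃ W : X.Opens, x ∈ W ∧ Nonempty (F.restrict W.ι ≅ FlatMod.freeMod (↑W) n) := by
  obtain ⟨W, hxW, ⟨φ⟩⟩ := h ⟨x, hx⟩
  let f : (W : Scheme.{u}) ⟶ X := W.ι ≫ U.ι
  let φ' : F.restrict f ≅ FlatMod.freeMod (↑W) n :=
    (Scheme.Modules.restrictFunctorComp W.ι U.ι).app F ≪≫ φ
  obtain ⟨ψ⟩ := Groth.Agent.S4652.nonempty_iso_freeMod_opensRange F f n φ'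
  exact ⟨f.opensRange, ⟨⟨⟨x, hx⟩, hxW⟩, rfl⟩, ⟨ψ⟩⟩

/-- Free sections on smaller opens. -/
theorem nonempty_sections_equiv_of_le {X : Scheme.{u}} (F : X.Modules) {O W : X.Opens} (n : ℕ)
    (e : F.restrict O.ι ≅ FlatMod.freeMod (↑O) n) (hWO : W ≤ O) :
    Nonempty (Γ(F, W) ≃ₗ[Γ(X, W)] (Fin n → Γ(X, W))) :=
  ⟨sectionsEquivOfIsoFree F n (isoFreeOfLE hWO F n e)⟩

section chart

variable {X Y V : Scheme.{u}} (g : V ⟶ Y) [Smooth g] (i : X ⟶ V) [IsImmersion i] [QuasiCompact i]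
  {Ω : V.Modules} {d : Der g Ω} (hd : IsUniversal d)
  {Y₀ : Y.Opens} (hY₀ : IsAffineOpen Y₀) {V₀ : V.Opens} (hV₀ : IsAffineOpen V₀)
  (h₁ : V₀ ≤ g ⁻¹ᵁ Y₀) {W : X.Opens} (hW : IsAffineOpen W) (h₂ : W ≤ i ⁻¹ᵁ V₀)

include hd hY₀ hV₀ hW in
/-- Chart data of one factorisation. -/
theorem chart_one (a b : ℕ)
    (eb : Γ(Omega.conormal i, W) ≃ₗ[Γ(X, W)] (Fin b → Γ(X, W)))
    (ea : Γ((Scheme.Modules.pullback i).obj Ω, W) ≃ₗ[Γ(X, W)] (Fin a → Γ(X, W))) :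
    letI := (g.appLE Y₀ V₀ h₁).hom.toAlgebra
    letI := (i.appLE V₀ W h₂).hom.toAlgebra
    Algebra.FormallySmooth Γ(Y, Y₀) Γ(V, V₀) ∧ Subsingleton (Ω[Γ(X, W)⁄Γ(V, V₀)]) ∧
      Nonempty (Algebra.H1Cotangent Γ(V, V₀) Γ(X, W) ≃ₗ[Γ(X, W)] (Fin b → Γ(X, W))) ∧
      Nonempty ((Γ(X, W) ⊗[Γ(V, V₀)] Ω[Γ(V, V₀)⁄Γ(Y, Y₀)]) ≃ₗ[Γ(X, W)] (Fin a → Γ(X, W))) := by
  letI : Algebra Γ(Y, Y₀) Γ(V, V₀) := (g.appLE Y₀ V₀ h₁).hom.toAlgebra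
  letI : Algebra Γ(V, V₀) Γ(X, W) := (i.appLE V₀ W h₂).hom.toAlgebra
  have hsm := g.smooth_appLE hY₀ hV₀ h₁
  have hsm' : Algebra.Smooth Γ(Y, Y₀) Γ(V, V₀) := hsm
  have hsub := onCharts_subsingleton_kaehler i ⟨W, hW⟩ ⟨V₀, hV₀⟩ h₂
  obtain ⟨Φ, -⟩ := exists_chart_equiv i hW hV₀ h₂
  obtain ⟨eΩ, -⟩ := exists_pullback_sections_equiv i hd hV₀ hY₀ h₁ hW h₂
  exact ⟨inferInstance, hsub, ⟨Φ.symm ≪≫ₗ eb⟩, ⟨eΩ ≪≫ₗ ea⟩⟩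

end chart

/-- **The virtual relative dimension does not depend on the factorisation.** -/
theorem virtDim_indep {X Y V V' : Scheme.{u}} (f : X ⟶ Y)
    (g : V ⟶ Y) [Smooth g] (i : X ⟶ V) [IsClosedImmersion i] (hi : i ≫ g = f)
    (g' : V' ⟶ Y) [Smooth g'] (i' : X ⟶ V') [IsClosedImmersion i'] (hi' : i' ≫ g' = f)
    (Ω : V.Modules) (d : OmegaSh.Der g Ω) (hd : OmegaSh.IsUniversal d)
    (Ω' : V'.Modules) (d' : OmegaSh.Der g' Ω') (hd' : OmegaSh.IsUniversal d')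
    (x : X) (a b a' b' : ℕ) (U₁ U₂ U₃ U₄ : X.Opens)
    (h₁ : x ∈ U₁) (h₂ : x ∈ U₂) (h₃ : x ∈ U₃) (h₄ : x ∈ U₄)
    (ha : FlatMod.IsFinLocFreeOfRank a ((Scheme.Modules.restrictFunctor U₁.ι).obj
      ((Scheme.Modules.pullback i).obj Ω)))
    (hb : FlatMod.IsFinLocFreeOfRank b ((Scheme.Modules.restrictFunctor U₂.ι).obj
      (Omega.conormal i)))
    (ha' : FlatMod.IsFinLocFreeOfRank a' ((Scheme.Modules.restrictFunctor U₃.ι).obj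
      ((Scheme.Modules.pullback i').obj Ω')))
    (hb' : FlatMod.IsFinLocFreeOfRank b' ((Scheme.Modules.restrictFunctor U₄.ι).obj
      (Omega.conormal i'))) :
    (a : ℤ) - b = (a' : ℤ) - b' := by
  obtain ⟨O₁, hxO₁, ⟨e₁⟩⟩ := exists_iso_restrict_freeMod_of_rank _ U₁ a ha x h₁
  obtain ⟨O₂, hxO₂, ⟨e₂⟩⟩ := exists_iso_restrict_freeMod_of_rank _ U₂ b hb x h₂
  obtain ⟨O₃, hxO₃, ⟨e₃⟩⟩ := exists_iso_restrict_freeMod_of_rank _ U₃ a' ha' x h₃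
  obtain ⟨O₄, hxO₄, ⟨e₄⟩⟩ := exists_iso_restrict_freeMod_of_rank _ U₄ b' hb' x h₄
  -- affine opens
  obtain ⟨_, ⟨Y₀, hY₀ : IsAffineOpen Y₀, rfl⟩, hxY₀, -⟩ :=
    Y.isBasis_affineOpens.exists_subset_of_mem_open (Set.mem_univ (f x)) isOpen_univ
  have hx1 : i x ∈ g ⁻¹ᵁ Y₀ := by
    change g (i x) ∈ Y₀
    rw [← Scheme.Hom.comp_apply, hi]
    exact hxY₀
  have hx2 : i' x ∈ g' ⁻¹ᵁ Y₀ := by
    change g' (i' x) ∈ Y₀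
    rw [← Scheme.Hom.comp_apply, hi']
    exact hxY₀
  obtain ⟨_, ⟨V₀, hV₀ : IsAffineOpen V₀, rfl⟩, hxV₀, hV₀Y⟩ :=
    V.isBasis_affineOpens.exists_subset_of_mem_open hx1 (g ⁻¹ᵁ Y₀).2
  obtain ⟨_, ⟨V₀', hV₀' : IsAffineOpen V₀', rfl⟩, hxV₀', hV₀Y'⟩ :=
    V'.isBasis_affineOpens.exists_subset_of_mem_open hx2 (g' ⁻¹ᵁ Y₀).2
  have hxbig : x ∈ O₁ ⊓ O₂ ⊓ O₃ ⊓ O₄ ⊓ i ⁻¹ᵁ V₀ ⊓ i' ⁻¹ᵁ V₀' :=
    ⟨⟨⟨⟨⟨hxO₁, hxO₂⟩, hxO₃⟩, hxO₄⟩, hxV₀⟩, hxV₀'⟩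
  obtain ⟨_, ⟨W, hW : IsAffineOpen W, rfl⟩, hxW, hWbig⟩ :=
    X.isBasis_affineOpens.exists_subset_of_mem_open hxbig
      (O₁ ⊓ O₂ ⊓ O₃ ⊓ O₄ ⊓ i ⁻¹ᵁ V₀ ⊓ i' ⁻¹ᵁ V₀').2
  have hWO₁ : W ≤ O₁ := fun y hy => (hWbig hy).1.1.1.1.1
  have hWO₂ : W ≤ O₂ := fun y hy => (hWbig hy).1.1.1.1.2
  have hWO₃ : W ≤ O₃ := fun y hy => (hWbig hy).1.1.1.2
  have hWO₄ : W ≤ O₄ := fun y hy => (hWbig hy).1.1.2
  have hWi : W ≤ i ⁻¹ᵁ V₀ := fun y hy => (hWbig hy).1.2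
  have hWi' : W ≤ i' ⁻¹ᵁ V₀' := fun y hy => (hWbig hy).2
  obtain ⟨ea⟩ := nonempty_sections_equiv_of_le _ a e₁ hWO₁
  obtain ⟨eb⟩ := nonempty_sections_equiv_of_le _ b e₂ hWO₂
  obtain ⟨ea'⟩ := nonempty_sections_equiv_of_le _ a' e₃ hWO₃
  obtain ⟨eb'⟩ := nonempty_sections_equiv_of_le _ b' e₄ hWO₄
  have hWf : W ≤ f ⁻¹ᵁ Y₀ := by
    intro y hy
    change f y ∈ Y₀
    rw [← hi, Scheme.Hom.comp_apply]
    exact hV₀Y (hWi hy)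
  -- algebra instances
  letI aRA : Algebra Γ(Y, Y₀) Γ(V, V₀) := (g.appLE Y₀ V₀ hV₀Y).hom.toAlgebra
  letI aRA' : Algebra Γ(Y, Y₀) Γ(V', V₀') := (g'.appLE Y₀ V₀' hV₀Y').hom.toAlgebra
  letI aAB : Algebra Γ(V, V₀) Γ(X, W) := (i.appLE V₀ W hWi).hom.toAlgebra
  letI aAB' : Algebra Γ(V', V₀') Γ(X, W) := (i'.appLE V₀' W hWi').hom.toAlgebra
  letI aRB : Algebra Γ(Y, Y₀) Γ(X, W) := (f.appLE Y₀ W hWf).hom.toAlgebra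
  haveI t1 : IsScalarTower Γ(Y, Y₀) Γ(V, V₀) Γ(X, W) := IsScalarTower.of_algebraMap_eq' (by
    change (f.appLE Y₀ W hWf).hom = (i.appLE V₀ W hWi).hom.comp (g.appLE Y₀ V₀ hV₀Y).hom
    rw [← CommRingCat.hom_comp, Scheme.Hom.appLE_comp_appLE]
    exact congrArg _ (appLE_congr_hom' hi.symm _ _ _ _))
  haveI t2 : IsScalarTower Γ(Y, Y₀) Γ(V', V₀') Γ(X, W) := IsScalarTower.of_algebraMap_eq' (by
    change (f.appLE Y₀ W hWf).hom = (i'.appLE V₀' W hWi').hom.comp (g'.appLE Y₀ V₀' hV₀Y').hom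
    rw [← CommRingCat.hom_comp, Scheme.Hom.appLE_comp_appLE]
    exact congrArg _ (appLE_congr_hom' hi'.symm _ _ _ _))
  obtain ⟨hfs, hsub, ⟨E1⟩, ⟨E2⟩⟩ := chart_one g i hd hY₀ hV₀ hV₀Y hW hWi a b eb ea
  obtain ⟨hfs', hsub', ⟨E1'⟩, ⟨E2'⟩⟩ := chart_one g' i' hd' hY₀ hV₀' hV₀Y' hW hWi' a' b' eb' ea'
  obtain ⟨E⟩ := nonempty_prod_equiv (R := Γ(Y, Y₀)) (A := Γ(V, V₀)) (A' := Γ(V', V₀'))
    (B := Γ(X, W))
  let F : ((Fin b → Γ(X, W)) × (Fin a' → Γ(X, W))) ≃ₗ[Γ(X, W)]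
      ((Fin b' → Γ(X, W)) × (Fin a → Γ(X, W))) :=
    (E1.symm.prodCongr E2'.symm) ≪≫ₗ E ≪≫ₗ (E1'.prodCongr E2)
  haveI : Nonempty W := ⟨⟨x, hxW⟩⟩
  haveI : Nontrivial Γ(X, W) := Scheme.component_nontrivial X W
  have hF := F.finrank_eq
  rw [Module.finrank_prod, Module.finrank_prod, Module.finrank_fin_fun, Module.finrank_fin_fun,
    Module.finrank_fin_fun, Module.finrank_fin_fun] at hF
  omega

end Groth.Agent.Lib.Helper51.VirtDim
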