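import Mathlib
import Groth.Agent.Lib.Helper51.VirtDimComp
import Groth.Agent.Lib.Helper51.VirtDimSch
import Groth.Agent.Lib.Helper10.LciEtaleDescentC
import Groth.Agent.Lib.Helper10.LciImmersion
import Groth.Prelude.Def_KRR
import Groth.Prelude.Def_Omega3
import Groth.Prelude.Def_RegImm

/-!
# Additivity of the virtual relative dimension under composition, scheme level (helper51)
-/

set_option autoImplicit false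
set_option linter.style.haveILetI false
set_option linter.unusedSectionVars false
universe u
open AlgebraicGeometry CategoryTheory Limits TopologicalSpace Opposite TensorProduct OmegaSh

namespace Groth.Agent.Lib.Helper51.VirtDimComp

open Groth.Agent.Lib.Helper49 Groth.Agent.Lib.Helper51.OmegaUniv Groth.Agent.Lib.Helper51.VirtDim
open Groth.Agent.Lib.Helper10.LciMor Groth.Agent.Lib.Helper10.LciComp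
open Groth.Agent.Lib.Helper10.RegImmDescent Groth.Agent.Lib.Helper10.RegImmBaseChange

/-- **Virtual relative dimensions add under composition.** -/
theorem virtualRelDim_comp {X Y Z V W T : Scheme.{u}} (f : X ⟶ Y) (g : Y ⟶ Z)
    (hf : ∀ x : X, Synt.IsKoszulAt f x) (hg : ∀ y : Y, Synt.IsKoszulAt g y)
    (gf : V ⟶ Y) [Smooth gf] (jf : X ⟶ V) [IsClosedImmersion jf] (hjf : jf ≫ gf = f)
    (gg : W ⟶ Z) [Smooth gg] (jg : Y ⟶ W) [IsClosedImmersion jg] (hjg : jg ≫ gg = g)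
    (gh : T ⟶ Z) [Smooth gh] (jh : X ⟶ T) [IsClosedImmersion jh] (hjh : jh ≫ gh = f ≫ g)
    (Ωf : V.Modules) (df : OmegaSh.Der gf Ωf) (hdf : OmegaSh.IsUniversal df)
    (Ωg : W.Modules) (dg : OmegaSh.Der gg Ωg) (hdg : OmegaSh.IsUniversal dg)
    (Ωh : T.Modules) (dh : OmegaSh.Der gh Ωh) (hdh : OmegaSh.IsUniversal dh)
    (x : X) (af bf ag bg ah bh : ℕ) (U₁ U₂ U₃ U₄ : X.Opens) (U₅ U₆ : Y.Opens)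
    (h₁ : x ∈ U₁) (h₂ : x ∈ U₂) (h₃ : x ∈ U₃) (h₄ : x ∈ U₄) (h₅ : f x ∈ U₅) (h₆ : f x ∈ U₆)
    (haf : FlatMod.IsFinLocFreeOfRank af ((Scheme.Modules.restrictFunctor U₁.ι).obj
      ((Scheme.Modules.pullback jf).obj Ωf)))
    (hbf : FlatMod.IsFinLocFreeOfRank bf ((Scheme.Modules.restrictFunctor U₂.ι).obj
      (Omega.conormal jf)))
    (hah : FlatMod.IsFinLocFreeOfRank ah ((Scheme.Modules.restrictFunctor U₃.ι).obj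
      ((Scheme.Modules.pullback jh).obj Ωh)))
    (hbh : FlatMod.IsFinLocFreeOfRank bh ((Scheme.Modules.restrictFunctor U₄.ι).obj
      (Omega.conormal jh)))
    (hag : FlatMod.IsFinLocFreeOfRank ag ((Scheme.Modules.restrictFunctor U₅.ι).obj
      ((Scheme.Modules.pullback jg).obj Ωg)))
    (hbg : FlatMod.IsFinLocFreeOfRank bg ((Scheme.Modules.restrictFunctor U₆.ι).obj
      (Omega.conormal jg))) :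
    (ah : ℤ) - bh = ((af : ℤ) - bf) + ((ag : ℤ) - bg) := by
  -- local complete intersection data
  have hlf : lciMor f := lciMor_of_forall_isKoszulAt f hf
  have hlg : lciMor g := lciMor_of_forall_isKoszulAt g hg
  have hljg : lciMor jg :=
    Groth.Agent.Lib.Helper10.LciEtaleDescent.lciMor_of_comp_smooth jg gg (by rw [hjg]; exact hlg)
  have hrjg := Groth.Agent.Lib.Helper10.LciImmersion.isRegularImmersion_of_lciMor jg hljg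
  obtain ⟨U, hyU, hclU, rs, hrsK, hrsker⟩ := hrjg.2 (f x)
  replace hrsK : LCI.IsKoszulRegularSeq Γ(W, U.1) rs := hrsK
  -- free opens
  obtain ⟨O₁, hxO₁, ⟨e₁⟩⟩ := exists_iso_restrict_freeMod_of_rank _ U₁ af haf x h₁
  obtain ⟨O₂, hxO₂, ⟨e₂⟩⟩ := exists_iso_restrict_freeMod_of_rank _ U₂ bf hbf x h₂
  obtain ⟨O₃, hxO₃, ⟨e₃⟩⟩ := exists_iso_restrict_freeMod_of_rank _ U₃ ah hah x h₃
  obtain ⟨O₄, hxO₄, ⟨e₄⟩⟩ := exists_iso_restrict_freeMod_of_rank _ U₄ bh hbh x h₄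
  obtain ⟨O₅, hxO₅, ⟨e₅⟩⟩ := exists_iso_restrict_freeMod_of_rank _ U₅ ag hag (f x) h₅
  obtain ⟨O₆, hxO₆, ⟨e₆⟩⟩ := exists_iso_restrict_freeMod_of_rank _ U₆ bg hbg (f x) h₆
  -- the affine open of `Z`
  obtain ⟨_, ⟨Z₀, hZ₀ : IsAffineOpen Z₀, rfl⟩, hxZ₀, -⟩ :=
    Z.isBasis_affineOpens.exists_subset_of_mem_open (Set.mem_univ (g (f x))) isOpen_univ
  -- an open of `W` cutting out `O₅ ⊓ O₆`
  obtain ⟨t, ht, hteq⟩ := (jg.isEmbedding.isInducing.isOpen_iff).mp (O₅ ⊓ O₆).2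
  have hxt : jg (f x) ∈ t := by
    have : f x ∈ jg ⁻¹' t := by
      rw [hteq]
      exact ⟨hxO₅, hxO₆⟩
    exact this
  have hxgg : jg (f x) ∈ gg ⁻¹ᵁ Z₀ := by
    change gg (jg (f x)) ∈ Z₀
    rw [← Scheme.Hom.comp_apply, hjg]
    exact hxZ₀
  have hxbigW : jg (f x) ∈ U.1 ⊓ gg ⁻¹ᵁ Z₀ ⊓ (⟨t, ht⟩ : W.Opens) := ⟨⟨hyU, hxgg⟩, hxt⟩
  obtain ⟨_, ⟨W₀, hW₀ : IsAffineOpen W₀, rfl⟩, hxW₀, hW₀big⟩ :=
    W.isBasis_affineOpens.exists_subset_of_mem_open hxbigW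
      (U.1 ⊓ gg ⁻¹ᵁ Z₀ ⊓ (⟨t, ht⟩ : W.Opens)).2
  have hW₀U : W₀ ≤ U.1 := fun y hy => (hW₀big hy).1.1
  have hW₀Z : W₀ ≤ gg ⁻¹ᵁ Z₀ := fun y hy => (hW₀big hy).1.2
  have hW₀t : (W₀ : Set W) ⊆ t := fun y hy => (hW₀big hy).2
  have hY₀O₅ : jg ⁻¹ᵁ W₀ ≤ O₅ := by
    intro y hy
    have : y ∈ jg ⁻¹' t := hW₀t hy
    rw [hteq] at this
    exact this.1
  have hY₀O₆ : jg ⁻¹ᵁ W₀ ≤ O₆ := by
    intro y hy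
    have : y ∈ jg ⁻¹' t := hW₀t hy
    rw [hteq] at this
    exact this.2
  -- regular immersion data over `W₀`
  obtain ⟨hcl₀, hker₀, hflat₀⟩ := restrictData jg U.2 hW₀ hW₀U hclU
  obtain ⟨hY₀, hsurj₀⟩ := app_surjective_of_restrict jg W₀ hW₀ hcl₀
  have hxY₀ : f x ∈ jg ⁻¹ᵁ W₀ := hxW₀
  have hY₀Z : jg ⁻¹ᵁ W₀ ≤ g ⁻¹ᵁ Z₀ := by
    intro y hy
    change g y ∈ Z₀
    rw [← hjg, Scheme.Hom.comp_apply]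
    exact hW₀Z hy
  -- the charts of `V`, `T`, `X`
  have hx1 : jf x ∈ gf ⁻¹ᵁ (jg ⁻¹ᵁ W₀) := by
    change gf (jf x) ∈ jg ⁻¹ᵁ W₀
    rw [← Scheme.Hom.comp_apply, hjf]
    exact hxY₀
  have hx2 : jh x ∈ gh ⁻¹ᵁ Z₀ := by
    change gh (jh x) ∈ Z₀
    rw [← Scheme.Hom.comp_apply, hjh]
    exact hxZ₀
  obtain ⟨_, ⟨V₀, hV₀ : IsAffineOpen V₀, rfl⟩, hxV₀, hV₀Y⟩ :=
    V.isBasis_affineOpens.exists_subset_of_mem_open hx1 (gf ⁻¹ᵁ (jg ⁻¹ᵁ W₀)).2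
  obtain ⟨_, ⟨T₀, hT₀ : IsAffineOpen T₀, rfl⟩, hxT₀, hT₀Z⟩ :=
    T.isBasis_affineOpens.exists_subset_of_mem_open hx2 (gh ⁻¹ᵁ Z₀).2
  have hxbig : x ∈ O₁ ⊓ O₂ ⊓ O₃ ⊓ O₄ ⊓ jf ⁻¹ᵁ V₀ ⊓ jh ⁻¹ᵁ T₀ :=
    ⟨⟨⟨⟨⟨hxO₁, hxO₂⟩, hxO₃⟩, hxO₄⟩, hxV₀⟩, hxT₀⟩
  obtain ⟨_, ⟨X₀, hX₀ : IsAffineOpen X₀, rfl⟩, hxX₀, hX₀big⟩ :=
    X.isBasis_affineOpens.exists_subset_of_mem_open hxbig
      (O₁ ⊓ O₂ ⊓ O₃ ⊓ O₄ ⊓ jf ⁻¹ᵁ V₀ ⊓ jh ⁻¹ᵁ T₀).2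
  have hX₀O₁ : X₀ ≤ O₁ := fun y hy => (hX₀big hy).1.1.1.1.1
  have hX₀O₂ : X₀ ≤ O₂ := fun y hy => (hX₀big hy).1.1.1.1.2
  have hX₀O₃ : X₀ ≤ O₃ := fun y hy => (hX₀big hy).1.1.1.2
  have hX₀O₄ : X₀ ≤ O₄ := fun y hy => (hX₀big hy).1.1.2
  have hX₀V : X₀ ≤ jf ⁻¹ᵁ V₀ := fun y hy => (hX₀big hy).1.2
  have hX₀T : X₀ ≤ jh ⁻¹ᵁ T₀ := fun y hy => (hX₀big hy).2
  have hX₀f : X₀ ≤ f ⁻¹ᵁ (jg ⁻¹ᵁ W₀) := by
    intro y hy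
    change f y ∈ jg ⁻¹ᵁ W₀
    rw [← hjf, Scheme.Hom.comp_apply]
    exact hV₀Y (hX₀V hy)
  -- algebra structures for the chart of `g`
  letI aRA : Algebra Γ(Z, Z₀) Γ(W, W₀) := (gg.appLE Z₀ W₀ hW₀Z).hom.toAlgebra
  letI aAS : Algebra Γ(W, W₀) Γ(Y, jg ⁻¹ᵁ W₀) := (jg.appLE W₀ (jg ⁻¹ᵁ W₀) le_rfl).hom.toAlgebra
  letI aRS : Algebra Γ(Z, Z₀) Γ(Y, jg ⁻¹ᵁ W₀) := (g.appLE Z₀ (jg ⁻¹ᵁ W₀) hY₀Z).hom.toAlgebra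
  letI aSB : Algebra Γ(Y, jg ⁻¹ᵁ W₀) Γ(X, X₀) := (f.appLE (jg ⁻¹ᵁ W₀) X₀ hX₀f).hom.toAlgebra
  haveI tRAS : IsScalarTower Γ(Z, Z₀) Γ(W, W₀) Γ(Y, jg ⁻¹ᵁ W₀) :=
    IsScalarTower.of_algebraMap_eq' (by
      change (g.appLE Z₀ (jg ⁻¹ᵁ W₀) hY₀Z).hom =
        (jg.appLE W₀ (jg ⁻¹ᵁ W₀) le_rfl).hom.comp (gg.appLE Z₀ W₀ hW₀Z).hom
      rw [← CommRingCat.hom_comp, Scheme.Hom.appLE_comp_appLE]
      exact congrArg _ (appLE_congr_hom' hjg.symm _ _ _ _))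
  obtain ⟨eag⟩ := nonempty_sections_equiv_of_le _ ag e₅ hY₀O₅
  obtain ⟨ebg⟩ := nonempty_sections_equiv_of_le _ bg e₆ hY₀O₆
  obtain ⟨hfsA, hsubA, ⟨Eg1⟩, ⟨Eg2⟩⟩ :=
    chart_one gg jg hdg hZ₀ hW₀ hW₀Z hY₀ le_rfl ag bg ebg eag
  -- the Koszul-regular kernel
  have hAS : Function.Surjective (algebraMap Γ(W, W₀) Γ(Y, jg ⁻¹ᵁ W₀)) := by
    change Function.Surjective (jg.appLE W₀ (jg ⁻¹ᵁ W₀) le_rfl).hom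
    rw [← Scheme.Hom.app_eq_appLE]
    exact hsurj₀
  obtain ⟨js, hjsdef⟩ : ∃ js : List Γ(W, W₀),
      js = rs.map (W.presheaf.map (homOfLE hW₀U).op).hom := ⟨_, rfl⟩
  have hjsK : LCI.IsKoszulRegularSeq Γ(W, W₀) js := by
    rw [hjsdef]
    exact Groth.Agent.Lib.Helper10.KoszulFlat.isKoszulRegularSeq_map _ hflat₀ rs hrsK
  have hjs : RingHom.ker (algebraMap Γ(W, W₀) Γ(Y, jg ⁻¹ᵁ W₀)) = Ideal.ofList js := by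
    change RingHom.ker (jg.appLE W₀ (jg ⁻¹ᵁ W₀) le_rfl).hom = _
    rw [← Scheme.Hom.app_eq_appLE, hker₀, hrsker, Ideal.map_ofList, hjsdef]
  have hlci : LCI.IsLCI Γ(Y, jg ⁻¹ᵁ W₀) Γ(X, X₀) :=
    HasRingHomProperty.appLE lciMor f hlf ⟨jg ⁻¹ᵁ W₀, hY₀⟩ ⟨X₀, hX₀⟩ hX₀f
  obtain ⟨h, hhq, H⟩ := virtDim_comp_ring (R := Γ(Z, Z₀)) (A := Γ(W, W₀)) (S := Γ(Y, jg ⁻¹ᵁ W₀))
    (B := Γ(X, X₀)) hAS js hjs hjsK hlci (hX₀.primeIdealOf ⟨x, hxX₀⟩) Eg1 Eg2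
  -- the smaller chart of `X`
  have hxX₀' : x ∈ X.basicOpen h := (mem_basicOpen_iff_notMem_primeIdealOf hX₀ x hxX₀ h).mpr hhq
  have hX₀' : IsAffineOpen (X.basicOpen h) := hX₀.basicOpen h
  have hle' : X.basicOpen h ≤ X₀ := X.basicOpen_le h
  have hX₀'O₁ : X.basicOpen h ≤ O₁ := hle'.trans hX₀O₁
  have hX₀'O₂ : X.basicOpen h ≤ O₂ := hle'.trans hX₀O₂
  have hX₀'O₃ : X.basicOpen h ≤ O₃ := hle'.trans hX₀O₃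
  have hX₀'O₄ : X.basicOpen h ≤ O₄ := hle'.trans hX₀O₄
  have hX₀'V : X.basicOpen h ≤ jf ⁻¹ᵁ V₀ := hle'.trans hX₀V
  have hX₀'T : X.basicOpen h ≤ jh ⁻¹ᵁ T₀ := hle'.trans hX₀T
  have hX₀'f : X.basicOpen h ≤ f ⁻¹ᵁ (jg ⁻¹ᵁ W₀) := hle'.trans hX₀f
  have hX₀'fg : X.basicOpen h ≤ (f ≫ g) ⁻¹ᵁ Z₀ := by
    intro y hy
    change (f ≫ g) y ∈ Z₀
    rw [Scheme.Hom.comp_apply]
    exact hY₀Z (hX₀'f hy)
  obtain ⟨eaf⟩ := nonempty_sections_equiv_of_le _ af e₁ hX₀'O₁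
  obtain ⟨ebf⟩ := nonempty_sections_equiv_of_le _ bf e₂ hX₀'O₂
  obtain ⟨eah⟩ := nonempty_sections_equiv_of_le _ ah e₃ hX₀'O₃
  obtain ⟨ebh⟩ := nonempty_sections_equiv_of_le _ bh e₄ hX₀'O₄
  letI aSB' : Algebra Γ(Y, jg ⁻¹ᵁ W₀) Γ(X, X.basicOpen h) :=
    (f.appLE (jg ⁻¹ᵁ W₀) (X.basicOpen h) hX₀'f).hom.toAlgebra
  letI aRB' : Algebra Γ(Z, Z₀) Γ(X, X.basicOpen h) :=
    ((f ≫ g).appLE Z₀ (X.basicOpen h) hX₀'fg).hom.toAlgebra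
  letI aSAf : Algebra Γ(Y, jg ⁻¹ᵁ W₀) Γ(V, V₀) := (gf.appLE (jg ⁻¹ᵁ W₀) V₀ hV₀Y).hom.toAlgebra
  letI aAfB' : Algebra Γ(V, V₀) Γ(X, X.basicOpen h) :=
    (jf.appLE V₀ (X.basicOpen h) hX₀'V).hom.toAlgebra
  letI aRAh : Algebra Γ(Z, Z₀) Γ(T, T₀) := (gh.appLE Z₀ T₀ hT₀Z).hom.toAlgebra
  letI aAhB' : Algebra Γ(T, T₀) Γ(X, X.basicOpen h) :=
    (jh.appLE T₀ (X.basicOpen h) hX₀'T).hom.toAlgebra
  haveI tSBB' : IsScalarTower Γ(Y, jg ⁻¹ᵁ W₀) Γ(X, X₀) Γ(X, X.basicOpen h) :=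
    IsScalarTower.of_algebraMap_eq' (by
      change (f.appLE (jg ⁻¹ᵁ W₀) (X.basicOpen h) hX₀'f).hom =
        (X.presheaf.map (homOfLE hle').op).hom.comp (f.appLE (jg ⁻¹ᵁ W₀) X₀ hX₀f).hom
      rw [← CommRingCat.hom_comp, Scheme.Hom.appLE_map])
  haveI tRSB' : IsScalarTower Γ(Z, Z₀) Γ(Y, jg ⁻¹ᵁ W₀) Γ(X, X.basicOpen h) :=
    IsScalarTower.of_algebraMap_eq' (by
      change ((f ≫ g).appLE Z₀ (X.basicOpen h) hX₀'fg).hom =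
        (f.appLE (jg ⁻¹ᵁ W₀) (X.basicOpen h) hX₀'f).hom.comp (g.appLE Z₀ (jg ⁻¹ᵁ W₀) hY₀Z).hom
      rw [← CommRingCat.hom_comp, Scheme.Hom.appLE_comp_appLE])
  haveI tSAfB' : IsScalarTower Γ(Y, jg ⁻¹ᵁ W₀) Γ(V, V₀) Γ(X, X.basicOpen h) :=
    IsScalarTower.of_algebraMap_eq' (by
      change (f.appLE (jg ⁻¹ᵁ W₀) (X.basicOpen h) hX₀'f).hom =
        (jf.appLE V₀ (X.basicOpen h) hX₀'V).hom.comp (gf.appLE (jg ⁻¹ᵁ W₀) V₀ hV₀Y).hom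
      rw [← CommRingCat.hom_comp, Scheme.Hom.appLE_comp_appLE]
      exact congrArg _ (appLE_congr_hom' hjf.symm _ _ _ _))
  haveI tRAhB' : IsScalarTower Γ(Z, Z₀) Γ(T, T₀) Γ(X, X.basicOpen h) :=
    IsScalarTower.of_algebraMap_eq' (by
      change ((f ≫ g).appLE Z₀ (X.basicOpen h) hX₀'fg).hom =
        (jh.appLE T₀ (X.basicOpen h) hX₀'T).hom.comp (gh.appLE Z₀ T₀ hT₀Z).hom
      rw [← CommRingCat.hom_comp, Scheme.Hom.appLE_comp_appLE]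
      exact congrArg _ (appLE_congr_hom' hjh.symm _ _ _ _))
  obtain ⟨hfsAf, hsubAf, ⟨Ef1⟩, ⟨Ef2⟩⟩ :=
    chart_one gf jf hdf hY₀ hV₀ hV₀Y hX₀' hX₀'V af bf ebf eaf
  obtain ⟨hfsAh, hsubAh, ⟨Eh1⟩, ⟨Eh2⟩⟩ :=
    chart_one gh jh hdh hZ₀ hT₀ hT₀Z hX₀' hX₀'T ah bh ebh eah
  haveI : Nonempty (X.basicOpen h) := ⟨⟨x, hxX₀'⟩⟩
  haveI : Nontrivial Γ(X, X.basicOpen h) := Scheme.component_nontrivial X (X.basicOpen h)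
  haveI : IsLocalization.Away h Γ(X, X.basicOpen h) := hX₀.isLocalization_basicOpen h
  exact H Γ(X, X.basicOpen h) Γ(V, V₀) Γ(T, T₀) af bf ah bh Ef1 Ef2 Eh1 Eh2

end Groth.Agent.Lib.Helper51.VirtDimComp
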