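import Groth.Agent.H52.AffineLocal

/-!
# `RepWith Q` is Zariski local on the target (helper51)
-/

set_option autoImplicit false
universe u

namespace Groth.Agent.Lib.Helper51

open CategoryTheory Limits AlgebraicGeometry Opposite AlgSp

variable {S : Scheme.{u}}

/-- Let `φ : A ⟶ B` be a representable morphism of sheaves. Suppose every `y : h_T ⟶ B` factors,
Zariski locally on `T`, through some `g : B' ⟶ B` such that the base change of `φ` along `g` is
representable with property `Q`. Then so is `φ`. -/
theorem repWith_of_zariski_local (Q : MorphismProperty Scheme.{u}) [IsZariskiLocalAtTarget Q]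
    {A B : Sp S} (φ : A ⟶ B) (hφ : Representable φ)
    (hcov : ∀ (T : Over S) (y : (yon S).obj T ⟶ B) (t : ↥T.left),
      ∃ (P : Over S) (w : P ⟶ T), IsOpenImmersion w.left ∧ t ∈ Set.range w.left ∧
        ∃ (B' : Sp S) (g : B' ⟶ B) (l : (yon S).obj P ⟶ B') (A' : Sp S) (a : A' ⟶ A)
          (φ' : A' ⟶ B'), l ≫ g = (yon S).map w ≫ y ∧ IsPullback a φ' φ g ∧ RepWith Q φ') :
    RepWith Q φ := by
  refine ⟨hφ, fun T V y fst snd sq => ?_⟩
  change Q snd.left
  choose P w hw ht B' g l A' a φ' hl hpb hQ using hcov T y
  refine IsZariskiLocalAtTarget.of_iSup_eq_top (fun t : T.left => (w t).left.opensRange) ?_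
    (fun t => ?_)
  · rw [eq_top_iff]
    intro t _
    exact TopologicalSpace.Opens.mem_iSup.2 ⟨t, ht t⟩
  · have := hw t
    have hres := isPullback_morphismRestrict snd.left (w t).left.opensRange
    have sq1 := (Groth.Agent.H52.isPullback_over_of_left snd _ _ _ hres).map (yon S)
    have big := sq1.flip.paste_horiz sq
    let e : Over.mk ((w t).left.opensRange.ι ≫ T.hom) ⟶ P t :=
      Over.homMk (w t).left.isoOpensRange.inv (by
        have := Over.w (w t)
        simp only [Over.mk_left, Over.mk_hom] at this ⊢
        rw [← this, Scheme.Hom.isoOpensRange_inv_comp_assoc])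
    have he : e ≫ w t = Over.homMk (w t).left.opensRange.ι rfl := by
      ext
      exact Scheme.Hom.isoOpensRange_inv_comp _
    have hy : (yon S).map (Over.homMk (w t).left.opensRange.ι rfl :
        Over.mk ((w t).left.opensRange.ι ≫ T.hom) ⟶ T) ≫ y = ((yon S).map e ≫ l t) ≫ g t := by
      rw [Category.assoc, hl t, ← Functor.map_comp_assoc, he]
    rw [hy] at big
    have sq2 : IsPullback ((hpb t).lift _ _ big.w) _ (φ' t) ((yon S).map e ≫ l t) :=
      IsPullback.of_right (by rw [(hpb t).lift_fst]; exact big) ((hpb t).lift_snd _ _ _) (hpb t)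
    exact (hQ t).2 _ _ _ sq2

end Groth.Agent.Lib.Helper51
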